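import Mathlib
import Cfsg.Agent.Lib.Helper1.CD3.Defs
import Cfsg.Agent.Lib.Helper81.CharFrob

set_option autoImplicit false
set_option linter.style.haveILetI false

/-!
CD3B (K4) for helper1's server (S4460): orbit counting on `Lam ω`.
-/

namespace Cfsg.Agent.Helper41.CD3B

open Cfsg Cfsg.Agent.Helper81 Cfsg.Agent.Helper1.CD3

universe u

/-- the conjugation action of the inertia group of `ω` on `Lam ω` (a left action via `g⁻¹`) -/
@[reducible] def lamAct {G : Type u} [Group G] (W : Subgroup G) (hW : W.Normal) (ω : W → ℂ) :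
    MulAction ↥(stab W hW ω) ↥(Lam ω) where
  smul g ν := ⟨conjFun W hW ν.1 ((g : G)⁻¹), by
    obtain ⟨ν, h1, h2, h3⟩ := ν
    refine ⟨conjFun_isIrrCharacter W hW h1 _, ?_, ?_⟩
    · rw [conjFun_apply]
      convert h2 using 2
      apply Subtype.ext
      simp
    · intro w
      have hg : conjFun W hW ω ((g : G)⁻¹) = ω := (stab W hW ω).inv_mem g.2
      have h4 := congrFun hg w
      rw [conjFun_apply] at h4
      rw [conjFun_apply]
      conv_lhs => rw [← h4]
      conv_rhs => rw [← h4]
      exact h3 _⟩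
  one_smul ν := by
    apply Subtype.ext
    show conjFun W hW ν.1 (((1 : ↥(stab W hW ω)) : G)⁻¹) = ν.1
    rw [Subgroup.coe_one, inv_one, conjFun_one]
  mul_smul g h ν := by
    apply Subtype.ext
    show conjFun W hW ν.1 (((g * h : ↥(stab W hW ω)) : G)⁻¹) =
      conjFun W hW (conjFun W hW ν.1 ((h : G)⁻¹)) ((g : G)⁻¹)
    rw [conjFun_mul, Subgroup.coe_mul, mul_inv_rev]

attribute [local instance] lamAct

theorem lamAct_smul_coe {G : Type u} [Group G] (W : Subgroup G) (hW : W.Normal) (ω : W → ℂ)
    (g : ↥(stab W hW ω)) (ν : ↥(Lam ω)) :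
    ((g • ν : ↥(Lam ω)) : W → ℂ) = conjFun W hW ν.1 ((g : G)⁻¹) := rfl

/-- `Lam ω` is finite -/
theorem lam_finite {W : Type u} [Group W] [Finite W] (ω : W → ℂ) : Finite ↥(Lam ω) := by
  haveI : Fintype W := Fintype.ofFinite W
  haveI : Finite (IrrCharacter W) := irr_finite
  refine Finite.of_injective (fun ν : ↥(Lam ω) => (⟨ν.1, ν.2.1⟩ : IrrCharacter W)) ?_
  intro a b hab
  have h := congrArg Subtype.val hab
  exact Subtype.ext h

/-- the trivial character lies in `Lam ω` -/
theorem one_mem_lam {W : Type u} [Group W] (ω : W → ℂ) : (fun _ => (1 : ℂ)) ∈ Lam ω :=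
  ⟨isIrrCharacter_one, rfl, fun _ => one_mul _⟩

/-- (K4) orbit counting -/
theorem orbit_count {G : Type u} [Group G] [Fintype G] (W : Subgroup G) (hW : W.Normal) (ω : W → ℂ)
    (d e n : ℕ) (hn : n = e * (stab W hW ω).index * d) (hnpos : 0 < n)
    (hlin : ∀ ν ∈ Lam ω, ν ≠ (fun _ => 1) → (stab W hW ν).index = n) :
    d ∣ Nat.card (Lam ω) - 1 := by
  classical
  haveI : Finite ↥(Lam ω) := lam_finite ω
  haveI : Fintype ↥(Lam ω) := Fintype.ofFinite _
  let T := stab W hW ω
  -- orbit sizes
  have horb : ∀ ν : ↥(Lam ω), ν.1 ≠ (fun _ => 1) → d ∣ Nat.card (MulAction.orbit ↥T ν) := by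
    intro ν hν
    have hB := hlin ν.1 ν.2 hν
    -- the stabilizer of ν in T is (stab ν).subgroupOf T
    have hst : MulAction.stabilizer ↥T ν = (stab W hW ν.1).subgroupOf T := by
      ext g
      rw [MulAction.mem_stabilizer_iff, Subgroup.mem_subgroupOf, Subtype.ext_iff, lamAct_smul_coe]
      constructor
      · intro h
        have : (g : G)⁻¹ ∈ stab W hW ν.1 := h
        simpa using (stab W hW ν.1).inv_mem this
      · intro h
        exact (stab W hW ν.1).inv_mem h
    have h1 : Nat.card (MulAction.orbit ↥T ν) = (stab W hW ν.1).relIndex T := by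
      rw [Subgroup.relIndex, ← hst, MulAction.index_stabilizer, Nat.card_coe_set_eq]
    rw [h1]
    -- index arithmetic
    have h2 : (stab W hW ν.1).relIndex T * T.index = (T ⊓ stab W hW ν.1).index := by
      rw [← Subgroup.inf_relIndex_left]
      exact Subgroup.relIndex_mul_index inf_le_left
    have h3 : T.relIndex (stab W hW ν.1) * (stab W hW ν.1).index = (T ⊓ stab W hW ν.1).index := by
      rw [← Subgroup.inf_relIndex_right]
      exact Subgroup.relIndex_mul_index inf_le_right
    have hTpos : 0 < T.index := Nat.pos_of_ne_zero Subgroup.index_ne_zero_of_finite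
    have h4 : (stab W hW ν.1).relIndex T * T.index =
        (T.relIndex (stab W hW ν.1) * e * d) * T.index := by
      rw [h2, ← h3, hB, hn]
      ring
    have h5 := Nat.eq_of_mul_eq_mul_right hTpos h4
    rw [h5]
    exact Dvd.intro_left _ rfl
  -- the trivial character is a fixed point
  let one' : ↥(Lam ω) := ⟨fun _ => 1, one_mem_lam ω⟩
  have hfix : ∀ g : ↥T, g • one' = one' := by
    intro g
    apply Subtype.ext
    rw [lamAct_smul_coe]
    rfl
  -- decompose into orbits
  have hcard : Nat.card ↥(Lam ω) =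
      ∑ o : MulAction.orbitRel.Quotient ↥T ↥(Lam ω), Nat.card o.orbit := by
    rw [Nat.card_congr (MulAction.selfEquivSigmaOrbits' ↥T ↥(Lam ω)), Nat.card_sigma]
  have hone : Nat.card (MulAction.orbitRel.Quotient.orbit
      (Quotient.mk'' one' : MulAction.orbitRel.Quotient ↥T ↥(Lam ω))) = 1 := by
    rw [MulAction.orbitRel.Quotient.orbit_mk]
    have : MulAction.orbit ↥T one' = {one'} := by
      ext x
      rw [MulAction.mem_orbit_iff, Set.mem_singleton_iff]
      constructor
      · rintro ⟨g, rfl⟩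
        exact hfix g
      · rintro rfl
        exact ⟨1, one_smul _ _⟩
    rw [this]
    simp
  rw [show Nat.card ↥(Lam ω) = Nat.card ↥(Lam ω) from rfl, hcard,
    ← Finset.add_sum_erase _ _ (Finset.mem_univ (Quotient.mk'' one' :
      MulAction.orbitRel.Quotient ↥T ↥(Lam ω))), hone, Nat.add_sub_cancel_left]
  apply Finset.dvd_sum
  intro o ho
  rw [Finset.mem_erase] at ho
  induction o using Quotient.inductionOn' with | _ ν => ?_
  rw [MulAction.orbitRel.Quotient.orbit_mk]
  apply horb
  intro hν
  apply ho.1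
  have : ν = one' := Subtype.ext hν
  rw [this]

end Cfsg.Agent.Helper41.CD3B
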