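import Mathlib
import Cfsg.Agent.Lib.Helper52.CoprimeSylow
import Cfsg.Agent.Lib.Helper52.CoprimeHall
import Cfsg.Agent.Lib.Helper1.Hall
import Cfsg.Agent.Lib.Helper1.Solv
import Cfsg.Agent.Lib.Helper33.Conj
import Cfsg.Agent.Lib.Helper55.BGFit

/-! Lemma (Z): two cyclic Sylow subgroups of a solvable group (request of helper11 for S1378). -/

set_option autoImplicit false
set_option linter.unusedSectionVars false

namespace Cfsg.Agent.Helper41.BGAsym

open Subgroup Cfsg.Agent.Helper52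
open scoped Pointwise
open Cfsg.Agent.Helper33 (mem_conj_smul conj_mem_conj_smul conj_smul_le_conj_smul normalizer_conj_smul
  card_conj_smul isPGroup_conj_smul)

/-- the core step: `R ≠ 1` normal in the Hall subgroup `H`, of exponent `s`; `Us` of order the full
`s`-part of `#H`, cyclic. -/
theorem key {K : Type*} [Group K] [Finite K] {s : ℕ} [hs : Fact s.Prime]
    (H R Us Ut : Subgroup K) (hRH : R ≤ H) (hHR : H ≤ normalizer (R : Set K))
    (hRs : ∀ x ∈ R, x ^ s = 1) (hR1 : R ≠ ⊥) (k b : ℕ)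
    (hH : Nat.card H = s ^ k * b) (hb : b.Coprime s)
    (hUs : Nat.card Us = s ^ k) (hUsc : IsCyclic Us) (g1 g2 : K)
    (h1 : Us ≤ MulAut.conj g1 • H) (h2 : Ut ≤ MulAut.conj g2 • H) :
    ∃ X : Subgroup K, X ≤ Us ∧ Nat.card X = s ∧
      ∃ c : K, ∀ u ∈ Ut, c * u * c⁻¹ ∈ normalizer (X : Set K) := by
  set H1 : Subgroup K := MulAut.conj g1 • H with hH1
  set R1 : Subgroup K := MulAut.conj g1 • R with hR1def
  have hR1H1 : R1 ≤ H1 := conj_smul_le_conj_smul hRH
  have hH1N : H1 ≤ normalizer (R1 : Set K) := by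
    rw [hR1def, normalizer_conj_smul]
    exact conj_smul_le_conj_smul hHR
  have hcardH1 : Nat.card H1 = s ^ k * b := by rw [hH1, card_conj_smul, hH]
  have hRp : IsPGroup s R := Cfsg.Agent.Helper1.isPGroup_of_forall_pow_eq_one R hRs
  have hR1p : IsPGroup s R1 := isPGroup_conj_smul hRp
  have hUsp : IsPGroup s Us := IsPGroup.of_card hUs
  have hJp : IsPGroup s (R1 ⊔ Us : Subgroup K) :=
    IsPGroup.to_sup_of_normal_left' hR1p hUsp (h1.trans hH1N)
  have hJH1 : R1 ⊔ Us ≤ H1 := sup_le hR1H1 h1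
  obtain ⟨j, hj⟩ := hJp.exists_card_eq
  have hdvd : s ^ j ∣ s ^ k * b := by
    rw [← hj, ← hcardH1]
    exact Subgroup.card_dvd_of_le hJH1
  have hcop : (s ^ j).Coprime b := (Nat.Coprime.pow_left j hb.symm)
  have hdvd2 : s ^ j ∣ s ^ k := hcop.dvd_of_dvd_mul_right hdvd
  have hle : Nat.card (R1 ⊔ Us : Subgroup K) ≤ Nat.card Us := by
    rw [hj, hUs]
    exact Nat.le_of_dvd (pow_pos hs.out.pos k) hdvd2
  have hJeq : Us = R1 ⊔ Us := Subgroup.eq_of_le_of_card_ge le_sup_right hle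
  have hR1Us : R1 ≤ Us := by rw [hJeq]; exact le_sup_left
  have hR1ne : R1 ≠ ⊥ := by
    intro h
    apply hR1
    have h3 : Nat.card R1 = 1 := by rw [h]; exact Subgroup.card_bot
    rw [hR1def, card_conj_smul] at h3
    exact Subgroup.card_eq_one.mp h3
  have hR1s : ∀ x ∈ R1, x ^ s = 1 := by
    intro x hx
    rw [hR1def, mem_conj_smul] at hx
    have h3 := hRs _ hx
    have h4 : (g1⁻¹ * x * g1) ^ s = g1⁻¹ * x ^ s * g1 := by
      have := conj_pow (a := g1⁻¹) (b := x) (i := s)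
      simpa using this
    rw [h4] at h3
    have h5 : x ^ s = g1 * (g1⁻¹ * x ^ s * g1) * g1⁻¹ := by group
    rw [h5, h3]; group
  haveI : IsCyclic R1 := Subgroup.isCyclic_of_le hR1Us
  have hexp : Monoid.exponent R1 ∣ s := by
    apply Monoid.exponent_dvd_of_forall_pow_eq_one
    intro x
    exact Subtype.ext (by simpa using hR1s x x.2)
  have hcardR1 : Nat.card R1 ∣ s := by rwa [← IsCyclic.exponent_eq_card]
  have hcardR1' : Nat.card R1 = s := by
    rcases (Nat.dvd_prime hs.out).mp hcardR1 with h | h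
    · exact absurd (Subgroup.card_eq_one.mp h) hR1ne
    · exact h
  refine ⟨R1, hR1Us, hcardR1', g1 * g2⁻¹, ?_⟩
  intro u hu
  have hu2 := h2 hu
  rw [mem_conj_smul] at hu2
  have hu3 : g2⁻¹ * u * g2 ∈ normalizer (R : Set K) := hHR hu2
  have hu4 : g1 * (g2⁻¹ * u * g2) * g1⁻¹ ∈ MulAut.conj g1 • normalizer (R : Set K) :=
    conj_mem_conj_smul hu3
  rw [← normalizer_conj_smul] at hu4
  have : g1 * g2⁻¹ * u * (g1 * g2⁻¹)⁻¹ = g1 * (g2⁻¹ * u * g2) * g1⁻¹ := by group
  rw [this]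
  exact hu4

/-- type-level form of (Z) -/
theorem z_type {K : Type*} [Group K] [Finite K] [Group.IsSolvable K] {s t : ℕ}
    [hs : Fact s.Prime] [ht : Fact t.Prime] (hst : s ≠ t) (Us Ut : Subgroup K)
    (hUs : Nat.card Us = s ^ (Nat.card K).factorization s)
    (hUt : Nat.card Ut = t ^ (Nat.card K).factorization t)
    (hUs1 : Us ≠ ⊥) (hUsc : IsCyclic Us) (hUtc : IsCyclic Ut) :
    (∃ X : Subgroup K, X ≤ Us ∧ Nat.card X = s ∧
      ∃ c : K, ∀ u ∈ Ut, c * u * c⁻¹ ∈ normalizer (X : Set K)) ∨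
    (∃ X : Subgroup K, X ≤ Ut ∧ Nat.card X = t ∧
      ∃ c : K, ∀ u ∈ Us, c * u * c⁻¹ ∈ normalizer (X : Set K)) := by
  classical
  set N := Nat.card K with hN
  have hN0 : N ≠ 0 := Nat.card_pos.ne'
  set vs := N.factorization s with hvs
  set vt := N.factorization t with hvt
  have hcopst : (s ^ vs).Coprime (t ^ vt) :=
    Nat.Coprime.pow _ _ ((Nat.coprime_primes hs.out ht.out).mpr hst)
  have hmdvd : s ^ vs * t ^ vt ∣ N :=
    Nat.Coprime.mul_dvd_of_dvd_of_dvd hcopst (Nat.ordProj_dvd N s) (Nat.ordProj_dvd N t)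
  obtain ⟨n, hn⟩ := hmdvd
  have hn0 : n ≠ 0 := by
    rintro rfl
    rw [mul_zero] at hn
    exact hN0 hn
  have hsn : ¬ s ∣ n := by
    intro hd
    obtain ⟨n', rfl⟩ := hd
    have : s ^ (vs + 1) ∣ N := by
      rw [hn, pow_succ]
      exact ⟨t ^ vt * n', by ring⟩
    exact Nat.pow_succ_factorization_not_dvd hN0 hs.out this
  have htn : ¬ t ∣ n := by
    intro hd
    obtain ⟨n', rfl⟩ := hd
    have : t ^ (vt + 1) ∣ N := by
      rw [hn, pow_succ]
      exact ⟨s ^ vs * n', by ring⟩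
    exact Nat.pow_succ_factorization_not_dvd hN0 ht.out this
  have hcs : (s ^ vs).Coprime n := Nat.Coprime.pow_left _ ((Nat.Prime.coprime_iff_not_dvd hs.out).mpr hsn)
  have hct : (t ^ vt).Coprime n := Nat.Coprime.pow_left _ ((Nat.Prime.coprime_iff_not_dvd ht.out).mpr htn)
  have hcop : (s ^ vs * t ^ vt).Coprime n := Nat.Coprime.mul_left hcs hct
  obtain ⟨H, hH, hdom⟩ := Cfsg.Agent.Helper1.hall_exists_dominant (G := K) (s ^ vs * t ^ vt) n hn hcop
  obtain ⟨g1, hg1⟩ := hdom Us (by rw [hUs]; exact hcs)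
  obtain ⟨g2, hg2⟩ := hdom Ut (by rw [hUt]; exact hct)
  have hUs1' : Nat.card Us ≠ 1 := fun h => hUs1 (Subgroup.card_eq_one.mp h)
  have hHnt : Nontrivial H := by
    rw [← Finite.one_lt_card_iff_nontrivial, hH]
    rw [hUs] at hUs1'
    have h1 : 1 < s ^ vs := by
      rcases Nat.lt_or_ge 1 (s ^ vs) with h | h
      · exact h
      · have := pow_pos hs.out.pos vs
        omega
    have h2 : 0 < t ^ vt := pow_pos ht.out.pos vt
    calc 1 < s ^ vs := h1
      _ ≤ s ^ vs * t ^ vt := Nat.le_mul_of_pos_right _ h2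
  obtain ⟨r, hr, A, hAn, hA1, -, hAr⟩ := Cfsg.Agent.Helper1.exists_normal_elementary_of_solvable H
  set R : Subgroup K := A.map H.subtype with hR
  have hRH : R ≤ H := by
    rintro x ⟨y, -, rfl⟩
    exact y.2
  have hHR : H ≤ normalizer (R : Set K) := Cfsg.Agent.Helper55.BGB.le_normalizer_map_subtype H A
  have hRr : ∀ x ∈ R, x ^ r = 1 := by
    rintro x ⟨y, hy, rfl⟩
    have := hAr y hy
    have h2 := congrArg (H.subtype) this
    simpa using h2
  have hRne : R ≠ ⊥ := by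
    intro h
    apply hA1
    rw [hR] at h
    exact (Subgroup.map_eq_bot_iff_of_injective A H.subtype_injective).mp h
  -- r divides the order of H
  have hrdvd : r ∣ s ^ vs * t ^ vt := by
    obtain ⟨x, hxR, hx1⟩ : ∃ x ∈ R, x ≠ 1 := by
      by_contra hcon
      push_neg at hcon
      exact hRne ((Subgroup.eq_bot_iff_forall R).mpr hcon)
    have hord : orderOf x = r := by
      have h1 : orderOf x ∣ r := orderOf_dvd_of_pow_eq_one (hRr x hxR)
      rcases (Nat.dvd_prime hr).mp h1 with h | h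
      · exact absurd (orderOf_eq_one_iff.mp h) hx1
      · exact h
    rw [← hH, ← hord]
    have hxH : x ∈ H := hRH hxR
    have h3 : orderOf (⟨x, hxH⟩ : H) = orderOf x := by
      rw [← Subgroup.orderOf_coe]
    rw [← h3]
    exact orderOf_dvd_natCard _
  rcases (Nat.Prime.dvd_mul hr).mp hrdvd with h | h
  · have hrs : r = s := (Nat.prime_dvd_prime_iff_eq hr hs.out).mp (hr.dvd_of_dvd_pow h)
    subst hrs
    left
    exact key H R Us Ut hRH hHR hRr hRne vs (t ^ vt) hH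
      (Nat.Coprime.pow_left _ ((Nat.coprime_primes ht.out hr).mpr (Ne.symm hst))) hUs hUsc g1 g2 hg1 hg2
  · have hrt : r = t := (Nat.prime_dvd_prime_iff_eq hr ht.out).mp (hr.dvd_of_dvd_pow h)
    subst hrt
    right
    exact key H R Ut Us hRH hHR hRr hRne vt (s ^ vs) (by rw [hH, mul_comm])
      (Nat.Coprime.pow_left _ ((Nat.coprime_primes hs.out hr).mpr hst)) hUt hUtc g2 g1 hg2 hg1

variable {G : Type*} [Group G] [Finite G]

/-- transfer of a normalizer statement from `↥C` to `G` -/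
theorem coe_mem_normalizer_map {C : Subgroup G} {X' : Subgroup C} {k : C}
    (hk : k ∈ normalizer (X' : Set C)) :
    (k : G) ∈ normalizer ((X'.map C.subtype : Subgroup G) : Set G) := by
  rw [mem_normalizer_iff]
  intro x
  rw [mem_normalizer_iff] at hk
  constructor
  · rintro ⟨y, hy, rfl⟩
    refine ⟨k * y * k⁻¹, (hk y).mp hy, ?_⟩
    simp
  · rintro ⟨y, hy, hyx⟩
    have h1 : k⁻¹ * y * k ∈ X' := by
      have := (hk (k⁻¹ * y * k)).mpr (by simpa [mul_assoc] using hy)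
      exact this
    refine ⟨k⁻¹ * y * k, h1, ?_⟩
    have h2 : (y : G) = (k : G) * x * (k : G)⁻¹ := hyx
    simp only [map_mul, map_inv, Subgroup.subtype_apply]
    rw [h2]; group

/-- (Z) Let `C ≤ G` be solvable with nontrivial cyclic Sylow `s`- and `t`-subgroups `Us`, `Ut`
(`s ≠ t`).  Then a `C`-conjugate of `Ut` normalizes the subgroup of order `s` of `Us`, or a
`C`-conjugate of `Us` normalizes the subgroup of order `t` of `Ut`. -/
theorem z_asym (C : Subgroup G) (hC : Group.IsSolvable C) {s t : ℕ} [Fact s.Prime] [Fact t.Prime]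
    (hst : s ≠ t) (Us Ut : Subgroup G) (hUsC : Us ≤ C) (hUtC : Ut ≤ C)
    (hUs : Nat.card Us = sylCard s C) (hUt : Nat.card Ut = sylCard t C)
    (hUs1 : Us ≠ ⊥) (hUt1 : Ut ≠ ⊥) (hUsc : IsCyclic Us) (hUtc : IsCyclic Ut) :
    (∃ X : Subgroup G, X ≤ Us ∧ Nat.card X = s ∧
      ∃ c ∈ C, Ut.map (MulAut.conj c).toMonoidHom ≤ normalizer (X : Set G)) ∨
    (∃ X : Subgroup G, X ≤ Ut ∧ Nat.card X = t ∧
      ∃ c ∈ C, Us.map (MulAut.conj c).toMonoidHom ≤ normalizer (X : Set G)) := by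
  have eUs : Us.subgroupOf C ≃* Us := subgroupOfEquivOfLe hUsC
  have eUt : Ut.subgroupOf C ≃* Ut := subgroupOfEquivOfLe hUtC
  have hcUs : Nat.card (Us.subgroupOf C) = s ^ (Nat.card C).factorization s := by
    rw [Nat.card_congr eUs.toEquiv, hUs]; rfl
  have hcUt : Nat.card (Ut.subgroupOf C) = t ^ (Nat.card C).factorization t := by
    rw [Nat.card_congr eUt.toEquiv, hUt]; rfl
  have hUs1' : Us.subgroupOf C ≠ ⊥ := by
    intro h
    apply hUs1
    have h1 : Nat.card (Us.subgroupOf C) = 1 := by rw [h]; exact Subgroup.card_bot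
    rw [Nat.card_congr eUs.toEquiv] at h1
    exact Subgroup.card_eq_one.mp h1
  have hcycUs : IsCyclic (Us.subgroupOf C) :=
    isCyclic_of_surjective eUs.symm.toMonoidHom eUs.symm.surjective
  have hcycUt : IsCyclic (Ut.subgroupOf C) :=
    isCyclic_of_surjective eUt.symm.toMonoidHom eUt.symm.surjective
  have transfer : ∀ (V W : Subgroup G) (hVC : V ≤ C) (hWC : W ≤ C) (p : ℕ),
      (∃ X : Subgroup C, X ≤ V.subgroupOf C ∧ Nat.card X = p ∧
        ∃ c : C, ∀ u ∈ W.subgroupOf C, c * u * c⁻¹ ∈ normalizer (X : Set C)) →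
      ∃ X : Subgroup G, X ≤ V ∧ Nat.card X = p ∧
        ∃ c ∈ C, W.map (MulAut.conj c).toMonoidHom ≤ normalizer (X : Set G) := by
    rintro V W hVC hWC p ⟨X', hX'V, hX'c, c, hc⟩
    refine ⟨X'.map C.subtype, ?_, ?_, (c : G), c.2, ?_⟩
    · rintro x ⟨y, hy, rfl⟩
      exact mem_subgroupOf.mp (hX'V hy)
    · rw [Subgroup.card_map_of_injective C.subtype_injective, hX'c]
    · rintro y ⟨u, hu, rfl⟩
      have huC : u ∈ C := hWC hu
      have h1 := hc ⟨u, huC⟩ (mem_subgroupOf.mpr hu)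
      have h2 := coe_mem_normalizer_map h1
      simpa using h2
  rcases z_type (K := C) hst (Us.subgroupOf C) (Ut.subgroupOf C) hcUs hcUt hUs1' hcycUs hcycUt with h | h
  · left
    exact transfer Us Ut hUsC hUtC s h
  · right
    exact transfer Ut Us hUtC hUsC t h

end Cfsg.Agent.Helper41.BGAsym
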