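import Mathlib

set_option autoImplicit false

namespace Cfsg.Agent.Helper41

open Matrix
open scoped MatrixGroups

variable {F : Type*} [Field F]

/-- Cayley–Hamilton for 2×2 matrices of determinant one. -/
theorem sq_eq_of_det_one (M : Matrix (Fin 2) (Fin 2) F) (h : M.det = 1) :
    M ^ 2 = M.trace • M - 1 := by
  have h1 := Matrix.aeval_self_charpoly M
  rw [Matrix.charpoly_fin_two, h] at h1
  simp only [map_add, map_sub, map_mul, map_pow, Polynomial.aeval_X, Polynomial.aeval_C, map_one] at h1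
  rw [Algebra.smul_def, eq_sub_iff_add_eq, ← sub_eq_zero]
  rw [← h1]
  abel

theorem psl2_exists_rep (g : Matrix.ProjectiveSpecialLinearGroup (Fin 2) F) :
    ∃ A : Matrix.SpecialLinearGroup (Fin 2) F, (QuotientGroup.mk A : Matrix.ProjectiveSpecialLinearGroup (Fin 2) F) = g :=
  QuotientGroup.mk_surjective g

theorem diagonal_neg_one_fin_two :
    (Matrix.diagonal fun _ : Fin 2 => (-1 : F)) = -1 := by
  ext i j
  simp only [Matrix.diagonal_apply, Matrix.neg_apply, Matrix.one_apply]
  split_ifs <;> simp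

theorem sl2_mem_center_iff (A : Matrix.SpecialLinearGroup (Fin 2) F) :
    A ∈ Subgroup.center (Matrix.SpecialLinearGroup (Fin 2) F) ↔
      ((A : Matrix (Fin 2) (Fin 2) F) = 1 ∨ (A : Matrix (Fin 2) (Fin 2) F) = -1) := by
  rw [Matrix.SpecialLinearGroup.mem_center_iff]
  constructor
  · rintro ⟨r, hr, hA⟩
    simp only [Fintype.card_fin] at hr
    have : (r - 1) * (r + 1) = 0 := by linear_combination hr
    rcases mul_eq_zero.mp this with h | h
    · left
      have : r = 1 := by linear_combination h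
      rw [← hA, this]; simp
    · right
      have : r = -1 := by linear_combination h
      rw [← hA, this]; simp [diagonal_neg_one_fin_two]
  · rintro (h | h)
    · exact ⟨1, by simp, by rw [h]; simp⟩
    · exact ⟨-1, by simp, by rw [h]; simp [diagonal_neg_one_fin_two]⟩

theorem psl2_mk_eq_one_iff (A : Matrix.SpecialLinearGroup (Fin 2) F) :
    (QuotientGroup.mk A : Matrix.ProjectiveSpecialLinearGroup (Fin 2) F) = 1 ↔
      ((A : Matrix (Fin 2) (Fin 2) F) = 1 ∨ (A : Matrix (Fin 2) (Fin 2) F) = -1) := by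
  rw [QuotientGroup.eq_one_iff, sl2_mem_center_iff]

theorem psl2_mk_pow_eq_one_iff (A : Matrix.SpecialLinearGroup (Fin 2) F) (k : ℕ) :
    (QuotientGroup.mk A : Matrix.ProjectiveSpecialLinearGroup (Fin 2) F) ^ k = 1 ↔
      ((A : Matrix (Fin 2) (Fin 2) F) ^ k = 1 ∨ (A : Matrix (Fin 2) (Fin 2) F) ^ k = -1) := by
  rw [← QuotientGroup.mk_pow, psl2_mk_eq_one_iff, Matrix.SpecialLinearGroup.coe_pow]

end Cfsg.Agent.Helper41
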