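import Mathlib
import Cfsg.Agent.Lib.Helper41.SL2

set_option autoImplicit false

namespace Cfsg.Agent.Helper41

open Matrix Polynomial
open scoped MatrixGroups

/-- A nondegenerate norm form `a² - r a b + b²` over a finite field represents every element. -/
theorem binary_form_surj {F : Type*} [Field F] [Fintype F] (r δ : F) (hr : r ^ 2 ≠ 4) :
    ∃ a b : F, a ^ 2 - r * a * b + b ^ 2 = δ := by
  by_cases h2 : (2 : F) = 0
  · have hchar : ringChar F = 2 := CharP.ringChar_of_prime_eq_zero Nat.prime_two (by exact_mod_cast h2)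
    obtain ⟨e, he⟩ := FiniteField.isSquare_of_char_two hchar δ
    exact ⟨e, 0, by rw [he]; ring⟩
  · have hchar : ringChar F ≠ 2 := by
      intro h
      apply h2
      have := ringChar.Nat.cast_ringChar (R := F)
      rw [h] at this
      exact_mod_cast this
    have hodd := FiniteField.odd_card_of_char_ne_two hchar
    have h4 : (4 : F) ≠ 0 := by
      have : (4 : F) = 2 * 2 := by norm_num
      rw [this]; exact mul_ne_zero h2 h2
    obtain ⟨c, hc⟩ : ∃ c : F, c = 1 - r ^ 2 / 4 := ⟨_, rfl⟩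
    have hc0 : c ≠ 0 := by
      intro h
      apply hr
      rw [hc] at h
      field_simp at h
      linear_combination -h
    have hf : (X ^ 2 : F[X]).degree = 2 := degree_X_pow 2
    have hg : (C c * X ^ 2 - C δ : F[X]).degree = 2 := by
      have h1 : (C c * X ^ 2 : F[X]).degree = 2 := degree_C_mul_X_pow 2 hc0
      rw [degree_sub_C (by rw [h1]; decide), h1]
    obtain ⟨x, y, hxy⟩ := FiniteField.exists_root_sum_quadratic hf hg hodd
    simp only [eval_pow, eval_X, eval_sub, eval_mul, eval_C] at hxy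
    refine ⟨x + r * y / 2, y, ?_⟩
    rw [hc] at hxy
    field_simp
    field_simp at hxy
    linear_combination hxy

variable {F : Type*} [Field F]

/-- the companion matrix of `X² - rX + 1` -/
def compMat (r : F) : Matrix (Fin 2) (Fin 2) F := !![0, -1; 1, r]

theorem compMat_det (r : F) : (compMat r).det = 1 := by
  simp [compMat, Matrix.det_fin_two]

theorem compMat_trace (r : F) : (compMat r).trace = r := by
  simp [compMat, Matrix.trace_fin_two]

/-- the matrix with columns `v` and `G v` -/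
def cycMat (G : Matrix (Fin 2) (Fin 2) F) (v1 v2 : F) : Matrix (Fin 2) (Fin 2) F :=
  !![v1, G 0 0 * v1 + G 0 1 * v2; v2, G 1 0 * v1 + G 1 1 * v2]

theorem cycMat_det (G : Matrix (Fin 2) (Fin 2) F) (v1 v2 : F) :
    (cycMat G v1 v2).det = G 1 0 * v1 ^ 2 + (G 1 1 - G 0 0) * v1 * v2 - G 0 1 * v2 ^ 2 := by
  simp [cycMat, Matrix.det_fin_two]
  ring

theorem mul_cycMat (G : Matrix (Fin 2) (Fin 2) F) (hdet : G.det = 1) (v1 v2 : F) :
    G * cycMat G v1 v2 = cycMat G v1 v2 * compMat G.trace := by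
  rw [Matrix.det_fin_two] at hdet
  ext i j
  fin_cases i <;> fin_cases j <;>
    simp [cycMat, compMat, Matrix.mul_apply, Fin.sum_univ_two, Matrix.trace_fin_two]
  · linear_combination (-v1) * hdet
  · linear_combination (-v2) * hdet

/-- a non-scalar 2×2 matrix has a cyclic vector -/
theorem exists_cycMat_det_ne_zero (G : Matrix (Fin 2) (Fin 2) F)
    (hG : ¬ (G 0 1 = 0 ∧ G 1 0 = 0 ∧ G 0 0 = G 1 1)) :
    ∃ v1 v2 : F, (cycMat G v1 v2).det ≠ 0 := by
  by_cases h10 : G 1 0 = 0
  · by_cases h01 : G 0 1 = 0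
    · refine ⟨1, 1, ?_⟩
      rw [cycMat_det, h10, h01]
      intro h
      apply hG
      refine ⟨h01, h10, ?_⟩
      linear_combination -h
    · refine ⟨0, 1, ?_⟩
      rw [cycMat_det]
      simpa using h01
  · refine ⟨1, 0, ?_⟩
    rw [cycMat_det]
    simpa using h10

theorem not_scalar_of_trace_sq_ne_four (X : Matrix (Fin 2) (Fin 2) F) (hX : X.det = 1)
    (hs : X.trace ^ 2 ≠ 4) : ¬ (X 0 1 = 0 ∧ X 1 0 = 0 ∧ X 0 0 = X 1 1) := by
  rintro ⟨h01, h10, h00⟩
  apply hs
  rw [Matrix.det_fin_two, h01, h10, h00] at hX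
  rw [Matrix.trace_fin_two, h00]
  linear_combination 4 * hX

/-- elements of the commutant of the companion matrix -/
def commMat (s a b : F) : Matrix (Fin 2) (Fin 2) F := !![a, -b; b, a + b * s]

theorem commMat_det (s a b : F) : (commMat s a b).det = a ^ 2 - (-s) * a * b + b ^ 2 := by
  simp [commMat, Matrix.det_fin_two]
  ring

theorem commMat_comm (s a b : F) : commMat s a b * compMat s = compMat s * commMat s a b := by
  ext i j
  fin_cases i <;> fin_cases j <;>
    simp [commMat, compMat, Matrix.mul_apply, Fin.sum_univ_two] <;> ring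

/-- Two determinant-one 2×2 matrices over a finite field with the same trace `s`, `s² ≠ 4`, are
conjugate by a determinant-one matrix. -/
theorem exists_conj_of_trace_eq [Fintype F] (X Y : Matrix (Fin 2) (Fin 2) F) (hX : X.det = 1)
    (hY : Y.det = 1) (htr : X.trace = Y.trace) (hs : X.trace ^ 2 ≠ 4) :
    ∃ R : Matrix (Fin 2) (Fin 2) F, R.det = 1 ∧ R * X = Y * R := by
  obtain ⟨v1, v2, hP⟩ := exists_cycMat_det_ne_zero X (not_scalar_of_trace_sq_ne_four X hX hs)
  obtain ⟨w1, w2, hQ⟩ := exists_cycMat_det_ne_zero Y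
    (not_scalar_of_trace_sq_ne_four Y hY (htr ▸ hs))
  set P := cycMat X v1 v2 with hPdef
  set Q := cycMat Y w1 w2 with hQdef
  set s := X.trace with hsdef
  have hXP : X * P = P * compMat s := mul_cycMat X hX v1 v2
  have hYQ : Y * Q = Q * compMat s := by rw [htr]; exact mul_cycMat Y hY w1 w2
  have hs' : (-s) ^ 2 ≠ 4 := by rwa [neg_sq]
  obtain ⟨a, b, hab⟩ := binary_form_surj (-s) (P.det / Q.det) hs'
  set T := commMat s a b with hTdef
  have hTdet : T.det = P.det / Q.det := by rw [hTdef, commMat_det, hab]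
  have hPunit : IsUnit P.det := hP.isUnit
  refine ⟨Q * T * P⁻¹, ?_, ?_⟩
  · rw [Matrix.det_mul, Matrix.det_mul, hTdet, Matrix.det_nonsing_inv, Ring.inverse_eq_inv']
    field_simp
  · have h1 : P⁻¹ * X = compMat s * P⁻¹ := by
      have h2 : P⁻¹ * (X * P) * P⁻¹ = P⁻¹ * (P * compMat s) * P⁻¹ := by rw [hXP]
      have h3 : P⁻¹ * (X * P) * P⁻¹ = P⁻¹ * X := by
        rw [Matrix.mul_assoc, Matrix.mul_assoc, Matrix.mul_nonsing_inv _ hPunit, Matrix.mul_one]
      have h4 : P⁻¹ * (P * compMat s) * P⁻¹ = compMat s * P⁻¹ := by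
        rw [← Matrix.mul_assoc, Matrix.nonsing_inv_mul _ hPunit, Matrix.one_mul]
      rw [← h3, h2, h4]
    calc Q * T * P⁻¹ * X = Q * T * (P⁻¹ * X) := by rw [Matrix.mul_assoc]
      _ = Q * T * (compMat s * P⁻¹) := by rw [h1]
      _ = Q * (T * compMat s) * P⁻¹ := by simp only [Matrix.mul_assoc]
      _ = Q * (compMat s * T) * P⁻¹ := by rw [hTdef, commMat_comm]
      _ = (Q * compMat s) * T * P⁻¹ := by simp only [Matrix.mul_assoc]
      _ = (Y * Q) * T * P⁻¹ := by rw [hYQ]
      _ = Y * (Q * T * P⁻¹) := by simp only [Matrix.mul_assoc]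

/-- Conjugacy in `SL(2,F)` is determined by the trace when `tr² ≠ 4`. -/
theorem sl2_exists_conj_of_trace_eq [Fintype F] (X Y : Matrix.SpecialLinearGroup (Fin 2) F)
    (htr : (X : Matrix (Fin 2) (Fin 2) F).trace = (Y : Matrix (Fin 2) (Fin 2) F).trace)
    (hs : (X : Matrix (Fin 2) (Fin 2) F).trace ^ 2 ≠ 4) :
    ∃ U : Matrix.SpecialLinearGroup (Fin 2) F, U * X * U⁻¹ = Y := by
  obtain ⟨R, hRdet, hR⟩ := exists_conj_of_trace_eq (X : Matrix (Fin 2) (Fin 2) F) Y X.2 Y.2 htr hs
  let U : Matrix.SpecialLinearGroup (Fin 2) F := ⟨R, hRdet⟩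
  refine ⟨U, ?_⟩
  have hU : U * X = Y * U := by
    apply Subtype.ext
    simp only [Matrix.SpecialLinearGroup.coe_mul]
    exact hR
  rw [hU, mul_inv_cancel_right]

end Cfsg.Agent.Helper41
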