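import Mathlib
import Cfsg.Agent.Lib.Helper41.SL2Conj

set_option autoImplicit false

namespace Cfsg.Agent.Helper41

open Matrix Polynomial
open scoped MatrixGroups

variable {F : Type*} [Field F]

/-- From a point on the conic, a factorisation `Y * Z = ε • C_r` with `tr Y = tr Z = s`. -/
theorem exists_factor_of_conic (r s y1 y2 ε : F) (hε : ε = 1 ∨ ε = -1)
    (hc : y1 ^ 2 - r * y1 * y2 + y2 ^ 2 - s * y1 + ε * s * y2 + 1 = 0) :
    ∃ Y Z : Matrix (Fin 2) (Fin 2) F, Y.det = 1 ∧ Z.det = 1 ∧ Y.trace = s ∧ Z.trace = s ∧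
      Y * Z = ε • compMat r := by
  have hε2 : ε ^ 2 = 1 := by rcases hε with rfl | rfl <;> ring
  set Y : Matrix (Fin 2) (Fin 2) F := !![y1, y2; ε * s + y2 - r * y1, s - y1] with hY
  have hYdet : Y.det = 1 := by
    rw [hY, Matrix.det_fin_two]
    simp only [Matrix.of_apply, Matrix.cons_val', Matrix.cons_val_zero, Matrix.cons_val_one,
      Matrix.cons_val_fin_one]
    linear_combination -hc
  refine ⟨Y, ε • (Y.adjugate * compMat r), hYdet, ?_, ?_, ?_, ?_⟩
  · rw [Matrix.det_smul, Matrix.det_mul, Matrix.det_adjugate, hYdet, compMat_det]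
    simp [hε2]
  · rw [hY, Matrix.trace_fin_two]
    simp
  · rw [Matrix.trace_smul, Matrix.adjugate_fin_two, hY, compMat, Matrix.trace_fin_two]
    simp [Matrix.mul_apply, Fin.sum_univ_two]
    linear_combination s * hε2
  · rw [Matrix.mul_smul, ← Matrix.mul_assoc, Matrix.mul_adjugate, hYdet, one_smul, Matrix.one_mul]

/-- If the characteristic polynomial `X² - sX + 1` has a root, every companion matrix is a product
of two determinant-one matrices of trace `s`. -/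
theorem exists_factor_of_root (r s w : F) (hw : w ^ 2 - s * w + 1 = 0) :
    ∃ Y Z : Matrix (Fin 2) (Fin 2) F, Y.det = 1 ∧ Z.det = 1 ∧ Y.trace = s ∧ Z.trace = s ∧
      Y * Z = compMat r := by
  obtain ⟨Y, Z, h1, h2, h3, h4, h5⟩ := exists_factor_of_conic r s w 0 1 (Or.inl rfl)
    (by linear_combination hw)
  exact ⟨Y, Z, h1, h2, h3, h4, by rw [h5, one_smul]⟩

/-- In odd characteristic, for `s ≠ 0`, every companion matrix is, up to sign, a product of two
determinant-one matrices of trace `s`. -/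
theorem exists_factor_odd [Fintype F] (h2 : (2 : F) ≠ 0) (r s : F) (hs : s ≠ 0) :
    ∃ Y Z : Matrix (Fin 2) (Fin 2) F, Y.det = 1 ∧ Z.det = 1 ∧ Y.trace = s ∧ Z.trace = s ∧
      (Y * Z = compMat r ∨ Y * Z = -compMat r) := by
  by_cases hr : r ^ 2 = 4
  · have : (r - 2) * (r + 2) = 0 := by linear_combination hr
    rcases mul_eq_zero.mp this with h | h
    · have hr2 : r = 2 := by linear_combination h
      obtain ⟨Y, Z, h1, h2', h3, h4, h5⟩ := exists_factor_of_conic r s (1 / (2 * s)) (1 / (2 * s)) (-1)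
        (Or.inr rfl) (by rw [hr2]; field_simp; ring)
      exact ⟨Y, Z, h1, h2', h3, h4, Or.inr (by rw [h5, neg_one_smul])⟩
    · have hr2 : r = -2 := by linear_combination h
      obtain ⟨Y, Z, h1, h2', h3, h4, h5⟩ := exists_factor_of_conic r s (1 / (2 * s)) (-(1 / (2 * s))) 1
        (Or.inl rfl) (by rw [hr2]; field_simp; ring)
      exact ⟨Y, Z, h1, h2', h3, h4, Or.inl (by rw [h5, one_smul])⟩
  · have hr2 : r + 2 ≠ 0 := by
      intro h
      apply hr
      have : r = -2 := by linear_combination h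
      rw [this]; ring
    obtain ⟨z1, z2, hz⟩ := binary_form_surj r (s * (s / (r + 2)) - 1) hr
    obtain ⟨Y, Z, h1, h2', h3, h4, h5⟩ := exists_factor_of_conic r s (s / (r + 2) + z1)
      (-(s / (r + 2)) + z2) 1 (Or.inl rfl) (by
        field_simp
        field_simp at hz
        linear_combination (r + 2) * hz)
    exact ⟨Y, Z, h1, h2', h3, h4, Or.inl (by rw [h5, one_smul])⟩

/-- transport a factorisation of the companion matrix to a non-scalar matrix -/
theorem transport_factor (G : Matrix (Fin 2) (Fin 2) F) (hdet : G.det = 1)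
    (hns : ¬ (G 0 1 = 0 ∧ G 1 0 = 0 ∧ G 0 0 = G 1 1)) {s ε : F}
    (h : ∃ Y Z : Matrix (Fin 2) (Fin 2) F, Y.det = 1 ∧ Z.det = 1 ∧ Y.trace = s ∧ Z.trace = s ∧
      Y * Z = ε • compMat G.trace) :
    ∃ Y Z : Matrix (Fin 2) (Fin 2) F, Y.det = 1 ∧ Z.det = 1 ∧ Y.trace = s ∧ Z.trace = s ∧
      Y * Z = ε • G := by
  obtain ⟨Y, Z, hY, hZ, htY, htZ, hYZ⟩ := h
  obtain ⟨v1, v2, hP⟩ := exists_cycMat_det_ne_zero G hns
  have hGP := mul_cycMat G hdet v1 v2
  set P := cycMat G v1 v2 with hPdef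
  let Pu : (Matrix (Fin 2) (Fin 2) F)ˣ := Matrix.nonsingInvUnit P hP.isUnit
  have hPu : (Pu : Matrix (Fin 2) (Fin 2) F) = P := rfl
  have hG : G = Pu * compMat G.trace * (Pu⁻¹ : (Matrix (Fin 2) (Fin 2) F)ˣ) := by
    rw [hPu, ← hGP, ← hPu, mul_assoc, Units.mul_inv, mul_one]
  refine ⟨Pu * Y * (Pu⁻¹ : (Matrix (Fin 2) (Fin 2) F)ˣ), Pu * Z * (Pu⁻¹ : (Matrix (Fin 2) (Fin 2) F)ˣ),
    ?_, ?_, ?_, ?_, ?_⟩
  · rw [Matrix.det_units_conj, hY]
  · rw [Matrix.det_units_conj, hZ]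
  · rw [Matrix.trace_units_conj, htY]
  · rw [Matrix.trace_units_conj, htZ]
  · calc (Pu : Matrix (Fin 2) (Fin 2) F) * Y * (Pu⁻¹ : (Matrix (Fin 2) (Fin 2) F)ˣ) *
          (Pu * Z * (Pu⁻¹ : (Matrix (Fin 2) (Fin 2) F)ˣ))
        = Pu * Y * ((Pu⁻¹ : (Matrix (Fin 2) (Fin 2) F)ˣ) * Pu) * Z * (Pu⁻¹ : (Matrix (Fin 2) (Fin 2) F)ˣ) := by
          simp only [mul_assoc]
      _ = Pu * (Y * Z) * (Pu⁻¹ : (Matrix (Fin 2) (Fin 2) F)ˣ) := by
          rw [Units.inv_mul, mul_one, mul_assoc (Pu : Matrix (Fin 2) (Fin 2) F)]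
      _ = ε • (Pu * compMat G.trace * (Pu⁻¹ : (Matrix (Fin 2) (Fin 2) F)ˣ)) := by
          rw [hYZ, Matrix.mul_smul, Matrix.smul_mul]
      _ = ε • G := by rw [← hG]

/-- non-central elements of `SL(2,F)` are non-scalar -/
theorem sl2_not_scalar_of_ne (G : Matrix.SpecialLinearGroup (Fin 2) F)
    (h1 : (G : Matrix (Fin 2) (Fin 2) F) ≠ 1) (h2 : (G : Matrix (Fin 2) (Fin 2) F) ≠ -1) :
    ¬ ((G : Matrix (Fin 2) (Fin 2) F) 0 1 = 0 ∧ (G : Matrix (Fin 2) (Fin 2) F) 1 0 = 0 ∧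
      (G : Matrix (Fin 2) (Fin 2) F) 0 0 = (G : Matrix (Fin 2) (Fin 2) F) 1 1) := by
  rintro ⟨h01, h10, h00⟩
  have hdet : (G : Matrix (Fin 2) (Fin 2) F).det = 1 := G.2
  rw [Matrix.det_fin_two, h01, h10, h00] at hdet
  have : ((G : Matrix (Fin 2) (Fin 2) F) 1 1 - 1) * ((G : Matrix (Fin 2) (Fin 2) F) 1 1 + 1) = 0 := by
    linear_combination hdet
  rcases mul_eq_zero.mp this with h | h
  · apply h1
    have h11 : (G : Matrix (Fin 2) (Fin 2) F) 1 1 = 1 := by linear_combination h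
    ext i j
    fin_cases i <;> fin_cases j <;> simp [h01, h10, h00, h11]
  · apply h2
    have h11 : (G : Matrix (Fin 2) (Fin 2) F) 1 1 = -1 := by linear_combination h
    ext i j
    fin_cases i <;> fin_cases j <;> simp [h01, h10, h00, h11]

/-- the `PSL(2,F)`-level statement: from a matrix factorisation into two matrices with the trace of
`X`, get a product of two conjugates of `mk X`. -/
theorem psl2_eq_mul_conj_of_factor [Fintype F] (X G : Matrix.SpecialLinearGroup (Fin 2) F)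
    (hs : (X : Matrix (Fin 2) (Fin 2) F).trace ^ 2 ≠ 4) (Y Z : Matrix (Fin 2) (Fin 2) F)
    (hY : Y.det = 1) (hZ : Z.det = 1) (htY : Y.trace = (X : Matrix (Fin 2) (Fin 2) F).trace)
    (htZ : Z.trace = (X : Matrix (Fin 2) (Fin 2) F).trace)
    (h : Y * Z = (G : Matrix (Fin 2) (Fin 2) F) ∨ Y * Z = -(G : Matrix (Fin 2) (Fin 2) F)) :
    ∃ u v : Matrix.ProjectiveSpecialLinearGroup (Fin 2) F,
      (QuotientGroup.mk G : Matrix.ProjectiveSpecialLinearGroup (Fin 2) F) =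
        (u * QuotientGroup.mk X * u⁻¹) * (v * QuotientGroup.mk X * v⁻¹) := by
  let Ys : Matrix.SpecialLinearGroup (Fin 2) F := ⟨Y, hY⟩
  let Zs : Matrix.SpecialLinearGroup (Fin 2) F := ⟨Z, hZ⟩
  obtain ⟨U, hU⟩ := sl2_exists_conj_of_trace_eq X Ys htY.symm hs
  obtain ⟨V, hV⟩ := sl2_exists_conj_of_trace_eq X Zs htZ.symm hs
  refine ⟨QuotientGroup.mk U, QuotientGroup.mk V, ?_⟩
  have h1 : (QuotientGroup.mk U : Matrix.ProjectiveSpecialLinearGroup (Fin 2) F) * QuotientGroup.mk X *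
      (QuotientGroup.mk U)⁻¹ = QuotientGroup.mk Ys := by
    rw [← hU]; rfl
  have h2 : (QuotientGroup.mk V : Matrix.ProjectiveSpecialLinearGroup (Fin 2) F) * QuotientGroup.mk X *
      (QuotientGroup.mk V)⁻¹ = QuotientGroup.mk Zs := by
    rw [← hV]; rfl
  rw [h1, h2, ← QuotientGroup.mk_mul, QuotientGroup.eq, sl2_mem_center_iff]
  have hcoe : ((G⁻¹ * (Ys * Zs) : Matrix.SpecialLinearGroup (Fin 2) F) : Matrix (Fin 2) (Fin 2) F) =
      (G⁻¹ : Matrix.SpecialLinearGroup (Fin 2) F) * (Y * Z) := by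
    rw [Matrix.SpecialLinearGroup.coe_mul, Matrix.SpecialLinearGroup.coe_mul]
  have hinv : ((G⁻¹ : Matrix.SpecialLinearGroup (Fin 2) F) : Matrix (Fin 2) (Fin 2) F) *
      (G : Matrix (Fin 2) (Fin 2) F) = 1 := by
    rw [← Matrix.SpecialLinearGroup.coe_mul, inv_mul_cancel, Matrix.SpecialLinearGroup.coe_one]
  rw [hcoe]
  rcases h with h | h
  · left; rw [h, hinv]
  · right; rw [h, Matrix.mul_neg, hinv]

end Cfsg.Agent.Helper41
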