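import Mathlib
import Cfsg.Agent.Lib.Helper41.SL2Factor

set_option autoImplicit false

namespace Cfsg.Agent.Helper41

open Matrix Polynomial
open scoped MatrixGroups

/-- a quadratic polynomial function over a finite field with at least 4 elements is not constant up
to sign -/
theorem exists_quadratic_sq_ne {F : Type*} [Field F] [Fintype F] (h4 : 4 ≤ Fintype.card F)
    (α β γ : F) (hα : α ≠ 0) : ∃ u : F, (-α * u ^ 2 + β * u + γ) ^ 2 ≠ γ ^ 2 := by
  by_contra hcon
  push Not at hcon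
  have hα' : -α ≠ 0 := neg_ne_zero.mpr hα
  by_cases h2 : (2 : F) = 0
  · -- characteristic two
    have hall : ∀ u : F, -α * u ^ 2 + β * u = 0 := by
      intro u
      have h := hcon u
      have : (-α * u ^ 2 + β * u) ^ 2 = 0 := by
        have e : (-α * u ^ 2 + β * u + γ) ^ 2 = (-α * u ^ 2 + β * u) ^ 2 +
            2 * ((-α * u ^ 2 + β * u) * γ) + γ ^ 2 := by ring
        rw [e, h2, zero_mul, add_zero] at h
        linear_combination h
      exact pow_eq_zero_iff (by norm_num) |>.mp this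
    have hdeg : (C (-α) * X ^ 2 + C β * X + C 0 : F[X]).natDegree = 2 := natDegree_quadratic hα'
    have hzero : (C (-α) * X ^ 2 + C β * X + C 0 : F[X]) = 0 := by
      apply eq_zero_of_natDegree_lt_card_of_eval_eq_zero _ Function.injective_id
      · intro u
        simp only [eval_add, eval_mul, eval_C, eval_pow, eval_X, id]
        rw [add_zero]; exact hall u
      · rw [hdeg]; omega
    rw [hzero] at hdeg
    simp at hdeg
  · -- odd characteristic
    have hchar : ringChar F ≠ 2 := by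
      intro h
      apply h2
      have := ringChar.Nat.cast_ringChar (R := F)
      rw [h] at this
      exact_mod_cast this
    have hodd := FiniteField.odd_card_of_char_ne_two hchar
    have h5 : 5 ≤ Fintype.card F := by omega
    have hdeg2 : (C (-α) * X ^ 2 + C β * X + C γ : F[X]).natDegree = 2 := natDegree_quadratic hα'
    have hdeg : ((C (-α) * X ^ 2 + C β * X + C γ) ^ 2 - C (γ ^ 2) : F[X]).natDegree = 4 := by
      rw [natDegree_sub_C, natDegree_pow, hdeg2]
    have hzero : ((C (-α) * X ^ 2 + C β * X + C γ) ^ 2 - C (γ ^ 2) : F[X]) = 0 := by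
      apply eq_zero_of_natDegree_lt_card_of_eval_eq_zero _ Function.injective_id
      · intro u
        simp only [eval_sub, eval_add, eval_mul, eval_C, eval_pow, eval_X, id]
        rw [hcon u, sub_self]
      · rw [hdeg]; omega
    rw [hzero] at hdeg
    simp at hdeg

variable {F : Type*} [Field F]

/-- upper unitriangular element of `SL(2,F)` -/
def upperSL (u : F) : Matrix.SpecialLinearGroup (Fin 2) F :=
  ⟨!![1, u; 0, 1], by simp [Matrix.det_fin_two]⟩

/-- lower unitriangular element of `SL(2,F)` -/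
def lowerSL (u : F) : Matrix.SpecialLinearGroup (Fin 2) F :=
  ⟨!![1, 0; u, 1], by simp [Matrix.det_fin_two]⟩

/-- the Weyl element of `SL(2,F)` -/
def weylSL : Matrix.SpecialLinearGroup (Fin 2) F :=
  ⟨!![0, 1; -1, 0], by simp [Matrix.det_fin_two]⟩

theorem conj_apply_one_zero (U A : Matrix.SpecialLinearGroup (Fin 2) F) :
    ((U * A * U⁻¹ : Matrix.SpecialLinearGroup (Fin 2) F) : Matrix (Fin 2) (Fin 2) F) 1 0 =
      ((U : Matrix (Fin 2) (Fin 2) F) 1 0 * (A : Matrix (Fin 2) (Fin 2) F) 0 0 +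
        (U : Matrix (Fin 2) (Fin 2) F) 1 1 * (A : Matrix (Fin 2) (Fin 2) F) 1 0) *
        (U : Matrix (Fin 2) (Fin 2) F) 1 1 -
      ((U : Matrix (Fin 2) (Fin 2) F) 1 0 * (A : Matrix (Fin 2) (Fin 2) F) 0 1 +
        (U : Matrix (Fin 2) (Fin 2) F) 1 1 * (A : Matrix (Fin 2) (Fin 2) F) 1 1) *
        (U : Matrix (Fin 2) (Fin 2) F) 1 0 := by
  rw [Matrix.SpecialLinearGroup.coe_mul, Matrix.SpecialLinearGroup.coe_mul,
    Matrix.SpecialLinearGroup.coe_inv, Matrix.adjugate_fin_two]
  simp [Matrix.mul_apply, Fin.sum_univ_two]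
  ring

/-- a non-scalar element of `SL(2,F)` has a conjugate with nonzero lower-left entry -/
theorem exists_conj_lower_left_ne_zero (A : Matrix.SpecialLinearGroup (Fin 2) F)
    (hns : ¬ ((A : Matrix (Fin 2) (Fin 2) F) 0 1 = 0 ∧ (A : Matrix (Fin 2) (Fin 2) F) 1 0 = 0 ∧
      (A : Matrix (Fin 2) (Fin 2) F) 0 0 = (A : Matrix (Fin 2) (Fin 2) F) 1 1)) :
    ∃ U : Matrix.SpecialLinearGroup (Fin 2) F,
      ((U * A * U⁻¹ : Matrix.SpecialLinearGroup (Fin 2) F) : Matrix (Fin 2) (Fin 2) F) 1 0 ≠ 0 := by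
  by_cases h10 : (A : Matrix (Fin 2) (Fin 2) F) 1 0 = 0
  · by_cases h01 : (A : Matrix (Fin 2) (Fin 2) F) 0 1 = 0
    · refine ⟨lowerSL 1, ?_⟩
      rw [conj_apply_one_zero]
      simp only [lowerSL, Matrix.of_apply, Matrix.cons_val', Matrix.cons_val_zero, Matrix.cons_val_one,
        Matrix.cons_val_fin_one, h10, h01]
      intro h
      apply hns
      refine ⟨h01, h10, ?_⟩
      linear_combination h
    · refine ⟨weylSL, ?_⟩
      rw [conj_apply_one_zero]
      simp only [weylSL, Matrix.of_apply, Matrix.cons_val', Matrix.cons_val_zero, Matrix.cons_val_one,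
        Matrix.cons_val_fin_one, h10]
      intro h
      apply h01
      linear_combination -h
  · refine ⟨1, ?_⟩
    simpa using h10

/-- the trace of `A * (P_u B P_u⁻¹)` as a quadratic polynomial in `u` -/
theorem trace_mul_conj_upper (A B : Matrix.SpecialLinearGroup (Fin 2) F) (u : F) :
    ((A * (upperSL u * B * (upperSL u)⁻¹) : Matrix.SpecialLinearGroup (Fin 2) F) :
      Matrix (Fin 2) (Fin 2) F).trace =
    -((A : Matrix (Fin 2) (Fin 2) F) 1 0 * (B : Matrix (Fin 2) (Fin 2) F) 1 0) * u ^ 2 +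
      ((A : Matrix (Fin 2) (Fin 2) F) 0 0 * (B : Matrix (Fin 2) (Fin 2) F) 1 0 +
        (A : Matrix (Fin 2) (Fin 2) F) 1 0 * ((B : Matrix (Fin 2) (Fin 2) F) 1 1 -
          (B : Matrix (Fin 2) (Fin 2) F) 0 0) -
        (A : Matrix (Fin 2) (Fin 2) F) 1 1 * (B : Matrix (Fin 2) (Fin 2) F) 1 0) * u +
      ((A * B : Matrix.SpecialLinearGroup (Fin 2) F) : Matrix (Fin 2) (Fin 2) F).trace := by
  rw [Matrix.SpecialLinearGroup.coe_mul, Matrix.SpecialLinearGroup.coe_mul,
    Matrix.SpecialLinearGroup.coe_mul, Matrix.SpecialLinearGroup.coe_inv, Matrix.adjugate_fin_two,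
    Matrix.SpecialLinearGroup.coe_mul]
  rw [Matrix.eta_fin_two (A : Matrix (Fin 2) (Fin 2) F), Matrix.eta_fin_two (B : Matrix (Fin 2) (Fin 2) F)]
  simp only [upperSL, Matrix.mul_fin_two, Matrix.trace_fin_two, Matrix.of_apply, Matrix.cons_val',
    Matrix.cons_val_zero, Matrix.cons_val_one, Matrix.cons_val_fin_one]
  ring

/-- conjugate elements of `PSL(2,F)` have lifts with the same squared trace -/
theorem psl2_trace_sq_eq_of_isConj (G1 G2 : Matrix.SpecialLinearGroup (Fin 2) F)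
    (h : IsConj (QuotientGroup.mk G1 : Matrix.ProjectiveSpecialLinearGroup (Fin 2) F)
      (QuotientGroup.mk G2)) :
    (G1 : Matrix (Fin 2) (Fin 2) F).trace ^ 2 = (G2 : Matrix (Fin 2) (Fin 2) F).trace ^ 2 := by
  rw [isConj_iff] at h
  obtain ⟨v, hv⟩ := h
  obtain ⟨V, rfl⟩ := psl2_exists_rep v
  have h1 : (QuotientGroup.mk (V * G1 * V⁻¹) : Matrix.ProjectiveSpecialLinearGroup (Fin 2) F) =
      QuotientGroup.mk G2 := by rw [← hv]; rfl
  rw [QuotientGroup.eq, sl2_mem_center_iff] at h1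
  have htr : ((V * G1 * V⁻¹ : Matrix.SpecialLinearGroup (Fin 2) F) : Matrix (Fin 2) (Fin 2) F).trace =
      (G1 : Matrix (Fin 2) (Fin 2) F).trace := by
    rw [Matrix.SpecialLinearGroup.coe_mul, Matrix.SpecialLinearGroup.coe_mul, Matrix.trace_mul_cycle,
      ← Matrix.SpecialLinearGroup.coe_mul, inv_mul_cancel, Matrix.SpecialLinearGroup.coe_one,
      Matrix.one_mul]
  set W := V * G1 * V⁻¹ with hW
  have hmul : (W : Matrix (Fin 2) (Fin 2) F) * ((W⁻¹ * G2 : Matrix.SpecialLinearGroup (Fin 2) F) :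
      Matrix (Fin 2) (Fin 2) F) = (G2 : Matrix (Fin 2) (Fin 2) F) := by
    rw [← Matrix.SpecialLinearGroup.coe_mul, mul_inv_cancel_left]
  rcases h1 with h1 | h1
  · rw [h1, Matrix.mul_one] at hmul
    rw [← hmul, htr]
  · rw [h1, Matrix.mul_neg, Matrix.mul_one] at hmul
    rw [← hmul, Matrix.trace_neg, htr]
    ring

end Cfsg.Agent.Helper41
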