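import Mathlib
import Cfsg.Agent.Lib.Helper41.SL2
import Cfsg.Agent.Lib.Helper41.SL2Conj
import Cfsg.Agent.Lib.Helper41.SL2Prod

set_option autoImplicit false

namespace Cfsg.Agent.Helper41

open Matrix

/-- index of the centralizer of `g` = size of the conjugacy class of `g`. -/
theorem index_centralizer_eq_ncard {G : Type*} [Group G] (g : G) :
    (Subgroup.centralizer ({g} : Set G)).index = Set.ncard {h : G | IsConj g h} := by
  have h := MulAction.index_stabilizer (ConjAct G) g
  rw [ConjAct.stabilizer_eq_centralizer] at h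
  have h2 : MulAction.orbit (ConjAct G) g = {h : G | IsConj g h} := by
    ext h
    rw [ConjAct.mem_orbit_conjAct]
    exact isConj_comm
  rw [h2] at h
  exact h

section count

variable {F : Type*} [Field F] [Fintype F] [DecidableEq F]

theorem card_mul_eq (k : F) :
    Fintype.card {p : F × F // p.1 * p.2 = k} =
      (Fintype.card F - 1) + if k = 0 then Fintype.card F else 0 := by
  rw [Fintype.card_congr (Equiv.subtypeProdEquivSigmaSubtype (fun b c : F => b * c = k)),
    Fintype.card_sigma]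
  have h1 : ∀ b : F, Fintype.card {c : F // b * c = k} =
      if b = 0 then (if k = 0 then Fintype.card F else 0) else 1 := by
    intro b
    by_cases hb : b = 0
    · subst hb
      simp only [zero_mul, if_true]
      by_cases hk : k = 0
      · subst hk
        simp
      · rw [if_neg hk]
        rw [Fintype.card_eq_zero_iff]
        exact ⟨fun ⟨c, hc⟩ => hk hc.symm⟩
    · rw [if_neg hb]
      rw [Fintype.card_eq_one_iff]
      refine ⟨⟨b⁻¹ * k, by field_simp⟩, ?_⟩
      rintro ⟨c, hc⟩
      apply Subtype.ext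
      simp only
      rw [← hc]
      field_simp
  simp_rw [h1]
  rw [Finset.sum_ite, Finset.sum_const, Finset.sum_const]
  have h2 : (Finset.univ.filter (fun b : F => b = 0)).card = 1 := by
    rw [Finset.filter_eq' Finset.univ (0 : F)]
    simp
  have h3 : (Finset.univ.filter (fun b : F => ¬ b = 0)).card = Fintype.card F - 1 := by
    have := Finset.card_filter_add_card_filter_not (s := (Finset.univ : Finset F)) (fun b : F => b = 0)
    rw [h2, Finset.card_univ] at this
    omega
  rw [h2, h3]
  simp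
  ring

/-- the trace fiber of `SL(2,F)` in coordinates -/
def traceFiberEquiv (s : F) :
    {Y : SpecialLinearGroup (Fin 2) F // (Y : Matrix (Fin 2) (Fin 2) F).trace = s} ≃
      {p : F × (F × F) // p.2.1 * p.2.2 = p.1 * (s - p.1) - 1} where
  toFun Y := ⟨((Y.1 : Matrix (Fin 2) (Fin 2) F) 0 0,
      ((Y.1 : Matrix (Fin 2) (Fin 2) F) 0 1, (Y.1 : Matrix (Fin 2) (Fin 2) F) 1 0)), by
    have h1 := Y.1.2
    have h2 := Y.2
    rw [Matrix.det_fin_two] at h1
    rw [Matrix.trace_fin_two] at h2
    simp only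
    linear_combination -h1 + (Y.1 : Matrix (Fin 2) (Fin 2) F) 0 0 * h2⟩
  invFun p := ⟨⟨!![p.1.1, p.1.2.1; p.1.2.2, s - p.1.1], by
      have := p.2
      rw [Matrix.det_fin_two_of]
      linear_combination -this⟩, by
    simp [Matrix.trace_fin_two]⟩
  left_inv Y := by
    apply Subtype.ext
    apply Subtype.ext
    have h2 := Y.2
    rw [Matrix.trace_fin_two] at h2
    ext i j
    fin_cases i <;> fin_cases j <;> simp
    linear_combination -h2
  right_inv p := by
    apply Subtype.ext
    simp

theorem card_trace_fiber (s : F) :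
    Nat.card {Y : SpecialLinearGroup (Fin 2) F // (Y : Matrix (Fin 2) (Fin 2) F).trace = s} =
      Fintype.card F * (Fintype.card F - 1) +
        Fintype.card F * Fintype.card {a : F // a * (s - a) - 1 = 0} := by
  rw [Nat.card_congr (traceFiberEquiv s), Nat.card_eq_fintype_card,
    Fintype.card_congr (Equiv.subtypeProdEquivSigmaSubtype
      (fun (a : F) (bc : F × F) => bc.1 * bc.2 = a * (s - a) - 1)),
    Fintype.card_sigma]
  simp_rw [card_mul_eq]
  rw [Finset.sum_add_distrib, Finset.sum_const, Finset.card_univ, smul_eq_mul,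
    Finset.sum_ite, Finset.sum_const, Finset.sum_const_zero, add_zero, smul_eq_mul,
    Fintype.card_subtype, mul_comm (Finset.card _)]

end count

section general

variable {F : Type*} [Field F]

theorem card_roots_eq [Fintype F] [DecidableEq F] (s : F) (hs : s ^ 2 ≠ 4) :
    Fintype.card {a : F // a * (s - a) - 1 = 0} = 0 ∨
      Fintype.card {a : F // a * (s - a) - 1 = 0} = 2 := by
  by_cases h : Nonempty {a : F // a * (s - a) - 1 = 0}
  · right
    obtain ⟨⟨a, ha⟩⟩ := h
    have hne : a ≠ s - a := by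
      intro h
      apply hs
      have h1 : s = 2 * a := by linear_combination -h
      rw [h1] at ha ⊢
      linear_combination 4 * ha
    rw [Fintype.card_subtype]
    have hset : Finset.univ.filter (fun b : F => b * (s - b) - 1 = 0) = {a, s - a} := by
      ext b
      simp only [Finset.mem_filter, Finset.mem_univ, true_and, Finset.mem_insert,
        Finset.mem_singleton]
      constructor
      · intro hb
        have h0 : (b - a) * (b - (s - a)) = 0 := by linear_combination ha - hb
        rcases mul_eq_zero.mp h0 with h | h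
        · left; exact sub_eq_zero.mp h
        · right; exact sub_eq_zero.mp h
      · rintro (rfl | rfl)
        · exact ha
        · linear_combination ha
    rw [hset, Finset.card_pair hne]
  · left
    rw [Fintype.card_eq_zero_iff]
    exact ⟨fun x => h ⟨x⟩⟩

theorem sl2_trace_conj (U X : SpecialLinearGroup (Fin 2) F) :
    ((U * X * U⁻¹ : SpecialLinearGroup (Fin 2) F) : Matrix (Fin 2) (Fin 2) F).trace =
      (X : Matrix (Fin 2) (Fin 2) F).trace := by
  rw [Matrix.SpecialLinearGroup.coe_mul, Matrix.SpecialLinearGroup.coe_mul, Matrix.trace_mul_cycle,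
    ← Matrix.SpecialLinearGroup.coe_mul, inv_mul_cancel, Matrix.SpecialLinearGroup.coe_one,
    Matrix.one_mul]

theorem sl2_conj_class_eq [Fintype F] (X : SpecialLinearGroup (Fin 2) F)
    (hs : (X : Matrix (Fin 2) (Fin 2) F).trace ^ 2 ≠ 4) :
    {Y : SpecialLinearGroup (Fin 2) F | IsConj X Y} =
      {Y : SpecialLinearGroup (Fin 2) F |
        (Y : Matrix (Fin 2) (Fin 2) F).trace = (X : Matrix (Fin 2) (Fin 2) F).trace} := by
  ext Y
  simp only [Set.mem_setOf_eq, isConj_iff]
  constructor
  · rintro ⟨c, rfl⟩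
    exact sl2_trace_conj c X
  · intro h
    exact sl2_exists_conj_of_trace_eq X Y h.symm hs

theorem sl2_neg_conj (c g : SpecialLinearGroup (Fin 2) F) : c * (-g) * c⁻¹ = -(c * g * c⁻¹) := by
  apply Subtype.ext
  simp [SpecialLinearGroup.coe_mul, SpecialLinearGroup.coe_neg]

theorem psl2_mk_neg (g : SpecialLinearGroup (Fin 2) F) :
    (QuotientGroup.mk (-g) : ProjectiveSpecialLinearGroup (Fin 2) F) = QuotientGroup.mk g := by
  rw [QuotientGroup.eq, sl2_mem_center_iff]
  right
  have h : (-g)⁻¹ * g = -1 := by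
    rw [inv_mul_eq_iff_eq_mul]
    apply Subtype.ext
    simp [SpecialLinearGroup.coe_mul, SpecialLinearGroup.coe_neg]
  rw [h]
  simp [SpecialLinearGroup.coe_neg]

theorem psl2_isConj_mk_iff (g Y : SpecialLinearGroup (Fin 2) F) :
    IsConj (QuotientGroup.mk g : ProjectiveSpecialLinearGroup (Fin 2) F) (QuotientGroup.mk Y) ↔
      (IsConj g Y ∨ IsConj (-g) Y) := by
  constructor
  · intro h
    rw [isConj_iff] at h
    obtain ⟨cbar, hc⟩ := h
    obtain ⟨c, rfl⟩ := QuotientGroup.mk_surjective cbar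
    rw [← QuotientGroup.mk_inv, ← QuotientGroup.mk_mul, ← QuotientGroup.mk_mul, QuotientGroup.eq,
      sl2_mem_center_iff] at hc
    rcases hc with h1 | h1
    · left
      rw [isConj_iff]
      refine ⟨c, ?_⟩
      have : (c * g * c⁻¹)⁻¹ * Y = 1 := Subtype.ext (by simpa using h1)
      exact (inv_mul_eq_one.mp this)
    · right
      rw [isConj_iff]
      refine ⟨c, ?_⟩
      have : (c * g * c⁻¹)⁻¹ * Y = -1 := Subtype.ext (by simpa [SpecialLinearGroup.coe_neg] using h1)
      rw [inv_mul_eq_iff_eq_mul] at this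
      rw [this, sl2_neg_conj]
      apply Subtype.ext
      simp [SpecialLinearGroup.coe_mul, SpecialLinearGroup.coe_neg]
  · rintro (h | h)
    · rw [isConj_iff] at h ⊢
      obtain ⟨c, rfl⟩ := h
      exact ⟨QuotientGroup.mk c, rfl⟩
    · rw [isConj_iff] at h ⊢
      obtain ⟨c, rfl⟩ := h
      refine ⟨QuotientGroup.mk c, ?_⟩
      rw [← psl2_mk_neg g]
      rfl

theorem psl2_card_center_mul_index (g : SpecialLinearGroup (Fin 2) F) :
    Nat.card (Subgroup.center (SpecialLinearGroup (Fin 2) F)) *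
      (Subgroup.centralizer
        ({(QuotientGroup.mk g : ProjectiveSpecialLinearGroup (Fin 2) F)} : Set _)).index =
    Set.ncard {Y : SpecialLinearGroup (Fin 2) F | IsConj g Y ∨ IsConj (-g) Y} := by
  rw [index_centralizer_eq_ncard]
  have h1 := Nat.card_congr (QuotientGroup.preimageMkEquivSubgroupProdSet
    (Subgroup.center (SpecialLinearGroup (Fin 2) F))
    {y : ProjectiveSpecialLinearGroup (Fin 2) F | IsConj (QuotientGroup.mk g) y})
  rw [Nat.card_prod, Nat.card_coe_set_eq, Nat.card_coe_set_eq] at h1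
  rw [← h1]
  congr 1
  ext Y
  simp only [Set.mem_preimage, Set.mem_setOf_eq]
  exact psl2_isConj_mk_iff g Y

/-- Two non-scalar determinant-one matrices with the same trace `s` are conjugate by a
determinant-one matrix as soon as the form `a² + s a b + b²` represents every element. -/
theorem exists_conj_of_trace_eq_of_form (X Y : Matrix (Fin 2) (Fin 2) F) (hX : X.det = 1)
    (hY : Y.det = 1) (htr : X.trace = Y.trace)
    (hXns : ¬ (X 0 1 = 0 ∧ X 1 0 = 0 ∧ X 0 0 = X 1 1))
    (hYns : ¬ (Y 0 1 = 0 ∧ Y 1 0 = 0 ∧ Y 0 0 = Y 1 1))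
    (hform : ∀ δ : F, ∃ a b : F, a ^ 2 - (-X.trace) * a * b + b ^ 2 = δ) :
    ∃ R : Matrix (Fin 2) (Fin 2) F, R.det = 1 ∧ R * X = Y * R := by
  obtain ⟨v1, v2, hP⟩ := exists_cycMat_det_ne_zero X hXns
  obtain ⟨w1, w2, hQ⟩ := exists_cycMat_det_ne_zero Y hYns
  set P := cycMat X v1 v2 with hPdef
  set Q := cycMat Y w1 w2 with hQdef
  set s := X.trace with hsdef
  have hXP : X * P = P * compMat s := mul_cycMat X hX v1 v2
  have hYQ : Y * Q = Q * compMat s := by rw [htr]; exact mul_cycMat Y hY w1 w2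
  obtain ⟨a, b, hab⟩ := hform (P.det / Q.det)
  set T := commMat s a b with hTdef
  have hTdet : T.det = P.det / Q.det := by rw [hTdef, commMat_det, hab]
  have hPunit : IsUnit P.det := hP.isUnit
  refine ⟨Q * T * P⁻¹, ?_, ?_⟩
  · rw [Matrix.det_mul, Matrix.det_mul, hTdet, Matrix.det_nonsing_inv, Ring.inverse_eq_inv']
    field_simp
  · have h1 : P⁻¹ * X = compMat s * P⁻¹ := by
      have h2 : P⁻¹ * (X * P) * P⁻¹ = P⁻¹ * (P * compMat s) * P⁻¹ := by rw [hXP]
      have h3 : P⁻¹ * (X * P) * P⁻¹ = P⁻¹ * X := by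
        rw [Matrix.mul_assoc, Matrix.mul_assoc, Matrix.mul_nonsing_inv _ hPunit, Matrix.mul_one]
      have h4 : P⁻¹ * (P * compMat s) * P⁻¹ = compMat s * P⁻¹ := by
        rw [← Matrix.mul_assoc, Matrix.nonsing_inv_mul _ hPunit, Matrix.one_mul]
      rw [← h3, h2, h4]
    calc Q * T * P⁻¹ * X = Q * T * (P⁻¹ * X) := by rw [Matrix.mul_assoc]
      _ = Q * T * (compMat s * P⁻¹) := by rw [h1]
      _ = Q * (T * compMat s) * P⁻¹ := by simp only [Matrix.mul_assoc]
      _ = Q * (compMat s * T) * P⁻¹ := by rw [hTdef, commMat_comm]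
      _ = (Q * compMat s) * T * P⁻¹ := by simp only [Matrix.mul_assoc]
      _ = (Y * Q) * T * P⁻¹ := by rw [hYQ]
      _ = Y * (Q * T * P⁻¹) := by simp only [Matrix.mul_assoc]

end general

section chartwo

variable {F : Type*} [Field F]

theorem sl2_eq_one_of_scalar_char_two (h2 : (2 : F) = 0) (X : SpecialLinearGroup (Fin 2) F)
    (hX : (X : Matrix (Fin 2) (Fin 2) F) 0 1 = 0 ∧ (X : Matrix (Fin 2) (Fin 2) F) 1 0 = 0 ∧
      (X : Matrix (Fin 2) (Fin 2) F) 0 0 = (X : Matrix (Fin 2) (Fin 2) F) 1 1) : X = 1 := by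
  obtain ⟨h01, h10, h00⟩ := hX
  have hdet := X.2
  rw [Matrix.det_fin_two, h01, h10, ← h00] at hdet
  have h1 : ((X : Matrix (Fin 2) (Fin 2) F) 0 0 - 1) ^ 2 = 0 := by
    linear_combination hdet - ((X : Matrix (Fin 2) (Fin 2) F) 0 0 - 1) * h2
  have h3 : (X : Matrix (Fin 2) (Fin 2) F) 0 0 = 1 := by
    have := pow_eq_zero_iff (two_ne_zero) |>.mp h1
    exact sub_eq_zero.mp this
  apply Subtype.ext
  ext i j
  fin_cases i <;> fin_cases j <;> simp [h01, h10, h3, ← h00]

/-- In characteristic 2 (finite field), non-identity elements of `SL(2,F)` with the same trace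
are conjugate. -/
theorem sl2_exists_conj_char_two [Fintype F] (h2 : (2 : F) = 0)
    (X Y : SpecialLinearGroup (Fin 2) F) (hX : X ≠ 1) (hY : Y ≠ 1)
    (htr : (X : Matrix (Fin 2) (Fin 2) F).trace = (Y : Matrix (Fin 2) (Fin 2) F).trace) :
    ∃ U : SpecialLinearGroup (Fin 2) F, U * X * U⁻¹ = Y := by
  have hchar : ringChar F = 2 :=
    CharP.ringChar_of_prime_eq_zero Nat.prime_two (by exact_mod_cast h2)
  obtain ⟨R, hRdet, hR⟩ := exists_conj_of_trace_eq_of_form (X : Matrix (Fin 2) (Fin 2) F) Y X.2 Y.2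
    htr (fun h => hX (sl2_eq_one_of_scalar_char_two h2 X h))
    (fun h => hY (sl2_eq_one_of_scalar_char_two h2 Y h))
    (fun δ => by
      obtain ⟨e, he⟩ := FiniteField.isSquare_of_char_two hchar δ
      exact ⟨e, 0, by rw [he]; ring⟩)
  let U : SpecialLinearGroup (Fin 2) F := ⟨R, hRdet⟩
  refine ⟨U, ?_⟩
  have hU : U * X = Y * U := by
    apply Subtype.ext
    simp only [Matrix.SpecialLinearGroup.coe_mul]
    exact hR
  rw [hU, mul_inv_cancel_right]

theorem sl2_center_eq_bot_char_two (h2 : (2 : F) = 0) :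
    Subgroup.center (SpecialLinearGroup (Fin 2) F) = ⊥ := by
  rw [eq_bot_iff]
  intro A hA
  rw [sl2_mem_center_iff] at hA
  rw [Subgroup.mem_bot]
  have hneg : (-1 : Matrix (Fin 2) (Fin 2) F) = 1 := by
    have : (1 : Matrix (Fin 2) (Fin 2) F) + 1 = 0 := by
      rw [← two_smul F (1 : Matrix (Fin 2) (Fin 2) F), h2, zero_smul]
    exact (eq_neg_of_add_eq_zero_left this).symm
  rw [hneg, or_self] at hA
  exact Subtype.ext (by simpa using hA)

theorem sl2_neg_eq_self_char_two (h2 : (2 : F) = 0) (g : SpecialLinearGroup (Fin 2) F) :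
    -g = g := by
  apply Subtype.ext
  rw [Matrix.SpecialLinearGroup.coe_neg]
  have : (g : Matrix (Fin 2) (Fin 2) F) + g = 0 := by
    rw [← two_smul F (g : Matrix (Fin 2) (Fin 2) F), h2, zero_smul]
  exact (eq_neg_of_add_eq_zero_left this).symm

/-- In characteristic 2 the class size in `PSL(2,F)` is the class size in `SL(2,F)`. -/
theorem psl2_index_char_two (h2 : (2 : F) = 0) (g : SpecialLinearGroup (Fin 2) F) :
    (Subgroup.centralizer
      ({(QuotientGroup.mk g : ProjectiveSpecialLinearGroup (Fin 2) F)} : Set _)).index =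
    Set.ncard {Y : SpecialLinearGroup (Fin 2) F | IsConj g Y} := by
  have h := psl2_card_center_mul_index g
  have hc : Nat.card (Subgroup.center (SpecialLinearGroup (Fin 2) F)) = 1 := by
    rw [sl2_center_eq_bot_char_two h2, Subgroup.card_bot]
  rw [hc, one_mul, sl2_neg_eq_self_char_two h2] at h
  simpa using h

end chartwo

end Cfsg.Agent.Helper41
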