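import Mathlib
import Cfsg.Agent.Lib.Helper41.SL2Class

set_option autoImplicit false

namespace Cfsg.Agent.Helper41

open Matrix

section sums

variable {F : Type*} [Field F] [Fintype F] [DecidableEq F]

/-- `∑_s #{a : a (s - a) = 1} = q - 1`. -/
theorem sum_card_roots :
    ∑ s : F, Fintype.card {a : F // a * (s - a) - 1 = 0} = Fintype.card F - 1 := by
  rw [← Fintype.card_sigma, ← Fintype.card_units]
  apply Fintype.card_congr
  refine
    { toFun := fun x => Units.mk0 x.2.1 (by
        intro h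
        have := x.2.2
        rw [h] at this
        simp at this)
      invFun := fun t => ⟨(t : F) + (t : F)⁻¹, ⟨(t : F), by
        have := t.ne_zero
        field_simp
        ring⟩⟩
      left_inv := ?_
      right_inv := ?_ }
  · rintro ⟨s, a, ha⟩
    have ha0 : a ≠ 0 := by
      rintro rfl
      simp at ha
    have hs : a + a⁻¹ = s := by
      field_simp
      linear_combination -ha
    simp only [Units.val_mk0]
    subst hs
    rfl
  · intro t
    apply Units.ext
    simp

/-- `|SL(2,q)| = q (q - 1) (q + 1)`, from the trace fibers. -/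
theorem card_sl2 :
    Nat.card (SpecialLinearGroup (Fin 2) F) =
      Fintype.card F * (Fintype.card F - 1) * (Fintype.card F + 1) := by
  have e := Equiv.sigmaFiberEquiv
    (fun Y : SpecialLinearGroup (Fin 2) F => (Y : Matrix (Fin 2) (Fin 2) F).trace)
  rw [← Nat.card_congr e, Nat.card_sigma]
  simp_rw [card_trace_fiber]
  rw [Finset.sum_add_distrib, Finset.sum_const, Finset.card_univ, smul_eq_mul, ← Finset.mul_sum,
    sum_card_roots]
  ring

/-- for `q ≥ 6` there is `s ≠ 0` such that `x² - s x + 1` has no root -/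
theorem exists_ne_zero_no_root (h6 : 6 ≤ Fintype.card F) :
    ∃ s : F, s ≠ 0 ∧ ∀ a : F, a * (s - a) - 1 ≠ 0 := by
  by_contra hcon
  push Not at hcon
  -- every s ∉ {0, 2, -2} has exactly two roots
  have h2 : ∀ s : F, s ∉ ({0, 2, -2} : Finset F) →
      Fintype.card {a : F // a * (s - a) - 1 = 0} = 2 := by
    intro s hs
    simp only [Finset.mem_insert, Finset.mem_singleton, not_or] at hs
    obtain ⟨hs0, hs2, hs2'⟩ := hs
    have hsq : s ^ 2 ≠ 4 := by
      intro h
      have : (s - 2) * (s + 2) = 0 := by linear_combination h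
      rcases mul_eq_zero.mp this with h | h
      · exact hs2 (sub_eq_zero.mp h)
      · exact hs2' (eq_neg_of_add_eq_zero_left h)
    rcases card_roots_eq s hsq with h | h
    · exfalso
      obtain ⟨a, ha⟩ := hcon s hs0
      rw [Fintype.card_eq_zero_iff] at h
      exact h.false ⟨a, ha⟩
    · exact h
  have hsum := sum_card_roots (F := F)
  have hle : ∑ s ∈ (Finset.univ \ ({0, 2, -2} : Finset F)),
      Fintype.card {a : F // a * (s - a) - 1 = 0} ≤
      ∑ s : F, Fintype.card {a : F // a * (s - a) - 1 = 0} :=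
    Finset.sum_le_sum_of_subset (Finset.sdiff_subset)
  have heq : ∑ s ∈ (Finset.univ \ ({0, 2, -2} : Finset F)),
      Fintype.card {a : F // a * (s - a) - 1 = 0} =
      2 * (Finset.univ \ ({0, 2, -2} : Finset F)).card := by
    rw [Finset.sum_congr rfl (fun s hs => h2 s (Finset.mem_sdiff.mp hs).2), Finset.sum_const,
      smul_eq_mul, mul_comm]
  have hcard : Fintype.card F - 3 ≤ (Finset.univ \ ({0, 2, -2} : Finset F)).card := by
    have h3 : ({0, 2, -2} : Finset F).card ≤ 3 := Finset.card_le_three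
    have := Finset.le_card_sdiff ({0, 2, -2} : Finset F) Finset.univ
    rw [Finset.card_univ] at this
    omega
  omega

/-- for `q ≥ 6` there is `t ≠ 0` with `t⁴ ≠ 1` -/
theorem exists_pow_four_ne_one (h6 : 6 ≤ Fintype.card F) :
    ∃ t : F, t ≠ 0 ∧ t ^ 4 ≠ 1 := by
  obtain ⟨z, hz⟩ := IsCyclic.exists_generator (α := Fˣ)
  have hord : orderOf z = Fintype.card F - 1 := by
    rw [orderOf_eq_card_of_forall_mem_zpowers hz, Nat.card_eq_fintype_card, Fintype.card_units]
  refine ⟨(z : F), z.ne_zero, ?_⟩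
  intro h
  have h1 : z ^ 4 = 1 := by
    apply Units.ext
    simpa using h
  have := orderOf_dvd_of_pow_eq_one h1
  rw [hord] at this
  have := Nat.le_of_dvd (by norm_num) this
  omega

end sums

section unip

variable {F : Type*} [Field F]

/-- the element `[[ε, b],[0, ε]]`, `ε² = 1` -/
def unipSL (ε b : F) (hε : ε ^ 2 = 1) : SpecialLinearGroup (Fin 2) F :=
  ⟨!![ε, b; 0, ε], by rw [Matrix.det_fin_two_of]; linear_combination hε⟩

theorem exists_conj_unipSL (g : SpecialLinearGroup (Fin 2) F) (ε : F) (hε : ε ^ 2 = 1)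
    (htr : (g : Matrix (Fin 2) (Fin 2) F).trace = 2 * ε)
    (hns : ¬ ((g : Matrix (Fin 2) (Fin 2) F) 0 1 = 0 ∧ (g : Matrix (Fin 2) (Fin 2) F) 1 0 = 0 ∧
      (g : Matrix (Fin 2) (Fin 2) F) 0 0 = (g : Matrix (Fin 2) (Fin 2) F) 1 1)) :
    ∃ U : SpecialLinearGroup (Fin 2) F, ∃ b : F, b ≠ 0 ∧ U * g * U⁻¹ = unipSL ε b hε := by
  have hdet := g.2
  rw [Matrix.det_fin_two] at hdet
  rw [Matrix.trace_fin_two] at htr
  by_cases h10 : (g : Matrix (Fin 2) (Fin 2) F) 1 0 = 0
  · have h00 : (g : Matrix (Fin 2) (Fin 2) F) 0 0 = ε := by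
      have : ((g : Matrix (Fin 2) (Fin 2) F) 0 0 - ε) ^ 2 = 0 := by
        rw [h10] at hdet
        linear_combination ((g : Matrix (Fin 2) (Fin 2) F) 0 0) * htr - hdet + hε
      exact sub_eq_zero.mp (pow_eq_zero_iff two_ne_zero |>.mp this)
    have h11 : (g : Matrix (Fin 2) (Fin 2) F) 1 1 = ε := by linear_combination htr - h00
    have h01 : (g : Matrix (Fin 2) (Fin 2) F) 0 1 ≠ 0 := by
      intro h
      exact hns ⟨h, h10, by rw [h00, h11]⟩
    refine ⟨1, (g : Matrix (Fin 2) (Fin 2) F) 0 1, h01, ?_⟩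
    rw [one_mul, inv_one, mul_one]
    apply Subtype.ext
    ext i j
    fin_cases i <;> fin_cases j <;> simp [unipSL, h00, h10, h11]
  · let P : SpecialLinearGroup (Fin 2) F :=
      ⟨!![(g : Matrix (Fin 2) (Fin 2) F) 0 0 - ε, -1 / (g : Matrix (Fin 2) (Fin 2) F) 1 0;
          (g : Matrix (Fin 2) (Fin 2) F) 1 0, 0], by
        rw [Matrix.det_fin_two_of]
        field_simp
        ring⟩
    have hb : -1 / (g : Matrix (Fin 2) (Fin 2) F) 1 0 ≠ 0 :=
      div_ne_zero (neg_ne_zero.mpr one_ne_zero) h10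
    refine ⟨P⁻¹, -1 / (g : Matrix (Fin 2) (Fin 2) F) 1 0, hb, ?_⟩
    have hgP : g * P = P * unipSL ε (-1 / (g : Matrix (Fin 2) (Fin 2) F) 1 0) hε := by
      apply Subtype.ext
      rw [Matrix.SpecialLinearGroup.coe_mul, Matrix.SpecialLinearGroup.coe_mul]
      ext i j
      fin_cases i <;> fin_cases j <;>
        simp [P, unipSL, Matrix.mul_apply, Fin.sum_univ_two]
      · linear_combination (g : Matrix (Fin 2) (Fin 2) F) 0 0 * htr - hdet + hε
      · field_simp
        ring
      · linear_combination (g : Matrix (Fin 2) (Fin 2) F) 1 0 * htr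
    rw [inv_inv, mul_assoc, hgP, inv_mul_cancel_left]

theorem mem_centralizer_unipSL (ε b : F) (hε : ε ^ 2 = 1) (hb : b ≠ 0)
    (Y : SpecialLinearGroup (Fin 2) F) :
    Y ∈ Subgroup.centralizer ({unipSL ε b hε} : Set (SpecialLinearGroup (Fin 2) F)) ↔
      ((Y : Matrix (Fin 2) (Fin 2) F) 1 0 = 0 ∧
        (Y : Matrix (Fin 2) (Fin 2) F) 0 0 = (Y : Matrix (Fin 2) (Fin 2) F) 1 1) := by
  rw [Subgroup.mem_centralizer_singleton_iff]
  constructor
  · intro h
    have h1 := congrArg (fun M : SpecialLinearGroup (Fin 2) F => (M : Matrix (Fin 2) (Fin 2) F)) h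
    simp only [Matrix.SpecialLinearGroup.coe_mul] at h1
    have e00 := congrFun (congrFun h1 0) 0
    have e01 := congrFun (congrFun h1 0) 1
    simp [unipSL, Matrix.mul_apply, Fin.sum_univ_two] at e00 e01
    have h10 : (Y : Matrix (Fin 2) (Fin 2) F) 1 0 = 0 := by
      have : b * (Y : Matrix (Fin 2) (Fin 2) F) 1 0 = 0 := by linear_combination -e00
      rcases mul_eq_zero.mp this with h | h
      · exact absurd h hb
      · exact h
    refine ⟨h10, ?_⟩
    have : b * ((Y : Matrix (Fin 2) (Fin 2) F) 0 0 - (Y : Matrix (Fin 2) (Fin 2) F) 1 1) = 0 := by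
      linear_combination e01
    rcases mul_eq_zero.mp this with h | h
    · exact absurd h hb
    · exact sub_eq_zero.mp h
  · rintro ⟨h10, h00⟩
    apply Subtype.ext
    rw [Matrix.SpecialLinearGroup.coe_mul, Matrix.SpecialLinearGroup.coe_mul]
    ext i j
    fin_cases i <;> fin_cases j <;>
      simp [unipSL, Matrix.mul_apply, Fin.sum_univ_two, h10, h00] <;> ring

/-- the centralizer of `[[ε, b],[0, ε]]` in coordinates -/
def centralizerUnipEquiv (ε b : F) (hε : ε ^ 2 = 1) (hb : b ≠ 0) :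
    Subgroup.centralizer ({unipSL ε b hε} : Set (SpecialLinearGroup (Fin 2) F)) ≃
      {a : F // a ^ 2 = 1} × F where
  toFun Y := (⟨(Y.1 : Matrix (Fin 2) (Fin 2) F) 0 0, by
      have h := (mem_centralizer_unipSL ε b hε hb Y.1).mp Y.2
      have hdet := Y.1.2
      rw [Matrix.det_fin_two, h.1, ← h.2] at hdet
      linear_combination hdet⟩, (Y.1 : Matrix (Fin 2) (Fin 2) F) 0 1)
  invFun p := ⟨⟨!![p.1.1, p.2; 0, p.1.1], by
      rw [Matrix.det_fin_two_of]
      linear_combination p.1.2⟩, by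
    apply (mem_centralizer_unipSL ε b hε hb _).mpr
    simp⟩
  left_inv Y := by
    have h := (mem_centralizer_unipSL ε b hε hb Y.1).mp Y.2
    apply Subtype.ext
    apply Subtype.ext
    ext i j
    fin_cases i <;> fin_cases j <;> simp [h.1, h.2]
  right_inv p := by
    apply Prod.ext
    · apply Subtype.ext
      simp
    · simp

theorem card_sq_eq_one [Fintype F] [DecidableEq F] (h2 : (2 : F) ≠ 0) :
    Fintype.card {a : F // a ^ 2 = 1} = 2 := by
  rw [Fintype.card_subtype]
  have hset : Finset.univ.filter (fun a : F => a ^ 2 = 1) = {1, -1} := by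
    ext a
    simp only [Finset.mem_filter, Finset.mem_univ, true_and, Finset.mem_insert,
      Finset.mem_singleton]
    constructor
    · intro h
      have : (a - 1) * (a + 1) = 0 := by linear_combination h
      rcases mul_eq_zero.mp this with h | h
      · left; exact sub_eq_zero.mp h
      · right; exact eq_neg_of_add_eq_zero_left h
    · rintro (rfl | rfl) <;> ring
  have hne : (1 : F) ≠ -1 := by
    intro h
    apply h2
    linear_combination h
  rw [hset, Finset.card_pair hne]

theorem card_centralizer_unipSL [Fintype F] (h2 : (2 : F) ≠ 0) (ε b : F) (hε : ε ^ 2 = 1)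
    (hb : b ≠ 0) :
    Nat.card (Subgroup.centralizer ({unipSL ε b hε} : Set (SpecialLinearGroup (Fin 2) F))) =
      2 * Fintype.card F := by
  classical
  rw [Nat.card_congr (centralizerUnipEquiv ε b hε hb), Nat.card_prod, Nat.card_eq_fintype_card,
    Nat.card_eq_fintype_card, card_sq_eq_one h2]

/-- unipotent-type classes of `SL(2,q)`, `q` odd, have `(q² - 1)/2` elements -/
theorem two_mul_ncard_class_unip [Fintype F] (h2 : (2 : F) ≠ 0)
    (g : SpecialLinearGroup (Fin 2) F) (ε : F) (hε : ε ^ 2 = 1)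
    (htr : (g : Matrix (Fin 2) (Fin 2) F).trace = 2 * ε)
    (hns : ¬ ((g : Matrix (Fin 2) (Fin 2) F) 0 1 = 0 ∧ (g : Matrix (Fin 2) (Fin 2) F) 1 0 = 0 ∧
      (g : Matrix (Fin 2) (Fin 2) F) 0 0 = (g : Matrix (Fin 2) (Fin 2) F) 1 1)) :
    2 * Set.ncard {Y : SpecialLinearGroup (Fin 2) F | IsConj g Y} = Fintype.card F ^ 2 - 1 := by
  classical
  obtain ⟨U, b, hb, hU⟩ := exists_conj_unipSL g ε hε htr hns
  have hconj : IsConj g (unipSL ε b hε) := isConj_iff.mpr ⟨U, hU⟩
  have hset : {Y : SpecialLinearGroup (Fin 2) F | IsConj g Y} =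
      {Y | IsConj (unipSL ε b hε) Y} := by
    ext Y
    simp only [Set.mem_setOf_eq]
    exact ⟨fun h => hconj.symm.trans h, fun h => hconj.trans h⟩
  rw [hset, ← index_centralizer_eq_ncard]
  have h1 := Subgroup.card_mul_index
    (Subgroup.centralizer ({unipSL ε b hε} : Set (SpecialLinearGroup (Fin 2) F)))
  rw [card_centralizer_unipSL h2 ε b hε hb, card_sl2] at h1
  have hq : 0 < Fintype.card F := Fintype.card_pos
  obtain ⟨k, hk⟩ : ∃ k, Fintype.card F = k + 1 := ⟨Fintype.card F - 1, by omega⟩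
  rw [hk] at h1 ⊢
  simp only [Nat.add_sub_cancel] at h1
  have h3 : (k + 1) * (2 * (Subgroup.centralizer
      ({unipSL ε b hε} : Set (SpecialLinearGroup (Fin 2) F))).index) = (k + 1) * (k * (k + 2)) := by
    linear_combination h1
  have h4 := Nat.eq_of_mul_eq_mul_left (by omega) h3
  rw [h4]
  have : (k + 1) ^ 2 = k * (k + 2) + 1 := by ring
  rw [this, Nat.add_sub_cancel]

end unip

section odd

variable {F : Type*} [Field F]

theorem sl2_trace_eq_of_isConj {g Y : SpecialLinearGroup (Fin 2) F} (h : IsConj g Y) :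
    (Y : Matrix (Fin 2) (Fin 2) F).trace = (g : Matrix (Fin 2) (Fin 2) F).trace := by
  rw [isConj_iff] at h
  obtain ⟨c, rfl⟩ := h
  exact sl2_trace_conj c g

theorem sl2_trace_neg (g : SpecialLinearGroup (Fin 2) F) :
    ((-g : SpecialLinearGroup (Fin 2) F) : Matrix (Fin 2) (Fin 2) F).trace =
      -(g : Matrix (Fin 2) (Fin 2) F).trace := by
  rw [Matrix.SpecialLinearGroup.coe_neg, Matrix.trace_neg]

theorem card_center_sl2_odd (h2 : (2 : F) ≠ 0) :
    Nat.card (Subgroup.center (SpecialLinearGroup (Fin 2) F)) = 2 := by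
  have hset : ((Subgroup.center (SpecialLinearGroup (Fin 2) F) : Subgroup _) :
      Set (SpecialLinearGroup (Fin 2) F)) = {1, -1} := by
    ext A
    simp only [SetLike.mem_coe, Set.mem_insert_iff, Set.mem_singleton_iff]
    rw [sl2_mem_center_iff]
    constructor
    · rintro (h | h)
      · left; exact Subtype.ext (by simpa using h)
      · right; exact Subtype.ext (by simpa [Matrix.SpecialLinearGroup.coe_neg] using h)
    · rintro (rfl | rfl)
      · left; simp
      · right; simp [Matrix.SpecialLinearGroup.coe_neg]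
  have hne : (1 : SpecialLinearGroup (Fin 2) F) ≠ -1 := by
    intro h
    have h1 := congrArg (fun M : SpecialLinearGroup (Fin 2) F =>
      (M : Matrix (Fin 2) (Fin 2) F) 0 0) h
    simp [Matrix.SpecialLinearGroup.coe_neg] at h1
    apply h2
    linear_combination h1
  rw [← SetLike.coe_sort_coe, Nat.card_coe_set_eq, hset, Set.ncard_pair hne]

theorem psl2_two_mul_index_odd (h2 : (2 : F) ≠ 0) (g : SpecialLinearGroup (Fin 2) F) :
    2 * (Subgroup.centralizer
        ({(QuotientGroup.mk g : ProjectiveSpecialLinearGroup (Fin 2) F)} : Set _)).index =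
    Set.ncard ({Y : SpecialLinearGroup (Fin 2) F | IsConj g Y} ∪ {Y | IsConj (-g) Y}) := by
  have h := psl2_card_center_mul_index g
  rw [card_center_sl2_odd h2] at h
  rw [h]
  rfl

theorem psl2_index_scalar (g : SpecialLinearGroup (Fin 2) F)
    (hg : (g : Matrix (Fin 2) (Fin 2) F) = 1 ∨ (g : Matrix (Fin 2) (Fin 2) F) = -1) :
    (Subgroup.centralizer
        ({(QuotientGroup.mk g : ProjectiveSpecialLinearGroup (Fin 2) F)} : Set _)).index = 1 := by
  rw [(psl2_mk_eq_one_iff g).mpr hg]
  have : Subgroup.centralizer ({1} : Set (ProjectiveSpecialLinearGroup (Fin 2) F)) = ⊤ := by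
    rw [Subgroup.centralizer_eq_top_iff_subset]
    intro x hx
    rw [Set.mem_singleton_iff] at hx
    rw [hx]
    exact Subgroup.one_mem _
  rw [this, Subgroup.index_top]

theorem sl2_scalar_eq (g : SpecialLinearGroup (Fin 2) F)
    (hsc : (g : Matrix (Fin 2) (Fin 2) F) 0 1 = 0 ∧ (g : Matrix (Fin 2) (Fin 2) F) 1 0 = 0 ∧
      (g : Matrix (Fin 2) (Fin 2) F) 0 0 = (g : Matrix (Fin 2) (Fin 2) F) 1 1) :
    (g : Matrix (Fin 2) (Fin 2) F) = 1 ∨ (g : Matrix (Fin 2) (Fin 2) F) = -1 := by
  obtain ⟨h01, h10, h00⟩ := hsc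
  have hdet := g.2
  rw [Matrix.det_fin_two, h01, h10, ← h00] at hdet
  have h1 : ((g : Matrix (Fin 2) (Fin 2) F) 0 0 - 1) * ((g : Matrix (Fin 2) (Fin 2) F) 0 0 + 1) = 0 := by
    linear_combination hdet
  rcases mul_eq_zero.mp h1 with h | h
  · left
    have h3 := sub_eq_zero.mp h
    ext i j
    fin_cases i <;> fin_cases j <;> simp [h01, h10, h3, ← h00]
  · right
    have h3 := eq_neg_of_add_eq_zero_left h
    ext i j
    fin_cases i <;> fin_cases j <;> simp [h01, h10, h3, ← h00]

variable [Fintype F] [DecidableEq F]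

theorem ncard_trace_fiber' (s : F) :
    Set.ncard {Y : SpecialLinearGroup (Fin 2) F | (Y : Matrix (Fin 2) (Fin 2) F).trace = s} =
      Fintype.card F * (Fintype.card F - 1) +
        Fintype.card F * Fintype.card {a : F // a * (s - a) - 1 = 0} := by
  rw [← card_trace_fiber s, ← Nat.card_coe_set_eq]
  rfl

theorem card_roots_neg (s : F) :
    Fintype.card {a : F // a * (-s - a) - 1 = 0} = Fintype.card {a : F // a * (s - a) - 1 = 0} := by
  apply Fintype.card_congr
  refine
    { toFun := fun a => ⟨-a.1, by linear_combination a.2⟩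
      invFun := fun a => ⟨-a.1, by linear_combination a.2⟩
      left_inv := fun a => by simp
      right_inv := fun a => by simp }

/-- generic semisimple classes of `PSL(2,q)`, `q` odd -/
theorem psl2_index_generic (h2 : (2 : F) ≠ 0) (g : SpecialLinearGroup (Fin 2) F)
    (hs0 : (g : Matrix (Fin 2) (Fin 2) F).trace ≠ 0)
    (hs4 : (g : Matrix (Fin 2) (Fin 2) F).trace ^ 2 ≠ 4) :
    (Subgroup.centralizer
        ({(QuotientGroup.mk g : ProjectiveSpecialLinearGroup (Fin 2) F)} : Set _)).index =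
      Fintype.card F * (Fintype.card F - 1) + Fintype.card F *
        Fintype.card {a : F // a * ((g : Matrix (Fin 2) (Fin 2) F).trace - a) - 1 = 0} := by
  have h := psl2_two_mul_index_odd h2 g
  have hdisj : Disjoint {Y : SpecialLinearGroup (Fin 2) F | IsConj g Y} {Y | IsConj (-g) Y} := by
    rw [Set.disjoint_left]
    intro Y hY hY'
    have e1 := sl2_trace_eq_of_isConj hY
    have e2 := sl2_trace_eq_of_isConj hY'
    rw [sl2_trace_neg] at e2
    apply hs0
    have : (2 : F) * (g : Matrix (Fin 2) (Fin 2) F).trace = 0 := by linear_combination e2 - e1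
    rcases mul_eq_zero.mp this with h | h
    · exact absurd h h2
    · exact h
  rw [Set.ncard_union_eq hdisj (Set.toFinite _) (Set.toFinite _)] at h
  have hs4' : ((-g : SpecialLinearGroup (Fin 2) F) : Matrix (Fin 2) (Fin 2) F).trace ^ 2 ≠ 4 := by
    rw [sl2_trace_neg, neg_sq]; exact hs4
  rw [sl2_conj_class_eq g hs4, sl2_conj_class_eq (-g) hs4', ncard_trace_fiber', ncard_trace_fiber',
    sl2_trace_neg, card_roots_neg] at h
  omega

/-- trace-zero classes of `PSL(2,q)`, `q` odd -/
theorem psl2_two_mul_index_trace_zero (h2 : (2 : F) ≠ 0) (g : SpecialLinearGroup (Fin 2) F)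
    (hs0 : (g : Matrix (Fin 2) (Fin 2) F).trace = 0) :
    2 * (Subgroup.centralizer
        ({(QuotientGroup.mk g : ProjectiveSpecialLinearGroup (Fin 2) F)} : Set _)).index =
      Fintype.card F * (Fintype.card F - 1) + Fintype.card F *
        Fintype.card {a : F // a * (0 - a) - 1 = 0} := by
  have h := psl2_two_mul_index_odd h2 g
  have h4 : (4 : F) ≠ 0 := by
    have : (4 : F) = 2 * 2 := by norm_num
    rw [this]; exact mul_ne_zero h2 h2
  have hs4 : (g : Matrix (Fin 2) (Fin 2) F).trace ^ 2 ≠ 4 := by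
    rw [hs0]; intro h; apply h4; linear_combination -h
  have hs4' : ((-g : SpecialLinearGroup (Fin 2) F) : Matrix (Fin 2) (Fin 2) F).trace ^ 2 ≠ 4 := by
    rw [sl2_trace_neg, neg_sq]; exact hs4
  rw [sl2_conj_class_eq g hs4, sl2_conj_class_eq (-g) hs4', sl2_trace_neg, hs0, neg_zero,
    Set.union_self, ncard_trace_fiber'] at h
  exact h

/-- unipotent-type classes of `PSL(2,q)`, `q` odd -/
theorem psl2_two_mul_index_unip (h2 : (2 : F) ≠ 0) (g : SpecialLinearGroup (Fin 2) F)
    (hs4 : (g : Matrix (Fin 2) (Fin 2) F).trace ^ 2 = 4)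
    (hns : ¬ ((g : Matrix (Fin 2) (Fin 2) F) 0 1 = 0 ∧ (g : Matrix (Fin 2) (Fin 2) F) 1 0 = 0 ∧
      (g : Matrix (Fin 2) (Fin 2) F) 0 0 = (g : Matrix (Fin 2) (Fin 2) F) 1 1)) :
    2 * (Subgroup.centralizer
        ({(QuotientGroup.mk g : ProjectiveSpecialLinearGroup (Fin 2) F)} : Set _)).index =
      Fintype.card F ^ 2 - 1 := by
  have h := psl2_two_mul_index_odd h2 g
  have h4 : (4 : F) ≠ 0 := by
    have : (4 : F) = 2 * 2 := by norm_num
    rw [this]; exact mul_ne_zero h2 h2
  have hs0 : (g : Matrix (Fin 2) (Fin 2) F).trace ≠ 0 := by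
    intro h0
    rw [h0] at hs4
    apply h4
    linear_combination -hs4
  have hdisj : Disjoint {Y : SpecialLinearGroup (Fin 2) F | IsConj g Y} {Y | IsConj (-g) Y} := by
    rw [Set.disjoint_left]
    intro Y hY hY'
    have e1 := sl2_trace_eq_of_isConj hY
    have e2 := sl2_trace_eq_of_isConj hY'
    rw [sl2_trace_neg] at e2
    apply hs0
    have : (2 : F) * (g : Matrix (Fin 2) (Fin 2) F).trace = 0 := by linear_combination e2 - e1
    rcases mul_eq_zero.mp this with h | h
    · exact absurd h h2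
    · exact h
  rw [Set.ncard_union_eq hdisj (Set.toFinite _) (Set.toFinite _)] at h
  -- ε = tr / 2
  obtain ⟨ε, hε, htr⟩ : ∃ ε : F, ε ^ 2 = 1 ∧ (g : Matrix (Fin 2) (Fin 2) F).trace = 2 * ε := by
    refine ⟨(g : Matrix (Fin 2) (Fin 2) F).trace / 2, ?_, ?_⟩
    · field_simp
      linear_combination hs4
    · field_simp
  have hA := two_mul_ncard_class_unip h2 g ε hε htr hns
  have hns' : ¬ (((-g : SpecialLinearGroup (Fin 2) F) : Matrix (Fin 2) (Fin 2) F) 0 1 = 0 ∧
      ((-g : SpecialLinearGroup (Fin 2) F) : Matrix (Fin 2) (Fin 2) F) 1 0 = 0 ∧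
      ((-g : SpecialLinearGroup (Fin 2) F) : Matrix (Fin 2) (Fin 2) F) 0 0 =
        ((-g : SpecialLinearGroup (Fin 2) F) : Matrix (Fin 2) (Fin 2) F) 1 1) := by
    intro hh
    apply hns
    simp only [Matrix.SpecialLinearGroup.coe_neg, Matrix.neg_apply, neg_eq_zero, neg_inj] at hh
    exact hh
  have hB := two_mul_ncard_class_unip h2 (-g) (-ε) (by rw [neg_sq]; exact hε)
    (by rw [sl2_trace_neg, htr]; ring) hns'
  omega

end odd

end Cfsg.Agent.Helper41
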