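import Mathlib
import Cfsg.Agent.Lib.Helper41.SL2Class

set_option autoImplicit false

namespace Cfsg.Agent.Helper41

open Matrix

section commutant

variable {F : Type*} [Field F]

/-- The commutant of a non-scalar 2×2 matrix `A` is `F[A]`. -/
theorem exists_eq_smul_add_smul_of_commute (A B : Matrix (Fin 2) (Fin 2) F)
    (hA : ¬ (A 0 1 = 0 ∧ A 1 0 = 0 ∧ A 0 0 = A 1 1)) (hAB : A * B = B * A) :
    ∃ α β : F, B = α • (1 : Matrix (Fin 2) (Fin 2) F) + β • A := by
  have e00 := congrFun (congrFun hAB 0) 0
  have e01 := congrFun (congrFun hAB 0) 1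
  have e10 := congrFun (congrFun hAB 1) 0
  have e11 := congrFun (congrFun hAB 1) 1
  simp only [Matrix.mul_apply, Fin.sum_univ_two] at e00 e01 e10 e11
  by_cases h01 : A 0 1 = 0
  · by_cases h10 : A 1 0 = 0
    · have hne : A 0 0 - A 1 1 ≠ 0 := by
        intro h
        exact hA ⟨h01, h10, sub_eq_zero.mp h⟩
      have hB01 : B 0 1 = 0 := by
        rw [h01] at e01
        have : B 0 1 * (A 0 0 - A 1 1) = 0 := by linear_combination e01
        rcases mul_eq_zero.mp this with h | h
        · exact h
        · exact absurd h hne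
      have hB10 : B 1 0 = 0 := by
        rw [h10] at e10
        have : B 1 0 * (A 0 0 - A 1 1) = 0 := by linear_combination -e10
        rcases mul_eq_zero.mp this with h | h
        · exact h
        · exact absurd h hne
      refine ⟨B 0 0 - (B 0 0 - B 1 1) / (A 0 0 - A 1 1) * A 0 0,
        (B 0 0 - B 1 1) / (A 0 0 - A 1 1), ?_⟩
      ext i j
      fin_cases i <;> fin_cases j <;> simp [h01, h10, hB01, hB10]
      field_simp
      ring
    · refine ⟨B 0 0 - B 1 0 / A 1 0 * A 0 0, B 1 0 / A 1 0, ?_⟩
      ext i j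
      fin_cases i <;> fin_cases j <;> simp
      · field_simp
        linear_combination -e00
      · field_simp
      · field_simp
        linear_combination -e10
  · refine ⟨B 0 0 - B 0 1 / A 0 1 * A 0 0, B 0 1 / A 0 1, ?_⟩
    ext i j
    fin_cases i <;> fin_cases j <;> simp
    · field_simp
    · field_simp
      linear_combination e00
    · field_simp
      linear_combination e01

/-- Commuting is transitive through a non-scalar 2×2 matrix. -/
theorem commute_of_commute_nonscalar (A B C : Matrix (Fin 2) (Fin 2) F)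
    (hA : ¬ (A 0 1 = 0 ∧ A 1 0 = 0 ∧ A 0 0 = A 1 1)) (hAB : A * B = B * A) (hAC : A * C = C * A) :
    B * C = C * B := by
  obtain ⟨α, β, rfl⟩ := exists_eq_smul_add_smul_of_commute A B hA hAB
  obtain ⟨γ, δ, rfl⟩ := exists_eq_smul_add_smul_of_commute A C hA hAC
  simp only [Matrix.add_mul, Matrix.mul_add, Matrix.smul_mul, Matrix.mul_smul, Matrix.one_mul,
    Matrix.mul_one, smul_add, smul_smul]
  rw [mul_comm γ α, mul_comm δ β, mul_comm γ β, mul_comm δ α]
  abel

end commutant

end Cfsg.Agent.Helper41
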