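import Mathlib
import Cfsg.Agent.Lib.Helper41.SL2ClassOdd
import Cfsg.Agent.Lib.Helper41.SL2Commutant

set_option autoImplicit false

namespace Cfsg.Agent.Helper41

open Matrix

section aba

variable {F : Type*} [Field F]

/-- the companion element `[[0,-1],[1,s]]` of `SL(2,F)` -/
def compSL (s : F) : SpecialLinearGroup (Fin 2) F := ⟨compMat s, compMat_det s⟩

/-- the element `[[a,-b],[b,a+bs]]` of `SL(2,F)` when its determinant is one -/
def commSL (s a b : F) (h : a ^ 2 + s * a * b + b ^ 2 = 1) : SpecialLinearGroup (Fin 2) F :=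
  ⟨commMat s a b, by rw [commMat_det]; linear_combination h⟩

theorem commSL_mem_centralizer (s a b : F) (h : a ^ 2 + s * a * b + b ^ 2 = 1) :
    commSL s a b h ∈ Subgroup.centralizer ({compSL s} : Set (SpecialLinearGroup (Fin 2) F)) := by
  rw [Subgroup.mem_centralizer_singleton_iff]
  apply Subtype.ext
  rw [Matrix.SpecialLinearGroup.coe_mul, Matrix.SpecialLinearGroup.coe_mul]
  exact commMat_comm s a b

theorem mem_centralizer_compSL (s : F) (Y : SpecialLinearGroup (Fin 2) F)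
    (hY : Y ∈ Subgroup.centralizer ({compSL s} : Set (SpecialLinearGroup (Fin 2) F))) :
    (Y : Matrix (Fin 2) (Fin 2) F) 0 1 = -(Y : Matrix (Fin 2) (Fin 2) F) 1 0 ∧
      (Y : Matrix (Fin 2) (Fin 2) F) 1 1 =
        (Y : Matrix (Fin 2) (Fin 2) F) 0 0 + s * (Y : Matrix (Fin 2) (Fin 2) F) 1 0 := by
  rw [Subgroup.mem_centralizer_singleton_iff] at hY
  have h1 := congrArg (fun M : SpecialLinearGroup (Fin 2) F => (M : Matrix (Fin 2) (Fin 2) F)) hY
  simp only [Matrix.SpecialLinearGroup.coe_mul] at h1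
  have e00 := congrFun (congrFun h1 0) 0
  have e10 := congrFun (congrFun h1 1) 0
  simp [compSL, compMat, Matrix.mul_apply, Fin.sum_univ_two] at e00 e10
  constructor
  · linear_combination e00
  · linear_combination e10

/-- the upper unitriangular subgroup of `SL(2,F)` -/
def upperUni (F : Type*) [Field F] : Subgroup (SpecialLinearGroup (Fin 2) F) where
  carrier := {Y | (Y : Matrix (Fin 2) (Fin 2) F) 0 0 = 1 ∧ (Y : Matrix (Fin 2) (Fin 2) F) 1 0 = 0 ∧
    (Y : Matrix (Fin 2) (Fin 2) F) 1 1 = 1}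
  mul_mem' := by
    rintro X Y ⟨hX00, hX10, hX11⟩ ⟨hY00, hY10, hY11⟩
    simp only [Set.mem_setOf_eq, Matrix.SpecialLinearGroup.coe_mul, Matrix.mul_apply,
      Fin.sum_univ_two, hX00, hX10, hX11, hY00, hY10, hY11]
    simp
  one_mem' := by simp
  inv_mem' := by
    rintro X ⟨hX00, hX10, hX11⟩
    simp only [Set.mem_setOf_eq, Matrix.SpecialLinearGroup.coe_inv, Matrix.adjugate_fin_two,
      Matrix.of_apply, Matrix.cons_val', Matrix.cons_val_zero, Matrix.cons_val_one]
    simp [hX00, hX10, hX11]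

theorem mem_upperUni (Y : SpecialLinearGroup (Fin 2) F) :
    Y ∈ upperUni F ↔ ((Y : Matrix (Fin 2) (Fin 2) F) 0 0 = 1 ∧
      (Y : Matrix (Fin 2) (Fin 2) F) 1 0 = 0 ∧ (Y : Matrix (Fin 2) (Fin 2) F) 1 1 = 1) := Iff.rfl

theorem upperUni_eq (Y : SpecialLinearGroup (Fin 2) F) (hY : Y ∈ upperUni F) :
    Y = upperSL ((Y : Matrix (Fin 2) (Fin 2) F) 0 1) := by
  obtain ⟨h00, h10, h11⟩ := hY
  apply Subtype.ext
  ext i j
  fin_cases i <;> fin_cases j <;> simp [upperSL, h00, h10, h11]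

theorem upperSL_mem (x : F) : upperSL x ∈ upperUni F := by
  rw [mem_upperUni]
  simp [upperSL]

theorem upperSL_mul (x y : F) : upperSL x * upperSL y = upperSL (x + y) := by
  apply Subtype.ext
  rw [Matrix.SpecialLinearGroup.coe_mul]
  ext i j
  fin_cases i <;> fin_cases j <;> simp [upperSL, Matrix.mul_apply, Fin.sum_univ_two]
  ring

/-- `F ≃ upperUni F` -/
def upperUniEquiv (F : Type*) [Field F] : F ≃ upperUni F where
  toFun x := ⟨upperSL x, upperSL_mem x⟩
  invFun Y := (Y.1 : Matrix (Fin 2) (Fin 2) F) 0 1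
  left_inv x := by simp [upperSL]
  right_inv Y := by
    apply Subtype.ext
    exact (upperUni_eq Y.1 Y.2).symm

theorem inv_mul_mul_apply_zero_zero (a G c : SpecialLinearGroup (Fin 2) F) :
    ((a⁻¹ * G * c : SpecialLinearGroup (Fin 2) F) : Matrix (Fin 2) (Fin 2) F) 0 0 =
      (a : Matrix (Fin 2) (Fin 2) F) 1 1 *
        ((G : Matrix (Fin 2) (Fin 2) F) 0 0 * (c : Matrix (Fin 2) (Fin 2) F) 0 0 +
          (G : Matrix (Fin 2) (Fin 2) F) 0 1 * (c : Matrix (Fin 2) (Fin 2) F) 1 0) -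
      (a : Matrix (Fin 2) (Fin 2) F) 0 1 *
        ((G : Matrix (Fin 2) (Fin 2) F) 1 0 * (c : Matrix (Fin 2) (Fin 2) F) 0 0 +
          (G : Matrix (Fin 2) (Fin 2) F) 1 1 * (c : Matrix (Fin 2) (Fin 2) F) 1 0) := by
  rw [Matrix.SpecialLinearGroup.coe_mul, Matrix.SpecialLinearGroup.coe_mul,
    Matrix.SpecialLinearGroup.coe_inv, Matrix.adjugate_fin_two]
  simp [Matrix.mul_apply, Fin.sum_univ_two, Matrix.vecMul, dotProduct]
  ring

theorem inv_mul_mul_apply_one_zero (a G c : SpecialLinearGroup (Fin 2) F) :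
    ((a⁻¹ * G * c : SpecialLinearGroup (Fin 2) F) : Matrix (Fin 2) (Fin 2) F) 1 0 =
      -(a : Matrix (Fin 2) (Fin 2) F) 1 0 *
        ((G : Matrix (Fin 2) (Fin 2) F) 0 0 * (c : Matrix (Fin 2) (Fin 2) F) 0 0 +
          (G : Matrix (Fin 2) (Fin 2) F) 0 1 * (c : Matrix (Fin 2) (Fin 2) F) 1 0) +
      (a : Matrix (Fin 2) (Fin 2) F) 0 0 *
        ((G : Matrix (Fin 2) (Fin 2) F) 1 0 * (c : Matrix (Fin 2) (Fin 2) F) 0 0 +
          (G : Matrix (Fin 2) (Fin 2) F) 1 1 * (c : Matrix (Fin 2) (Fin 2) F) 1 0) := by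
  rw [Matrix.SpecialLinearGroup.coe_mul, Matrix.SpecialLinearGroup.coe_mul,
    Matrix.SpecialLinearGroup.coe_inv, Matrix.adjugate_fin_two]
  simp [Matrix.mul_apply, Fin.sum_univ_two, Matrix.vecMul, dotProduct]
  ring

theorem commSL_apply (s a b : F) (h : a ^ 2 + s * a * b + b ^ 2 = 1) :
    ((commSL s a b h : SpecialLinearGroup (Fin 2) F) : Matrix (Fin 2) (Fin 2) F) 0 0 = a ∧
    ((commSL s a b h : SpecialLinearGroup (Fin 2) F) : Matrix (Fin 2) (Fin 2) F) 0 1 = -b ∧
    ((commSL s a b h : SpecialLinearGroup (Fin 2) F) : Matrix (Fin 2) (Fin 2) F) 1 0 = b ∧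
    ((commSL s a b h : SpecialLinearGroup (Fin 2) F) : Matrix (Fin 2) (Fin 2) F) 1 1 = a + b * s := by
  simp [commSL, commMat]

theorem quad_anisotropic (s : F) (hs : ∀ a : F, a * (s - a) - 1 ≠ 0) (x y : F)
    (h : x ^ 2 + s * x * y + y ^ 2 = 0) : x = 0 ∧ y = 0 := by
  by_cases hy : y = 0
  · subst hy
    refine ⟨?_, rfl⟩
    have : x ^ 2 = 0 := by linear_combination h
    exact pow_eq_zero_iff two_ne_zero |>.mp this
  · exfalso
    apply hs (-x / y)
    field_simp
    linear_combination -h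

/-- `SL(2,F) = A U A` in characteristic 2, `A` the non-split torus. -/
theorem exists_aba_char_two [Fintype F] (h2 : (2 : F) = 0) (s : F)
    (hs : ∀ a : F, a * (s - a) - 1 ≠ 0) (G : SpecialLinearGroup (Fin 2) F) :
    ∃ a ∈ Subgroup.centralizer ({compSL s} : Set (SpecialLinearGroup (Fin 2) F)),
      ∃ u ∈ upperUni F,
        ∃ c ∈ Subgroup.centralizer ({compSL s} : Set (SpecialLinearGroup (Fin 2) F)),
          G = a * u * c := by
  have hchar : ringChar F = 2 :=
    CharP.ringChar_of_prime_eq_zero Nat.prime_two (by exact_mod_cast h2)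
  have hdet := G.2
  rw [Matrix.det_fin_two] at hdet
  set p := (G : Matrix (Fin 2) (Fin 2) F) 0 0 with hp
  set r := (G : Matrix (Fin 2) (Fin 2) F) 0 1 with hr
  set t := (G : Matrix (Fin 2) (Fin 2) F) 1 0 with ht
  set w := (G : Matrix (Fin 2) (Fin 2) F) 1 1 with hw
  obtain ⟨l, hl⟩ := FiniteField.isSquare_of_char_two hchar (1 + (p ^ 2 + s * p * t + t ^ 2))
  obtain ⟨m, hm⟩ := FiniteField.isSquare_of_char_two hchar (1 + (r ^ 2 + s * r * w + w ^ 2))
  -- a nonzero vector on the line l x + m y = 0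
  obtain ⟨x0, y0, hne, hlin⟩ : ∃ x0 y0 : F, ¬ (x0 = 0 ∧ y0 = 0) ∧ l * x0 + m * y0 = 0 := by
    by_cases h : l = 0 ∧ m = 0
    · exact ⟨1, 0, by simp, by rw [h.1]; ring⟩
    · refine ⟨m, l, fun hh => h ⟨hh.2, hh.1⟩, ?_⟩
      linear_combination (l * m) * h2
  have hQ0 : x0 ^ 2 + s * x0 * y0 + y0 ^ 2 ≠ 0 := fun h => hne (quad_anisotropic s hs x0 y0 h)
  obtain ⟨τ, hτ⟩ := FiniteField.isSquare_of_char_two hchar (x0 ^ 2 + s * x0 * y0 + y0 ^ 2)⁻¹
  have hQ1 : (τ * x0) ^ 2 + s * (τ * x0) * (τ * y0) + (τ * y0) ^ 2 = 1 := by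
    have : (τ * τ) * (x0 ^ 2 + s * x0 * y0 + y0 ^ 2) = 1 := by
      rw [← hτ, inv_mul_cancel₀ hQ0]
    linear_combination this
  have hlin' : l * (τ * x0) + m * (τ * y0) = 0 := by linear_combination τ * hlin
  set x := τ * x0 with hx
  set y := τ * y0 with hy
  have hQ2 : (p * x + r * y) ^ 2 + s * (p * x + r * y) * (t * x + w * y) + (t * x + w * y) ^ 2 = 1 := by
    have hsq : (l * x + m * y) ^ 2 = 0 := by rw [hlin']; ring
    linear_combination hQ1 + hsq + (x ^ 2) * hl + (y ^ 2) * hm + (s * x * y) * hdet +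
      (-x ^ 2 - y ^ 2 + (p * r + t * w - l * m + s * r * t) * x * y) * h2
  refine ⟨commSL s (p * x + r * y) (t * x + w * y) hQ2, commSL_mem_centralizer _ _ _ _,
    (commSL s (p * x + r * y) (t * x + w * y) hQ2)⁻¹ * G * commSL s x y hQ1, ?_,
    (commSL s x y hQ1)⁻¹, Subgroup.inv_mem _ (commSL_mem_centralizer _ _ _ _), ?_⟩
  · obtain ⟨a00, a01, a10, a11⟩ := commSL_apply s (p * x + r * y) (t * x + w * y) hQ2
    obtain ⟨c00, c01, c10, c11⟩ := commSL_apply s x y hQ1
    have h00 : (((commSL s (p * x + r * y) (t * x + w * y) hQ2)⁻¹ * G * commSL s x y hQ1 :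
        SpecialLinearGroup (Fin 2) F) : Matrix (Fin 2) (Fin 2) F) 0 0 = 1 := by
      rw [inv_mul_mul_apply_zero_zero, a11, a01, c00, c10]
      linear_combination hQ2
    have h10 : (((commSL s (p * x + r * y) (t * x + w * y) hQ2)⁻¹ * G * commSL s x y hQ1 :
        SpecialLinearGroup (Fin 2) F) : Matrix (Fin 2) (Fin 2) F) 1 0 = 0 := by
      rw [inv_mul_mul_apply_one_zero, a10, a00, c00, c10]
      ring
    rw [mem_upperUni]
    refine ⟨h00, h10, ?_⟩
    have hd := ((commSL s (p * x + r * y) (t * x + w * y) hQ2)⁻¹ * G * commSL s x y hQ1).2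
    rw [Matrix.det_fin_two, h00, h10] at hd
    linear_combination hd
  · group

theorem isCyclic_centralizer_compSL [Finite F] (s : F) (hs : ∀ a : F, a * (s - a) - 1 ≠ 0) :
    IsCyclic (Subgroup.centralizer ({compSL s} : Set (SpecialLinearGroup (Fin 2) F))) := by
  classical
  have : Fact (∀ r : F, r ^ 2 ≠ -1 + s * r) := ⟨fun r h => hs r (by linear_combination -h)⟩
  let φ : Subgroup.centralizer ({compSL s} : Set (SpecialLinearGroup (Fin 2) F)) →*
      QuadraticAlgebra F (-1) s :=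
    { toFun := fun g => ⟨(g.1 : Matrix (Fin 2) (Fin 2) F) 0 0, (g.1 : Matrix (Fin 2) (Fin 2) F) 1 0⟩
      map_one' := by
        apply QuadraticAlgebra.ext
        · simp [QuadraticAlgebra.re_one]
        · simp [QuadraticAlgebra.im_one]
      map_mul' := fun g h => by
        obtain ⟨g01, g11⟩ := mem_centralizer_compSL s g.1 g.2
        apply QuadraticAlgebra.ext
        · simp only [Subgroup.coe_mul, QuadraticAlgebra.re_mul, Matrix.SpecialLinearGroup.coe_mul,
            Matrix.mul_apply, Fin.sum_univ_two]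
          rw [g01]
          ring
        · simp only [Subgroup.coe_mul, QuadraticAlgebra.im_mul, Matrix.SpecialLinearGroup.coe_mul,
            Matrix.mul_apply, Fin.sum_univ_two]
          rw [g11]
          ring }
  have : Finite (SpecialLinearGroup (Fin 2) F) := by
    have : Fintype F := Fintype.ofFinite F
    infer_instance
  apply isCyclic_of_injective_ringHom φ
  rintro ⟨g, hg⟩ ⟨h, hh⟩ hgh
  have h00 : (g : Matrix (Fin 2) (Fin 2) F) 0 0 = (h : Matrix (Fin 2) (Fin 2) F) 0 0 :=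
    congrArg QuadraticAlgebra.re hgh
  have h10 : (g : Matrix (Fin 2) (Fin 2) F) 1 0 = (h : Matrix (Fin 2) (Fin 2) F) 1 0 :=
    congrArg QuadraticAlgebra.im hgh
  obtain ⟨g01, g11⟩ := mem_centralizer_compSL s g hg
  obtain ⟨k01, k11⟩ := mem_centralizer_compSL s h hh
  apply Subtype.ext
  apply Subtype.ext
  ext i j
  fin_cases i <;> fin_cases j
  · exact h00
  · simp only [Fin.zero_eta, Fin.mk_one]; rw [g01, k01, h10]
  · exact h10
  · simp only [Fin.mk_one]; rw [g11, k11, h00, h10]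

theorem card_centralizer_compSL_char_two [Fintype F] (h2 : (2 : F) = 0) (s : F)
    (hs : ∀ a : F, a * (s - a) - 1 ≠ 0) :
    Nat.card (Subgroup.centralizer ({compSL s} : Set (SpecialLinearGroup (Fin 2) F))) =
      Fintype.card F + 1 := by
  classical
  have hs0 : s ≠ 0 := by
    rintro rfl
    apply hs 1
    linear_combination -h2
  have htr : ((compSL s : SpecialLinearGroup (Fin 2) F) : Matrix (Fin 2) (Fin 2) F).trace = s := by
    simp [compSL, compMat, Matrix.trace_fin_two]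
  have h4 : (4 : F) = 0 := by
    have : (4 : F) = 2 * 2 := by norm_num
    rw [this, h2, mul_zero]
  have hs4 : ((compSL s : SpecialLinearGroup (Fin 2) F) : Matrix (Fin 2) (Fin 2) F).trace ^ 2 ≠ 4 := by
    rw [htr, h4]
    exact pow_ne_zero 2 hs0
  have hidx : (Subgroup.centralizer ({compSL s} : Set (SpecialLinearGroup (Fin 2) F))).index =
      Fintype.card F * (Fintype.card F - 1) := by
    rw [index_centralizer_eq_ncard, sl2_conj_class_eq _ hs4, ncard_trace_fiber', htr]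
    have h0 : Fintype.card {a : F // a * (s - a) - 1 = 0} = 0 := by
      rw [Fintype.card_eq_zero_iff]
      exact ⟨fun ⟨a, ha⟩ => hs a ha⟩
    rw [h0, mul_zero, add_zero]
  have h1 := Subgroup.card_mul_index
    (Subgroup.centralizer ({compSL s} : Set (SpecialLinearGroup (Fin 2) F)))
  rw [hidx, card_sl2] at h1
  have hq : 2 ≤ Fintype.card F := Fintype.one_lt_card
  have hpos : 0 < Fintype.card F * (Fintype.card F - 1) := by
    apply Nat.mul_pos <;> omega
  apply Nat.eq_of_mul_eq_mul_right hpos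
  rw [h1]
  ring

end aba

end Cfsg.Agent.Helper41
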