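import Mathlib
import Cfsg.Agent.Lib.Helper19.Klein

set_option autoImplicit false

namespace Cfsg.Agent.Helper41

open Cfsg.Agent.Helper19

/-- the explicit four-group on two distinct commuting involutions is a Klein four-group. -/
theorem kleinFour_isKleinFour {M : Type*} [Group M] [Finite M] {x y : M} (hx : x * x = 1)
    (hy : y * y = 1) (hxy : x * y = y * x) (hx1 : x ≠ 1) (hy1 : y ≠ 1) (hne : x ≠ y) :
    IsKleinFour (kleinFour x y hx hy hxy) := by
  classical
  have hge : 4 ≤ Nat.card (kleinFour x y hx hy hxy) := kleinFour_card hx hy hxy hx1 hy1 hne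
  have hle : Nat.card (kleinFour x y hx hy hxy) ≤ 4 := by
    have hsub : (kleinFour x y hx hy hxy : Set M) ⊆ (({1, x, y, x * y} : Finset M) : Set M) := by
      intro g hg
      simp only [Finset.coe_insert, Finset.coe_singleton, Set.mem_insert_iff,
        Set.mem_singleton_iff]
      exact hg
    have h1 : Nat.card (kleinFour x y hx hy hxy) = (kleinFour x y hx hy hxy : Set M).ncard :=
      (Nat.card_coe_set_eq _)
    rw [h1]
    have h2 := Set.ncard_le_ncard hsub (Finset.finite_toSet _)
    rw [Set.ncard_coe_finset] at h2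
    exact h2.trans (Finset.card_le_four)
  have hcard : Nat.card (kleinFour x y hx hy hxy) = 4 := le_antisymm hle hge
  refine ⟨hcard, ?_⟩
  have hdvd : Monoid.exponent (kleinFour x y hx hy hxy) ∣ 2 := by
    apply Monoid.exponent_dvd_of_forall_pow_eq_one
    intro g
    apply Subtype.ext
    have := kleinFour_sq hx hy hxy g.1 g.2
    simpa using this
  rcases (Nat.dvd_prime Nat.prime_two).mp hdvd with h | h
  · exfalso
    have hsub : Subsingleton (kleinFour x y hx hy hxy) := Monoid.exp_eq_one_iff.mp h
    have : Nat.card (kleinFour x y hx hy hxy) ≤ 1 := Finite.card_le_one_iff_subsingleton.mpr hsub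
    omega
  · exact h

/-- elements of a Klein four subgroup square to one -/
theorem mul_self_of_mem_isKleinFour {M : Type*} [Group M] (U : Subgroup M) (hU : IsKleinFour U)
    {a : M} (ha : a ∈ U) : a * a = 1 := by
  haveI := hU
  have := IsKleinFour.mul_self (⟨a, ha⟩ : U)
  exact congrArg Subtype.val this

/-- a Klein four subgroup is commutative -/
theorem mul_comm_of_mem_isKleinFour {M : Type*} [Group M] (U : Subgroup M) (hU : IsKleinFour U)
    {a b : M} (ha : a ∈ U) (hb : b ∈ U) : a * b = b * a := by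
  haveI := hU
  have := mul_comm_of_exponent_two (IsKleinFour.exponent_two (G := U)) (⟨a, ha⟩ : U) ⟨b, hb⟩
  exact congrArg Subtype.val this

/-- a Klein four subgroup is the explicit four-group on any two of its distinct involutions -/
theorem kleinFour_eq_of_mem {M : Type*} [Group M] [Finite M] (U : Subgroup M) (hU : IsKleinFour U)
    {a b : M} (ha : a ∈ U) (hb : b ∈ U) (ha1 : a ≠ 1) (hb1 : b ≠ 1) (hab : a ≠ b) :
    kleinFour a b (mul_self_of_mem_isKleinFour U hU ha) (mul_self_of_mem_isKleinFour U hU hb)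
      (mul_comm_of_mem_isKleinFour U hU ha hb) = U := by
  apply Subgroup.eq_of_le_of_card_ge
  · rintro g (rfl | rfl | rfl | rfl)
    · exact U.one_mem
    · exact ha
    · exact hb
    · exact U.mul_mem ha hb
  · have h1 := kleinFour_card (mul_self_of_mem_isKleinFour U hU ha)
      (mul_self_of_mem_isKleinFour U hU hb) (mul_comm_of_mem_isKleinFour U hU ha hb) ha1 hb1 hab
    have h2 : Nat.card U = 4 := hU.card_four
    omega

/-- a Klein four subgroup contains two distinct involutions -/
theorem exists_pair_of_isKleinFour {M : Type*} [Group M] [Finite M] (U : Subgroup M)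
    (hU : IsKleinFour U) : ∃ a b : M, a ∈ U ∧ b ∈ U ∧ a ≠ 1 ∧ b ≠ 1 ∧ a ≠ b := by
  classical
  haveI : Fintype U := Fintype.ofFinite U
  have hcard : Fintype.card U = 4 := by
    rw [← Nat.card_eq_fintype_card]; exact hU.card_four
  have h1 : ∃ a : U, a ≠ 1 := by
    by_contra h
    push Not at h
    have : Fintype.card U ≤ 1 := Fintype.card_le_one_iff.mpr (fun x y => by rw [h x, h y])
    omega
  obtain ⟨a, ha⟩ := h1
  have h2 : ∃ b : U, b ≠ 1 ∧ b ≠ a := by
    by_contra h
    push Not at h
    have hsub : (Finset.univ : Finset U) ⊆ {1, a} := by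
      intro x _
      by_cases hx : x = 1
      · simp [hx]
      · simp [h x hx]
    have := Finset.card_le_card hsub
    rw [Finset.card_univ, hcard] at this
    have h3 : ({1, a} : Finset U).card ≤ 2 := Finset.card_le_two
    omega
  obtain ⟨b, hb1, hba⟩ := h2
  refine ⟨a.1, b.1, a.2, b.2, ?_, ?_, ?_⟩
  · intro h; exact ha (Subtype.ext h)
  · intro h; exact hb1 (Subtype.ext h)
  · intro h; exact hba (Subtype.ext h.symm)

/-- image of the explicit four-group under a homomorphism -/
theorem map_kleinFour {M N : Type*} [Group M] [Group N] (f : M →* N) {x y : M} (hx : x * x = 1)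
    (hy : y * y = 1) (hxy : x * y = y * x) :
    (kleinFour x y hx hy hxy).map f =
      kleinFour (f x) (f y) (by rw [← map_mul, hx, map_one]) (by rw [← map_mul, hy, map_one])
        (by rw [← map_mul, hxy, map_mul]) := by
  ext g
  rw [Subgroup.mem_map]
  constructor
  · rintro ⟨h, (rfl | rfl | rfl | rfl), rfl⟩
    · exact Or.inl (map_one f)
    · exact Or.inr (Or.inl rfl)
    · exact Or.inr (Or.inr (Or.inl rfl))
    · exact Or.inr (Or.inr (Or.inr (map_mul f _ _)))
  · rintro (rfl | rfl | rfl | rfl)
    · exact ⟨1, Or.inl rfl, map_one f⟩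
    · exact ⟨x, Or.inr (Or.inl rfl), rfl⟩
    · exact ⟨y, Or.inr (Or.inr (Or.inl rfl)), rfl⟩
    · exact ⟨x * y, Or.inr (Or.inr (Or.inr rfl)), map_mul f _ _⟩

/-- the four-group does not depend on the order of the generators -/
theorem kleinFour_swap {M : Type*} [Group M] {x y : M} (hx : x * x = 1)
    (hy : y * y = 1) (hxy : x * y = y * x) :
    kleinFour y x hy hx hxy.symm = kleinFour x y hx hy hxy := by
  ext g
  simp only [mem_kleinFour]
  rw [hxy]
  tauto

/-- In a type with exactly four elements, there are six ordered pairs of distinct elements both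
different from a given one. -/
theorem card_pairs_of_card_four {α : Type*} [Finite α] (h : Nat.card α = 4) (e : α) :
    Nat.card {p : α × α // p.1 ≠ e ∧ p.2 ≠ e ∧ p.1 ≠ p.2} = 6 := by
  classical
  haveI := Fintype.ofFinite α
  rw [Nat.card_eq_fintype_card, Fintype.card_subtype]
  have h1 : (Finset.univ.filter fun p : α × α => p.1 ≠ e ∧ p.2 ≠ e ∧ p.1 ≠ p.2) =
      (Finset.univ.erase e).offDiag := by
    ext ⟨a, b⟩
    simp [Finset.mem_offDiag]
  rw [h1, Finset.offDiag_card, Finset.card_erase_of_mem (Finset.mem_univ e), Finset.card_univ,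
    ← Nat.card_eq_fintype_card, h]

/-- The number of ordered pairs of distinct commuting involutions is six times the number of Klein
four subgroups. -/
theorem card_commuting_involution_pairs (G : Type*) [Group G] [Finite G] :
    Nat.card {p : G × G // p.1 ≠ 1 ∧ p.2 ≠ 1 ∧ p.1 * p.1 = 1 ∧ p.2 * p.2 = 1 ∧
        p.1 * p.2 = p.2 * p.1 ∧ p.1 ≠ p.2} =
      6 * Nat.card {V : Subgroup G // IsKleinFour V} := by
  classical
  set Q := {p : G × G // p.1 ≠ 1 ∧ p.2 ≠ 1 ∧ p.1 * p.1 = 1 ∧ p.2 * p.2 = 1 ∧
        p.1 * p.2 = p.2 * p.1 ∧ p.1 ≠ p.2} with hQ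
  set K := {V : Subgroup G // IsKleinFour V} with hK
  let f : Q → K := fun p => ⟨kleinFour p.1.1 p.1.2 p.2.2.2.1 p.2.2.2.2.1 p.2.2.2.2.2.1,
    kleinFour_isKleinFour _ _ _ p.2.1 p.2.2.1 p.2.2.2.2.2.2⟩
  haveI : Fintype K := Fintype.ofFinite K
  rw [← Nat.card_congr (Equiv.sigmaFiberEquiv f), Nat.card_sigma]
  have hfib : ∀ V : K, Nat.card {x : Q // f x = V} = 6 := by
    intro V
    rw [← card_pairs_of_card_four (α := V.1) V.2.card_four 1]
    refine Nat.card_congr ?_
    refine
      { toFun := fun x => ⟨(⟨x.1.1.1, ?_⟩, ⟨x.1.1.2, ?_⟩), ?_⟩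
        invFun := fun p => ⟨⟨(p.1.1.1, p.1.2.1), ?_⟩, ?_⟩
        left_inv := ?_
        right_inv := ?_ }
    · have h := congrArg Subtype.val x.2
      rw [← h]
      exact Or.inr (Or.inl rfl)
    · have h := congrArg Subtype.val x.2
      rw [← h]
      exact Or.inr (Or.inr (Or.inl rfl))
    · refine ⟨?_, ?_, ?_⟩
      · intro h
        exact x.1.2.1 (congrArg Subtype.val h)
      · intro h
        exact x.1.2.2.1 (congrArg Subtype.val h)
      · intro h
        exact x.1.2.2.2.2.2.2 (congrArg Subtype.val h)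
    · refine ⟨?_, ?_, ?_, ?_, ?_, ?_⟩
      · intro h
        exact p.2.1 (Subtype.ext h)
      · intro h
        exact p.2.2.1 (Subtype.ext h)
      · exact mul_self_of_mem_isKleinFour V.1 V.2 p.1.1.2
      · exact mul_self_of_mem_isKleinFour V.1 V.2 p.1.2.2
      · exact mul_comm_of_mem_isKleinFour V.1 V.2 p.1.1.2 p.1.2.2
      · intro h
        exact p.2.2.2 (Subtype.ext h)
    · apply Subtype.ext
      exact kleinFour_eq_of_mem V.1 V.2 p.1.1.2 p.1.2.2
        (fun h => p.2.1 (Subtype.ext h)) (fun h => p.2.2.1 (Subtype.ext h))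
        (fun h => p.2.2.2 (Subtype.ext h))
    · intro x
      rfl
    · intro p
      rfl
  rw [Finset.sum_congr rfl (fun V _ => hfib V), Finset.sum_const, Finset.card_univ, smul_eq_mul,
    mul_comm, Nat.card_eq_fintype_card]

end Cfsg.Agent.Helper41
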