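import Mathlib
import Cfsg.Agent.Lib.Helper41.SL2
import Cfsg.Agent.Lib.Helper41.SL2Conj
import Cfsg.Agent.Lib.Helper41.SL2Class
import Cfsg.Agent.Lib.Helper41.SL2ClassOdd
import Cfsg.Agent.Lib.Helper41.SL2Commutant
import Cfsg.Agent.Lib.Helper41.KleinCount

set_option autoImplicit false

namespace Cfsg.Agent.Helper41

open Matrix

variable {F : Type*} [Field F]

/-- a traceless determinant-one 2×2 matrix squares to `-1` -/
theorem mul_self_of_trace_zero (A : Matrix (Fin 2) (Fin 2) F) (hdet : A.det = 1)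
    (htr : A.trace = 0) : A * A = -1 := by
  have h := sq_eq_of_det_one A hdet
  rw [htr, zero_smul, zero_sub, pow_two] at h
  exact h

/-- for traceless 2×2 matrices, `AB + BA = tr(AB)` -/
theorem mul_add_mul_of_trace_zero (A B : Matrix (Fin 2) (Fin 2) F) (hA : A.trace = 0)
    (hB : B.trace = 0) : A * B + B * A = (A * B).trace • (1 : Matrix (Fin 2) (Fin 2) F) := by
  rw [Matrix.trace_fin_two] at hA hB
  have hd : A 1 1 = -A 0 0 := by linear_combination hA
  have hw : B 1 1 = -B 0 0 := by linear_combination hB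
  ext i j
  fin_cases i <;> fin_cases j <;>
    simp [Matrix.mul_apply, Fin.sum_univ_two, Matrix.trace_fin_two, hd, hw] <;> ring

/-- for traceless 2×2 matrices in odd characteristic: anticommuting iff `tr(AB) = 0` -/
theorem anticomm_iff_trace_mul_zero (h2 : (2 : F) ≠ 0) (A B : Matrix (Fin 2) (Fin 2) F)
    (hA : A.trace = 0) (hB : B.trace = 0) : B * A = -(A * B) ↔ (A * B).trace = 0 := by
  have h := mul_add_mul_of_trace_zero A B hA hB
  constructor
  · intro hBA
    rw [hBA, add_neg_cancel] at h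
    have h00 := congrFun (congrFun h 0) 0
    simp only [Matrix.zero_apply, Matrix.smul_apply, Matrix.one_apply_eq, smul_eq_mul,
      mul_one] at h00
    exact h00.symm
  · intro htr
    rw [htr, zero_smul] at h
    exact eq_neg_of_add_eq_zero_right h

/-- a matrix anticommuting with an invertible matrix is traceless, odd characteristic -/
theorem trace_zero_of_anticomm (h2 : (2 : F) ≠ 0) (A X : Matrix (Fin 2) (Fin 2) F)
    (hdet : A.det = 1) (h : X * A = -(A * X)) : X.trace = 0 ∧ (A * X).trace = 0 := by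
  have hAinv : A * A⁻¹ = 1 := Matrix.mul_nonsing_inv A (by rw [hdet]; exact isUnit_one)
  constructor
  · have h1 : X = -(A * X * A⁻¹) := by
      calc X = X * (A * A⁻¹) := by rw [hAinv, Matrix.mul_one]
        _ = (X * A) * A⁻¹ := by rw [Matrix.mul_assoc]
        _ = -(A * X * A⁻¹) := by rw [h, Matrix.neg_mul]
    have h2' : X.trace = -X.trace := by
      conv_lhs => rw [h1]
      rw [Matrix.trace_neg, Matrix.trace_mul_cycle,
        Matrix.nonsing_inv_mul A (by rw [hdet]; exact isUnit_one), Matrix.one_mul]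
    have h3 : (2 : F) * X.trace = 0 := by linear_combination h2'
    exact (mul_eq_zero.mp h3).resolve_left h2
  · have h1 : (X * A).trace = -(A * X).trace := by rw [h, Matrix.trace_neg]
    rw [Matrix.trace_mul_comm] at h1
    have h3 : (2 : F) * (A * X).trace = 0 := by linear_combination h1
    exact (mul_eq_zero.mp h3).resolve_left h2

/-- for a traceless `A` of determinant one, odd characteristic: `X` anticommutes with `A` iff
`X` and `AX` are traceless -/
theorem anticomm_iff_of_trace_zero (h2 : (2 : F) ≠ 0) (A X : Matrix (Fin 2) (Fin 2) F)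
    (hdet : A.det = 1) (hA : A.trace = 0) :
    X * A = -(A * X) ↔ (X.trace = 0 ∧ (A * X).trace = 0) := by
  constructor
  · exact trace_zero_of_anticomm h2 A X hdet
  · rintro ⟨hX, hAX⟩
    exact (anticomm_iff_trace_mul_zero h2 A X hA hX).mpr hAX

/-- a traceless matrix of determinant one is not scalar, odd characteristic -/
theorem not_scalar_of_trace_zero (h2 : (2 : F) ≠ 0) (A : Matrix (Fin 2) (Fin 2) F)
    (hdet : A.det = 1) (hA : A.trace = 0) : ¬ (A 0 1 = 0 ∧ A 1 0 = 0 ∧ A 0 0 = A 1 1) := by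
  rintro ⟨h01, h10, h00⟩
  rw [Matrix.trace_fin_two, ← h00] at hA
  have h0 : A 0 0 = 0 := by
    have : (2 : F) * A 0 0 = 0 := by linear_combination hA
    exact (mul_eq_zero.mp this).resolve_left h2
  rw [Matrix.det_fin_two, h01, ← h00, h0] at hdet
  simp at hdet

theorem psl2_mk_eq_mk_iff (A B : SpecialLinearGroup (Fin 2) F) :
    (QuotientGroup.mk A : ProjectiveSpecialLinearGroup (Fin 2) F) = QuotientGroup.mk B ↔
      (B = A ∨ B = -A) := by
  rw [QuotientGroup.eq, sl2_mem_center_iff]
  constructor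
  · rintro (h | h)
    · left
      have h1 : A⁻¹ * B = 1 := Subtype.ext (by rw [h]; rfl)
      exact (inv_mul_eq_one.mp h1).symm
    · right
      have h1 : A⁻¹ * B = -1 := Subtype.ext (by rw [h]; simp)
      have h3 : B = A * (A⁻¹ * B) := by group
      rw [h3, h1, mul_neg, mul_one]
  · rintro (rfl | rfl)
    · left
      rw [inv_mul_cancel]; rfl
    · right
      rw [mul_neg, inv_mul_cancel]; simp

theorem psl2_mk_ne_one_of_trace_zero (h2 : (2 : F) ≠ 0) (A : SpecialLinearGroup (Fin 2) F)
    (hA : (A : Matrix (Fin 2) (Fin 2) F).trace = 0) :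
    (QuotientGroup.mk A : ProjectiveSpecialLinearGroup (Fin 2) F) ≠ 1 := by
  intro h
  rw [psl2_mk_eq_one_iff] at h
  rcases h with h | h
  · rw [h, Matrix.trace_fin_two] at hA
    simp only [Matrix.one_apply_eq] at hA
    apply h2
    linear_combination hA
  · rw [h, Matrix.trace_fin_two] at hA
    simp only [Matrix.neg_apply, Matrix.one_apply_eq] at hA
    apply h2
    linear_combination -hA

theorem sl2_mul_self_of_trace_zero (A : SpecialLinearGroup (Fin 2) F)
    (hA : (A : Matrix (Fin 2) (Fin 2) F).trace = 0) : A * A = -1 := by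
  have h : ((A * A : SpecialLinearGroup (Fin 2) F) : Matrix (Fin 2) (Fin 2) F) =
      ((-1 : SpecialLinearGroup (Fin 2) F) : Matrix (Fin 2) (Fin 2) F) := by
    rw [Matrix.SpecialLinearGroup.coe_mul, mul_self_of_trace_zero _ A.2 hA, Matrix.SpecialLinearGroup.coe_neg,
      Matrix.SpecialLinearGroup.coe_one]
  exact Subtype.ext h

theorem psl2_mk_mul_self_of_trace_zero (A : SpecialLinearGroup (Fin 2) F)
    (hA : (A : Matrix (Fin 2) (Fin 2) F).trace = 0) :
    (QuotientGroup.mk A : ProjectiveSpecialLinearGroup (Fin 2) F) * QuotientGroup.mk A = 1 := by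
  rw [← QuotientGroup.mk_mul, sl2_mul_self_of_trace_zero A hA, psl2_mk_neg]
  rfl

theorem trace_zero_of_psl2_involution (h2 : (2 : F) ≠ 0) (A : SpecialLinearGroup (Fin 2) F)
    (h1 : (QuotientGroup.mk A : ProjectiveSpecialLinearGroup (Fin 2) F) ≠ 1)
    (hsq : (QuotientGroup.mk A : ProjectiveSpecialLinearGroup (Fin 2) F) * QuotientGroup.mk A = 1) :
    (A : Matrix (Fin 2) (Fin 2) F).trace = 0 := by
  replace hsq := (psl2_mk_pow_eq_one_iff A 2).mp (by rw [pow_two]; exact hsq)
  have hsq' := sq_eq_of_det_one (A : Matrix (Fin 2) (Fin 2) F) A.2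
  by_contra htr
  rcases hsq with h | h
  · -- A * A = 1: then A is scalar
    apply h1
    rw [psl2_mk_eq_one_iff]
    apply sl2_scalar_eq
    rw [h] at hsq'
    have e01 := congrFun (congrFun hsq' 0) 1
    have e10 := congrFun (congrFun hsq' 1) 0
    have e00 := congrFun (congrFun hsq' 0) 0
    have e11 := congrFun (congrFun hsq' 1) 1
    simp only [Matrix.sub_apply, Matrix.smul_apply, Matrix.one_apply_eq, smul_eq_mul,
      Matrix.one_apply_ne (show (0 : Fin 2) ≠ 1 by decide),
      Matrix.one_apply_ne (show (1 : Fin 2) ≠ 0 by decide), sub_zero] at e01 e10 e00 e11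
    refine ⟨?_, ?_, ?_⟩
    · exact (mul_eq_zero.mp e01.symm).resolve_left htr
    · exact (mul_eq_zero.mp e10.symm).resolve_left htr
    · apply mul_left_cancel₀ htr
      linear_combination e11 - e00
  · rw [h] at hsq'
    have e01 := congrFun (congrFun hsq' 0) 1
    have e10 := congrFun (congrFun hsq' 1) 0
    have e00 := congrFun (congrFun hsq' 0) 0
    have e11 := congrFun (congrFun hsq' 1) 1
    simp only [Matrix.sub_apply, Matrix.smul_apply, Matrix.one_apply_eq, smul_eq_mul,
      Matrix.neg_apply, Matrix.one_apply_ne (show (0 : Fin 2) ≠ 1 by decide),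
      Matrix.one_apply_ne (show (1 : Fin 2) ≠ 0 by decide), sub_zero, neg_zero] at e01 e10 e00 e11
    have z01 := (mul_eq_zero.mp e01.symm).resolve_left htr
    have z10 := (mul_eq_zero.mp e10.symm).resolve_left htr
    have z00 : (A : Matrix (Fin 2) (Fin 2) F) 0 0 = 0 := by
      apply (mul_eq_zero.mp _).resolve_left htr
      linear_combination -e00
    have hdet := A.2
    rw [Matrix.det_fin_two, z01, z00] at hdet
    simp at hdet

/-- the anticommutation relation in `SL₂` versus matrices -/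
theorem sl2_anticomm_iff (A B : SpecialLinearGroup (Fin 2) F) :
    B * A = -(A * B) ↔
      (B : Matrix (Fin 2) (Fin 2) F) * A = -((A : Matrix (Fin 2) (Fin 2) F) * B) := by
  constructor
  · intro h
    have h1 := congrArg (fun X : SpecialLinearGroup (Fin 2) F => (X : Matrix (Fin 2) (Fin 2) F)) h
    simp only [Matrix.SpecialLinearGroup.coe_mul, Matrix.SpecialLinearGroup.coe_neg] at h1
    exact h1
  · intro h
    have h1 : ((B * A : SpecialLinearGroup (Fin 2) F) : Matrix (Fin 2) (Fin 2) F) =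
        ((-(A * B) : SpecialLinearGroup (Fin 2) F) : Matrix (Fin 2) (Fin 2) F) := by
      rw [Matrix.SpecialLinearGroup.coe_mul, Matrix.SpecialLinearGroup.coe_neg,
        Matrix.SpecialLinearGroup.coe_mul, h]
    exact Subtype.ext h1

/-- pairs of traceless matrices in `SL₂` with traceless product correspond to pairs of distinct
commuting involutions of `PSL₂`, odd characteristic -/
theorem quat_pair_iff (h2 : (2 : F) ≠ 0) (A B : SpecialLinearGroup (Fin 2) F) :
    ((A : Matrix (Fin 2) (Fin 2) F).trace = 0 ∧ (B : Matrix (Fin 2) (Fin 2) F).trace = 0 ∧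
      ((A : Matrix (Fin 2) (Fin 2) F) * B).trace = 0) ↔
    ((QuotientGroup.mk A : ProjectiveSpecialLinearGroup (Fin 2) F) ≠ 1 ∧
      (QuotientGroup.mk B : ProjectiveSpecialLinearGroup (Fin 2) F) ≠ 1 ∧
      (QuotientGroup.mk A : ProjectiveSpecialLinearGroup (Fin 2) F) * QuotientGroup.mk A = 1 ∧
      (QuotientGroup.mk B : ProjectiveSpecialLinearGroup (Fin 2) F) * QuotientGroup.mk B = 1 ∧
      (QuotientGroup.mk A : ProjectiveSpecialLinearGroup (Fin 2) F) * QuotientGroup.mk B =
        QuotientGroup.mk B * QuotientGroup.mk A ∧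
      (QuotientGroup.mk A : ProjectiveSpecialLinearGroup (Fin 2) F) ≠ QuotientGroup.mk B) := by
  constructor
  · rintro ⟨hA, hB, hAB⟩
    refine ⟨psl2_mk_ne_one_of_trace_zero h2 A hA, psl2_mk_ne_one_of_trace_zero h2 B hB,
      psl2_mk_mul_self_of_trace_zero A hA, psl2_mk_mul_self_of_trace_zero B hB, ?_, ?_⟩
    · have h1 := (anticomm_iff_trace_mul_zero h2 _ _ hA hB).mpr hAB
      have h3 := (sl2_anticomm_iff A B).mpr h1
      rw [← QuotientGroup.mk_mul, ← QuotientGroup.mk_mul, h3, psl2_mk_neg]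
    · intro h
      rw [psl2_mk_eq_mk_iff] at h
      have hAA := mul_self_of_trace_zero _ A.2 hA
      rcases h with h | h
      · rw [h, hAA, Matrix.trace_fin_two] at hAB
        simp only [Matrix.neg_apply, Matrix.one_apply_eq] at hAB
        apply h2
        linear_combination -hAB
      · rw [h, Matrix.SpecialLinearGroup.coe_neg, Matrix.mul_neg, hAA, neg_neg,
          Matrix.trace_fin_two] at hAB
        simp only [Matrix.one_apply_eq] at hAB
        apply h2
        linear_combination hAB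
  · rintro ⟨hA1, hB1, hAA, hBB, hcomm, hne⟩
    have hA := trace_zero_of_psl2_involution h2 A hA1 hAA
    have hB := trace_zero_of_psl2_involution h2 B hB1 hBB
    refine ⟨hA, hB, ?_⟩
    rw [← QuotientGroup.mk_mul, ← QuotientGroup.mk_mul, psl2_mk_eq_mk_iff] at hcomm
    rcases hcomm with h | h
    · exfalso
      apply hne
      have h1 : (A : Matrix (Fin 2) (Fin 2) F) * B = B * A := by
        have := congrArg (fun X : SpecialLinearGroup (Fin 2) F =>
          (X : Matrix (Fin 2) (Fin 2) F)) h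
        simp only [Matrix.SpecialLinearGroup.coe_mul] at this
        exact this.symm
      obtain ⟨α, β, hαβ⟩ := exists_eq_smul_add_smul_of_commute _ _
        (not_scalar_of_trace_zero h2 _ A.2 hA) h1
      have hα : α = 0 := by
        have h3 := hB
        rw [hαβ, Matrix.trace_add, Matrix.trace_smul, Matrix.trace_smul, hA, Matrix.trace_one,
          Fintype.card_fin] at h3
        simp only [smul_eq_mul, mul_zero, add_zero] at h3
        have : (2 : F) * α = 0 := by
          rw [← h3]; push_cast; ring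
        exact (mul_eq_zero.mp this).resolve_left h2
      rw [hα, zero_smul, zero_add] at hαβ
      have hβ : β ^ 2 = 1 := by
        have h3 := B.2
        rw [hαβ, Matrix.det_smul, A.2, Fintype.card_fin, mul_one] at h3
        exact h3
      rw [psl2_mk_eq_mk_iff]
      have hβ' : (β - 1) * (β + 1) = 0 := by linear_combination hβ
      rcases mul_eq_zero.mp hβ' with hb | hb
      · left
        apply Subtype.ext
        rw [hαβ, sub_eq_zero.mp hb, one_smul]
      · right
        have h4 : (B : Matrix (Fin 2) (Fin 2) F) =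
            ((-A : SpecialLinearGroup (Fin 2) F) : Matrix (Fin 2) (Fin 2) F) := by
          rw [Matrix.SpecialLinearGroup.coe_neg, hαβ, eq_neg_of_add_eq_zero_left hb, neg_smul,
            one_smul]
        exact Subtype.ext h4
    · have h1 := (sl2_anticomm_iff A B).mp h
      exact (anticomm_iff_trace_mul_zero h2 _ _ hA hB).mp h1

/-- counting a preimage under the product of two quotient maps -/
theorem card_preimage_prod_mk {H : Type*} [Group H] [Finite H] (N : Subgroup H) [N.Normal]
    (T : Set ((H ⧸ N) × (H ⧸ N))) :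
    Nat.card {p : H × H // ((QuotientGroup.mk p.1 : H ⧸ N), (QuotientGroup.mk p.2 : H ⧸ N)) ∈ T} =
      Nat.card N * Nat.card N * Nat.card T := by
  rw [mul_assoc, ← Nat.card_prod, ← Nat.card_prod]
  refine Nat.card_congr ?_
  refine
    { toFun := fun p => (⟨(QuotientGroup.mk p.1.1 : H ⧸ N).out⁻¹ * p.1.1, ?_⟩,
        (⟨(QuotientGroup.mk p.1.2 : H ⧸ N).out⁻¹ * p.1.2, ?_⟩,
          ⟨((QuotientGroup.mk p.1.1 : H ⧸ N), (QuotientGroup.mk p.1.2 : H ⧸ N)), p.2⟩))
      invFun := fun x => ⟨(x.2.2.1.1.out * x.1.1, x.2.2.1.2.out * x.2.1.1), ?_⟩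
      left_inv := ?_
      right_inv := ?_ }
  · rw [← QuotientGroup.eq, QuotientGroup.out_eq']
  · rw [← QuotientGroup.eq, QuotientGroup.out_eq']
  · have h1 : (QuotientGroup.mk (x.2.2.1.1.out * x.1.1) : H ⧸ N) = x.2.2.1.1 := by
      rw [QuotientGroup.mk_mul, QuotientGroup.out_eq', (QuotientGroup.eq_one_iff _).mpr x.1.2,
        mul_one]
    have h2 : (QuotientGroup.mk (x.2.2.1.2.out * x.2.1.1) : H ⧸ N) = x.2.2.1.2 := by
      rw [QuotientGroup.mk_mul, QuotientGroup.out_eq', (QuotientGroup.eq_one_iff _).mpr x.2.1.2,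
        mul_one]
    simp only [h1, h2]
    exact x.2.2.2
  · rintro ⟨⟨a, b⟩, hab⟩
    apply Subtype.ext
    simp
  · rintro ⟨⟨z1, hz1⟩, ⟨z2, hz2⟩, ⟨⟨t, u⟩, htu⟩⟩
    have h1 : (QuotientGroup.mk (t.out * z1) : H ⧸ N) = t := by
      rw [QuotientGroup.mk_mul, QuotientGroup.out_eq', (QuotientGroup.eq_one_iff _).mpr hz1,
        mul_one]
    have h2 : (QuotientGroup.mk (u.out * z2) : H ⧸ N) = u := by
      rw [QuotientGroup.mk_mul, QuotientGroup.out_eq', (QuotientGroup.eq_one_iff _).mpr hz2,
        mul_one]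
    simp only [h1, h2, inv_mul_cancel_left]

/-- the standard traceless element of `SL₂` -/
def quatI : SpecialLinearGroup (Fin 2) F :=
  ⟨!![0, 1; -1, 0], by simp [Matrix.det_fin_two]⟩

/-- a traceless symmetric element of `SL₂` attached to a solution of `x² + y² = -1` -/
def quatJ (x y : F) (h : x ^ 2 + y ^ 2 = -1) : SpecialLinearGroup (Fin 2) F :=
  ⟨!![x, y; y, -x], by rw [Matrix.det_fin_two_of]; linear_combination -h⟩

theorem quatI_trace : ((quatI : SpecialLinearGroup (Fin 2) F) : Matrix (Fin 2) (Fin 2) F).trace = 0 := by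
  simp [quatI, Matrix.trace_fin_two]

theorem quatJ_anticomm (x y : F) (h : x ^ 2 + y ^ 2 = -1) :
    quatJ x y h * quatI = -(quatI * quatJ x y h) := by
  rw [sl2_anticomm_iff]
  ext i j
  fin_cases i <;> fin_cases j <;> simp [quatI, quatJ, Matrix.mul_apply, Fin.sum_univ_two]

theorem exists_sq_add_sq_eq_neg_one [Fintype F] (h2 : (2 : F) ≠ 0) :
    ∃ x y : F, x ^ 2 + y ^ 2 = -1 := by
  have h4 : (0 : F) ^ 2 ≠ 4 := by
    intro h
    apply h2
    have : (2 : F) * 2 = 0 := by linear_combination -h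
    exact (mul_eq_zero.mp this).elim id id
  obtain ⟨a, b, hab⟩ := binary_form_surj (0 : F) (-1) h4
  exact ⟨a, b, by linear_combination hab⟩

/-- every traceless element of `SL₂(q)`, `q` odd, anticommutes with some element of `SL₂(q)` -/
theorem exists_anticomm [Fintype F] (h2 : (2 : F) ≠ 0) (A : SpecialLinearGroup (Fin 2) F)
    (hA : (A : Matrix (Fin 2) (Fin 2) F).trace = 0) :
    ∃ B : SpecialLinearGroup (Fin 2) F, B * A = -(A * B) := by
  obtain ⟨x, y, hxy⟩ := exists_sq_add_sq_eq_neg_one h2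
  have h4 : ((quatI : SpecialLinearGroup (Fin 2) F) : Matrix (Fin 2) (Fin 2) F).trace ^ 2 ≠ 4 := by
    rw [quatI_trace]
    intro h
    apply h2
    have : (2 : F) * 2 = 0 := by linear_combination -h
    exact (mul_eq_zero.mp this).elim id id
  obtain ⟨U, hU⟩ := sl2_exists_conj_of_trace_eq quatI A (by rw [quatI_trace, hA]) h4
  refine ⟨U * quatJ x y hxy * U⁻¹, ?_⟩
  rw [← hU]
  have h := quatJ_anticomm x y hxy
  calc U * quatJ x y hxy * U⁻¹ * (U * quatI * U⁻¹)
      = U * (quatJ x y hxy * quatI) * U⁻¹ := by group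
    _ = -(U * (quatI * quatJ x y hxy) * U⁻¹) := by rw [h, mul_neg, neg_mul]
    _ = -(U * quatI * U⁻¹ * (U * quatJ x y hxy * U⁻¹)) := by
        congr 1
        group

/-- the elements anticommuting with a traceless `A` form a coset of the centralizer of `A` -/
theorem card_anticomm_fiber [Fintype F] (h2 : (2 : F) ≠ 0) (A : SpecialLinearGroup (Fin 2) F)
    (hA : (A : Matrix (Fin 2) (Fin 2) F).trace = 0) :
    Nat.card {B : SpecialLinearGroup (Fin 2) F // B * A = -(A * B)} =
      Nat.card (Subgroup.centralizer ({A} : Set (SpecialLinearGroup (Fin 2) F))) := by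
  obtain ⟨B0, hB0⟩ := exists_anticomm h2 A hA
  have hB0' : B0⁻¹ * A = -(A * B0⁻¹) := by
    have h1 : A * B0⁻¹ = -(B0⁻¹ * A) := by
      calc A * B0⁻¹ = B0⁻¹ * (B0 * A) * B0⁻¹ := by group
        _ = -(B0⁻¹ * A) := by
            rw [hB0, mul_neg, neg_mul]
            congr 1
            group
    rw [h1, neg_neg]
  refine Nat.card_congr ?_
  refine
    { toFun := fun B => ⟨B0⁻¹ * B.1, ?_⟩
      invFun := fun C => ⟨B0 * C.1, ?_⟩
      left_inv := ?_
      right_inv := ?_ }
  · rw [Subgroup.mem_centralizer_singleton_iff]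
    calc B0⁻¹ * B.1 * A = B0⁻¹ * (B.1 * A) := by group
      _ = -(B0⁻¹ * A * B.1) := by rw [B.2, mul_neg, mul_assoc]
      _ = A * (B0⁻¹ * B.1) := by rw [hB0', neg_mul, neg_neg, mul_assoc]
  · have hC := Subgroup.mem_centralizer_singleton_iff.mp C.2
    calc B0 * C.1 * A = B0 * (C.1 * A) := by group
      _ = B0 * A * C.1 := by rw [hC, mul_assoc]
      _ = -(A * (B0 * C.1)) := by rw [hB0, neg_mul, mul_assoc]
  · intro B
    apply Subtype.ext
    simp
  · intro C
    apply Subtype.ext
    simp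

/-- orbit–stabilizer for the class of traceless elements -/
theorem card_centralizer_mul_card_traceless [Fintype F] (h2 : (2 : F) ≠ 0)
    (A : SpecialLinearGroup (Fin 2) F) (hA : (A : Matrix (Fin 2) (Fin 2) F).trace = 0) :
    Nat.card (Subgroup.centralizer ({A} : Set (SpecialLinearGroup (Fin 2) F))) *
      Nat.card {Y : SpecialLinearGroup (Fin 2) F // (Y : Matrix (Fin 2) (Fin 2) F).trace = 0} =
      Nat.card (SpecialLinearGroup (Fin 2) F) := by
  have h4 : (A : Matrix (Fin 2) (Fin 2) F).trace ^ 2 ≠ 4 := by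
    rw [hA]
    intro h
    apply h2
    have : (2 : F) * 2 = 0 := by linear_combination -h
    exact (mul_eq_zero.mp this).elim id id
  have h1 := Subgroup.card_mul_index
    (Subgroup.centralizer ({A} : Set (SpecialLinearGroup (Fin 2) F)))
  rw [index_centralizer_eq_ncard, sl2_conj_class_eq A h4, hA] at h1
  rw [← h1, ← Nat.card_coe_set_eq]
  rfl

/-- the number of "quaternion pairs" in `SL₂(q)`, `q` odd, is the order of `SL₂(q)` -/
theorem card_quat_pairs [Fintype F] (h2 : (2 : F) ≠ 0) :
    Nat.card {p : SpecialLinearGroup (Fin 2) F × SpecialLinearGroup (Fin 2) F //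
      (p.1 : Matrix (Fin 2) (Fin 2) F).trace = 0 ∧ (p.2 : Matrix (Fin 2) (Fin 2) F).trace = 0 ∧
        ((p.1 : Matrix (Fin 2) (Fin 2) F) * p.2).trace = 0} =
      Nat.card (SpecialLinearGroup (Fin 2) F) := by
  classical
  rw [Nat.card_congr (Equiv.subtypeProdEquivSigmaSubtype
    (fun A B : SpecialLinearGroup (Fin 2) F =>
      (A : Matrix (Fin 2) (Fin 2) F).trace = 0 ∧ (B : Matrix (Fin 2) (Fin 2) F).trace = 0 ∧
        ((A : Matrix (Fin 2) (Fin 2) F) * B).trace = 0)), Nat.card_sigma]
  set t := Nat.card {Y : SpecialLinearGroup (Fin 2) F //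
    (Y : Matrix (Fin 2) (Fin 2) F).trace = 0} with ht
  have hterm : ∀ A : SpecialLinearGroup (Fin 2) F,
      Nat.card {B : SpecialLinearGroup (Fin 2) F //
        (A : Matrix (Fin 2) (Fin 2) F).trace = 0 ∧ (B : Matrix (Fin 2) (Fin 2) F).trace = 0 ∧
        ((A : Matrix (Fin 2) (Fin 2) F) * B).trace = 0} * t =
      if (A : Matrix (Fin 2) (Fin 2) F).trace = 0 then Nat.card (SpecialLinearGroup (Fin 2) F)
        else 0 := by
    intro A
    split_ifs with hA
    · rw [← card_centralizer_mul_card_traceless h2 A hA, ← card_anticomm_fiber h2 A hA]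
      congr 1
      refine Nat.card_congr (Equiv.subtypeEquivRight ?_)
      intro B
      rw [sl2_anticomm_iff, anticomm_iff_of_trace_zero h2 _ _ A.2 hA]
      tauto
    · have : IsEmpty {B : SpecialLinearGroup (Fin 2) F //
        (A : Matrix (Fin 2) (Fin 2) F).trace = 0 ∧ (B : Matrix (Fin 2) (Fin 2) F).trace = 0 ∧
        ((A : Matrix (Fin 2) (Fin 2) F) * B).trace = 0} := ⟨fun B => hA B.2.1⟩
      rw [Nat.card_of_isEmpty, zero_mul]
  have htpos : 0 < t := by
    rw [ht]
    apply Nat.card_pos_iff.mpr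
    exact ⟨⟨quatI, quatI_trace⟩, inferInstance⟩
  apply Nat.eq_of_mul_eq_mul_right htpos
  rw [Finset.sum_mul, Finset.sum_congr rfl (fun A _ => hterm A), ← Finset.sum_filter,
    Finset.sum_const, smul_eq_mul, mul_comm]
  congr 1
  rw [ht, Nat.card_eq_fintype_card, Fintype.card_subtype]

theorem two_ne_zero_of_odd_card [Fintype F] (h : Odd (Fintype.card F)) : (2 : F) ≠ 0 := by
  intro h0
  have hchar : ringChar F = 2 :=
    CharP.ringChar_of_prime_eq_zero Nat.prime_two (by exact_mod_cast h0)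
  have := FiniteField.even_card_iff_char_two.mp hchar
  obtain ⟨k, hk⟩ := h
  omega

/-- `PSL₂(q)`, `q` odd, has `|PSL₂(q)| / 12` Klein four subgroups -/
theorem twelve_mul_card_kleinFour_psl2 [Fintype F] (h2 : (2 : F) ≠ 0) :
    12 * Nat.card {V : Subgroup (ProjectiveSpecialLinearGroup (Fin 2) F) // IsKleinFour V} =
      Nat.card (ProjectiveSpecialLinearGroup (Fin 2) F) := by
  classical
  have hQ := card_commuting_involution_pairs (ProjectiveSpecialLinearGroup (Fin 2) F)
  have hP := card_preimage_prod_mk (Subgroup.center (SpecialLinearGroup (Fin 2) F))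
    {x : ProjectiveSpecialLinearGroup (Fin 2) F × ProjectiveSpecialLinearGroup (Fin 2) F |
      x.1 ≠ 1 ∧ x.2 ≠ 1 ∧ x.1 * x.1 = 1 ∧ x.2 * x.2 = 1 ∧ x.1 * x.2 = x.2 * x.1 ∧ x.1 ≠ x.2}
  have hPP : Nat.card {p : SpecialLinearGroup (Fin 2) F × SpecialLinearGroup (Fin 2) F //
      (p.1 : Matrix (Fin 2) (Fin 2) F).trace = 0 ∧ (p.2 : Matrix (Fin 2) (Fin 2) F).trace = 0 ∧
        ((p.1 : Matrix (Fin 2) (Fin 2) F) * p.2).trace = 0} =
      Nat.card {p : SpecialLinearGroup (Fin 2) F × SpecialLinearGroup (Fin 2) F //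
        ((QuotientGroup.mk p.1 : SpecialLinearGroup (Fin 2) F ⧸ Subgroup.center (SpecialLinearGroup (Fin 2) F)),
          (QuotientGroup.mk p.2 : SpecialLinearGroup (Fin 2) F ⧸ Subgroup.center (SpecialLinearGroup (Fin 2) F))) ∈
        {x : ProjectiveSpecialLinearGroup (Fin 2) F × ProjectiveSpecialLinearGroup (Fin 2) F |
          x.1 ≠ 1 ∧ x.2 ≠ 1 ∧ x.1 * x.1 = 1 ∧ x.2 * x.2 = 1 ∧ x.1 * x.2 = x.2 * x.1 ∧
            x.1 ≠ x.2}} := by
    refine Nat.card_congr (Equiv.subtypeEquivRight ?_)
    rintro ⟨A, B⟩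
    exact quat_pair_iff h2 A B
  rw [card_quat_pairs h2] at hPP
  rw [hPP.symm, card_center_sl2_odd h2, Nat.card_coe_set_eq] at hP
  have hS := Subgroup.card_eq_card_quotient_mul_card_subgroup
    (Subgroup.center (SpecialLinearGroup (Fin 2) F))
  rw [card_center_sl2_odd h2] at hS
  have hQ' : Set.ncard {x : ProjectiveSpecialLinearGroup (Fin 2) F × ProjectiveSpecialLinearGroup (Fin 2) F |
      x.1 ≠ 1 ∧ x.2 ≠ 1 ∧ x.1 * x.1 = 1 ∧ x.2 * x.2 = 1 ∧ x.1 * x.2 = x.2 * x.1 ∧ x.1 ≠ x.2} =
      6 * Nat.card {V : Subgroup (ProjectiveSpecialLinearGroup (Fin 2) F) // IsKleinFour V} := by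
    rw [← hQ, ← Nat.card_coe_set_eq]
    rfl
  rw [hQ'] at hP
  have hS' : Nat.card (SpecialLinearGroup (Fin 2) F) =
      Nat.card (ProjectiveSpecialLinearGroup (Fin 2) F) * 2 := hS
  omega

end Cfsg.Agent.Helper41
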