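import Mathlib
import Cfsg.Agent.Lib.Helper41.SL2

set_option autoImplicit false

namespace Cfsg.Agent.Helper41

open Matrix Polynomial
open scoped MatrixGroups

/-- If a matrix is killed by `(X - a)(X - b)` with `a ≠ b` and `a^k = b^k = e` then `N^k = e`. -/
theorem pow_eq_smul_of_roots {K : Type*} [Field K] {n : Type*} [Fintype n] [DecidableEq n]
    (N : Matrix n n K) (a b e : K) (hne : a ≠ b)
    (hN : (N - a • (1 : Matrix n n K)) * (N - b • (1 : Matrix n n K)) = 0) (k : ℕ)
    (ha : a ^ k = e) (hb : b ^ k = e) : N ^ k = e • (1 : Matrix n n K) := by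
  have h1 : (X - C a) ∣ (X ^ k - C e : K[X]) := by
    rw [dvd_iff_isRoot]; simp [ha]
  have h2 : (X - C b) ∣ (X ^ k - C e : K[X]) := by
    rw [dvd_iff_isRoot]; simp [hb]
  have hcop : IsCoprime (X - C a) (X - C b : K[X]) :=
    isCoprime_X_sub_C_of_isUnit_sub (sub_ne_zero.mpr hne).isUnit
  obtain ⟨r, hr⟩ := hcop.mul_dvd h1 h2
  have := congrArg (aeval N) hr
  simp only [map_sub, map_pow, aeval_X, aeval_C, map_mul, Algebra.algebraMap_eq_smul_one] at this
  rw [hN, zero_mul, sub_eq_zero] at this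
  exact this

theorem gcd_two_cases (q : ℕ) (hq : 1 ≤ q) :
    (Nat.gcd 2 (q - 1) = 1 ∨ Nat.gcd 2 (q - 1) = 2) ∧ Nat.gcd 2 (q - 1) ∣ q - 1 ∧
      Nat.gcd 2 (q - 1) ∣ q + 1 := by
  have h2 : Nat.gcd 2 (q - 1) ∣ 2 := Nat.gcd_dvd_left 2 (q - 1)
  have h1 : Nat.gcd 2 (q - 1) ∣ q - 1 := Nat.gcd_dvd_right 2 (q - 1)
  refine ⟨?_, h1, ?_⟩
  · have := (Nat.dvd_prime Nat.prime_two).mp h2
    exact this
  · have : q + 1 = (q - 1) + 2 := by omega
    rw [this]
    exact dvd_add h1 h2

/-- if `x ^ n = 1`, `d ∣ n` and `d ∈ {1, 2}`, then `x ^ (n / d) = ± 1` in a field -/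
theorem pow_div_eq_one_or_neg_one {K : Type*} [Field K] (x : K) (n d : ℕ) (hd : d = 1 ∨ d = 2)
    (hdn : d ∣ n) (hx : x ^ n = 1) : x ^ (n / d) = 1 ∨ x ^ (n / d) = -1 := by
  rcases hd with rfl | rfl
  · left; simpa using hx
  · have : (x ^ (n / 2)) ^ 2 = 1 := by rw [← pow_mul, Nat.div_mul_cancel hdn, hx]
    have h' : (x ^ (n / 2) - 1) * (x ^ (n / 2) + 1) = 0 := by linear_combination this
    rcases mul_eq_zero.mp h' with h | h
    · left; linear_combination h
    · right; linear_combination h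

theorem semisimple_pow {F : Type*} [Field F] [Fintype F] (p : ℕ) [Fact p.Prime] [CharP F p]
    (M : Matrix (Fin 2) (Fin 2) F) (hdet : M.det = 1) (ht : M.trace ^ 2 ≠ 4) :
    (M ^ ((Fintype.card F - 1) / Nat.gcd 2 (Fintype.card F - 1)) = 1 ∨
      M ^ ((Fintype.card F - 1) / Nat.gcd 2 (Fintype.card F - 1)) = -1) ∨
    (M ^ ((Fintype.card F + 1) / Nat.gcd 2 (Fintype.card F - 1)) = 1 ∨
      M ^ ((Fintype.card F + 1) / Nat.gcd 2 (Fintype.card F - 1)) = -1) := by
  set q := Fintype.card F with hq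
  have hq1 : 1 ≤ q := Fintype.card_pos
  obtain ⟨hd12, hdm, hdp⟩ := gcd_two_cases q hq1
  set d := Nat.gcd 2 (q - 1) with hd
  set t := M.trace with htdef
  let L := AlgebraicClosure F
  let φ : F →+* L := algebraMap F L
  have hφ : Function.Injective φ := (algebraMap F L).injective
  -- root of the characteristic polynomial
  obtain ⟨a, ha⟩ : ∃ a : L, a ^ 2 - φ t * a + 1 = 0 := by
    have hdeg : (C (1 : L) * X ^ 2 + C (-(φ t)) * X + C 1 : L[X]).degree ≠ 0 := by
      rw [degree_quadratic one_ne_zero]; decide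
    obtain ⟨a, ha⟩ := IsAlgClosed.exists_root _ hdeg
    refine ⟨a, ?_⟩
    simp only [IsRoot.def, eval_add, eval_mul, eval_C, eval_pow, eval_X] at ha
    linear_combination ha
  set b := φ t - a with hb
  have hab : a * b = 1 := by rw [hb]; linear_combination -ha
  have ha0 : a ≠ 0 := left_ne_zero_of_mul_eq_one hab
  have hsum : a + b = φ t := by rw [hb]; ring
  -- a ≠ b
  have hne : a ≠ b := by
    intro h
    apply ht
    apply hφ
    have h1 : φ t = 2 * a := by rw [← hsum, ← h]; ring
    have h2 : a ^ 2 = 1 := by rw [← h] at hab; rw [pow_two]; exact hab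
    rw [map_pow, h1]
    simp only [map_ofNat]
    linear_combination 4 * h2
  -- Frobenius
  obtain ⟨f, -, hf⟩ := FiniteField.card F p
  have hfrob : (a ^ q) ^ 2 - φ t * a ^ q + 1 = 0 := by
    have h1 : (a ^ 2 - φ t * a + 1) ^ q = 0 := by rw [ha, zero_pow (by omega)]
    have h2 : φ t ^ q = φ t := by rw [← map_pow, hq, FiniteField.pow_card]
    rw [hq, hf] at h1 ⊢
    rw [add_pow_char_pow, sub_pow_char_pow, one_pow, mul_pow, ← hf, ← hq, h2, ← pow_mul,
      mul_comm 2 q, pow_mul] at h1
    rw [← hf, ← hq]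
    exact h1
  have hfrob' : (a ^ q - a) * (a ^ q - b) = 0 := by
    have : (a ^ q - a) * (a ^ q - b) = (a ^ q) ^ 2 - (a + b) * a ^ q + a * b := by ring
    rw [this, hsum, hab]; exact hfrob
  -- the matrix over L
  set N : Matrix (Fin 2) (Fin 2) L := φ.mapMatrix M with hNdef
  have hNdet : N.det = 1 := by rw [hNdef, ← RingHom.map_det, hdet, map_one]
  have hNtr : N.trace = φ t := by
    rw [hNdef, htdef]
    simp [Matrix.trace, RingHom.mapMatrix_apply]
  have hCH := sq_eq_of_det_one N hNdet
  rw [hNtr] at hCH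
  have hNab : (N - a • (1 : Matrix (Fin 2) (Fin 2) L)) * (N - b • (1 : Matrix (Fin 2) (Fin 2) L)) = 0 := by
    have : (N - a • (1 : Matrix (Fin 2) (Fin 2) L)) * (N - b • (1 : Matrix (Fin 2) (Fin 2) L))
        = N ^ 2 - (a + b) • N + (a * b) • (1 : Matrix (Fin 2) (Fin 2) L) := by
      simp only [sub_mul, mul_sub, smul_mul_assoc, mul_smul_comm, one_mul, mul_one, smul_smul,
        add_smul, pow_two]
      rw [smul_sub, smul_smul, mul_comm b a]
      abel
    rw [this, hsum, hab, hCH, one_smul]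
    abel
  -- transfer back
  have back : ∀ k : ℕ, (a ^ k = 1 ∨ a ^ k = -1) → (M ^ k = 1 ∨ M ^ k = -1) := by
    intro k hk
    have hbk : b ^ k = a ^ k := by
      have : b = a⁻¹ := eq_inv_of_mul_eq_one_right hab
      rw [this, inv_pow]
      rcases hk with h | h <;> rw [h] <;> simp
    have hNk := pow_eq_smul_of_roots N a b (a ^ k) hne hNab k rfl hbk
    have hinj : Function.Injective (φ.mapMatrix : Matrix (Fin 2) (Fin 2) F →+* Matrix (Fin 2) (Fin 2) L) := by
      intro X Y hXY
      exact Matrix.map_injective hφ hXY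
    rcases hk with h | h
    · left
      apply hinj
      rw [map_pow, map_one, ← hNdef, hNk, h, one_smul]
    · right
      apply hinj
      rw [map_pow, map_neg, map_one, ← hNdef, hNk, h, neg_one_smul]
  rcases mul_eq_zero.mp hfrob' with h | h
  · left
    apply back
    apply pow_div_eq_one_or_neg_one a (q - 1) d hd12 hdm
    have h1 : a ^ q = a := by linear_combination h
    have h2 : a ^ (q - 1) * a = 1 * a := by rw [← pow_succ, Nat.sub_add_cancel hq1, h1, one_mul]
    exact mul_right_cancel₀ ha0 h2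
  · right
    apply back
    apply pow_div_eq_one_or_neg_one a (q + 1) d hd12 hdp
    have h1 : a ^ q = b := by linear_combination h
    rw [pow_succ, h1, mul_comm, hab]

/-- elements of an extension field fixed by `x ↦ x ^ q` lie in the base finite field -/
theorem mem_range_of_pow_card_eq {F : Type*} [Field F] [Fintype F] {L : Type*} [Field L] [Algebra F L]
    (a : L) (h : a ^ Fintype.card F = a) : ∃ c : F, algebraMap F L c = a := by
  classical
  by_contra hcon
  push Not at hcon
  set q := Fintype.card F with hq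
  have hq1 : 1 < q := Fintype.one_lt_card
  have hne : (X ^ q - X : L[X]) ≠ 0 := FiniteField.X_pow_card_sub_X_ne_zero L hq1
  have hdeg : (X ^ q - X : L[X]).natDegree = q := FiniteField.X_pow_card_sub_X_natDegree_eq L hq1
  let S : Finset L := Finset.univ.image (algebraMap F L)
  have hScard : S.card = q := by
    rw [Finset.card_image_of_injective _ (algebraMap F L).injective, Finset.card_univ]
  have haS : a ∉ S := by
    intro haS
    obtain ⟨c, -, hc⟩ := Finset.mem_image.mp haS
    exact hcon c hc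
  have hsub : insert a S ⊆ (X ^ q - X : L[X]).roots.toFinset := by
    intro x hx
    rw [Multiset.mem_toFinset, mem_roots hne]
    simp only [IsRoot.def, eval_sub, eval_pow, eval_X]
    rcases Finset.mem_insert.mp hx with rfl | hx
    · rw [h, sub_self]
    · obtain ⟨c, -, rfl⟩ := Finset.mem_image.mp hx
      rw [← map_pow, hq, FiniteField.pow_card, sub_self]
  have h1 := Finset.card_le_card hsub
  rw [Finset.card_insert_of_notMem haS, hScard] at h1
  have h2 := Multiset.toFinset_card_le (X ^ q - X : L[X]).roots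
  have h3 := card_roots' (X ^ q - X : L[X])
  rw [hdeg] at h3
  omega

/-- a determinant-one matrix with `tr² ≠ 4` either has an eigenvalue in `F` or has order dividing
`q + 1` -/
theorem root_or_pow_card_add_one {F : Type*} [Field F] [Fintype F] (p : ℕ) [Fact p.Prime] [CharP F p]
    (M : Matrix (Fin 2) (Fin 2) F) (hdet : M.det = 1) (ht : M.trace ^ 2 ≠ 4) :
    (∃ w : F, w ^ 2 - M.trace * w + 1 = 0) ∨ M ^ (Fintype.card F + 1) = 1 := by
  set q := Fintype.card F with hq
  have hq1 : 1 ≤ q := Fintype.card_pos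
  set t := M.trace with htdef
  let L := AlgebraicClosure F
  let φ : F →+* L := algebraMap F L
  have hφ : Function.Injective φ := (algebraMap F L).injective
  obtain ⟨a, ha⟩ : ∃ a : L, a ^ 2 - φ t * a + 1 = 0 := by
    have hdeg : (C (1 : L) * X ^ 2 + C (-(φ t)) * X + C 1 : L[X]).degree ≠ 0 := by
      rw [degree_quadratic one_ne_zero]; decide
    obtain ⟨a, ha⟩ := IsAlgClosed.exists_root _ hdeg
    refine ⟨a, ?_⟩
    simp only [IsRoot.def, eval_add, eval_mul, eval_C, eval_pow, eval_X] at ha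
    linear_combination ha
  set b := φ t - a with hb
  have hab : a * b = 1 := by rw [hb]; linear_combination -ha
  have ha0 : a ≠ 0 := left_ne_zero_of_mul_eq_one hab
  have hsum : a + b = φ t := by rw [hb]; ring
  have hne : a ≠ b := by
    intro h
    apply ht
    apply hφ
    have h1 : φ t = 2 * a := by rw [← hsum, ← h]; ring
    have h2 : a ^ 2 = 1 := by rw [← h] at hab; rw [pow_two]; exact hab
    rw [map_pow, h1]
    simp only [map_ofNat]
    linear_combination 4 * h2
  obtain ⟨f, -, hf⟩ := FiniteField.card F p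
  have hfrob : (a ^ q) ^ 2 - φ t * a ^ q + 1 = 0 := by
    have h1 : (a ^ 2 - φ t * a + 1) ^ q = 0 := by rw [ha, zero_pow (by omega)]
    have h2 : φ t ^ q = φ t := by rw [← map_pow, hq, FiniteField.pow_card]
    rw [hq, hf] at h1 ⊢
    rw [add_pow_char_pow, sub_pow_char_pow, one_pow, mul_pow, ← hf, ← hq, h2, ← pow_mul,
      mul_comm 2 q, pow_mul] at h1
    rw [← hf, ← hq]
    exact h1
  have hfrob' : (a ^ q - a) * (a ^ q - b) = 0 := by
    have : (a ^ q - a) * (a ^ q - b) = (a ^ q) ^ 2 - (a + b) * a ^ q + a * b := by ring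
    rw [this, hsum, hab]; exact hfrob
  rcases mul_eq_zero.mp hfrob' with h | h
  · left
    have h1 : a ^ q = a := by linear_combination h
    obtain ⟨w, hw⟩ := mem_range_of_pow_card_eq (F := F) a h1
    refine ⟨w, ?_⟩
    apply hφ
    rw [map_add, map_sub, map_mul, map_pow, map_one, map_zero]
    show (algebraMap F L w) ^ 2 - φ t * (algebraMap F L w) + 1 = 0
    rw [hw]
    exact ha
  · right
    have h1 : a ^ q = b := by linear_combination h
    have haq : a ^ (q + 1) = 1 := by rw [pow_succ, h1, mul_comm, hab]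
    have hbq : b ^ (q + 1) = 1 := by
      have : b = a⁻¹ := eq_inv_of_mul_eq_one_right hab
      rw [this, inv_pow, haq, inv_one]
    set N : Matrix (Fin 2) (Fin 2) L := φ.mapMatrix M with hNdef
    have hNdet : N.det = 1 := by rw [hNdef, ← RingHom.map_det, hdet, map_one]
    have hNtr : N.trace = φ t := by
      rw [hNdef, htdef]
      simp [Matrix.trace, RingHom.mapMatrix_apply]
    have hCH := sq_eq_of_det_one N hNdet
    rw [hNtr] at hCH
    have hNab : (N - a • (1 : Matrix (Fin 2) (Fin 2) L)) * (N - b • (1 : Matrix (Fin 2) (Fin 2) L)) = 0 := by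
      have : (N - a • (1 : Matrix (Fin 2) (Fin 2) L)) * (N - b • (1 : Matrix (Fin 2) (Fin 2) L))
          = N ^ 2 - (a + b) • N + (a * b) • (1 : Matrix (Fin 2) (Fin 2) L) := by
        simp only [sub_mul, mul_sub, smul_mul_assoc, mul_smul_comm, one_mul, mul_one,
          add_smul, pow_two]
        rw [smul_sub, smul_smul, mul_comm b a]
        abel
      rw [this, hsum, hab, hCH, one_smul]
      abel
    have hNk := pow_eq_smul_of_roots N a b 1 hne hNab (q + 1) haq hbq
    have hinj : Function.Injective (φ.mapMatrix : Matrix (Fin 2) (Fin 2) F →+* Matrix (Fin 2) (Fin 2) L) := by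
      intro X Y hXY
      exact Matrix.map_injective hφ hXY
    apply hinj
    rw [map_pow, map_one, ← hNdef, hNk, one_smul]

theorem pow_char_of_sub_sq_zero {F : Type*} [Field F] (p : ℕ) [Fact p.Prime] [CharP F p] (hp : p ≠ 2)
    (M : Matrix (Fin 2) (Fin 2) F) (c : Matrix (Fin 2) (Fin 2) F) (hc : c = 1 ∨ c = -1)
    (h : (M - c) ^ 2 = 0) : M ^ p = 1 ∨ M ^ p = -1 := by
  have : CharP (Matrix (Fin 2) (Fin 2) F) p := Matrix.charP p
  have hp2 : 2 ≤ p := (Fact.out : p.Prime).two_le
  have hodd : Odd p := (Fact.out : p.Prime).odd_of_ne_two hp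
  have hcomm : Commute M c := by
    rcases hc with rfl | rfl
    · exact Commute.one_right M
    · exact (Commute.one_right M).neg_right
  have h1 : (M - c) ^ p = 0 := by
    obtain ⟨k, hk⟩ := Nat.exists_eq_add_of_le hp2
    rw [hk, pow_add, h, zero_mul]
  rw [sub_pow_char_of_commute p hcomm, sub_eq_zero] at h1
  rcases hc with rfl | rfl
  · left; simpa using h1
  · right; rw [h1, hodd.neg_one_pow]

theorem unipotent_pow {F : Type*} [Field F] (p : ℕ) [Fact p.Prime] [CharP F p]
    (M : Matrix (Fin 2) (Fin 2) F) (hdet : M.det = 1) (ht : M.trace ^ 2 = 4) :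
    M ^ p = 1 ∨ M ^ p = -1 := by
  have hCH := sq_eq_of_det_one M hdet
  set t := M.trace with htdef
  by_cases hp : p = 2
  · subst hp
    right
    have h2 : (2 : F) = 0 := CharTwo.two_eq_zero
    have h4 : (4 : F) = 0 := by
      have : (4 : F) = 2 * 2 := by norm_num
      rw [this, h2, mul_zero]
    rw [h4] at ht
    have ht0 : t = 0 := pow_eq_zero_iff (by norm_num) |>.mp ht
    rw [hCH, ht0, zero_smul, zero_sub]
  · have : (t - 2) * (t + 2) = 0 := by linear_combination ht
    rcases mul_eq_zero.mp this with h | h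
    · have ht2 : t = 2 := by linear_combination h
      apply pow_char_of_sub_sq_zero p hp M 1 (Or.inl rfl)
      rw [(Commute.one_right M).sub_sq, hCH, ht2]
      simp only [one_pow, mul_one]
      rw [two_smul, two_mul]
      abel
    · have ht2 : t = -2 := by linear_combination h
      apply pow_char_of_sub_sq_zero p hp M (-1) (Or.inr rfl)
      rw [sub_neg_eq_add, (Commute.one_right M).add_sq, hCH, ht2]
      simp only [one_pow, mul_one, neg_smul]
      rw [two_smul, two_mul]
      abel

/-- Orders of elements of `PSL(2,F)` divide `p`, `(q-1)/d` or `(q+1)/d`. -/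
theorem psl2_orderOf_dvd {F : Type*} [Field F] [Fintype F] (p : ℕ) [Fact p.Prime] [CharP F p]
    (g : Matrix.ProjectiveSpecialLinearGroup (Fin 2) F) :
    orderOf g ∣ p ∨ orderOf g ∣ (Fintype.card F - 1) / Nat.gcd 2 (Fintype.card F - 1) ∨
      orderOf g ∣ (Fintype.card F + 1) / Nat.gcd 2 (Fintype.card F - 1) := by
  obtain ⟨A, rfl⟩ := psl2_exists_rep g
  have hdet : (A : Matrix (Fin 2) (Fin 2) F).det = 1 := A.2
  by_cases ht : (A : Matrix (Fin 2) (Fin 2) F).trace ^ 2 = 4
  · left
    exact orderOf_dvd_of_pow_eq_one ((psl2_mk_pow_eq_one_iff A p).mpr (unipotent_pow p _ hdet ht))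
  · right
    rcases semisimple_pow p _ hdet ht with h | h
    · left
      exact orderOf_dvd_of_pow_eq_one ((psl2_mk_pow_eq_one_iff A _).mpr h)
    · right
      exact orderOf_dvd_of_pow_eq_one ((psl2_mk_pow_eq_one_iff A _).mpr h)

theorem char_two_of_gcd_eq_one {F : Type*} [Field F] [Fintype F] (p : ℕ) [Fact p.Prime] [CharP F p]
    (h : Nat.gcd 2 (Fintype.card F - 1) = 1) : p = 2 := by
  obtain ⟨f, hp, hf⟩ := FiniteField.card F p
  have hq1 : 1 ≤ Fintype.card F := Fintype.card_pos
  have h2 : ¬ 2 ∣ Fintype.card F - 1 := by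
    intro h2
    have := Nat.dvd_gcd (dvd_refl 2) h2
    rw [h] at this
    omega
  have h3 : 2 ∣ Fintype.card F := by omega
  rw [hf] at h3
  have := Nat.Prime.dvd_of_dvd_pow Nat.prime_two h3
  exact ((Nat.prime_dvd_prime_iff_eq Nat.prime_two hp).mp this).symm

theorem orderOf_psl2_mk_eq {F : Type*} [Field F] [Fintype F] (p : ℕ) [Fact p.Prime] [CharP F p]
    {K : Type*} [Field K] [CharP K p] (A : Matrix.SpecialLinearGroup (Fin 2) F) (u : K) (n : ℕ)
    (hu : orderOf u = n) (hdn : Nat.gcd 2 (Fintype.card F - 1) ∣ n)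
    (h : ∀ k : ℕ, ((A : Matrix (Fin 2) (Fin 2) F) ^ k = 1 ∨ (A : Matrix (Fin 2) (Fin 2) F) ^ k = -1) ↔
      (u ^ k = 1 ∨ u ^ k = -1)) :
    orderOf (QuotientGroup.mk A : Matrix.ProjectiveSpecialLinearGroup (Fin 2) F) =
      n / Nat.gcd 2 (Fintype.card F - 1) := by
  obtain ⟨hd12, -, -⟩ := gcd_two_cases (Fintype.card F) Fintype.card_pos
  rcases hd12 with hd | hd
  · have hp2 : p = 2 := char_two_of_gcd_eq_one p hd
    subst hp2
    have hneg : (-1 : K) = 1 := CharTwo.neg_eq _
    rw [hd, Nat.div_one, ← hu]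
    rw [orderOf_eq_orderOf_iff]
    intro k
    rw [psl2_mk_pow_eq_one_iff, h k, hneg, or_self]
  · rw [hd] at hdn ⊢
    have h2 : orderOf (u ^ 2) = n / 2 := by
      rw [orderOf_pow' u (by norm_num), hu, Nat.gcd_eq_right hdn]
    rw [← h2, orderOf_eq_orderOf_iff]
    intro k
    rw [psl2_mk_pow_eq_one_iff, h k, ← pow_mul, mul_comm, pow_mul]
    constructor
    · rintro (h1 | h1) <;> rw [h1] <;> simp
    · intro h1
      have h' : (u ^ k - 1) * (u ^ k + 1) = 0 := by linear_combination h1
      rcases mul_eq_zero.mp h' with h3 | h3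
      · left; linear_combination h3
      · right; linear_combination h3

end Cfsg.Agent.Helper41
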