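import Mathlib
import Cfsg.Agent.Lib.Helper41.SL2
import Cfsg.Agent.Lib.Helper41.SL2Spec
import Cfsg.Agent.Lib.Helper41.SL2Prod
import Cfsg.Agent.Lib.Helper41.SL2Class
import Cfsg.Agent.Lib.Helper41.SL2ClassOdd
import Cfsg.Agent.Lib.Helper41.SL2ABA
import Cfsg.Agent.Lib.Helper41.SL2Quat

set_option autoImplicit false

/-!
Root elements `uG x`, `lG x` of `PSL₂(F)`, their relations, centralizers and the Bruhat
decomposition, in the form needed to determine `Aut(PSL₂(q))`.
-/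

namespace Cfsg.Agent.Helper41

open Matrix

variable {F : Type*} [Field F]

/-! ### identities in `SL₂` -/

theorem lowerSL_mul (x y : F) : lowerSL x * lowerSL y = lowerSL (x + y) := by
  apply Subtype.ext
  rw [Matrix.SpecialLinearGroup.coe_mul]
  ext i j
  fin_cases i <;> fin_cases j <;> simp [lowerSL, Matrix.mul_apply, Fin.sum_univ_two]

theorem upperSL_zero : upperSL (0 : F) = 1 := by
  apply Subtype.ext
  ext i j
  fin_cases i <;> fin_cases j <;> simp [upperSL]

theorem lowerSL_zero : lowerSL (0 : F) = 1 := by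
  apply Subtype.ext
  ext i j
  fin_cases i <;> fin_cases j <;> simp [lowerSL]

theorem upperSL_inv (x : F) : (upperSL x)⁻¹ = upperSL (-x) := by
  rw [inv_eq_iff_mul_eq_one, upperSL_mul, add_neg_cancel, upperSL_zero]

theorem lowerSL_inv (x : F) : (lowerSL x)⁻¹ = lowerSL (-x) := by
  rw [inv_eq_iff_mul_eq_one, lowerSL_mul, add_neg_cancel, lowerSL_zero]

theorem upperSL_apply (x : F) :
    ((upperSL x : SpecialLinearGroup (Fin 2) F) : Matrix (Fin 2) (Fin 2) F) = !![1, x; 0, 1] := rfl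

theorem lowerSL_apply (x : F) :
    ((lowerSL x : SpecialLinearGroup (Fin 2) F) : Matrix (Fin 2) (Fin 2) F) = !![1, 0; x, 1] := rfl

/-- the element `[[0, t], [-t⁻¹, 0]]` -/
def wSL (t : F) (ht : t ≠ 0) : SpecialLinearGroup (Fin 2) F :=
  ⟨!![0, t; -t⁻¹, 0], by
    rw [Matrix.det_fin_two_of]
    field_simp
    ring⟩

theorem wSL_apply (t : F) (ht : t ≠ 0) :
    ((wSL t ht : SpecialLinearGroup (Fin 2) F) : Matrix (Fin 2) (Fin 2) F) =
      !![0, t; -t⁻¹, 0] := rfl

theorem upper_lower_upper (t : F) (ht : t ≠ 0) :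
    upperSL t * lowerSL (-t⁻¹) * upperSL t = wSL t ht := by
  apply Subtype.ext
  rw [Matrix.SpecialLinearGroup.coe_mul, Matrix.SpecialLinearGroup.coe_mul]
  ext i j
  fin_cases i <;> fin_cases j <;>
    simp [upperSL, lowerSL, wSL, Matrix.mul_apply, Fin.sum_univ_two, ht]

/-- the product `u(s) l(r) u(s)` -/
theorem upper_lower_upper_apply (s r : F) :
    ((upperSL s * lowerSL r * upperSL s : SpecialLinearGroup (Fin 2) F) :
      Matrix (Fin 2) (Fin 2) F) = !![1 + s * r, s * (2 + s * r); r, 1 + s * r] := by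
  rw [Matrix.SpecialLinearGroup.coe_mul, Matrix.SpecialLinearGroup.coe_mul]
  ext i j
  fin_cases i <;> fin_cases j <;>
    simp [upperSL, lowerSL, Matrix.mul_apply, Fin.sum_univ_two] <;> ring

theorem wSL_mul_upperSL (t : F) (ht : t ≠ 0) (x : F) :
    wSL t ht * upperSL x = lowerSL (-x / t ^ 2) * wSL t ht := by
  apply Subtype.ext
  rw [Matrix.SpecialLinearGroup.coe_mul, Matrix.SpecialLinearGroup.coe_mul]
  ext i j
  fin_cases i <;> fin_cases j <;>
    simp [upperSL, lowerSL, wSL, Matrix.mul_apply, Fin.sum_univ_two]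
  field_simp

/-- upper triangular elements normalise the upper unipotent group -/
theorem upperTri_mul_upperSL (B : SpecialLinearGroup (Fin 2) F)
    (hB : (B : Matrix (Fin 2) (Fin 2) F) 1 0 = 0) (y : F) :
    B * upperSL y = upperSL ((B : Matrix (Fin 2) (Fin 2) F) 0 0 ^ 2 * y) * B := by
  have hdet := B.2
  rw [Matrix.det_fin_two, hB, mul_zero, sub_zero] at hdet
  apply Subtype.ext
  rw [Matrix.SpecialLinearGroup.coe_mul, Matrix.SpecialLinearGroup.coe_mul]
  ext i j
  fin_cases i <;> fin_cases j <;>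
    simp [upperSL, Matrix.mul_apply, Fin.sum_univ_two, hB]
  linear_combination (-(B : Matrix (Fin 2) (Fin 2) F) 0 0 * y) * hdet

/-- the Bruhat decomposition of `SL₂` -/
theorem sl2_bruhat (X : SpecialLinearGroup (Fin 2) F)
    (hX : (X : Matrix (Fin 2) (Fin 2) F) 1 0 ≠ 0) :
    ∃ (s : F) (B : SpecialLinearGroup (Fin 2) F), (B : Matrix (Fin 2) (Fin 2) F) 1 0 = 0 ∧
      X = upperSL s * wSL 1 one_ne_zero * B := by
  have hdet := X.2
  rw [Matrix.det_fin_two] at hdet
  obtain ⟨a, ha⟩ : ∃ a : F, a = (X : Matrix (Fin 2) (Fin 2) F) 0 0 := ⟨_, rfl⟩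
  obtain ⟨b, hb⟩ : ∃ b : F, b = (X : Matrix (Fin 2) (Fin 2) F) 0 1 := ⟨_, rfl⟩
  obtain ⟨c, hc⟩ : ∃ c : F, c = (X : Matrix (Fin 2) (Fin 2) F) 1 0 := ⟨_, rfl⟩
  obtain ⟨d, hd⟩ : ∃ d : F, d = (X : Matrix (Fin 2) (Fin 2) F) 1 1 := ⟨_, rfl⟩
  rw [← ha, ← hb, ← hc, ← hd] at hdet
  rw [← hc] at hX
  -- `X = u(a/c) * w * [[-c, -d], [0, -1/c]]`
  have hBdet : (!![-c, -d; 0, -c⁻¹] : Matrix (Fin 2) (Fin 2) F).det = 1 := by
    rw [Matrix.det_fin_two_of]
    field_simp
    ring
  obtain ⟨B, hB⟩ : ∃ B : SpecialLinearGroup (Fin 2) F,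
      (B : Matrix (Fin 2) (Fin 2) F) = !![-c, -d; 0, -c⁻¹] := ⟨⟨_, hBdet⟩, rfl⟩
  refine ⟨a / c, B, by rw [hB]; simp, ?_⟩
  have hmat : (X : Matrix (Fin 2) (Fin 2) F) =
      ((upperSL (a / c) * wSL 1 one_ne_zero * B : SpecialLinearGroup (Fin 2) F) :
        Matrix (Fin 2) (Fin 2) F) := by
    rw [Matrix.SpecialLinearGroup.coe_mul, Matrix.SpecialLinearGroup.coe_mul, hB]
    ext i j
    fin_cases i <;> fin_cases j <;>
      simp [upperSL, wSL, Matrix.mul_apply, Fin.sum_univ_two, ← ha, ← hb, ← hc, ← hd]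
    · field_simp
    · field_simp
      linear_combination -hdet
  exact Subtype.ext hmat

/-! ### root elements of `PSL₂` -/

/-- upper root elements of `PSL₂` -/
def uG (x : F) : ProjectiveSpecialLinearGroup (Fin 2) F := QuotientGroup.mk (upperSL x)

/-- lower root elements of `PSL₂` -/
def lG (x : F) : ProjectiveSpecialLinearGroup (Fin 2) F := QuotientGroup.mk (lowerSL x)

/-- the Weyl element of `PSL₂` -/
def wG (F : Type*) [Field F] : ProjectiveSpecialLinearGroup (Fin 2) F :=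
  QuotientGroup.mk (wSL 1 one_ne_zero)

theorem uG_add (x y : F) : uG (x + y) = uG x * uG y := by
  rw [uG, uG, uG, ← QuotientGroup.mk_mul, upperSL_mul]

theorem lG_add (x y : F) : lG (x + y) = lG x * lG y := by
  rw [lG, lG, lG, ← QuotientGroup.mk_mul, lowerSL_mul]

theorem uG_zero : uG (0 : F) = 1 := by
  rw [uG, upperSL_zero]; rfl

theorem lG_zero : lG (0 : F) = 1 := by
  rw [lG, lowerSL_zero]; rfl

theorem uG_neg (x : F) : uG (-x) = (uG x)⁻¹ := by
  rw [eq_inv_iff_mul_eq_one, ← uG_add, neg_add_cancel, uG_zero]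

theorem lG_neg (x : F) : lG (-x) = (lG x)⁻¹ := by
  rw [eq_inv_iff_mul_eq_one, ← lG_add, neg_add_cancel, lG_zero]

theorem uG_commute (x y : F) : uG x * uG y = uG y * uG x := by
  rw [← uG_add, ← uG_add, add_comm]

theorem lG_commute (x y : F) : lG x * lG y = lG y * lG x := by
  rw [← lG_add, ← lG_add, add_comm]

theorem uG_nsmul (n : ℕ) (x : F) : uG (n • x) = uG x ^ n := by
  induction n with
  | zero => rw [zero_smul, uG_zero, pow_zero]
  | succ k ih => rw [succ_nsmul, uG_add, ih, pow_succ]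

theorem lG_nsmul (n : ℕ) (x : F) : lG (n • x) = lG x ^ n := by
  induction n with
  | zero => rw [zero_smul, lG_zero, pow_zero]
  | succ k ih => rw [succ_nsmul, lG_add, ih, pow_succ]

theorem uG_injective : Function.Injective (uG : F → ProjectiveSpecialLinearGroup (Fin 2) F) := by
  intro x y h
  rw [uG, uG, psl2_mk_eq_mk_iff] at h
  rcases h with h | h
  · have := congrArg (fun X : SpecialLinearGroup (Fin 2) F =>
      (X : Matrix (Fin 2) (Fin 2) F) 0 1) h
    simpa [upperSL] using this.symm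
  · have h1 := congrArg (fun X : SpecialLinearGroup (Fin 2) F =>
      (X : Matrix (Fin 2) (Fin 2) F) 0 1) h
    have h0 := congrArg (fun X : SpecialLinearGroup (Fin 2) F =>
      (X : Matrix (Fin 2) (Fin 2) F) 0 0) h
    simp only [Matrix.SpecialLinearGroup.coe_neg, Matrix.neg_apply, upperSL_apply] at h1 h0
    simp at h1 h0
    -- `1 = -1`, `y = -x`
    have h2 : (2 : F) = 0 := by linear_combination h0
    linear_combination -h1 + x * h2

theorem lG_injective : Function.Injective (lG : F → ProjectiveSpecialLinearGroup (Fin 2) F) := by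
  intro x y h
  rw [lG, lG, psl2_mk_eq_mk_iff] at h
  rcases h with h | h
  · have := congrArg (fun X : SpecialLinearGroup (Fin 2) F =>
      (X : Matrix (Fin 2) (Fin 2) F) 1 0) h
    simpa [lowerSL] using this.symm
  · have h1 := congrArg (fun X : SpecialLinearGroup (Fin 2) F =>
      (X : Matrix (Fin 2) (Fin 2) F) 1 0) h
    have h0 := congrArg (fun X : SpecialLinearGroup (Fin 2) F =>
      (X : Matrix (Fin 2) (Fin 2) F) 0 0) h
    simp only [Matrix.SpecialLinearGroup.coe_neg, Matrix.neg_apply, lowerSL_apply] at h1 h0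
    simp at h1 h0
    have h2 : (2 : F) = 0 := by linear_combination h0
    linear_combination -h1 + x * h2

theorem uG_eq_one_iff (x : F) : uG x = 1 ↔ x = 0 := by
  rw [← uG_zero (F := F)]
  exact uG_injective.eq_iff

theorem lG_eq_one_iff (x : F) : lG x = 1 ↔ x = 0 := by
  rw [← lG_zero (F := F)]
  exact lG_injective.eq_iff

theorem uG_ne_lG (x y : F) (hy : y ≠ 0) : uG x ≠ lG y := by
  intro h
  rw [uG, lG, psl2_mk_eq_mk_iff] at h
  rcases h with h | h
  · have := congrArg (fun X : SpecialLinearGroup (Fin 2) F =>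
      (X : Matrix (Fin 2) (Fin 2) F) 1 0) h
    simp [upperSL, lowerSL] at this
    exact hy this
  · have := congrArg (fun X : SpecialLinearGroup (Fin 2) F =>
      (X : Matrix (Fin 2) (Fin 2) F) 1 0) h
    simp only [Matrix.SpecialLinearGroup.coe_neg, Matrix.neg_apply, upperSL_apply,
      lowerSL_apply] at this
    simp at this
    exact hy this

/-- conjugation of the upper root group by the Weyl element -/
theorem wG_mul_uG (x : F) : wG F * uG x = lG (-x) * wG F := by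
  rw [wG, uG, lG, ← QuotientGroup.mk_mul, ← QuotientGroup.mk_mul, wSL_mul_upperSL]
  simp

theorem wG_conj_uG (x : F) : wG F * uG x * (wG F)⁻¹ = lG (-x) := by
  rw [wG_mul_uG, mul_inv_cancel_right]

/-- conjugation of the upper root group by an upper triangular element -/
theorem upperTri_conj_uG (B : SpecialLinearGroup (Fin 2) F)
    (hB : (B : Matrix (Fin 2) (Fin 2) F) 1 0 = 0) (y : F) :
    (QuotientGroup.mk B : ProjectiveSpecialLinearGroup (Fin 2) F) * uG y *
      (QuotientGroup.mk B)⁻¹ = uG ((B : Matrix (Fin 2) (Fin 2) F) 0 0 ^ 2 * y) := by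
  rw [uG, uG, ← QuotientGroup.mk_mul, upperTri_mul_upperSL B hB, QuotientGroup.mk_mul,
    mul_inv_cancel_right]

theorem upperTri_apply_zero_zero_ne_zero (B : SpecialLinearGroup (Fin 2) F)
    (hB : (B : Matrix (Fin 2) (Fin 2) F) 1 0 = 0) : (B : Matrix (Fin 2) (Fin 2) F) 0 0 ≠ 0 := by
  intro h
  have hdet := B.2
  rw [Matrix.det_fin_two, hB, h] at hdet
  simp at hdet

/-- the centralizer of a nontrivial upper root element is the upper root group -/
theorem exists_uG_of_commute (y : F) (hy : y ≠ 0) (g : ProjectiveSpecialLinearGroup (Fin 2) F)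
    (h : g * uG y = uG y * g) : ∃ x : F, g = uG x := by
  obtain ⟨Y, rfl⟩ := psl2_exists_rep g
  rw [uG, ← QuotientGroup.mk_mul, ← QuotientGroup.mk_mul, psl2_mk_eq_mk_iff] at h
  have hcomm : upperSL y * Y = Y * upperSL y := by
    rcases h with h | h
    · exact h
    · by_cases h2 : (2 : F) = 0
      · rw [h, sl2_neg_eq_self_char_two h2]
      · exfalso
        have h1 := congrArg (fun X : SpecialLinearGroup (Fin 2) F =>
          (X : Matrix (Fin 2) (Fin 2) F)) h
        simp only [Matrix.SpecialLinearGroup.coe_mul, Matrix.SpecialLinearGroup.coe_neg] at h1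
        have e00 := congrFun (congrFun h1 0) 0
        have e10 := congrFun (congrFun h1 1) 0
        simp [upperSL, Matrix.mul_apply, Fin.sum_univ_two] at e00 e10
        have hc : (Y : Matrix (Fin 2) (Fin 2) F) 1 0 = 0 := by
          have : (2 : F) * (Y : Matrix (Fin 2) (Fin 2) F) 1 0 = 0 := by linear_combination e10
          exact (mul_eq_zero.mp this).resolve_left h2
        have ha : (Y : Matrix (Fin 2) (Fin 2) F) 0 0 = 0 := by
          rw [hc] at e00
          have : (2 : F) * (Y : Matrix (Fin 2) (Fin 2) F) 0 0 = 0 := by linear_combination e00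
          exact (mul_eq_zero.mp this).resolve_left h2
        have hdet := Y.2
        rw [Matrix.det_fin_two, hc, ha] at hdet
        simp at hdet
  have h1 := congrArg (fun X : SpecialLinearGroup (Fin 2) F =>
    (X : Matrix (Fin 2) (Fin 2) F)) hcomm
  simp only [Matrix.SpecialLinearGroup.coe_mul] at h1
  have e00 := congrFun (congrFun h1 0) 0
  have e01 := congrFun (congrFun h1 0) 1
  simp [upperSL, Matrix.mul_apply, Fin.sum_univ_two] at e00 e01
  have hc : (Y : Matrix (Fin 2) (Fin 2) F) 1 0 = 0 := by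
    rcases e00 with h | h
    · exact absurd h hy
    · exact h
  have had : (Y : Matrix (Fin 2) (Fin 2) F) 0 0 = (Y : Matrix (Fin 2) (Fin 2) F) 1 1 := by
    have : y * ((Y : Matrix (Fin 2) (Fin 2) F) 1 1 - (Y : Matrix (Fin 2) (Fin 2) F) 0 0) = 0 := by
      linear_combination e01
    rcases mul_eq_zero.mp this with h | h
    · exact absurd h hy
    · exact (sub_eq_zero.mp h).symm
  have hdet := Y.2
  rw [Matrix.det_fin_two, hc, ← had, mul_zero, sub_zero] at hdet
  have hfac : ((Y : Matrix (Fin 2) (Fin 2) F) 0 0 - 1) * ((Y : Matrix (Fin 2) (Fin 2) F) 0 0 + 1)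
      = 0 := by linear_combination hdet
  rcases mul_eq_zero.mp hfac with h | h
  · have ha : (Y : Matrix (Fin 2) (Fin 2) F) 0 0 = 1 := by linear_combination h
    refine ⟨(Y : Matrix (Fin 2) (Fin 2) F) 0 1, ?_⟩
    rw [uG]
    congr 1
    apply Subtype.ext
    ext i j
    fin_cases i <;> fin_cases j <;> simp [upperSL, ha, hc, ← had]
  · have ha : (Y : Matrix (Fin 2) (Fin 2) F) 0 0 = -1 := by linear_combination h
    refine ⟨-(Y : Matrix (Fin 2) (Fin 2) F) 0 1, ?_⟩
    rw [uG, ← psl2_mk_neg]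
    congr 1
    apply Subtype.ext
    ext i j
    fin_cases i <;> fin_cases j <;>
      simp [upperSL, Matrix.SpecialLinearGroup.coe_neg, ha, hc, ← had]

/-- the centralizer of a nontrivial lower root element is the lower root group -/
theorem exists_lG_of_commute (y : F) (hy : y ≠ 0) (g : ProjectiveSpecialLinearGroup (Fin 2) F)
    (h : g * lG y = lG y * g) : ∃ x : F, g = lG x := by
  have hl : lG y = wG F * uG (-y) * (wG F)⁻¹ := by rw [wG_conj_uG, neg_neg]
  have h' : ((wG F)⁻¹ * g * wG F) * uG (-y) = uG (-y) * ((wG F)⁻¹ * g * wG F) := by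
    have h1 : uG (-y) = (wG F)⁻¹ * lG y * wG F := by rw [hl]; group
    rw [h1]
    calc (wG F)⁻¹ * g * wG F * ((wG F)⁻¹ * lG y * wG F)
        = (wG F)⁻¹ * (g * lG y) * wG F := by group
      _ = (wG F)⁻¹ * (lG y * g) * wG F := by rw [h]
      _ = (wG F)⁻¹ * lG y * wG F * ((wG F)⁻¹ * g * wG F) := by group
  obtain ⟨x, hx⟩ := exists_uG_of_commute (-y) (neg_ne_zero.mpr hy) _ h'
  refine ⟨-x, ?_⟩
  rw [← wG_conj_uG, ← hx]
  group

theorem not_commute_lG_uG : ¬ (lG (1 : F) * uG 1 = uG 1 * lG 1) := by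
  intro h
  obtain ⟨x, hx⟩ := exists_uG_of_commute (1 : F) one_ne_zero _ h
  exact uG_ne_lG x 1 one_ne_zero hx.symm

section finite

variable (p : ℕ) [Fact p.Prime] [CharP F p]

theorem orderOf_uG (y : F) (hy : y ≠ 0) : orderOf (uG y) = p := by
  apply orderOf_eq_prime
  · rw [← uG_nsmul, nsmul_eq_mul, CharP.cast_eq_zero, zero_mul, uG_zero]
  · rwa [ne_eq, uG_eq_one_iff]

theorem orderOf_lG (y : F) (hy : y ≠ 0) : orderOf (lG y) = p := by
  apply orderOf_eq_prime
  · rw [← lG_nsmul, nsmul_eq_mul, CharP.cast_eq_zero, zero_mul, lG_zero]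
  · rwa [ne_eq, lG_eq_one_iff]

variable [Fintype F]

/-- elements of order `p` of `PSL₂(q)` are parabolic -/
theorem trace_sq_eq_four_of_orderOf (A : SpecialLinearGroup (Fin 2) F)
    (h : orderOf (QuotientGroup.mk A : ProjectiveSpecialLinearGroup (Fin 2) F) = p) :
    (A : Matrix (Fin 2) (Fin 2) F).trace ^ 2 = 4 := by
  by_contra ht
  have hq1 : 1 ≤ Fintype.card F := Fintype.card_pos
  obtain ⟨-, hdm, hdp⟩ := gcd_two_cases (Fintype.card F) hq1
  obtain ⟨n, -, hn⟩ := FiniteField.card F p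
  have hpq : p ∣ Fintype.card F := by
    rw [hn]
    exact dvd_pow_self p n.ne_zero
  have hp1 : ¬ p ∣ 1 := by
    intro h1
    have := Nat.le_of_dvd one_pos h1
    have := (Fact.out : p.Prime).two_le
    omega
  rcases semisimple_pow p _ A.2 ht with h1 | h1
  · have h2 := orderOf_dvd_of_pow_eq_one ((psl2_mk_pow_eq_one_iff A _).mpr h1)
    rw [h] at h2
    have h3 : p ∣ Fintype.card F - 1 := h2.trans (Nat.div_dvd_of_dvd hdm)
    have h4 := Nat.dvd_sub hpq h3
    rw [show Fintype.card F - (Fintype.card F - 1) = 1 by omega] at h4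
    exact hp1 h4
  · have h2 := orderOf_dvd_of_pow_eq_one ((psl2_mk_pow_eq_one_iff A _).mpr h1)
    rw [h] at h2
    have h3 : p ∣ Fintype.card F + 1 := h2.trans (Nat.div_dvd_of_dvd hdp)
    have h4 := Nat.dvd_sub h3 hpq
    rw [show Fintype.card F + 1 - Fintype.card F = 1 by omega] at h4
    exact hp1 h4

/-- elements of order `p` of `PSL₂(q)` are conjugate to upper root elements -/
theorem exists_conj_uG_of_orderOf (g : ProjectiveSpecialLinearGroup (Fin 2) F)
    (hg : orderOf g = p) :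
    ∃ (c : ProjectiveSpecialLinearGroup (Fin 2) F) (y : F), y ≠ 0 ∧ c * g * c⁻¹ = uG y := by
  obtain ⟨A, rfl⟩ := psl2_exists_rep g
  have htr := trace_sq_eq_four_of_orderOf p A hg
  have hns : ¬ ((A : Matrix (Fin 2) (Fin 2) F) 0 1 = 0 ∧ (A : Matrix (Fin 2) (Fin 2) F) 1 0 = 0 ∧
      (A : Matrix (Fin 2) (Fin 2) F) 0 0 = (A : Matrix (Fin 2) (Fin 2) F) 1 1) := by
    intro hsc
    have h1 := (psl2_mk_eq_one_iff A).mpr (sl2_scalar_eq A hsc)
    rw [h1, orderOf_one] at hg
    have := (Fact.out : p.Prime).two_le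
    omega
  have hfac : ((A : Matrix (Fin 2) (Fin 2) F).trace - 2 * 1) *
      ((A : Matrix (Fin 2) (Fin 2) F).trace - 2 * (-1)) = 0 := by linear_combination htr
  rcases mul_eq_zero.mp hfac with h | h
  · obtain ⟨U, b, hb, hU⟩ := exists_conj_unipSL A 1 (by ring) (by linear_combination h) hns
    refine ⟨QuotientGroup.mk U, b, hb, ?_⟩
    rw [← QuotientGroup.mk_inv, ← QuotientGroup.mk_mul, ← QuotientGroup.mk_mul, hU, uG]
    congr 1
  · obtain ⟨U, b, hb, hU⟩ := exists_conj_unipSL A (-1) (by ring) (by linear_combination h) hns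
    refine ⟨QuotientGroup.mk U, -b, neg_ne_zero.mpr hb, ?_⟩
    rw [← QuotientGroup.mk_inv, ← QuotientGroup.mk_mul, ← QuotientGroup.mk_mul, hU, uG,
      ← psl2_mk_neg]
    congr 1
    have hm : ((-unipSL (-1) b (by ring) : SpecialLinearGroup (Fin 2) F) :
        Matrix (Fin 2) (Fin 2) F) = ((upperSL (-b) : SpecialLinearGroup (Fin 2) F) :
        Matrix (Fin 2) (Fin 2) F) := by
      rw [Matrix.SpecialLinearGroup.coe_neg]
      ext i j
      fin_cases i <;> fin_cases j <;> simp [upperSL, unipSL]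
    exact Subtype.ext hm

end finite

/-- every automorphism of `PSL₂(q)` can be composed with an inner automorphism so as to preserve
the upper and the lower root groups -/
theorem exists_normalize [Fintype F] (p : ℕ) [Fact p.Prime] [CharP F p]
    (α : MulAut (ProjectiveSpecialLinearGroup (Fin 2) F)) :
    ∃ c : ProjectiveSpecialLinearGroup (Fin 2) F,
      (∀ x : F, ∃ y : F, c * α (uG x) * c⁻¹ = uG y) ∧
      (∀ x : F, ∃ y : F, c * α (lG x) * c⁻¹ = lG y) := by
  -- step A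
  have ho1 : orderOf (α (uG (1 : F))) = p := by
    rw [MulEquiv.orderOf_eq]
    exact orderOf_uG p 1 one_ne_zero
  obtain ⟨c₁, y₁, hy₁, hc₁⟩ := exists_conj_uG_of_orderOf p _ ho1
  have hA : ∀ x : F, ∃ y : F, c₁ * α (uG x) * c₁⁻¹ = uG y := by
    intro x
    apply exists_uG_of_commute y₁ hy₁
    rw [← hc₁]
    calc c₁ * α (uG x) * c₁⁻¹ * (c₁ * α (uG 1) * c₁⁻¹)
        = c₁ * (α (uG x) * α (uG 1)) * c₁⁻¹ := by group
      _ = c₁ * (α (uG 1) * α (uG x)) * c₁⁻¹ := by
          rw [← map_mul, ← map_mul, uG_commute]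
      _ = c₁ * α (uG 1) * c₁⁻¹ * (c₁ * α (uG x) * c₁⁻¹) := by group
  -- step B
  have ho2 : orderOf (c₁ * α (lG (1 : F)) * c₁⁻¹) = p := by
    have h1 : c₁ * α (lG (1 : F)) * c₁⁻¹ = MulAut.conj c₁ (α (lG 1)) := by
      rw [MulAut.conj_apply]
    rw [h1, MulEquiv.orderOf_eq, MulEquiv.orderOf_eq]
    exact orderOf_lG p 1 one_ne_zero
  obtain ⟨c₂, y₂, hy₂, hc₂⟩ := exists_conj_uG_of_orderOf p _ ho2
  have hg₂ : c₁ * α (lG (1 : F)) * c₁⁻¹ = c₂⁻¹ * uG y₂ * c₂ := by
    rw [← hc₂]; group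
  obtain ⟨Z, hZ⟩ := psl2_exists_rep c₂⁻¹
  have hc₂' : c₂ = (QuotientGroup.mk Z : ProjectiveSpecialLinearGroup (Fin 2) F)⁻¹ := by
    rw [hZ, inv_inv]
  rw [hc₂', inv_inv] at hg₂
  by_cases hZ10 : (Z : Matrix (Fin 2) (Fin 2) F) 1 0 = 0
  · exfalso
    rw [upperTri_conj_uG Z hZ10] at hg₂
    apply not_commute_lG_uG (F := F)
    apply α.injective
    apply (MulAut.conj c₁).injective
    simp only [map_mul, MulAut.conj_apply]
    rw [hg₂, hc₁, uG_commute]
  · obtain ⟨s, B, hB, hZB⟩ := sl2_bruhat Z hZ10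
    have hconj : (QuotientGroup.mk Z : ProjectiveSpecialLinearGroup (Fin 2) F) * uG y₂ *
        (QuotientGroup.mk Z)⁻¹ =
        uG s * lG (-((B : Matrix (Fin 2) (Fin 2) F) 0 0 ^ 2 * y₂)) * (uG s)⁻¹ := by
      rw [hZB, QuotientGroup.mk_mul, QuotientGroup.mk_mul, ← wG_conj_uG, ← upperTri_conj_uG B hB]
      simp only [uG, wG]
      group
    rw [hconj] at hg₂
    have hy₃ : -((B : Matrix (Fin 2) (Fin 2) F) 0 0 ^ 2 * y₂) ≠ 0 :=
      neg_ne_zero.mpr (mul_ne_zero (pow_ne_zero 2 (upperTri_apply_zero_zero_ne_zero B hB)) hy₂)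
    refine ⟨(uG s)⁻¹ * c₁, ?_, ?_⟩
    · intro x
      obtain ⟨y, hy⟩ := hA x
      refine ⟨y, ?_⟩
      calc (uG s)⁻¹ * c₁ * α (uG x) * ((uG s)⁻¹ * c₁)⁻¹
          = (uG s)⁻¹ * (c₁ * α (uG x) * c₁⁻¹) * uG s := by group
        _ = (uG s)⁻¹ * (uG y * uG s) := by rw [hy, mul_assoc]
        _ = uG y := by rw [uG_commute, inv_mul_cancel_left]
    · intro x
      apply exists_lG_of_commute _ hy₃
      have h1 : lG (-((B : Matrix (Fin 2) (Fin 2) F) 0 0 ^ 2 * y₂)) =
          (uG s)⁻¹ * c₁ * α (lG 1) * ((uG s)⁻¹ * c₁)⁻¹ := by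
        calc lG (-((B : Matrix (Fin 2) (Fin 2) F) 0 0 ^ 2 * y₂))
            = (uG s)⁻¹ * (uG s * lG (-((B : Matrix (Fin 2) (Fin 2) F) 0 0 ^ 2 * y₂)) *
                (uG s)⁻¹) * uG s := by group
          _ = (uG s)⁻¹ * (c₁ * α (lG 1) * c₁⁻¹) * uG s := by rw [hg₂]
          _ = (uG s)⁻¹ * c₁ * α (lG 1) * ((uG s)⁻¹ * c₁)⁻¹ := by group
      rw [h1]
      calc (uG s)⁻¹ * c₁ * α (lG x) * ((uG s)⁻¹ * c₁)⁻¹ *
            ((uG s)⁻¹ * c₁ * α (lG 1) * ((uG s)⁻¹ * c₁)⁻¹)
          = (uG s)⁻¹ * c₁ * (α (lG x) * α (lG 1)) * ((uG s)⁻¹ * c₁)⁻¹ := by group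
        _ = (uG s)⁻¹ * c₁ * (α (lG 1) * α (lG x)) * ((uG s)⁻¹ * c₁)⁻¹ := by
            rw [← map_mul, ← map_mul, lG_commute]
        _ = (uG s)⁻¹ * c₁ * α (lG 1) * ((uG s)⁻¹ * c₁)⁻¹ *
            ((uG s)⁻¹ * c₁ * α (lG x) * ((uG s)⁻¹ * c₁)⁻¹) := by group

end Cfsg.Agent.Helper41
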