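import Mathlib
import Cfsg.Agent.Lib.Helper41.PSL2Gens

set_option autoImplicit false

/-!
# Dickson, part B (algebraic core)

For a subgroup `L ≤ SL₂(F)` let `A = {α | u(α) ∈ L}` and `B = {β | l(β) ∈ L}` (upper and lower
root elements).  If every unipotent element of `L` not fixing `∞` fixes a point of `A`
(which holds when `L` has exactly `|A| + 1` Sylow `p`-subgroups), then `A = a K`, `B = a⁻¹ K` for a
subfield `K` of `F`.
-/

namespace Cfsg.Agent.Helper41

open Matrix

section algebra

variable {F : Type*} [Field F]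

/-- An additive subgroup `A` of a finite field containing `a ≠ 0` and closed under
`(x, y) ↦ x² / y` is `a K` for a subfield `K`. -/
theorem exists_subfield_of_sq_div_closed [Finite F] (A : AddSubgroup F) (a : F) (ha : a ∈ A)
    (ha0 : a ≠ 0)
    (hcl : ∀ x ∈ A, ∀ y ∈ A, x ≠ 0 → y ≠ 0 → x ^ 2 / y ∈ A) :
    ∃ K : Subfield F, ∀ x : F, x ∈ K ↔ a * x ∈ A := by
  classical
  -- the additive subgroup `K' = a⁻¹ A`
  let K' : AddSubgroup F :=
    { carrier := {x | a * x ∈ A}
      zero_mem' := by simp
      add_mem' := by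
        intro x y hx hy
        simp only [Set.mem_setOf_eq] at hx hy ⊢
        rw [mul_add]
        exact A.add_mem hx hy
      neg_mem' := by
        intro x hx
        simp only [Set.mem_setOf_eq] at hx ⊢
        rw [mul_neg]
        exact A.neg_mem hx }
  have hmem : ∀ x, x ∈ K' ↔ a * x ∈ A := fun x => Iff.rfl
  have h1 : (1 : F) ∈ K' := by rw [hmem, mul_one]; exact ha
  have hkey : ∀ x ∈ K', ∀ y ∈ K', x ≠ 0 → y ≠ 0 → x ^ 2 / y ∈ K' := by
    intro x hx y hy hx0 hy0
    rw [hmem] at hx hy ⊢
    have := hcl (a * x) hx (a * y) hy (mul_ne_zero ha0 hx0) (mul_ne_zero ha0 hy0)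
    have e : (a * x) ^ 2 / (a * y) = a * (x ^ 2 / y) := by
      field_simp
    rwa [e] at this
  have hinv : ∀ y ∈ K', y⁻¹ ∈ K' := by
    intro y hy
    by_cases hy0 : y = 0
    · rw [hy0, _root_.inv_zero]; exact K'.zero_mem
    · have := hkey 1 h1 y hy one_ne_zero hy0
      rwa [one_pow, one_div] at this
  have hsqmul : ∀ x ∈ K', ∀ y ∈ K', x ^ 2 * y ∈ K' := by
    intro x hx y hy
    by_cases hx0 : x = 0
    · rw [hx0]; simp [K'.zero_mem]
    by_cases hy0 : y = 0
    · rw [hy0]; simp [K'.zero_mem]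
    have := hkey x hx y⁻¹ (hinv y hy) hx0 (inv_ne_zero hy0)
    rwa [div_inv_eq_mul] at this
  have hmul : ∀ x ∈ K', ∀ y ∈ K', x * y ∈ K' := by
    intro x hx y hy
    by_cases h2 : (2 : F) = 0
    · -- characteristic two: squaring is a bijection of `K'`
      have hsq : ∀ t ∈ K', t ^ 2 ∈ K' := by
        intro t ht
        have := hsqmul t ht 1 h1
        rwa [mul_one] at this
      let f : K' → K' := fun t => ⟨(t : F) ^ 2, hsq t t.2⟩
      have hf : Function.Injective f := by
        intro s t hst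
        have h := congrArg Subtype.val hst
        simp only [f] at h
        apply Subtype.ext
        have h' : ((s : F) - t) ^ 2 = 0 := by
          linear_combination h + ((t : F) ^ 2 - (s : F) * t) * h2
        have := pow_eq_zero_iff (two_ne_zero) |>.mp h'
        exact sub_eq_zero.mp this
      have hfs : Function.Surjective f := Finite.injective_iff_surjective.mp hf
      obtain ⟨t, ht⟩ := hfs ⟨x, hx⟩
      have htx : (t : F) ^ 2 = x := congrArg Subtype.val ht
      rw [← htx]
      exact hsqmul t t.2 y hy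
    · -- odd characteristic
      have h2xy : 2 * (x * y) ∈ K' := by
        have e : 2 * (x * y) = (x + 1) ^ 2 * y - x ^ 2 * y - y := by ring
        rw [e]
        exact K'.sub_mem (K'.sub_mem (hsqmul (x + 1) (K'.add_mem hx h1) y hy) (hsqmul x hx y hy)) hy
      obtain ⟨p, hp⟩ := CharP.exists F
      haveI := hp
      have hpp : p.Prime := by
        rcases CharP.char_is_prime_or_zero F p with h | h
        · exact h
        · exfalso
          haveI : CharP F 0 := h ▸ hp
          haveI : CharZero F := CharP.charP_to_charZero F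
          exact not_finite F
      have hp2 : p ≠ 2 := by
        intro h
        apply h2
        have : ((2 : ℕ) : F) = 0 := by rw [← h]; exact CharP.cast_eq_zero F p
        exact_mod_cast this
      have hodd : Odd p := hpp.odd_of_ne_two hp2
      obtain ⟨k, hk⟩ := hodd
      have : (k + 1) • (2 * (x * y)) ∈ K' := K'.nsmul_mem h2xy (k + 1)
      have e : (k + 1) • (2 * (x * y)) = x * y := by
        rw [nsmul_eq_mul]
        have hpz : ((p : ℕ) : F) = 0 := CharP.cast_eq_zero F p
        rw [hk] at hpz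
        push_cast at hpz ⊢
        linear_combination (x * y) * hpz
      rwa [e] at this
  refine ⟨{ carrier := K'
            mul_mem' := fun {x y} hx hy => hmul x hx y hy
            one_mem' := h1
            add_mem' := fun {x y} hx hy => K'.add_mem hx hy
            zero_mem' := K'.zero_mem
            neg_mem' := fun {x} hx => K'.neg_mem hx
            inv_mem' := fun x hx => hinv x hx }, ?_⟩
  intro x
  exact Iff.rfl

end algebra

section core

variable {F : Type*} [Field F]

/-- parameters of the upper root elements lying in `L` -/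
def rootSetU (L : Subgroup (SpecialLinearGroup (Fin 2) F)) : AddSubgroup F where
  carrier := {α | upperSL α ∈ L}
  zero_mem' := by
    show upperSL (0 : F) ∈ L
    rw [upperSL_zero]; exact L.one_mem
  add_mem' := by
    intro x y hx hy
    show upperSL (x + y) ∈ L
    rw [← upperSL_mul]; exact L.mul_mem hx hy
  neg_mem' := by
    intro x hx
    show upperSL (-x) ∈ L
    rw [← upperSL_inv]; exact L.inv_mem hx

/-- parameters of the lower root elements lying in `L` -/
def rootSetL (L : Subgroup (SpecialLinearGroup (Fin 2) F)) : AddSubgroup F where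
  carrier := {β | lowerSL β ∈ L}
  zero_mem' := by
    show lowerSL (0 : F) ∈ L
    rw [lowerSL_zero]; exact L.one_mem
  add_mem' := by
    intro x y hx hy
    show lowerSL (x + y) ∈ L
    rw [← lowerSL_mul]; exact L.mul_mem hx hy
  neg_mem' := by
    intro x hx
    show lowerSL (-x) ∈ L
    rw [← lowerSL_inv]; exact L.inv_mem hx

theorem mem_rootSetU (L : Subgroup (SpecialLinearGroup (Fin 2) F)) (α : F) :
    α ∈ rootSetU L ↔ upperSL α ∈ L := Iff.rfl

theorem mem_rootSetL (L : Subgroup (SpecialLinearGroup (Fin 2) F)) (β : F) :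
    β ∈ rootSetL L ↔ lowerSL β ∈ L := Iff.rfl

/-- the conjugate `l(β) u(α) l(β)⁻¹` -/
theorem lower_conj_upper_apply (α β : F) :
    ((lowerSL β * upperSL α * (lowerSL β)⁻¹ : SpecialLinearGroup (Fin 2) F) :
      Matrix (Fin 2) (Fin 2) F) = !![1 - α * β, α; -(β ^ 2 * α), 1 + α * β] := by
  rw [lowerSL_inv, Matrix.SpecialLinearGroup.coe_mul, Matrix.SpecialLinearGroup.coe_mul]
  ext i j
  fin_cases i <;> fin_cases j <;>
    simp [upperSL, lowerSL, Matrix.mul_apply, Fin.sum_univ_two] <;> ring

theorem wSL_conj_upperSL (t : F) (ht : t ≠ 0) (x : F) :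
    wSL t ht * upperSL x * (wSL t ht)⁻¹ = lowerSL (-x / t ^ 2) := by
  rw [wSL_mul_upperSL, mul_assoc, mul_inv_cancel, mul_one]

/-- **Dickson, part B (core)**: structure of the root parameter sets. -/
theorem rootSets_eq_of_fix [Finite F] (L : Subgroup (SpecialLinearGroup (Fin 2) F))
    (α0 : F) (hα0 : α0 ∈ rootSetU L) (hα00 : α0 ≠ 0)
    (hfix : ∀ y ∈ L, (y : Matrix (Fin 2) (Fin 2) F).trace = 2 →
      (y : Matrix (Fin 2) (Fin 2) F) 1 0 ≠ 0 →
      ∃ α ∈ rootSetU L, (y : Matrix (Fin 2) (Fin 2) F) 1 0 * α +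
        (y : Matrix (Fin 2) (Fin 2) F) 1 1 = 1)
    (hcard : Nat.card (rootSetU L) = Nat.card (rootSetL L)) :
    ∃ (K : Subfield F) (a : F), a ≠ 0 ∧ (∀ x, x ∈ rootSetU L ↔ ∃ k ∈ K, x = a * k) ∧
      (∀ x, x ∈ rootSetL L ↔ ∃ k ∈ K, x = a⁻¹ * k) := by
  -- S1 : `β ∈ B ⇒ β⁻¹ ∈ A`
  have S1 : ∀ β ∈ rootSetL L, β⁻¹ ∈ rootSetU L := by
    intro β hβ
    by_cases hβ0 : β = 0
    · rw [hβ0, _root_.inv_zero]; exact (rootSetU L).zero_mem
    have hyL : lowerSL β * upperSL α0 * (lowerSL β)⁻¹ ∈ L :=
      L.mul_mem (L.mul_mem hβ hα0) (L.inv_mem hβ)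
    have hmat := lower_conj_upper_apply α0 β
    obtain ⟨α, hαA, hα⟩ := hfix _ hyL
      (by rw [hmat, Matrix.trace_fin_two_of]; ring)
      (by
        rw [hmat]
        simp only [Matrix.of_apply, Matrix.cons_val', Matrix.cons_val_zero, Matrix.cons_val_one]
        exact neg_ne_zero.mpr (mul_ne_zero (pow_ne_zero 2 hβ0) hα00))
    rw [hmat] at hα
    simp only [Matrix.of_apply, Matrix.cons_val', Matrix.cons_val_zero, Matrix.cons_val_one] at hα
    have h1 : α0 * β * (1 - β * α) = 0 := by linear_combination hα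
    have h2 : 1 - β * α = 0 := by
      rcases mul_eq_zero.mp h1 with h | h
      · exact absurd h (mul_ne_zero hα00 hβ0)
      · exact h
    have h3 : α = β⁻¹ := by
      field_simp
      linear_combination -h2
    rwa [← h3]
  -- S2 : `α ∈ A ⇒ α⁻¹ ∈ B`
  have S2 : ∀ α ∈ rootSetU L, α⁻¹ ∈ rootSetL L := by
    let f : rootSetL L → rootSetU L := fun β => ⟨(β : F)⁻¹, S1 β β.2⟩
    have hf : Function.Injective f := by
      intro s t hst
      have := congrArg Subtype.val hst
      simp only [f] at this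
      exact Subtype.ext (inv_injective this)
    have hbij : Function.Bijective f := hf.bijective_of_nat_card_le (le_of_eq hcard)
    intro α hα
    obtain ⟨β, hβ⟩ := hbij.2 ⟨α, hα⟩
    have : (β : F)⁻¹ = α := congrArg Subtype.val hβ
    rw [← this, inv_inv]
    exact β.2
  -- S3 : closure under `α² / γ`
  have S3 : ∀ α ∈ rootSetU L, ∀ γ ∈ rootSetU L, α ≠ 0 → γ ≠ 0 → α ^ 2 / γ ∈ rootSetU L := by
    intro α hα γ hγ hα0' hγ0
    have hw : wSL α hα0' ∈ L := by
      rw [← upper_lower_upper]
      exact L.mul_mem (L.mul_mem hα ((rootSetL L).neg_mem (S2 α hα))) hα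
    have hl : lowerSL (-γ / α ^ 2) ∈ L := by
      rw [← wSL_conj_upperSL α hα0' γ]
      exact L.mul_mem (L.mul_mem hw hγ) (L.inv_mem hw)
    have h1 : γ / α ^ 2 ∈ rootSetL L := by
      have := (rootSetL L).neg_mem hl
      rwa [neg_div, neg_neg] at this
    have := S1 _ h1
    rwa [inv_div] at this
  obtain ⟨K, hK⟩ := exists_subfield_of_sq_div_closed (rootSetU L) α0 hα0 hα00 S3
  refine ⟨K, α0, hα00, ?_, ?_⟩
  · intro x
    constructor
    · intro hx
      refine ⟨α0⁻¹ * x, ?_, by field_simp⟩
      rw [hK]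
      rwa [mul_inv_cancel_left₀ hα00]
    · rintro ⟨k, hk, rfl⟩
      exact (hK k).mp hk
  · intro x
    constructor
    · intro hx
      by_cases hx0 : x = 0
      · exact ⟨0, K.zero_mem, by rw [hx0, mul_zero]⟩
      · have h1 := S1 x hx
        refine ⟨(α0⁻¹ * x⁻¹)⁻¹, K.inv_mem ?_, by field_simp⟩
        rw [hK]
        rwa [mul_inv_cancel_left₀ hα00]
    · rintro ⟨k, hk, rfl⟩
      by_cases hk0 : k = 0
      · rw [hk0, mul_zero]; exact (rootSetL L).zero_mem
      · have h1 : α0 * k⁻¹ ∈ rootSetU L := (hK _).mp (K.inv_mem hk)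
        have := S2 _ h1
        rwa [mul_inv, inv_inv] at this

end core

end Cfsg.Agent.Helper41
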