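import Mathlib
import Cfsg.Agent.Lib.Helper41.SL2
import Cfsg.Agent.Lib.Helper41.SL2Commutant

set_option autoImplicit false

/-!
# Normalizers of semisimple abelian subgroups of `SL₂(F)`

* `eq_or_eq_inv_of_commute_trace`: commuting `x w ∈ SL₂(F)` of equal trace, with `w x`
  of order prime to the characteristic, satisfy `w = x ∨ w = x⁻¹`.
* `normalizer_le_centralizer_of_odd`: in a finite group `K` of odd order embedded in `SL₂(F)`,
  a Sylow `r`-subgroup (`r ≠ char F`) satisfies `N(R) ≤ C(R)`.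
* `sylow_char_unique_of_odd`: a finite group of odd order embedded in `SL₂(F)` has a unique Sylow
  `p`-subgroup (`p = char F`).
-/

namespace Cfsg.Agent.Helper41

open Matrix

section basic

variable {F : Type*} [Field F]

/-- `x + x⁻¹ = tr x` in `SL₂`. -/
theorem coe_add_coe_inv (x : Matrix.SpecialLinearGroup (Fin 2) F) :
    (x : Matrix (Fin 2) (Fin 2) F) + ((x⁻¹ : Matrix.SpecialLinearGroup (Fin 2) F) : Matrix (Fin 2) (Fin 2) F)
      = (x : Matrix (Fin 2) (Fin 2) F).trace • (1 : Matrix (Fin 2) (Fin 2) F) := by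
  rw [Matrix.SpecialLinearGroup.coe_inv, Matrix.adjugate_fin_two]
  ext i j
  fin_cases i <;> fin_cases j <;> simp [Matrix.trace_fin_two] <;> ring

/-- `(M - 1)^2 = 0` implies `M ^ p = 1` in characteristic `p`. -/
theorem pow_char_eq_one_of_sub_one_sq (p : ℕ) [Fact p.Prime] [CharP F p]
    (M : Matrix (Fin 2) (Fin 2) F) (h : (M - 1) ^ 2 = 0) : M ^ p = 1 := by
  have : CharP (Matrix (Fin 2) (Fin 2) F) p := Matrix.charP p
  have hp2 : 2 ≤ p := (Fact.out : p.Prime).two_le
  have h1 : (M - 1) ^ p = 0 := by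
    obtain ⟨k, hk⟩ := Nat.exists_eq_add_of_le hp2
    rw [hk, pow_add, h, zero_mul]
  rw [sub_pow_char_of_commute p (Commute.one_right M), one_pow, sub_eq_zero] at h1
  exact h1

/-- An element `B` of `SL₂(F)` with `B - 1` singular and of order prime to `p` is trivial. -/
theorem eq_one_of_det_sub_one (p : ℕ) [Fact p.Prime] [CharP F p]
    (B : Matrix.SpecialLinearGroup (Fin 2) F) (n : ℕ) (hn : n.Coprime p) (hB : B ^ n = 1)
    (hdet : ((B : Matrix (Fin 2) (Fin 2) F) - 1).det = 0) : B = 1 := by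
  have hB1 : (B : Matrix (Fin 2) (Fin 2) F).det = 1 := B.2
  have htr : (B : Matrix (Fin 2) (Fin 2) F).trace = 2 := by
    rw [Matrix.det_fin_two] at hdet hB1
    rw [Matrix.trace_fin_two]
    simp only [Matrix.sub_apply, Matrix.one_apply_eq, Matrix.one_apply_ne, ne_eq, zero_ne_one,
      not_false_eq_true, one_ne_zero, sub_zero] at hdet
    linear_combination hB1 - hdet
  have hsq : ((B : Matrix (Fin 2) (Fin 2) F) - 1) ^ 2 = 0 := by
    rw [(Commute.one_right _).sub_sq, sq_eq_of_det_one _ hB1, htr]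
    simp only [one_pow, mul_one]
    rw [two_smul, two_mul]
    abel
  have hp : B ^ p = 1 := by
    apply Subtype.ext
    rw [Matrix.SpecialLinearGroup.coe_pow, Matrix.SpecialLinearGroup.coe_one]
    exact pow_char_eq_one_of_sub_one_sq p _ hsq
  have := pow_gcd_eq_one.mpr ⟨hB, hp⟩
  rwa [Nat.Coprime.gcd_eq_one hn, pow_one] at this

/-- Commuting elements `x, w` of `SL₂(F)` of the same trace with `w x⁻¹`, `w x` of order prime
to the characteristic are equal or inverse to each other. -/
theorem eq_or_eq_inv_of_commute_trace (p : ℕ) [Fact p.Prime] [CharP F p]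
    (x w : Matrix.SpecialLinearGroup (Fin 2) F) (hc : w * x = x * w)
    (htr : (w : Matrix (Fin 2) (Fin 2) F).trace = (x : Matrix (Fin 2) (Fin 2) F).trace)
    (n : ℕ) (hn : n.Coprime p) (h2 : (w * x) ^ n = 1) :
    w = x ∨ w = x⁻¹ := by
  have hw1 : (w : Matrix (Fin 2) (Fin 2) F).det = 1 := w.2
  have hc' : x⁻¹ * w = w * x⁻¹ := by
    rw [inv_mul_eq_iff_eq_mul, ← mul_assoc, ← hc, mul_assoc, mul_inv_cancel, mul_one]
  have hAB : (w * x⁻¹) * (w * x) = w * w := by
    rw [mul_assoc, ← mul_assoc x⁻¹, hc', mul_assoc w x⁻¹, inv_mul_cancel, mul_one]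
  have key : (((w * x⁻¹ : Matrix.SpecialLinearGroup (Fin 2) F) : Matrix (Fin 2) (Fin 2) F) - 1) *
      (((w * x : Matrix.SpecialLinearGroup (Fin 2) F) : Matrix (Fin 2) (Fin 2) F) - 1) = 0 := by
    have e1 : ((w * x⁻¹ : Matrix.SpecialLinearGroup (Fin 2) F) : Matrix (Fin 2) (Fin 2) F) *
        ((w * x : Matrix.SpecialLinearGroup (Fin 2) F) : Matrix (Fin 2) (Fin 2) F) =
        (w : Matrix (Fin 2) (Fin 2) F) ^ 2 := by
      rw [← Matrix.SpecialLinearGroup.coe_mul, hAB, Matrix.SpecialLinearGroup.coe_mul, pow_two]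
    have e2 : ((w * x⁻¹ : Matrix.SpecialLinearGroup (Fin 2) F) : Matrix (Fin 2) (Fin 2) F) +
        ((w * x : Matrix.SpecialLinearGroup (Fin 2) F) : Matrix (Fin 2) (Fin 2) F) =
        (w : Matrix (Fin 2) (Fin 2) F).trace • (w : Matrix (Fin 2) (Fin 2) F) := by
      rw [Matrix.SpecialLinearGroup.coe_mul, Matrix.SpecialLinearGroup.coe_mul, ← Matrix.mul_add,
        add_comm, coe_add_coe_inv, htr, Matrix.mul_smul, Matrix.mul_one]
    rw [sub_mul, mul_sub, mul_sub, mul_one, one_mul, mul_one, e1, sq_eq_of_det_one _ hw1]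
    rw [← e2]
    abel
  by_cases hdet : (((w * x : Matrix.SpecialLinearGroup (Fin 2) F) : Matrix (Fin 2) (Fin 2) F) - 1).det = 0
  · right
    have := eq_one_of_det_sub_one p (w * x) n hn h2 hdet
    exact eq_inv_of_mul_eq_one_left this
  · left
    have hunit : IsUnit (((w * x : Matrix.SpecialLinearGroup (Fin 2) F) : Matrix (Fin 2) (Fin 2) F) - 1) := by
      rw [Matrix.isUnit_iff_isUnit_det]
      exact isUnit_iff_ne_zero.mpr hdet
    have h0 : ((w * x⁻¹ : Matrix.SpecialLinearGroup (Fin 2) F) : Matrix (Fin 2) (Fin 2) F) - 1 = 0 := by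
      obtain ⟨u, hu⟩ := hunit
      rw [← hu] at key
      exact (Units.mul_left_eq_zero u).mp key
    have h3 : w * x⁻¹ = 1 := by
      apply Subtype.ext
      rw [Matrix.SpecialLinearGroup.coe_one]
      exact sub_eq_zero.mp h0
    exact mul_inv_eq_one.mp h3

/-- If `g x g⁻¹` commutes with `x`, and `g x g⁻¹ x^{±1}` have order prime to `p`,
then `g²` commutes with `x`. -/
theorem sq_commute_of_conj (p : ℕ) [Fact p.Prime] [CharP F p]
    (g x : Matrix.SpecialLinearGroup (Fin 2) F) (hc : (g * x * g⁻¹) * x = x * (g * x * g⁻¹))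
    (n : ℕ) (hn : n.Coprime p)
    (h2 : ((g * x * g⁻¹) * x) ^ n = 1) : (g * g) * x = x * (g * g) := by
  have htr : ((g * x * g⁻¹ : Matrix.SpecialLinearGroup (Fin 2) F) : Matrix (Fin 2) (Fin 2) F).trace =
      (x : Matrix (Fin 2) (Fin 2) F).trace := by
    rw [Matrix.SpecialLinearGroup.coe_mul, Matrix.trace_mul_comm, ← Matrix.SpecialLinearGroup.coe_mul,
      ← mul_assoc, inv_mul_cancel, one_mul]
  rcases eq_or_eq_inv_of_commute_trace p x (g * x * g⁻¹) hc htr n hn h2 with h | h
  · have h' : g * x = x * g := by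
      have := congrArg (· * g) h
      simpa [mul_assoc] using this
    rw [mul_assoc, h', ← mul_assoc, h', mul_assoc]
  · have h' : g * x = x⁻¹ * g := by
      have := congrArg (· * g) h
      simpa [mul_assoc] using this
    have h'' : g * x⁻¹ = x * g := by
      have : g = x * g * x := by
        rw [mul_assoc, h', ← mul_assoc, mul_inv_cancel, one_mul]
      calc g * x⁻¹ = (x * g * x) * x⁻¹ := by rw [← this]
        _ = x * g := by rw [mul_assoc, mul_inv_cancel, mul_one]
    rw [mul_assoc, h', ← mul_assoc, h'', mul_assoc]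

/-- An element of odd order whose square commutes with `x` commutes with `x`. -/
theorem commute_of_sq_commute_of_odd {G : Type*} [Group G] (g x : G) (m : ℕ) (hm : Odd m)
    (hg : g ^ m = 1) (h : (g * g) * x = x * (g * g)) : g * x = x * g := by
  obtain ⟨k, rfl⟩ := hm
  have hgk : g = (g * g) ^ (k + 1) := by
    rw [← pow_two, ← pow_mul]
    have : 2 * (k + 1) = (2 * k + 1) + 1 := by ring
    rw [this, pow_succ, hg, one_mul]
  have hcomm : Commute (g * g) x := h
  have := (hcomm.pow_left (k + 1)).eq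
  rw [← hgk] at this
  exact this

/-- An element of `SL₂(F)` different from `±1` is not scalar. -/
theorem nonscalar_of_ne (z : Matrix.SpecialLinearGroup (Fin 2) F) (h2 : z * z ≠ 1) :
    ¬ ((z : Matrix (Fin 2) (Fin 2) F) 0 1 = 0 ∧ (z : Matrix (Fin 2) (Fin 2) F) 1 0 = 0 ∧
      (z : Matrix (Fin 2) (Fin 2) F) 0 0 = (z : Matrix (Fin 2) (Fin 2) F) 1 1) := by
  rintro ⟨h01, h10, h00⟩
  apply h2
  have hdet : (z : Matrix (Fin 2) (Fin 2) F).det = 1 := z.2
  rw [Matrix.det_fin_two, h01, h00] at hdet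
  apply Subtype.ext
  rw [Matrix.SpecialLinearGroup.coe_mul, Matrix.SpecialLinearGroup.coe_one]
  ext i j
  fin_cases i <;> fin_cases j <;>
    simp [Matrix.mul_apply, Fin.sum_univ_two, h01, h10, h00] <;> linear_combination hdet

/-- In `SL₂(F)`, elements commuting with a non-scalar element commute with each other. -/
theorem commute_of_commute_nonscalar_sl (z g y : Matrix.SpecialLinearGroup (Fin 2) F)
    (h2 : z * z ≠ 1) (hg : z * g = g * z) (hy : z * y = y * z) : g * y = y * g := by
  apply Subtype.ext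
  rw [Matrix.SpecialLinearGroup.coe_mul, Matrix.SpecialLinearGroup.coe_mul]
  apply commute_of_commute_nonscalar _ _ _ (nonscalar_of_ne z h2)
  · rw [← Matrix.SpecialLinearGroup.coe_mul, hg, Matrix.SpecialLinearGroup.coe_mul]
  · rw [← Matrix.SpecialLinearGroup.coe_mul, hy, Matrix.SpecialLinearGroup.coe_mul]

end basic

section oddorder

variable {F : Type*} [Field F]

/-- In a finite group `K` of odd order embedded in `SL₂(F)`, `char F = p`, a Sylow `r`-subgroup
for a prime `r ≠ p` satisfies `N_K(R) ≤ C_K(R)`. -/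
theorem normalizer_le_centralizer_of_odd (p : ℕ) [Fact p.Prime] [CharP F p]
    {K : Type*} [Group K] [Finite K] (hodd : Odd (Nat.card K))
    (φ : K →* Matrix.SpecialLinearGroup (Fin 2) F) (hφ : Function.Injective φ)
    (r : ℕ) [Fact r.Prime] (hr : r ≠ p) (R : Sylow r K) :
    Subgroup.normalizer (R : Set K) ≤ Subgroup.centralizer (R : Set K) := by
  intro g hg
  rw [Subgroup.mem_centralizer_iff]
  intro y hy
  have hyR : y ∈ (R : Subgroup K) := hy
  by_cases hbot : (R : Subgroup K) = ⊥
  · rw [hbot, Subgroup.mem_bot] at hyR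
    rw [hyR, one_mul, mul_one]
  haveI : Nontrivial (R : Subgroup K) := (Subgroup.nontrivial_iff_ne_bot _).mpr hbot
  have hcen : Nontrivial (Subgroup.center (R : Subgroup K)) :=
    IsPGroup.center_nontrivial R.isPGroup'
  obtain ⟨⟨z, hzc⟩, hz1⟩ := exists_ne (1 : Subgroup.center (R : Subgroup K))
  have hz1' : (z : K) ≠ 1 := by
    intro h
    apply hz1
    apply Subtype.ext
    apply Subtype.ext
    exact h
  have hzR : (z : K) ∈ (R : Subgroup K) := z.2
  have hzcen : ∀ u : K, u ∈ (R : Subgroup K) → u * (z : K) = (z : K) * u := by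
    intro u hu
    have := Subgroup.mem_center_iff.mp hzc ⟨u, hu⟩
    exact congrArg Subtype.val this
  set z0 : K := (z : K) with hz0
  have hm : ∀ k : K, k ^ Nat.card K = 1 := fun k => pow_card_eq_one'
  have hcop2 : Nat.Coprime 2 (Nat.card K) :=
    (Nat.Prime.coprime_iff_not_dvd Nat.prime_two).mpr hodd.not_two_dvd_nat
  have hz2 : z0 * z0 ≠ 1 := by
    intro h
    apply hz1'
    have h2 : z0 ^ 2 = 1 := by rw [pow_two, h]
    have := pow_gcd_eq_one.mpr ⟨h2, hm z0⟩
    rwa [Nat.Coprime.gcd_eq_one hcop2, pow_one] at this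
  have hZ2 : φ z0 * φ z0 ≠ 1 := by
    intro h
    apply hz2
    apply hφ
    rw [map_mul, h, map_one]
  have hwR : g * z0 * g⁻¹ ∈ (R : Subgroup K) :=
    (Subgroup.mem_set_normalizer_iff.mp hg z0).mp hzR
  have hc : (g * z0 * g⁻¹) * z0 = z0 * (g * z0 * g⁻¹) := hzcen _ hwR
  obtain ⟨e, he⟩ := IsPGroup.iff_card.mp R.isPGroup'
  have hcop : (r ^ e).Coprime p :=
    Nat.Coprime.pow_left e ((Nat.coprime_primes Fact.out Fact.out).mpr hr)
  have hpow : ((g * z0 * g⁻¹) * z0) ^ (r ^ e) = 1 := by
    have hmem : (g * z0 * g⁻¹) * z0 ∈ (R : Subgroup K) := mul_mem hwR hzR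
    have h1 : (⟨(g * z0 * g⁻¹) * z0, hmem⟩ : (R : Subgroup K)) ^ (r ^ e) = 1 := by
      rw [← he]; exact pow_card_eq_one'
    have := congrArg Subtype.val h1
    simpa using this
  have hsq := sq_commute_of_conj p (φ g) (φ z0)
    (by
      have := congrArg φ hc
      simpa only [map_mul, map_inv] using this)
    (r ^ e) hcop
    (by
      have := congrArg φ hpow
      simpa only [map_mul, map_inv, map_pow, map_one] using this)
  have hgz : φ g * φ z0 = φ z0 * φ g :=
    commute_of_sq_commute_of_odd (φ g) (φ z0) (Nat.card K) hodd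
      (by rw [← map_pow, hm g, map_one]) hsq
  have hyz : φ z0 * φ y = φ y * φ z0 := by
    rw [← map_mul, ← map_mul, hzcen y hyR]
  have hfin := commute_of_commute_nonscalar_sl (φ z0) (φ g) (φ y) hZ2 hgz.symm hyz
  apply hφ
  rw [map_mul, map_mul, hfin]

/-- A finite group of odd order embedded in `SL₂(F)`, `char F = p`, has a unique Sylow
`p`-subgroup. -/
theorem sylow_char_unique_of_odd (p : ℕ) [Fact p.Prime] [CharP F p]
    {K : Type*} [Group K] [Finite K] (hodd : Odd (Nat.card K))
    (φ : K →* Matrix.SpecialLinearGroup (Fin 2) F) (hφ : Function.Injective φ)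
    (P Q : Sylow p K) : P = Q := by
  set W : Subgroup K := (P : Subgroup K) ⊔ (Q : Subgroup K) with hW
  have hWp : IsPGroup p W := by
    have hcard : ∀ r : ℕ, r.Prime → r ∣ Nat.card W → r = p := by
      intro r hrp hrW
      by_contra hne
      haveI : Fact r.Prime := ⟨hrp⟩
      have R : Sylow r K := default
      have hNC := normalizer_le_centralizer_of_odd p hodd φ hφ r hne R
      have hker : W ≤ (MonoidHom.transferSylow R hNC).ker := by
        have aux : ∀ P' : Sylow p K,
            (P' : Subgroup K) ≤ (MonoidHom.transferSylow R hNC).ker := by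
          intro P' x hx
          rw [MonoidHom.mem_ker]
          obtain ⟨k, hk⟩ := P'.isPGroup' ⟨x, hx⟩
          have hk' : x ^ (p ^ k) = 1 := by simpa using congrArg Subtype.val hk
          have h1 : (MonoidHom.transferSylow R hNC x) ^ (p ^ k) = 1 := by
            rw [← map_pow, hk', map_one]
          obtain ⟨e, he⟩ := IsPGroup.iff_card.mp R.isPGroup'
          have h2 : (MonoidHom.transferSylow R hNC x) ^ (r ^ e) = 1 := by
            rw [← he]; exact pow_card_eq_one'
          have := pow_gcd_eq_one.mpr ⟨h1, h2⟩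
          have hcop : (p ^ k).Coprime (r ^ e) :=
            Nat.Coprime.pow k e ((Nat.coprime_primes Fact.out Fact.out).mpr (Ne.symm hne))
          rwa [Nat.Coprime.gcd_eq_one hcop, pow_one] at this
        exact sup_le (aux P) (aux Q)
      have := Subgroup.card_dvd_of_le hker
      exact MonoidHom.not_dvd_card_ker_transferSylow R hNC (hrW.trans this)
    have := Nat.eq_prime_pow_of_unique_prime_dvd (Nat.card_pos.ne')
      (fun {d} hd hdvd => hcard d hd hdvd)
    exact IsPGroup.of_card this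
  have h1 : W = P := P.is_maximal' hWp le_sup_left
  have h2 : W = Q := Q.is_maximal' hWp le_sup_right
  exact Sylow.ext (h1.symm.trans h2)

end oddorder

end Cfsg.Agent.Helper41
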