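import Mathlib
import Cfsg.Agent.Lib.Helper41.DicksonB1
import Cfsg.Agent.Lib.Helper41.SL2NormCent

set_option autoImplicit false

/-!
# Dickson, part B (bridge from the Sylow count)

If `L ≤ SL₂(F)` contains `u(α₀)`, `l(β₀)` with `α₀, β₀ ≠ 0` and has exactly `|U| + 1` Sylow
`p`-subgroups, then every unipotent element of `L` not fixing `∞` fixes a point `α` with
`u(α) ∈ L`; hence the conclusion of `rootSets_eq_of_fix` holds.
-/

namespace Cfsg.Agent.Helper41

open Matrix

section sl2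

variable {F : Type*} [Field F]

theorem upperSL_pow (ξ : F) (n : ℕ) : upperSL ξ ^ n = upperSL (n • ξ) := by
  induction n with
  | zero => rw [pow_zero, zero_smul, upperSL_zero]
  | succ k ih => rw [pow_succ, ih, upperSL_mul, succ_nsmul]

theorem upperSL_injective : Function.Injective (upperSL : F → SpecialLinearGroup (Fin 2) F) := by
  intro x y h
  have := congrArg (fun M : SpecialLinearGroup (Fin 2) F => (M : Matrix (Fin 2) (Fin 2) F) 0 1) h
  simpa [upperSL] using this

theorem lowerSL_injective : Function.Injective (lowerSL : F → SpecialLinearGroup (Fin 2) F) := by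
  intro x y h
  have := congrArg (fun M : SpecialLinearGroup (Fin 2) F => (M : Matrix (Fin 2) (Fin 2) F) 1 0) h
  simpa [lowerSL] using this

/-- powers of an upper triangular matrix -/
theorem upperTri_pow (X : Matrix (Fin 2) (Fin 2) F) (hX : X 1 0 = 0) (n : ℕ) :
    (X ^ n) 1 0 = 0 ∧ (X ^ n) 0 0 = X 0 0 ^ n := by
  induction n with
  | zero => simp
  | succ k ih =>
    obtain ⟨h1, h2⟩ := ih
    rw [pow_succ]
    constructor
    · simp [Matrix.mul_apply, Fin.sum_univ_two, h1, hX]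
    · simp [Matrix.mul_apply, Fin.sum_univ_two, h2, hX, pow_succ]

/-- a `p`-power torsion element of a field of characteristic `p` is `1` -/
theorem eq_one_of_pow_char_pow (p : ℕ) [Fact p.Prime] [CharP F p] (a : F) (k : ℕ)
    (h : a ^ p ^ k = 1) : a = 1 := by
  have h1 : (a - 1) ^ p ^ k = 0 := by
    rw [sub_pow_char_pow, h, one_pow, sub_self]
  exact sub_eq_zero.mp (pow_eq_zero_iff (pow_ne_zero k (Fact.out : p.Prime).ne_zero) |>.mp h1)

/-- A `p`-element commuting with a nontrivial upper root element is an upper root element. -/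
theorem mem_upperUni_of_commute (p : ℕ) [Fact p.Prime] [CharP F p]
    (X : SpecialLinearGroup (Fin 2) F) (ζ : F) (hζ : ζ ≠ 0)
    (hc : X * upperSL ζ = upperSL ζ * X) (k : ℕ) (hX : X ^ p ^ k = 1) : X ∈ upperUni F := by
  have hm := congrArg (fun M : SpecialLinearGroup (Fin 2) F => (M : Matrix (Fin 2) (Fin 2) F)) hc
  simp only [Matrix.SpecialLinearGroup.coe_mul] at hm
  have e00 := congrFun (congrFun hm 0) 0
  have e01 := congrFun (congrFun hm 0) 1
  simp [upperSL, Matrix.mul_apply, Fin.sum_univ_two] at e00 e01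
  have h10 : (X : Matrix (Fin 2) (Fin 2) F) 1 0 = 0 := by
    rcases e00 with h | h
    · exact absurd h hζ
    · exact h
  have h11 : (X : Matrix (Fin 2) (Fin 2) F) 1 1 = (X : Matrix (Fin 2) (Fin 2) F) 0 0 := by
    have : ζ * ((X : Matrix (Fin 2) (Fin 2) F) 0 0 - (X : Matrix (Fin 2) (Fin 2) F) 1 1) = 0 := by
      linear_combination e01
    rcases mul_eq_zero.mp this with h | h
    · exact absurd h hζ
    · exact (sub_eq_zero.mp h).symm
  have hpow := congrArg (fun M : SpecialLinearGroup (Fin 2) F =>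
    (M : Matrix (Fin 2) (Fin 2) F) 0 0) hX
  simp only [Matrix.SpecialLinearGroup.coe_pow, Matrix.SpecialLinearGroup.coe_one,
    Matrix.one_apply_eq] at hpow
  rw [(upperTri_pow _ h10 _).2] at hpow
  have h00 := eq_one_of_pow_char_pow p _ k hpow
  rw [mem_upperUni]
  exact ⟨h00, h10, by rw [h11, h00]⟩

/-- the subgroup `g U⁺ g⁻¹` -/
def rootConj (g : SpecialLinearGroup (Fin 2) F) : Subgroup (SpecialLinearGroup (Fin 2) F) where
  carrier := {x | g⁻¹ * x * g ∈ upperUni F}
  one_mem' := by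
    show g⁻¹ * 1 * g ∈ upperUni F
    rw [mul_one, inv_mul_cancel]; exact (upperUni F).one_mem
  mul_mem' := by
    intro x y hx hy
    show g⁻¹ * (x * y) * g ∈ upperUni F
    have : g⁻¹ * (x * y) * g = (g⁻¹ * x * g) * (g⁻¹ * y * g) := by group
    rw [this]; exact (upperUni F).mul_mem hx hy
  inv_mem' := by
    intro x hx
    show g⁻¹ * x⁻¹ * g ∈ upperUni F
    have : g⁻¹ * x⁻¹ * g = (g⁻¹ * x * g)⁻¹ := by group
    rw [this]; exact (upperUni F).inv_mem hx

theorem mem_rootConj (g x : SpecialLinearGroup (Fin 2) F) :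
    x ∈ rootConj g ↔ g⁻¹ * x * g ∈ upperUni F := Iff.rfl

theorem mem_rootConj_iff_exists (g x : SpecialLinearGroup (Fin 2) F) :
    x ∈ rootConj g ↔ ∃ ξ : F, x = g * upperSL ξ * g⁻¹ := by
  rw [mem_rootConj]
  constructor
  · intro h
    refine ⟨((g⁻¹ * x * g : SpecialLinearGroup (Fin 2) F) : Matrix (Fin 2) (Fin 2) F) 0 1, ?_⟩
    have := upperUni_eq _ h
    rw [← this]; group
  · rintro ⟨ξ, rfl⟩
    have : g⁻¹ * (g * upperSL ξ * g⁻¹) * g = upperSL ξ := by group
    rw [this]; exact upperSL_mem ξ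

theorem mem_rootConj_one (x : SpecialLinearGroup (Fin 2) F) :
    x ∈ rootConj (1 : SpecialLinearGroup (Fin 2) F) ↔ x ∈ upperUni F := by
  rw [mem_rootConj, inv_one, one_mul, mul_one]

/-- the element `u(α) w` mapping `∞` to `α` -/
def gAlpha (α : F) : SpecialLinearGroup (Fin 2) F := upperSL α * wSL 1 one_ne_zero

theorem gAlpha_conj (α ξ : F) :
    gAlpha α * upperSL ξ * (gAlpha α)⁻¹ = upperSL α * lowerSL (-ξ) * (upperSL α)⁻¹ := by
  unfold gAlpha
  have h := wSL_conj_upperSL (1 : F) one_ne_zero ξ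
  rw [one_pow, div_one] at h
  rw [← h]; group

theorem mem_rootConj_gAlpha (α : F) (x : SpecialLinearGroup (Fin 2) F) :
    x ∈ rootConj (gAlpha α) ↔ ∃ η : F, x = upperSL α * lowerSL η * (upperSL α)⁻¹ := by
  rw [mem_rootConj_iff_exists]
  constructor
  · rintro ⟨ξ, rfl⟩
    exact ⟨-ξ, gAlpha_conj α ξ⟩
  · rintro ⟨η, rfl⟩
    refine ⟨-η, ?_⟩
    rw [gAlpha_conj, neg_neg]

/-- the conjugate `u(α) l(η) u(α)⁻¹` -/
theorem upper_conj_lower_apply (α η : F) :
    ((upperSL α * lowerSL η * (upperSL α)⁻¹ : SpecialLinearGroup (Fin 2) F) :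
      Matrix (Fin 2) (Fin 2) F) = !![1 + α * η, -(α ^ 2 * η); η, 1 - α * η] := by
  rw [upperSL_inv, Matrix.SpecialLinearGroup.coe_mul, Matrix.SpecialLinearGroup.coe_mul]
  ext i j
  fin_cases i <;> fin_cases j <;>
    simp [upperSL, lowerSL, Matrix.mul_apply, Fin.sum_univ_two] <;> ring

end sl2

section sylow

variable {F : Type*} [Field F]

/-- a `p`-subgroup of `SL₂(F)` containing a nontrivial element of `g U⁺ g⁻¹` lies in `g U⁺ g⁻¹` -/
theorem le_rootConj_of_isPGroup (p : ℕ) [Fact p.Prime] [CharP F p] [Finite F]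
    (Q : Subgroup (SpecialLinearGroup (Fin 2) F)) (hQ : IsPGroup p Q)
    (g : SpecialLinearGroup (Fin 2) F) (ζ : F) (hζ : ζ ≠ 0)
    (hmem : g * upperSL ζ * g⁻¹ ∈ Q) : Q ≤ rootConj g := by
  have hne : g * upperSL ζ * g⁻¹ ≠ 1 := by
    intro h
    have h' : upperSL ζ = 1 := by
      have : upperSL ζ = g⁻¹ * (g * upperSL ζ * g⁻¹) * g := by group
      rw [this, h]; group
    rw [← upperSL_zero] at h'
    exact hζ (upperSL_injective h')
  haveI : Nontrivial Q := ⟨⟨⟨_, hmem⟩, 1, fun h => hne (congrArg Subtype.val h)⟩⟩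
  haveI : Finite (SpecialLinearGroup (Fin 2) F) := by
    haveI := Fintype.ofFinite F
    infer_instance
  have hcen : Nontrivial (Subgroup.center Q) := IsPGroup.center_nontrivial hQ
  obtain ⟨⟨z, hzc⟩, hz1⟩ := exists_ne (1 : Subgroup.center Q)
  have hz1' : (z : SpecialLinearGroup (Fin 2) F) ≠ 1 := by
    intro h
    apply hz1
    apply Subtype.ext
    apply Subtype.ext
    exact h
  have hzcomm : ∀ x : SpecialLinearGroup (Fin 2) F, x ∈ Q →
      x * (z : SpecialLinearGroup (Fin 2) F) = (z : SpecialLinearGroup (Fin 2) F) * x := by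
    intro x hx
    have := Subgroup.mem_center_iff.mp hzc ⟨x, hx⟩
    exact congrArg Subtype.val this
  have hpow : ∀ x : SpecialLinearGroup (Fin 2) F, x ∈ Q → ∃ k : ℕ, (g⁻¹ * x * g) ^ p ^ k = 1 := by
    intro x hx
    obtain ⟨k, hk⟩ := hQ ⟨x, hx⟩
    have hk' : x ^ p ^ k = 1 := by simpa using congrArg Subtype.val hk
    refine ⟨k, ?_⟩
    have : g⁻¹ * x * g = g⁻¹ * x * g⁻¹⁻¹ := by rw [inv_inv]
    rw [this, conj_pow, hk', mul_one, inv_inv, inv_mul_cancel]
  -- `g⁻¹ z g` is a nontrivial upper root element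
  have hZ : g⁻¹ * (z : SpecialLinearGroup (Fin 2) F) * g ∈ upperUni F := by
    obtain ⟨k, hk⟩ := hpow _ z.2
    apply mem_upperUni_of_commute p _ ζ hζ _ k hk
    have h := hzcomm _ hmem
    have e1 : g⁻¹ * (z : SpecialLinearGroup (Fin 2) F) * g * upperSL ζ =
        g⁻¹ * ((z : SpecialLinearGroup (Fin 2) F) * (g * upperSL ζ * g⁻¹)) * g := by group
    have e2 : upperSL ζ * (g⁻¹ * (z : SpecialLinearGroup (Fin 2) F) * g) =
        g⁻¹ * ((g * upperSL ζ * g⁻¹) * (z : SpecialLinearGroup (Fin 2) F)) * g := by group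
    rw [e1, e2, h]
  have hZeq := upperUni_eq _ hZ
  set ζ' := ((g⁻¹ * (z : SpecialLinearGroup (Fin 2) F) * g : SpecialLinearGroup (Fin 2) F) :
    Matrix (Fin 2) (Fin 2) F) 0 1 with hζ'
  have hζ'0 : ζ' ≠ 0 := by
    intro h
    apply hz1'
    rw [h, upperSL_zero] at hZeq
    have : (z : SpecialLinearGroup (Fin 2) F) = g * (g⁻¹ * (z : SpecialLinearGroup (Fin 2) F) * g) * g⁻¹ := by
      group
    rw [this, hZeq]; group
  intro x hx
  rw [mem_rootConj]
  obtain ⟨k, hk⟩ := hpow x hx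
  apply mem_upperUni_of_commute p _ ζ' hζ'0 _ k hk
  rw [← hZeq]
  have h := hzcomm x hx
  have e1 : g⁻¹ * x * g * (g⁻¹ * (z : SpecialLinearGroup (Fin 2) F) * g) =
      g⁻¹ * (x * (z : SpecialLinearGroup (Fin 2) F)) * g := by group
  have e2 : g⁻¹ * (z : SpecialLinearGroup (Fin 2) F) * g * (g⁻¹ * x * g) =
      g⁻¹ * ((z : SpecialLinearGroup (Fin 2) F) * x) * g := by group
  rw [e1, e2, h]

variable (L : Subgroup (SpecialLinearGroup (Fin 2) F))

/-- `L ∩ g U⁺ g⁻¹` as a subgroup of `L` -/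
def rootSub (g : SpecialLinearGroup (Fin 2) F) : Subgroup L := (rootConj g).subgroupOf L

theorem mem_rootSub (g : SpecialLinearGroup (Fin 2) F) (x : L) :
    x ∈ rootSub L g ↔ (x : SpecialLinearGroup (Fin 2) F) ∈ rootConj g := Subgroup.mem_subgroupOf

theorem isPGroup_rootSub (p : ℕ) [Fact p.Prime] [CharP F p] (g : SpecialLinearGroup (Fin 2) F) :
    IsPGroup p (rootSub L g) := by
  rintro ⟨x, hx⟩
  refine ⟨1, ?_⟩
  rw [mem_rootSub, mem_rootConj_iff_exists] at hx
  obtain ⟨ξ, hξ⟩ := hx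
  apply Subtype.ext
  apply Subtype.ext
  simp only [Subgroup.coe_pow, Subgroup.coe_one, pow_one]
  rw [hξ, conj_pow, upperSL_pow, nsmul_eq_mul, CharP.cast_eq_zero F p, zero_mul, upperSL_zero,
    mul_one, mul_inv_cancel]

theorem exists_sylow_eq_rootSub (p : ℕ) [Fact p.Prime] [CharP F p] [Finite F]
    (g : SpecialLinearGroup (Fin 2) F) (ζ : F) (hζ : ζ ≠ 0)
    (hmem : g * upperSL ζ * g⁻¹ ∈ L) : ∃ P : Sylow p L, (P : Subgroup L) = rootSub L g := by
  obtain ⟨P, hP⟩ := (isPGroup_rootSub L p g).exists_le_sylow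
  refine ⟨P, le_antisymm ?_ hP⟩
  have hx0 : (⟨g * upperSL ζ * g⁻¹, hmem⟩ : L) ∈ (P : Subgroup L) := by
    apply hP
    rw [mem_rootSub, mem_rootConj_iff_exists]
    exact ⟨ζ, rfl⟩
  have hQ : IsPGroup p ((P : Subgroup L).map L.subtype) := P.isPGroup'.map L.subtype
  have hle := le_rootConj_of_isPGroup p _ hQ g ζ hζ
    (Subgroup.mem_map.mpr ⟨⟨g * upperSL ζ * g⁻¹, hmem⟩, hx0, rfl⟩)
  intro x hx
  rw [mem_rootSub]
  exact hle (Subgroup.mem_map.mpr ⟨x, hx, rfl⟩)

theorem card_rootSub_one : Nat.card (rootSub L 1) = Nat.card (rootSetU L) := by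
  symm
  apply Nat.card_eq_of_bijective
    (fun α : rootSetU L => (⟨⟨upperSL (α : F), α.2⟩, by
      rw [mem_rootSub, mem_rootConj_one]; exact upperSL_mem _⟩ : rootSub L 1))
  constructor
  · intro a b h
    have := congrArg (fun x : rootSub L 1 => ((x : L) : SpecialLinearGroup (Fin 2) F)) h
    exact Subtype.ext (upperSL_injective this)
  · rintro ⟨⟨x, hxL⟩, hx⟩
    rw [mem_rootSub, mem_rootConj_one] at hx
    have hxe := upperUni_eq x hx
    refine ⟨⟨(x : Matrix (Fin 2) (Fin 2) F) 0 1, ?_⟩, ?_⟩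
    · rw [mem_rootSetU, ← hxe]; exact hxL
    · apply Subtype.ext
      apply Subtype.ext
      exact hxe.symm

theorem card_rootSub_gAlpha_zero : Nat.card (rootSub L (gAlpha 0)) = Nat.card (rootSetL L) := by
  symm
  apply Nat.card_eq_of_bijective
    (fun β : rootSetL L => (⟨⟨lowerSL (β : F), β.2⟩, by
      rw [mem_rootSub, mem_rootConj_gAlpha]
      exact ⟨β, by rw [upperSL_zero, one_mul, inv_one, mul_one]⟩⟩ : rootSub L (gAlpha 0)))
  constructor
  · intro a b h
    have := congrArg (fun x : rootSub L (gAlpha 0) => ((x : L) : SpecialLinearGroup (Fin 2) F)) h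
    exact Subtype.ext (lowerSL_injective this)
  · rintro ⟨⟨x, hxL⟩, hx⟩
    rw [mem_rootSub, mem_rootConj_gAlpha] at hx
    obtain ⟨η, hη⟩ := hx
    rw [upperSL_zero, one_mul, inv_one, mul_one] at hη
    refine ⟨⟨η, ?_⟩, ?_⟩
    · rw [mem_rootSetL, ← hη]; exact hxL
    · apply Subtype.ext
      apply Subtype.ext
      exact hη.symm

end sylow

section bridge

variable {F : Type*} [Field F] [Finite F] (p : ℕ) [Fact p.Prime] [CharP F p]
variable (L : Subgroup (SpecialLinearGroup (Fin 2) F))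

theorem gAlpha_conj_mem (α β : F) (hα : α ∈ rootSetU L) (hβ : β ∈ rootSetL L) :
    gAlpha α * upperSL (-β) * (gAlpha α)⁻¹ ∈ L := by
  rw [gAlpha_conj, neg_neg]
  exact L.mul_mem (L.mul_mem hα hβ) (L.inv_mem hα)

/-- **Dickson, part B (bridge)**: if `L` has `|U| + 1` Sylow `p`-subgroups, every unipotent element
of `L` not fixing `∞` fixes a point of `rootSetU L`, and the two root sets have the same size. -/
theorem fix_of_card_sylow (α0 β0 : F) (hα0 : α0 ∈ rootSetU L) (hα00 : α0 ≠ 0)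
    (hβ0 : β0 ∈ rootSetL L) (hβ00 : β0 ≠ 0) (U : Sylow p L)
    (hN : Nat.card (Sylow p L) = Nat.card U + 1) :
    (∀ y ∈ L, (y : Matrix (Fin 2) (Fin 2) F).trace = 2 →
      (y : Matrix (Fin 2) (Fin 2) F) 1 0 ≠ 0 →
      ∃ α ∈ rootSetU L, (y : Matrix (Fin 2) (Fin 2) F) 1 0 * α +
        (y : Matrix (Fin 2) (Fin 2) F) 1 1 = 1) ∧
    Nat.card (rootSetU L) = Nat.card (rootSetL L) := by
  classical
  haveI : Finite (SpecialLinearGroup (Fin 2) F) := by
    haveI := Fintype.ofFinite F
    infer_instance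
  have hβ0' : -β0 ≠ 0 := neg_ne_zero.mpr hβ00
  have hS1 : ∃ P : Sylow p L, (P : Subgroup L) = rootSub L 1 :=
    exists_sylow_eq_rootSub L p 1 α0 hα00 (by
      rw [one_mul, inv_one, mul_one]; exact hα0)
  have hSα : ∀ α : rootSetU L, ∃ P : Sylow p L, (P : Subgroup L) = rootSub L (gAlpha (α : F)) :=
    fun α => exists_sylow_eq_rootSub L p (gAlpha (α : F)) (-β0) hβ0'
      (gAlpha_conj_mem L α β0 α.2 hβ0)
  let Φ : Option (rootSetU L) → Sylow p L := fun o =>
    match o with
    | none => Classical.choose hS1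
    | some α => Classical.choose (hSα α)
  have hΦnone : ((Φ none : Sylow p L) : Subgroup L) = rootSub L 1 := Classical.choose_spec hS1
  have hΦsome : ∀ α : rootSetU L, ((Φ (some α) : Sylow p L) : Subgroup L) =
      rootSub L (gAlpha (α : F)) := fun α => Classical.choose_spec (hSα α)
  -- the witness element of `rootSub L (gAlpha α)`
  have hwit : ∀ α : rootSetU L, upperSL (α : F) * lowerSL β0 * (upperSL (α : F))⁻¹ ∈ L :=
    fun α => L.mul_mem (L.mul_mem α.2 hβ0) (L.inv_mem α.2)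
  have hwit' : ∀ α : rootSetU L,
      (⟨_, hwit α⟩ : L) ∈ rootSub L (gAlpha (α : F)) := by
    intro α
    rw [mem_rootSub, mem_rootConj_gAlpha]
    exact ⟨β0, rfl⟩
  have hΦinj : Function.Injective Φ := by
    intro o1 o2 h
    have h' : ((Φ o1 : Sylow p L) : Subgroup L) = ((Φ o2 : Sylow p L) : Subgroup L) := by rw [h]
    rcases o1 with _ | α <;> rcases o2 with _ | α'
    · rfl
    · exfalso
      rw [hΦnone, hΦsome] at h'
      have hm := hwit' α'
      rw [← h', mem_rootSub, mem_rootConj_one, mem_upperUni] at hm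
      have h10 := hm.2.1
      rw [upper_conj_lower_apply] at h10
      simp at h10
      exact hβ00 h10
    · exfalso
      rw [hΦnone, hΦsome] at h'
      have hm := hwit' α
      rw [h', mem_rootSub, mem_rootConj_one, mem_upperUni] at hm
      have h10 := hm.2.1
      rw [upper_conj_lower_apply] at h10
      simp at h10
      exact hβ00 h10
    · rw [hΦsome, hΦsome] at h'
      have hm := hwit' α
      rw [h', mem_rootSub, mem_rootConj_gAlpha] at hm
      obtain ⟨η, hη⟩ := hm
      have hmat := congrArg (fun M : SpecialLinearGroup (Fin 2) F =>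
        (M : Matrix (Fin 2) (Fin 2) F)) hη
      simp only [upper_conj_lower_apply] at hmat
      have e10 := congrFun (congrFun hmat 1) 0
      have e00 := congrFun (congrFun hmat 0) 0
      simp at e10 e00
      rw [← e10] at e00
      have : ((α : F) - (α' : F)) * β0 = 0 := by linear_combination e00
      rcases mul_eq_zero.mp this with h1 | h1
      · congr 1
        exact Subtype.ext (sub_eq_zero.mp h1)
      · exact absurd h1 hβ00
  have hcardSyl : ∀ P Q : Sylow p L, Nat.card P = Nat.card Q := by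
    intro P Q
    rw [P.card_eq_multiplicity, Q.card_eq_multiplicity]
  have hcard1 : Nat.card (Φ none : Sylow p L) = Nat.card (rootSetU L) := by
    have : Nat.card ((Φ none : Sylow p L) : Subgroup L) = Nat.card (rootSub L 1) := by rw [hΦnone]
    rw [← card_rootSub_one]
    exact this
  have hΦbij : Function.Bijective Φ := by
    apply hΦinj.bijective_of_nat_card_le
    rw [hN, Finite.card_option, ← hcard1, hcardSyl U (Φ none)]
  constructor
  · intro y hyL htr h10
    have hdet : (y : Matrix (Fin 2) (Fin 2) F).det = 1 := y.2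
    have hsq : ((y : Matrix (Fin 2) (Fin 2) F) - 1) ^ 2 = 0 := by
      rw [(Commute.one_right _).sub_sq, sq_eq_of_det_one _ hdet, htr]
      simp only [one_pow, mul_one]
      rw [two_smul, two_mul]
      abel
    have hyp : y ^ p = 1 := by
      apply Subtype.ext
      rw [Matrix.SpecialLinearGroup.coe_pow, Matrix.SpecialLinearGroup.coe_one]
      exact pow_char_eq_one_of_sub_one_sq p _ hsq
    have hpg : IsPGroup p (Subgroup.zpowers (⟨y, hyL⟩ : L)) := by
      rintro ⟨h, hh⟩
      obtain ⟨n, rfl⟩ := Subgroup.mem_zpowers_iff.mp hh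
      refine ⟨1, ?_⟩
      apply Subtype.ext
      simp only [Subgroup.coe_pow, Subgroup.coe_one, pow_one]
      rw [← zpow_natCast, ← _root_.zpow_mul, mul_comm, _root_.zpow_mul, zpow_natCast]
      have : (⟨y, hyL⟩ : L) ^ p = 1 := Subtype.ext (by simpa using hyp)
      rw [this, _root_.one_zpow]
    obtain ⟨Q, hQ⟩ := hpg.exists_le_sylow
    obtain ⟨o, ho⟩ := hΦbij.2 Q
    have hyQ : (⟨y, hyL⟩ : L) ∈ ((Φ o : Sylow p L) : Subgroup L) := by
      rw [ho]; exact hQ (Subgroup.mem_zpowers _)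
    rcases o with _ | α
    · exfalso
      rw [hΦnone, mem_rootSub, mem_rootConj_one, mem_upperUni] at hyQ
      exact h10 hyQ.2.1
    · rw [hΦsome, mem_rootSub, mem_rootConj_gAlpha] at hyQ
      obtain ⟨η, hη⟩ := hyQ
      refine ⟨α, α.2, ?_⟩
      have hη' : y = upperSL (α : F) * lowerSL η * (upperSL (α : F))⁻¹ := hη
      rw [hη', upper_conj_lower_apply]
      simp only [Matrix.of_apply, Matrix.cons_val', Matrix.cons_val_zero, Matrix.cons_val_one]
      ring
  · have h0 : (0 : F) ∈ rootSetU L := (rootSetU L).zero_mem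
    have hc2 : Nat.card (Φ (some ⟨0, h0⟩) : Sylow p L) = Nat.card (rootSetL L) := by
      have : Nat.card ((Φ (some ⟨0, h0⟩) : Sylow p L) : Subgroup L) =
          Nat.card (rootSub L (gAlpha 0)) := by rw [hΦsome]
      rw [← card_rootSub_gAlpha_zero]
      exact this
    rw [← hcard1, ← hc2]
    exact hcardSyl _ _

/-- **Dickson, part B**: if `L ≤ SL₂(F)` contains nontrivial upper and lower root elements and has
exactly `|U| + 1` Sylow `p`-subgroups, its root parameter sets are `a K` and `a⁻¹ K` for a subfield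
`K` of `F`. -/
theorem rootSets_eq_of_card_sylow (α0 β0 : F) (hα0 : α0 ∈ rootSetU L) (hα00 : α0 ≠ 0)
    (hβ0 : β0 ∈ rootSetL L) (hβ00 : β0 ≠ 0) (U : Sylow p L)
    (hN : Nat.card (Sylow p L) = Nat.card U + 1) :
    ∃ (K : Subfield F) (a : F), a ≠ 0 ∧ (∀ x, x ∈ rootSetU L ↔ ∃ k ∈ K, x = a * k) ∧
      (∀ x, x ∈ rootSetL L ↔ ∃ k ∈ K, x = a⁻¹ * k) := by
  obtain ⟨h1, h2⟩ := fix_of_card_sylow p L α0 β0 hα0 hα00 hβ0 hβ00 U hN
  exact rootSets_eq_of_fix L α0 hα0 hα00 h1 h2

end bridge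

end Cfsg.Agent.Helper41
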