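import Mathlib

set_option autoImplicit false

namespace Cfsg.Agent.Helper41

open Polynomial

/-- `Φ_n(a)` as a natural number. -/
noncomputable def cycVal (n a : ℕ) : ℕ := (eval (a : ℤ) (cyclotomic n ℤ)).natAbs

theorem cycVal_cast (n a : ℕ) (ha : 1 < a) :
    ((cycVal n a : ℕ) : ℤ) = eval (a : ℤ) (cyclotomic n ℤ) := by
  unfold cycVal
  have h : 0 < eval (a : ℤ) (cyclotomic n ℤ) := cyclotomic_pos' n (by exact_mod_cast ha)
  exact Int.natAbs_of_nonneg h.le

theorem cycVal_pos (n a : ℕ) (ha : 1 < a) : 0 < cycVal n a := by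
  have h : 0 < eval (a : ℤ) (cyclotomic n ℤ) := cyclotomic_pos' n (by exact_mod_cast ha)
  rw [← cycVal_cast n a ha] at h
  exact_mod_cast h

theorem cast_pow_sub_one (a k : ℕ) (ha : 1 ≤ a) : ((a ^ k - 1 : ℕ) : ℤ) = (a : ℤ) ^ k - 1 := by
  have : 1 ≤ a ^ k := Nat.one_le_pow _ _ ha
  push_cast [Nat.cast_sub this]
  ring

theorem cycVal_mul_dvd (n a d : ℕ) (ha : 1 < a) (hd : d ∈ n.properDivisors) :
    cycVal n a * (a ^ d - 1) ∣ a ^ n - 1 := by
  have h := X_pow_sub_one_mul_cyclotomic_dvd_X_pow_sub_one_of_dvd ℤ hd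
  have h2 := eval_dvd (x := (a : ℤ)) h
  simp only [eval_mul, eval_sub, eval_pow, eval_X, eval_one] at h2
  rw [← Int.natCast_dvd_natCast]
  push_cast [cast_pow_sub_one a _ ha.le, cycVal_cast n a ha]
  rw [mul_comm]
  exact h2

theorem cycVal_dvd (n a : ℕ) (ha : 1 < a) : cycVal n a ∣ a ^ n - 1 := by
  have h := cyclotomic.dvd_X_pow_sub_one n ℤ
  have h2 := eval_dvd (x := (a : ℤ)) h
  simp only [eval_sub, eval_pow, eval_X, eval_one] at h2
  rw [← Int.natCast_dvd_natCast]
  push_cast [cast_pow_sub_one a _ ha.le, cycVal_cast n a ha]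
  exact h2

theorem isRoot_of_dvd_cycVal (n a r : ℕ) (ha : 1 < a) (hdvd : r ∣ cycVal n a) :
    IsRoot (cyclotomic n (ZMod r)) (a : ZMod r) := by
  have h1 : ((cycVal n a : ℕ) : ZMod r) = 0 := (ZMod.natCast_eq_zero_iff _ _).2 hdvd
  have h2 : ((cycVal n a : ℕ) : ZMod r) = (((cycVal n a : ℕ) : ℤ) : ZMod r) := by simp
  rw [h2, cycVal_cast n a ha] at h1
  rw [IsRoot.def, ← map_cyclotomic_int n (ZMod r), eval_map]
  have h3 : ((a : ℕ) : ZMod r) = Int.castRingHom (ZMod r) (a : ℤ) := by simp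
  rw [h3, eval₂_hom]
  simpa using h1

theorem dvd_pow_sub_one_iff (a r k : ℕ) (ha : 1 ≤ a) :
    r ∣ a ^ k - 1 ↔ (a : ZMod r) ^ k = 1 := by
  rw [← ZMod.natCast_eq_zero_iff, Nat.cast_sub (Nat.one_le_pow _ _ ha)]
  push_cast
  exact sub_eq_zero

theorem ppd_of_orderOf_eq (a r n : ℕ) (ha : 1 ≤ a) (h : orderOf (a : ZMod r) = n) :
    r ∣ a ^ n - 1 ∧ ∀ k, 0 < k → k < n → ¬ r ∣ a ^ k - 1 := by
  constructor
  · rw [dvd_pow_sub_one_iff a r n ha, ← h]; exact pow_orderOf_eq_one _
  · intro k hk hkn hdvd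
    rw [dvd_pow_sub_one_iff a r k ha] at hdvd
    have h3 := orderOf_dvd_of_pow_eq_one hdvd
    rw [h] at h3
    exact absurd (Nat.le_of_dvd hk h3) (by omega)

/-- If prime `r ∣ Φ_n(a)` and `n = r^e * m` with `r ∤ m`, then the order of `a` mod `r` is `m`. -/
theorem orderOf_of_dvd_cycVal (a r e m : ℕ) (ha : 1 < a) [Fact r.Prime] (hm : ¬ r ∣ m)
    (hdvd : r ∣ cycVal (r ^ e * m) a) : orderOf (a : ZMod r) = m := by
  have hroot := isRoot_of_dvd_cycVal _ a r ha hdvd
  have : NeZero (m : ZMod r) := NeZero.of_not_dvd (ZMod r) hm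
  exact ((isRoot_cyclotomic_prime_pow_mul_iff_of_charP).mp hroot).eq_orderOf.symm

theorem orderOf_of_dvd_cycVal' (a r n : ℕ) (ha : 1 < a) [Fact r.Prime] (hm : ¬ r ∣ n)
    (hdvd : r ∣ cycVal n a) : orderOf (a : ZMod r) = n := by
  have h := orderOf_of_dvd_cycVal a r 0 n ha hm (by simpa using hdvd)
  exact h

/-- Structure: if a prime `r` divides both `n` and `Φ_n(a)` then `n = r^e * m` with `m ∣ r - 1`. -/
theorem structure_of_dvd (a n r : ℕ) (ha : 1 < a) (hn : 0 < n) [hr : Fact r.Prime] (hrn : r ∣ n)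
    (hdvd : r ∣ cycVal n a) :
    ∃ e m, 0 < e ∧ 0 < m ∧ ¬ r ∣ m ∧ n = r ^ e * m ∧ m ∣ r - 1 ∧ orderOf (a : ZMod r) = m := by
  obtain ⟨e, m, hm, hnm⟩ := Nat.exists_eq_pow_mul_and_not_dvd hn.ne' r hr.1.ne_one
  have he : 0 < e := by
    rcases Nat.eq_zero_or_pos e with h | h
    · subst h; simp at hnm; subst hnm; exact absurd hrn hm
    · exact h
  have hm0 : 0 < m := by
    rcases Nat.eq_zero_or_pos m with h | h
    · subst h; simp at hm
    · exact h
  subst hnm
  have hord := orderOf_of_dvd_cycVal a r e m ha hm hdvd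
  refine ⟨e, m, he, hm0, hm, rfl, ?_, hord⟩
  rw [← hord]
  apply ZMod.orderOf_dvd_card_sub_one
  intro h0
  have h1 := pow_orderOf_eq_one (a : ZMod r)
  rw [hord, h0, zero_pow hm0.ne'] at h1
  exact zero_ne_one h1



/-- `Φ_n(a)` divides the geometric sum `∑_{i<q} (a^(n/q))^i` when `n = d * q`, `q > 1`. -/
theorem cycVal_dvd_geom_sum (a d q : ℕ) (ha : 1 < a) (hd : 0 < d) (hq : 1 < q) :
    ((cycVal (d * q) a : ℕ) : ℤ) ∣ ∑ i ∈ Finset.range q, ((a : ℤ) ^ d) ^ i := by
  have hmem : d ∈ (d * q).properDivisors := by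
    rw [Nat.mem_properDivisors]
    exact ⟨dvd_mul_right _ _, by nlinarith⟩
  have h := cycVal_mul_dvd (d * q) a d ha hmem
  rw [← Int.natCast_dvd_natCast] at h
  push_cast [cast_pow_sub_one a _ ha.le] at h
  have h2 : ((a : ℤ) ^ (d * q) - 1) = (∑ i ∈ Finset.range q, ((a : ℤ) ^ d) ^ i) * ((a : ℤ) ^ d - 1) := by
    rw [geom_sum_mul, pow_mul]
  rw [h2] at h
  have hne : ((a : ℤ) ^ d - 1) ≠ 0 := by
    have : (1 : ℤ) < (a : ℤ) ^ d := by
      have : 1 < a ^ d := Nat.one_lt_pow hd.ne' ha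
      exact_mod_cast this
    linarith
  exact (mul_dvd_mul_iff_right hne).mp h

theorem not_sq_dvd_cycVal (a r e m : ℕ) (ha : 1 < a) [hr : Fact r.Prime] (hm : ¬ r ∣ m) (he : 0 < e)
    (hm0 : 0 < m) (hn : 3 ≤ r ^ e * m) (hdvd : r ∣ cycVal (r ^ e * m) a) :
    ¬ r ^ 2 ∣ cycVal (r ^ e * m) a := by
  intro hsq
  obtain ⟨e', m', he', hm0', hm', hnm', hmr, hord⟩ :=
    structure_of_dvd a (r ^ e * m) r ha (by positivity) (dvd_mul_of_dvd_left (dvd_pow_self r he.ne') m) hdvd
  have hord2 := orderOf_of_dvd_cycVal a r e m ha hm hdvd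
  have hmm : m' = m := by rw [← hord, hord2]
  subst hmm
  -- d = r^(e-1) * m
  obtain ⟨f, rfl⟩ : ∃ f, e = f + 1 := ⟨e - 1, by omega⟩
  have hnd : r ^ (f + 1) * m' = (r ^ f * m') * r := by ring
  have hd0 : 0 < r ^ f * m' := by
    have := hr.1.pos
    positivity
  have hS := cycVal_dvd_geom_sum a (r ^ f * m') r ha hd0 hr.1.one_lt
  rw [← hnd] at hS
  have hsqZ : ((r : ℤ)) ^ 2 ∣ ((cycVal (r ^ (f + 1) * m') a : ℕ) : ℤ) := by
    have := Int.natCast_dvd_natCast.mpr hsq
    simpa using this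
  have hS2 := hsqZ.trans hS
  -- b ≡ 1 mod r
  have hb1 : (r : ℤ) ∣ (a : ℤ) ^ (r ^ f * m') - 1 := by
    have : r ∣ a ^ (r ^ f * m') - 1 := by
      rw [dvd_pow_sub_one_iff a r _ ha.le]
      apply orderOf_dvd_iff_pow_eq_one.mp
      rw [hord]
      exact dvd_mul_left _ _
    have := Int.natCast_dvd_natCast.mpr this
    rwa [cast_pow_sub_one a _ ha.le] at this
  have hbr : ¬ (r : ℤ) ∣ (a : ℤ) ^ (r ^ f * m') := by
    intro h
    have h1 : (r : ℤ) ∣ 1 := by
      have := dvd_sub h hb1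
      simpa using this
    have := Int.natCast_dvd_natCast (m := r) (n := 1) |>.mp (by simpa using h1)
    exact hr.1.one_lt.ne' (Nat.dvd_one.mp this)
  rcases hr.1.eq_two_or_odd' with h2 | hodd
  · -- r = 2
    subst h2
    have hm1 : m' = 1 := by
      have : m' ∣ 1 := by simpa using hmr
      exact Nat.dvd_one.mp this
    subst hm1
    have hf : 1 ≤ f := by
      rcases Nat.eq_zero_or_pos f with h | h
      · subst h; norm_num at hn
      · exact h
    obtain ⟨g, rfl⟩ : ∃ g, f = g + 1 := ⟨f - 1, by omega⟩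
    simp only [Finset.sum_range_succ, Finset.sum_range_zero, pow_zero, pow_one, zero_add, mul_one] at hS2
    have hsq2 : (a : ℤ) ^ (2 ^ (g + 1)) = ((a : ℤ) ^ (2 ^ g)) ^ 2 := by
      rw [← pow_mul, pow_succ]
    rw [hsq2] at hS2
    set c : ℤ := (a : ℤ) ^ (2 ^ g)
    have h4 : (4 : ℤ) ∣ 1 + c ^ 2 := by
      norm_num at hS2
      exact hS2
    have : (1 + c ^ 2) % 4 = 0 := Int.emod_eq_zero_of_dvd h4
    have hc : c % 4 = 0 ∨ c % 4 = 1 ∨ c % 4 = 2 ∨ c % 4 = 3 := by omega
    rcases hc with h | h | h | h <;>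
    · have : (1 + c ^ 2) % 4 = (1 + (c % 4) ^ 2) % 4 := by
        rw [pow_two, pow_two, Int.add_emod, Int.mul_emod, ← Int.add_emod]
      rw [h] at this
      omega
  · have hprime : Prime (r : ℤ) := Nat.prime_iff_prime_int.mp hr.1
    have hmul := emultiplicity_geom_sum₂_eq_one (R := ℤ) (x := (a : ℤ) ^ (r ^ f * m')) (y := 1)
      hprime hodd (by simpa using hb1) hbr
    simp only [one_pow, mul_one] at hmul
    have := (emultiplicity_eq_coe.mp hmul).2
    exact this (by simpa using hS2)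



theorem cycVal_cast_real (n a : ℕ) (ha : 1 < a) :
    ((cycVal n a : ℕ) : ℝ) = eval (a : ℝ) (cyclotomic n ℝ) := by
  have h := cycVal_cast n a ha
  have h2 : ((cycVal n a : ℕ) : ℝ) = (((cycVal n a : ℕ) : ℤ) : ℝ) := by simp
  rw [h2, h]
  have h3 := cyclotomic.eval_apply (a : ℤ) n (algebraMap ℤ ℝ)
  simpa using h3.symm

theorem cycVal_ge (n a : ℕ) (ha : 1 < a) : (a - 1) ^ n.totient ≤ cycVal n a := by
  have h := sub_one_pow_totient_le_cyclotomic_eval (q := (a : ℝ)) (by exact_mod_cast ha) n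
  rw [← cycVal_cast_real n a ha] at h
  have h2 : (((a - 1 : ℕ) : ℝ)) = (a : ℝ) - 1 := by
    rw [Nat.cast_sub ha.le]; simp
  rw [← h2] at h
  exact_mod_cast h

theorem cycVal_le (n a : ℕ) (ha : 1 < a) : cycVal n a ≤ (a + 1) ^ n.totient := by
  have h := cyclotomic_eval_le_add_one_pow_totient (q := (a : ℝ)) (by exact_mod_cast ha) n
  rw [← cycVal_cast_real n a ha] at h
  exact_mod_cast h

theorem cycVal_gt (n a : ℕ) (ha : 1 < a) (hn : 1 < n) : (a - 1) ^ n.totient < cycVal n a :=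
  sub_one_pow_totient_lt_natAbs_cyclotomic_eval hn ha.ne'

theorem cycVal_expand_dvd (p n a : ℕ) (hp : p.Prime) (hdiv : p ∣ n) :
    cycVal (n * p) a = cycVal n (a ^ p) := by
  unfold cycVal
  rw [← cyclotomic_expand_eq_cyclotomic hp hdiv ℤ, expand_eval]
  push_cast
  rfl

theorem cycVal_expand_not_dvd (p n a : ℕ) (hp : p.Prime) (hdiv : ¬ p ∣ n) :
    cycVal n (a ^ p) = cycVal (n * p) a * cycVal n a := by
  unfold cycVal
  rw [← Int.natAbs_mul, ← eval_mul, ← cyclotomic_expand_eq_cyclotomic_mul hp hdiv ℤ, expand_eval]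
  push_cast
  rfl

theorem cycVal_three_two : cycVal 3 2 = 7 := by
  unfold cycVal
  rw [cyclotomic_three]
  simp

theorem add_two_le_two_pow (r : ℕ) (hr : 2 ≤ r) : r + 2 ≤ 2 ^ r := by
  induction r, hr using Nat.le_induction with
  | base => norm_num
  | succ k hk ih => rw [pow_succ]; omega

theorem three_mul_add_two_le_two_pow (r : ℕ) (hr : 5 ≤ r) : 3 * r + 2 ≤ 2 ^ r := by
  induction r, hr using Nat.le_induction with
  | base => norm_num
  | succ k hk ih => rw [pow_succ]; omega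

theorem zsig_bound_case (a r e m : ℕ) (ha : 1 < a) (hr : r.Prime) (he : 0 < e) (hm0 : 0 < m)
    (hm : ¬ r ∣ m) (hmr : m ∣ r - 1) (hn : 3 ≤ r ^ e * m) (hP : cycVal (r ^ e * m) a = r) :
    a = 2 ∧ r ^ e * m = 6 := by
  have hrn : r ∣ r ^ e * m := dvd_mul_of_dvd_left (dvd_pow_self r he.ne') m
  have hn1 : 1 < r ^ e * m := by omega
  have hr2 := hr.two_le
  -- a = 2
  have ha2 : a = 2 := by
    by_contra hne
    have ha3 : 3 ≤ a := by omega
    have h1 := cycVal_gt (r ^ e * m) a ha hn1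
    have h2 : r - 1 ≤ (r ^ e * m).totient := by
      have := Nat.totient_dvd_of_dvd hrn
      rw [Nat.totient_prime hr] at this
      exact Nat.le_of_dvd (Nat.totient_pos.mpr (by omega)) this
    have h3 : 2 ^ (r - 1) ≤ (a - 1) ^ (r ^ e * m).totient := by
      calc 2 ^ (r - 1) ≤ 2 ^ (r ^ e * m).totient := Nat.pow_le_pow_right (by norm_num) h2
        _ ≤ (a - 1) ^ (r ^ e * m).totient := Nat.pow_le_pow_left (by omega) _
    have h4 : r - 1 < 2 ^ (r - 1) := Nat.lt_two_pow_self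
    rw [hP] at h1
    omega
  subst ha2
  refine ⟨rfl, ?_⟩
  obtain ⟨f, rfl⟩ : ∃ f, e = f + 1 := ⟨e - 1, by omega⟩
  rcases Nat.eq_zero_or_pos f with hf | hf
  · -- e = 1
    subst hf
    simp only [zero_add, pow_one] at hP hn hrn hn1 ⊢
    have hexp := cycVal_expand_not_dvd r m 2 hr hm
    rw [mul_comm m r, hP] at hexp
    have hk : 0 < m.totient := Nat.totient_pos.mpr hm0
    have hlow := cycVal_ge m (2 ^ r) (Nat.one_lt_two_pow (by omega))
    have hup := cycVal_le m 2 (by norm_num)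
    have hr5 : r < 5 := by
      by_contra hge
      push Not at hge
      have h1 := three_mul_add_two_le_two_pow r hge
      have h2 : (3 * r + 1) ^ m.totient ≤ (2 ^ r - 1) ^ m.totient :=
        Nat.pow_le_pow_left (by omega) _
      have h3 : (3 * r) ^ m.totient < (3 * r + 1) ^ m.totient :=
        Nat.pow_lt_pow_left (by omega) hk.ne'
      have h4 : r * 3 ^ m.totient ≤ (3 * r) ^ m.totient := by
        rw [mul_pow, mul_comm]
        apply Nat.mul_le_mul_left
        exact Nat.le_self_pow hk.ne' r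
      have h5 : cycVal m (2 ^ r) ≤ r * 3 ^ m.totient := by
        rw [hexp]
        exact Nat.mul_le_mul_left _ (by simpa using hup)
      omega
    have hr23 : r = 2 ∨ r = 3 := by
      interval_cases r
      · left; rfl
      · right; rfl
      · exact absurd hr (by norm_num)
    rcases hr23 with rfl | rfl
    · have : m = 1 := Nat.dvd_one.mp (by simpa using hmr)
      subst this
      omega
    · have hm2 : m ≤ 2 := Nat.le_of_dvd (by norm_num) (by simpa using hmr)
      interval_cases m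
      · rw [cycVal_three_two] at hP
        omega
      · rfl
  · -- e ≥ 2
    exfalso
    have hnd : r ^ (f + 1) * m = (r ^ f * m) * r := by ring
    have hdiv : r ∣ r ^ f * m := dvd_mul_of_dvd_left (dvd_pow_self r hf.ne') m
    rw [hnd, cycVal_expand_dvd r (r ^ f * m) 2 hr hdiv] at hP
    have hd1 : 1 < r ^ f * m := by
      have := Nat.le_of_dvd (by positivity) hdiv
      omega
    have h1 := cycVal_gt (r ^ f * m) (2 ^ r) (Nat.one_lt_two_pow (by omega)) hd1
    have hk : 0 < (r ^ f * m).totient := Nat.totient_pos.mpr (by omega)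
    have h2 : 2 ^ r - 1 ≤ (2 ^ r - 1) ^ (r ^ f * m).totient := Nat.le_self_pow hk.ne' _
    have h3 := add_two_le_two_pow r hr2
    omega

/-- **Zsigmondy's theorem**. -/
theorem zsigmondy (a n : ℕ) (ha : 1 < a) (hn : 1 < n) (h6 : ¬ (a = 2 ∧ n = 6))
    (h2 : ¬ (n = 2 ∧ ∃ m : ℕ, a + 1 = 2 ^ m)) :
    ∃ r : ℕ, r.Prime ∧ r ∣ a ^ n - 1 ∧ ∀ k : ℕ, 0 < k → k < n → ¬ r ∣ a ^ k - 1 := by
  rcases Nat.lt_or_ge n 3 with hn3 | hn3
  · -- n = 2
    have hn2 : n = 2 := by omega
    subst hn2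
    rcases Nat.eq_two_pow_or_exists_odd_prime_and_dvd (a + 1) with ⟨k, hk⟩ | ⟨p, hp, hpd, hodd⟩
    · exact absurd ⟨rfl, k, hk⟩ h2
    · refine ⟨p, hp, ?_, ?_⟩
      · have : a ^ 2 - 1 = (a + 1) * (a - 1) := by
          have := Nat.sq_sub_sq a 1
          simpa using this
        rw [this]
        exact dvd_mul_of_dvd_left hpd _
      · intro k hk0 hk2 hdvd
        have hk1 : k = 1 := by omega
        subst hk1
        rw [pow_one] at hdvd
        have h2' : p ∣ 2 := by
          have : a + 1 = (a - 1) + 2 := by omega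
          rw [this] at hpd
          exact (Nat.dvd_add_right hdvd).mp hpd
        have : p = 2 := (Nat.prime_dvd_prime_iff_eq hp Nat.prime_two).mp h2'
        subst this
        exact absurd hodd (by decide)
  · by_contra hno
    push Not at hno
    -- every prime divisor of P divides n
    have hall : ∀ r : ℕ, r.Prime → r ∣ cycVal n a → r ∣ n := by
      intro r hr hdvd
      by_contra hrn
      have : Fact r.Prime := ⟨hr⟩
      have hord := orderOf_of_dvd_cycVal' a r n ha hrn hdvd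
      obtain ⟨h1, h2'⟩ := ppd_of_orderOf_eq a r n ha.le hord
      obtain ⟨k, hk0, hkn, hk⟩ := hno r hr h1
      exact h2' k hk0 hkn hk
    have hP2 : 2 ≤ cycVal n a := by
      have := cycVal_gt n a ha hn
      have h1 : 1 ≤ (a - 1) ^ n.totient := Nat.one_le_pow _ _ (by omega)
      omega
    obtain ⟨P, hPdef⟩ : ∃ P, P = cycVal n a := ⟨_, rfl⟩
    rw [← hPdef] at hP2 hall
    -- r = minFac P
    obtain ⟨r, hrdef⟩ : ∃ r, r = Nat.minFac P := ⟨_, rfl⟩
    have hrP : r.Prime := hrdef ▸ Nat.minFac_prime (by omega)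
    have hrd : r ∣ P := hrdef ▸ Nat.minFac_dvd P
    have : Fact r.Prime := ⟨hrP⟩
    have hrn := hall r hrP hrd
    obtain ⟨e, m, he, hm0, hm, hnm, hmr, hord⟩ :=
      structure_of_dvd a n r ha (by omega) hrn (hPdef ▸ hrd)
    have hnsq : ¬ r ^ 2 ∣ P := by
      have := not_sq_dvd_cycVal a r e m ha hm he hm0 (hnm ▸ hn3) (hnm ▸ hPdef ▸ hrd)
      rw [hPdef, hnm]
      exact this
    -- P = r
    have hPr : P = r := by
      obtain ⟨t, ht⟩ := hrd
      rcases Nat.lt_or_ge 1 t with ht1 | ht1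
      · exfalso
        obtain ⟨r', hr'def⟩ : ∃ r', r' = Nat.minFac t := ⟨_, rfl⟩
        have hr'P : r'.Prime := hr'def ▸ Nat.minFac_prime (by omega)
        have hr't : r' ∣ t := hr'def ▸ Nat.minFac_dvd t
        have hr'd : r' ∣ P := by
          rw [ht]; exact dvd_mul_of_dvd_right hr't _
        have : Fact r'.Prime := ⟨hr'P⟩
        have hr'n := hall r' hr'P hr'd
        obtain ⟨e', m', he', hm0', hm', hnm', hmr', hord'⟩ :=
          structure_of_dvd a n r' ha (by omega) hr'n (hPdef ▸ hr'd)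
        have heq : r' = r := by
          by_contra hne
          have h1 : r' ∣ m := by
            have : r' ∣ r ^ e * m := hnm ▸ hr'n
            rcases (Nat.Prime.dvd_mul hr'P).mp this with h | h
            · exact absurd ((Nat.prime_dvd_prime_iff_eq hr'P hrP).mp (hr'P.dvd_of_dvd_pow h)) hne
            · exact h
          have h2' : r ∣ m' := by
            have : r ∣ r' ^ e' * m' := hnm' ▸ hrn
            rcases (Nat.Prime.dvd_mul hrP).mp this with h | h
            · exact absurd ((Nat.prime_dvd_prime_iff_eq hrP hr'P).mp (hrP.dvd_of_dvd_pow h)).symm hne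
            · exact h
          have h3 : r' ≤ r - 1 := Nat.le_of_dvd (by have := hrP.two_le; omega) (h1.trans hmr)
          have h4 : r ≤ r' - 1 := Nat.le_of_dvd (by have := hr'P.two_le; omega) (h2'.trans hmr')
          have := hrP.two_le
          omega
        apply hnsq
        rw [ht, pow_two]
        apply Nat.mul_dvd_mul_left
        rw [← heq]
        exact hr't
      · have ht0 : t ≠ 0 := by
          rintro rfl
          omega
        have : t = 1 := by omega
        rw [ht, this, mul_one]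
    have hfin := zsig_bound_case a r e m ha hrP he hm0 hm hmr (hnm ▸ hn3) (by rw [← hnm, ← hPdef, hPr])
    rw [← hnm] at hfin
    exact h6 hfin

end Cfsg.Agent.Helper41
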