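import Mathlib
import Cfsg.Prelude.Def_Characters
import Cfsg.Prelude.Def_Blocks

/-!
# RPD2 (GT2): a 2-element centralizing `V` and acting trivially on `N` modulo `V` centralizes `N`
(helper41 for helper80, S4862)
-/

set_option autoImplicit false

namespace Cfsg.Agent.Helper41.RPD2

open Cfsg
open scoped ComplexConjugate

universe u

/-- (GT2) pure group theory (Mathlib only): a `2`-element centralizing `V` and acting trivially
on `N` modulo `V`, where `V` has no elements of even order, centralizes `N`.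
Proof: `s n s⁻¹ = z n` with `z ∈ V`, so `s^j n s^{-j} = z^j n`; `j = orderOf s = 2^k` gives
`z ^ (2^k) = 1`, hence `z = 1`. -/
theorem centralize_of_quotient {G : Type u} [Group G] (s : G) (k : ℕ) (hs : orderOf s = 2 ^ k)
    (N V : Subgroup G) (hNV : ∀ n ∈ N, (s * n * s⁻¹) * n⁻¹ ∈ V)
    (hV : ∀ v ∈ V, s * v = v * s) (hVodd : ∀ v ∈ V, Odd (orderOf v)) :
    ∀ n ∈ N, s * n = n * s := by
  intro n hn
  obtain ⟨z, hz⟩ : ∃ z : G, z = (s * n * s⁻¹) * n⁻¹ := ⟨_, rfl⟩
  have hzV : z ∈ V := hz ▸ hNV n hn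
  have hsz : s * z = z * s := hV z hzV
  have hsn : s * n * s⁻¹ = z * n := by rw [hz, inv_mul_cancel_right]
  have hszj : ∀ j : ℕ, s * z ^ j = z ^ j * s := fun j => (Commute.pow_right hsz j).eq
  have key : ∀ j : ℕ, s ^ j * n * (s ^ j)⁻¹ = z ^ j * n := by
    intro j
    induction j with
    | zero => simp
    | succ j ih =>
      calc s ^ (j + 1) * n * (s ^ (j + 1))⁻¹ = s * (s ^ j * n * (s ^ j)⁻¹) * s⁻¹ := by
            rw [pow_succ']; group
        _ = s * (z ^ j * n) * s⁻¹ := by rw [ih]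
        _ = (s * z ^ j) * n * s⁻¹ := by group
        _ = z ^ j * (s * n * s⁻¹) := by rw [hszj j]; group
        _ = z ^ (j + 1) * n := by rw [hsn, pow_succ, mul_assoc]
  have h1 := key (2 ^ k)
  rw [← hs, pow_orderOf_eq_one, one_mul, inv_one, mul_one] at h1
  have h2 : z ^ orderOf s = 1 := by
    have : z ^ orderOf s * n = 1 * n := by rw [← h1, one_mul]
    exact mul_right_cancel this
  have h3 : orderOf z ∣ 2 ^ k := by rw [← hs]; exact orderOf_dvd_of_pow_eq_one h2
  have h4 : Nat.Coprime (orderOf z) (2 ^ k) :=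
    Nat.Coprime.pow_right k (Nat.coprime_two_right.2 (hVodd z hzV))
  have h5 : orderOf z = 1 := Nat.Coprime.eq_one_of_dvd h4 h3
  have h6 : z = 1 := orderOf_eq_one_iff.1 h5
  rw [h6, one_mul] at hsn
  calc s * n = (s * n * s⁻¹) * s := by rw [inv_mul_cancel_right]
    _ = n * s := by rw [hsn]

end Cfsg.Agent.Helper41.RPD2
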