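import Cfsg.Agent.Lib.Helper64.S4017Defs

/-!
# S4017M (DIH2): two involutions with product of even order commute with a common involution
(helper41 for helper64, S4017)
-/

set_option autoImplicit false

namespace Cfsg.Agent.Helper41.S4017M

open Cfsg.Agent.Helper64.S4017

variable {G : Type*} [Group G] [Finite G] {a p : ℕ} {Q : Subgroup G} {x : G}

omit [Finite G] in
theorem dih_inv {u : G} (hu : IsInv u) : u⁻¹ = u := inv_eq_of_mul_eq_one_left hu.2

omit [Finite G] in
/-- `u (u v) u⁻¹ = (u v)⁻¹` -/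
theorem dih_conj_left {u v : G} (hu : IsInv u) (hv : IsInv v) :
    u * (u * v) * u⁻¹ = (u * v)⁻¹ := by
  rw [mul_inv_rev, dih_inv hu, dih_inv hv, ← mul_assoc, hu.2, one_mul]

omit [Finite G] in
/-- `v (u v) v⁻¹ = (u v)⁻¹` -/
theorem dih_conj_right {u v : G} (hu : IsInv u) (hv : IsInv v) :
    v * (u * v) * v⁻¹ = (u * v)⁻¹ := by
  rw [mul_inv_rev, dih_inv hu, dih_inv hv, mul_assoc, mul_assoc, hv.2, mul_one]

omit [Finite G] in
/-- an element inverting `c` commutes with every power `z` of `c` with `z * z = 1` -/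
theorem dih_commute_pow {s c : G} (h : s * c * s⁻¹ = c⁻¹) (k : ℕ) (hk : c ^ k * c ^ k = 1) :
    c ^ k * s = s * c ^ k := by
  have h1 : s * c ^ k * s⁻¹ = (c ^ k)⁻¹ := by rw [← conj_pow, h, inv_pow]
  rw [inv_eq_of_mul_eq_one_left hk] at h1
  calc c ^ k * s = (s * c ^ k * s⁻¹) * s := by rw [h1]
    _ = s * c ^ k := by rw [inv_mul_cancel_right]

/-- (DIH2) pure group theory. -/
theorem exists_central_inv {u v : G} (hu : IsInv u) (hv : IsInv v) (heven : 2 ∣ orderOf (u * v)) :
    ∃ z : G, IsInv z ∧ z * u = u * z ∧ z * v = v * z := by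
  obtain ⟨m, hm⟩ := heven
  have hpos : 0 < orderOf (u * v) := orderOf_pos _
  have hmpos : 0 < m := by
    rcases Nat.eq_zero_or_pos m with h0 | h0
    · rw [h0, mul_zero] at hm; omega
    · exact h0
  have hzz : (u * v) ^ m * (u * v) ^ m = 1 := by
    rw [← pow_add, ← two_mul, ← hm, pow_orderOf_eq_one]
  have hz1 : (u * v) ^ m ≠ 1 := by
    intro h
    have := orderOf_dvd_of_pow_eq_one h
    have h2 := Nat.le_of_dvd hmpos this
    omega
  exact ⟨(u * v) ^ m, ⟨hz1, hzz⟩, dih_commute_pow (dih_conj_left hu hv) m hzz,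
    dih_commute_pow (dih_conj_right hu hv) m hzz⟩

end Cfsg.Agent.Helper41.S4017M
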