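import Cfsg.Agent.Lib.Helper64.S4017Defs
import Cfsg.Agent.Lib.Helper41.S4017DIH2

/-!
# S4017M (DIH1): the primes dividing the order of a product of two involutions are `2` and `p`
(helper41 for helper64, S4017)
-/

set_option autoImplicit false

namespace Cfsg.Agent.Helper41.S4017M

open Cfsg.Agent.Helper64.S4017

variable {G : Type*} [Group G] [Finite G] {a p : ℕ} {Q : Subgroup G} {x : G}

omit [Finite G] in
theorem dih_orderOf_inv {u : G} (hu : IsInv u) : orderOf u = 2 := by
  haveI : Fact (Nat.Prime 2) := ⟨Nat.prime_two⟩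
  exact orderOf_eq_prime (by rw [sq]; exact hu.2) hu.1

/-- `4 ∣ |G|` in a setting -/
theorem dih_four_dvd (h : Setting a p Q x) : 4 ∣ Nat.card G := by
  have h1 : Nat.card Q ∣ Nat.card G := Subgroup.card_subgroup_dvd_card Q
  rw [h.card_Q] at h1
  have h2 : 4 ∣ 2 ^ a := by
    obtain ⟨k, hk⟩ := Nat.exists_eq_add_of_le h.two_le
    rw [hk, pow_add]
    exact Dvd.intro _ rfl
  exact h2.trans h1

/-- in a setting, a cyclic subgroup `⟨y⟩`, `y ≠ 1`, has proper normaliser -/
theorem dih_normalizer_zpowers_ne_top (h : Setting a p Q x) {y : G} (hy : y ≠ 1) {r : ℕ}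
    (hr : r.Prime) (hyr : orderOf y = r) :
    Subgroup.normalizer ((Subgroup.zpowers y : Subgroup G) : Set G) ≠ ⊤ := by
  intro htop
  haveI := h.simple
  have hnorm : (Subgroup.zpowers y).Normal := Subgroup.normalizer_eq_top_iff.1 htop
  rcases hnorm.eq_bot_or_eq_top with hb | ht
  · exact hy (Subgroup.zpowers_eq_bot.1 hb)
  · have h1 : Nat.card G = r := by
      rw [← Subgroup.card_top (G := G), ← ht, Nat.card_zpowers, hyr]
    have h4 := dih_four_dvd h
    rw [h1] at h4
    have := (Nat.prime_dvd_prime_iff_eq Nat.prime_two hr).1 (dvd_trans (by norm_num) h4)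
    rw [← this] at h4
    omega

/-- (DIH1) `y = (uv)^(n/r)` has order `r` and is inverted by `u`; `⟨y⟩⟨u⟩` has order `2r`, is proper. -/
theorem prime_dvd_orderOf_mul (h : Setting a p Q x) {u v : G} (hu : IsInv u) (hv : IsInv v)
    {r : ℕ} (hr : r.Prime) (hdvd : r ∣ orderOf (u * v)) : r = 2 ∨ r = p := by
  obtain ⟨m, hm⟩ := hdvd
  have hpos : 0 < orderOf (u * v) := orderOf_pos _
  have hmpos : 0 < m := by
    rcases Nat.eq_zero_or_pos m with h0 | h0
    · rw [h0, mul_zero] at hm; omega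
    · exact h0
  -- `y = (uv)^m` has order `r`
  have hyr : orderOf ((u * v) ^ m) = r := by
    rw [orderOf_pow_of_dvd (Nat.pos_iff_ne_zero.1 hmpos) (by rw [hm]; exact Dvd.intro_left r rfl), hm]
    exact Nat.mul_div_cancel r hmpos
  have hy1 : (u * v) ^ m ≠ 1 := by
    intro h1
    rw [h1, orderOf_one] at hyr
    exact hr.one_lt.ne hyr
  -- `u` inverts `y`
  have huy : u * (u * v) ^ m * u⁻¹ = ((u * v) ^ m)⁻¹ := by
    rw [← conj_pow, dih_conj_left hu hv, inv_pow]
  -- `H = N(⟨y⟩)`
  have hH := dih_normalizer_zpowers_ne_top h hy1 hr hyr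
  have huH : u ∈ Subgroup.normalizer ((Subgroup.zpowers ((u * v) ^ m) : Subgroup G) : Set G) := by
    apply Subgroup.mem_normalizer_fintype
    intro n hn
    obtain ⟨k, rfl⟩ := Subgroup.mem_zpowers_iff.1 hn
    have : u * ((u * v) ^ m) ^ k * u⁻¹ = (((u * v) ^ m) ^ k)⁻¹ := by
      rw [← conj_zpow, huy, inv_zpow]
    rw [this]
    exact Subgroup.inv_mem _ (Subgroup.zpow_mem _ (Subgroup.mem_zpowers _) k)
  have hyH : (u * v) ^ m ∈
      Subgroup.normalizer ((Subgroup.zpowers ((u * v) ^ m) : Subgroup G) : Set G) :=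
    Subgroup.le_normalizer (Subgroup.mem_zpowers _)
  have h2 : 2 ∣ Nat.card
      (Subgroup.normalizer ((Subgroup.zpowers ((u * v) ^ m) : Subgroup G) : Set G)) := by
    rw [← dih_orderOf_inv hu]
    exact Subgroup.orderOf_dvd_natCard _ huH
  have hrd : r ∣ Nat.card
      (Subgroup.normalizer ((Subgroup.zpowers ((u * v) ^ m) : Subgroup G) : Set G)) := by
    rw [← hyr]
    exact Subgroup.orderOf_dvd_natCard _ hyH
  exact h.star _ hH h2 r hr hrd

end Cfsg.Agent.Helper41.S4017M
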