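import Cfsg.Agent.Lib.Helper64.S4017Defs
import Cfsg.Agent.Lib.Helper41.S4017DIH2
import Cfsg.Agent.Lib.Helper41.S4017DIH1

/-!
# S4017M (E1): in a setting there are two non-commuting involutions
(helper41 for helper64, S4017)
-/

set_option autoImplicit false

namespace Cfsg.Agent.Helper41.S4017M

open Cfsg.Agent.Helper64.S4017

variable {G : Type*} [Group G] [Finite G] {a p : ℕ} {Q : Subgroup G} {x : G}

omit [Finite G] in
/-- conjugates of involutions are involutions -/
theorem e1_isInv_conj {u : G} (hu : IsInv u) (g : G) : IsInv (g * u * g⁻¹) := by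
  refine ⟨?_, ?_⟩
  · intro h
    apply hu.1
    have := congrArg (fun z => g⁻¹ * z * g) h
    simpa [mul_assoc] using this
  · calc g * u * g⁻¹ * (g * u * g⁻¹) = g * (u * u) * g⁻¹ := by group
      _ = 1 := by rw [hu.2, mul_one, mul_inv_cancel]

/-- `Q` contains an involution -/
theorem e1_exists_inv (h : Setting a p Q x) : ∃ t ∈ Q, IsInv t := by
  have h1 : 1 < Nat.card Q := by
    rw [h.card_Q]
    exact Nat.one_lt_two_pow (by have := h.two_le; omega)
  haveI : Nontrivial Q := Finite.one_lt_card_iff_nontrivial.1 h1
  obtain ⟨t, ht⟩ := exists_ne (1 : Q)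
  refine ⟨(t : G), t.2, ?_, h.elem _ t.2⟩
  intro h'
  exact ht (Subtype.ext h')

/-- (E1) -/
theorem exists_invs_not_comm (h : Setting a p Q x) :
    ∃ u v : G, IsInv u ∧ IsInv v ∧ u * v ≠ v * u := by
  by_contra hcon
  have hall : ∀ u v : G, IsInv u → IsInv v → u * v = v * u := by
    intro u v hu hv
    by_contra hne
    exact hcon ⟨u, v, hu, hv, hne⟩
  haveI := h.simple
  obtain ⟨t, htQ, ht⟩ := e1_exists_inv h
  -- the centraliser of the set of involutions is normal and contains `t`
  have hCn : (Subgroup.centralizer {u : G | IsInv u}).Normal := by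
    constructor
    intro n hn g
    rw [Subgroup.mem_centralizer_iff] at hn ⊢
    intro u hu
    have hu' : IsInv (g⁻¹ * u * g) := by
      have := e1_isInv_conj hu g⁻¹
      rwa [inv_inv] at this
    have h1 := hn _ hu'
    calc u * (g * n * g⁻¹) = g * ((g⁻¹ * u * g) * n) * g⁻¹ := by group
      _ = g * (n * (g⁻¹ * u * g)) * g⁻¹ := by rw [h1]
      _ = g * n * g⁻¹ * u := by group
  have htC : t ∈ Subgroup.centralizer {u : G | IsInv u} := by
    rw [Subgroup.mem_centralizer_iff]
    intro u hu
    exact hall u t hu ht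
  have hCtop : Subgroup.centralizer {u : G | IsInv u} = ⊤ := by
    rcases hCn.eq_bot_or_eq_top with hb | htop
    · exfalso
      rw [hb, Subgroup.mem_bot] at htC
      exact ht.1 htC
    · exact htop
  -- `t` is central
  have htcen : t ∈ Subgroup.center G := by
    rw [Subgroup.mem_center_iff]
    intro g
    have hg : g ∈ Subgroup.centralizer {u : G | IsInv u} := by rw [hCtop]; trivial
    exact ((Subgroup.mem_centralizer_iff.1 hg) t ht).symm
  have hcen : Subgroup.center G = ⊤ := by
    rcases (Subgroup.instNormalCenter (G := G)).eq_bot_or_eq_top with hb | htop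
    · exfalso
      rw [hb, Subgroup.mem_bot] at htcen
      exact ht.1 htcen
    · exact htop
  have hcomm : ∀ g n : G, g * n = n * g := by
    intro g n
    have hn : n ∈ Subgroup.center G := by rw [hcen]; trivial
    exact (Subgroup.mem_center_iff.1 hn g)
  -- `⟨t⟩` is normal, hence everything
  have hzn : (Subgroup.zpowers t).Normal := by
    constructor
    intro n hn g
    rw [hcomm g n, mul_inv_cancel_right]
    exact hn
  rcases hzn.eq_bot_or_eq_top with hb | htop
  · exact ht.1 (Subgroup.zpowers_eq_bot.1 hb)
  · have h1 : Nat.card G = 2 := by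
      rw [← Subgroup.card_top (G := G), ← htop, Nat.card_zpowers, dih_orderOf_inv ht]
    have h4 := dih_four_dvd h
    rw [h1] at h4
    omega

end Cfsg.Agent.Helper41.S4017M
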