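import Mathlib

set_option autoImplicit false

/-!
The ring automorphism group of a finite field with `p ^ f` elements is cyclic of order `f`.
-/

namespace Cfsg.Agent.Helper41

variable {F : Type*} [Field F]

/-- the ring automorphism group of a finite field with `p ^ f` elements is cyclic of order `f` -/
theorem ringAut_cyclic_card [Fintype F] (p f : ℕ) [Fact p.Prime] [CharP F p]
    (hF : Fintype.card F = p ^ f) : IsCyclic (RingAut F) ∧ Nat.card (RingAut F) = f := by
  letI : Algebra (ZMod p) F := ZMod.algebra F p
  let e : RingAut F ≃* (F ≃ₐ[ZMod p] F) :=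
    { toFun := fun e => AlgEquiv.ofRingEquiv (f := e) (fun x => by
        have h : (e : F →+* F).comp (algebraMap (ZMod p) F) = algebraMap (ZMod p) F :=
          Subsingleton.elim _ _
        exact DFunLike.congr_fun h x)
      invFun := fun g => g.toRingEquiv
      left_inv := fun e => by
        ext x
        rfl
      right_inv := fun g => by
        ext x
        rfl
      map_mul' := fun e₁ e₂ => by
        ext x
        rfl }
  have hfin : Module.finrank (ZMod p) F = f := by
    have h := Module.card_eq_pow_finrank (K := ZMod p) (V := F)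
    rw [ZMod.card, hF] at h
    exact (Nat.pow_right_injective (Fact.out : p.Prime).two_le h).symm
  refine ⟨isCyclic_of_surjective e.symm.toMonoidHom e.symm.surjective, ?_⟩
  rw [Nat.card_congr e.toEquiv]
  have h1 : Nat.card (F ≃ₐ[ZMod p] F) = Module.finrank (ZMod p) F :=
    IsGalois.card_aut_eq_finrank (ZMod p) F
  rw [h1, hfin]

/-- `RingAut F ≃* ℤ/f` -/
theorem exists_ringAut_equiv_zmod [Fintype F] (p f : ℕ) [Fact p.Prime] [CharP F p] (hf : 1 ≤ f)
    (hF : Fintype.card F = p ^ f) : Nonempty (RingAut F ≃* Multiplicative (ZMod f)) := by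
  haveI : NeZero f := ⟨by omega⟩
  obtain ⟨hc, hcard⟩ := ringAut_cyclic_card (F := F) p f hF
  haveI := hc
  refine ⟨mulEquivOfCyclicCardEq ?_⟩
  rw [hcard, Nat.card_eq_fintype_card, Fintype.card_multiplicative, ZMod.card]

end Cfsg.Agent.Helper41
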