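import Mathlib
import Cfsg.Agent.Lib.Helper5.OrthAut2

/-!
# OSS piece (P6) for helper13's S2721 server: lifting an odd-order element of the PGO-image to an
isometry of the same order.
-/

set_option autoImplicit false
set_option linter.unusedSectionVars false

namespace Cfsg.Agent.Helper41.OSS

open Matrix QuadraticMap Cfsg.Agent.Helper5.OrthAut

variable {F : Type*} [Field F] {ι : Type} [Fintype ι] [DecidableEq ι]

/-- scalar matrices are central in `GL` -/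
theorem h41_sclHom_commute (c : Fˣ) (g : GL ι F) : Commute (sclHom (ι := ι) c) g := by
  apply Units.ext
  rw [Units.val_mul, Units.val_mul, sclHom_coe]
  simp

/-- powers of a similarity scale `Q` by the power of the multiplier -/
theorem h41_pow_sim (Q : QuadraticForm F (ι → F)) (g : GL ι F) (μ : Fˣ)
    (h : ∀ v, Q ((g : Matrix ι ι F) *ᵥ v) = (μ : F) * Q v) (n : ℕ) (v : ι → F) :
    Q (((g ^ n : GL ι F) : Matrix ι ι F) *ᵥ v) = ((μ ^ n : Fˣ) : F) * Q v := by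
  induction n generalizing v with
  | zero => simp
  | succ n ih =>
    rw [pow_succ, Units.val_mul, ← Matrix.mulVec_mulVec, ih, h, pow_succ, Units.val_mul]
    ring

/-- (P6) an element `x` of the PGO-image with `x^r = 1`, `r` odd, is induced by an ISOMETRY `t`
with `t^r = 1`. -/
theorem exists_iso_lift (Q : QuadraticForm F (ι → F))
    (hperf : commutator ↥(Cfsg.Omega F ⇑Q) = ⊤)
    (hcent : ∀ Z : Matrix ι ι F, (∀ s : ↥(Cfsg.Omega F ⇑Q), Z * omat (⇑Q) s = omat (⇑Q) s * Z) →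
      ∃ c : F, Z = c • (1 : Matrix ι ι F))
    (hQ0 : ∃ v : ι → F, Q v ≠ 0)
    (x : MulAut (Cfsg.POmega F ⇑Q)) (hx : x ∈ Cfsg.pgoAut F ⇑Q) (r : ℕ) (hr : Odd r)
    (hxr : x ^ r = 1) :
    ∃ (t : GL ι F) (ht : t ∈ Cfsg.isometryGroup F ⇑Q), t ^ r = 1 ∧
      Phi (⇑Q) ⟨t, Subgroup.le_normalizer ht⟩ = x := by
  rw [pgoAut_eq] at hx
  obtain ⟨g₀, hg₀, rfl⟩ := hx
  have hg₀' : (g₀ : GL ι F) ∈ Cfsg.Geo.quadSimilarityGroup (F := F) ⇑Q := hg₀
  obtain ⟨μ₀, hμ₀⟩ := (mem_sim_iff (⇑Q) (g₀ : GL ι F)).1 hg₀'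
  have hker : g₀ ^ r ∈ (Phi ⇑Q).ker := by
    rw [MonoidHom.mem_ker, map_pow]
    exact hxr
  rw [ker_Phi ⇑Q hperf hcent, Subgroup.mem_subgroupOf] at hker
  obtain ⟨l, hl⟩ := exists_sclHom_of_mem hker
  have hl' : (g₀ : GL ι F) ^ r = sclHom l := by
    rw [← hl]
    rfl
  obtain ⟨j, rfl⟩ := hr
  -- μ₀ ^ r = l ^ 2
  have hμl : μ₀ ^ (2 * j + 1) = l ^ 2 := by
    obtain ⟨v, hv⟩ := hQ0
    have h1 := h41_pow_sim Q (g₀ : GL ι F) μ₀ hμ₀ (2 * j + 1) v
    rw [hl', sclHom_mulVec, QuadraticMap.map_smul, smul_eq_mul] at h1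
    apply Units.ext
    rw [pow_two, Units.val_mul]
    exact (mul_right_cancel₀ hv h1).symm
  set c : Fˣ := μ₀ ^ j * l⁻¹ with hc
  have h1 : c ^ 2 * μ₀ = 1 := by
    rw [hc, mul_pow, inv_pow, ← pow_mul, mul_right_comm, mul_inv_eq_one, ← pow_succ, ← hμl]
    congr 1
    ring
  have h2 : c ^ (2 * j + 1) * l = 1 := by
    have h3 : c * l = μ₀ ^ j := by
      rw [hc]
      simp
    rw [pow_succ, mul_assoc, h3, pow_mul, ← mul_pow, h1, one_pow]
  have ht : sclHom c * (g₀ : GL ι F) ∈ Cfsg.isometryGroup F ⇑Q := by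
    rw [mem_iso_iff]
    intro u
    rw [Units.val_mul, ← Matrix.mulVec_mulVec, sclHom_mulVec, QuadraticMap.map_smul, hμ₀,
      smul_eq_mul]
    have h4 := congrArg (fun z : Fˣ => (z : F)) h1
    simp only [Units.val_mul, Units.val_pow_eq_pow_val, Units.val_one] at h4
    linear_combination (Q u) * h4
  refine ⟨sclHom c * (g₀ : GL ι F), ht, ?_, ?_⟩
  · rw [(h41_sclHom_commute c (g₀ : GL ι F)).mul_pow, hl', ← map_pow, ← map_mul, h2, map_one]
  · have hcN : sclHom (ι := ι) c ∈ NO ⇑Q := sim_le_NO ⇑Q (sclHom_mem_GO Q c)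
    have h5 : (⟨sclHom c * (g₀ : GL ι F), Subgroup.le_normalizer ht⟩ : ↥(NO ⇑Q)) =
        ⟨sclHom c, hcN⟩ * g₀ := Subtype.ext rfl
    have h6 : Phi (⇑Q) ⟨sclHom c, hcN⟩ = 1 := by
      rw [← MonoidHom.mem_ker, ker_Phi ⇑Q hperf hcent, Subgroup.mem_subgroupOf]
      exact sclHom_mem c
    rw [h5, map_mul, h6, one_mul]

end Cfsg.Agent.Helper41.OSS
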