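import Mathlib
import Cfsg.Agent.Lib.Helper14.GLIDefs

/-!
# GLI (ORBCOUNT) (helper41, for helper14 server, S5958)
`N = ∑_{m<r} x^m` is injective on `⨁_{j ∈ J₀} D j`, `J₀` the set of minima of the `σ`-orbits.
-/

set_option autoImplicit false

namespace Cfsg.Agent.Helper41.GLI

open Module Polynomial Cfsg.Agent.Helper14.GLI

/-- independence over a fintype: a family summing to zero vanishes -/
theorem h41_indep_sum_zero {F V : Type*} [Field F] [AddCommGroup V] [Module F V] {t : ℕ}
    (D : Fin t → Submodule F V) (hind : iSupIndep D) (v : ∀ k, D k)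
    (h : ∑ k, (v k : V) = 0) : ∀ k, v k = 0 := by
  classical
  have hinj := hind.dfinsupp_lsum_injective
  have h0 : DFinsupp.lsum ℕ (fun i => (D i).subtype) (DFinsupp.equivFunOnFintype.symm v) =
      DFinsupp.lsum ℕ (fun i => (D i).subtype) 0 := by
    rw [map_zero, DFinsupp.lsum_apply_apply, DFinsupp.sumAddHom_apply,
      DFinsupp.sum_eq_sum_fintype]
    · exact h
    · intro i; simp
  have h1 := hinj h0
  intro k
  exact DFunLike.congr_fun h1 k


section comb
variable {t : ℕ} (σ : Equiv.Perm (Fin t))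

/-- the minima of the `σ`-orbits -/
noncomputable def h41_J0 : Finset (Fin t) := by
  classical exact Finset.univ.filter (fun j => ∀ k, σ.SameCycle j k → j ≤ k)

theorem h41_mem_J0 (j : Fin t) : j ∈ h41_J0 σ ↔ ∀ k, σ.SameCycle j k → j ≤ k := by
  classical
  unfold h41_J0
  simp

theorem h41_exists_min (k : Fin t) : ∃ j ∈ h41_J0 σ, σ.SameCycle j k := by
  classical
  set S : Finset (Fin t) := Finset.univ.filter (fun j => σ.SameCycle k j) with hS
  have hne : S.Nonempty := ⟨k, by simp [hS, Equiv.Perm.SameCycle.refl]⟩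
  refine ⟨S.min' hne, ?_, ?_⟩
  · rw [h41_mem_J0]
    intro k' hk'
    have h1 : S.min' hne ∈ S := Finset.min'_mem S hne
    have h2 : σ.SameCycle k (S.min' hne) := by simpa [hS] using h1
    have h3 : k' ∈ S := by simp [hS]; exact h2.trans hk'
    exact Finset.min'_le S k' h3
  · have h1 : S.min' hne ∈ S := Finset.min'_mem S hne
    have h2 : σ.SameCycle k (S.min' hne) := by simpa [hS] using h1
    exact h2.symm

theorem h41_J0_unique {j j' : Fin t} (hj : j ∈ h41_J0 σ) (hj' : j' ∈ h41_J0 σ)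
    (h : σ.SameCycle j j') : j = j' := by
  rw [h41_mem_J0] at hj hj'
  exact le_antisymm (hj j' h) (hj' j h.symm)

theorem h41_exists_pow {r : ℕ} (hr : 0 < r) (hσr : σ ^ r = 1) {j k : Fin t}
    (h : σ.SameCycle j k) : ∃ m < r, (σ ^ m) j = k := by
  obtain ⟨i, hi⟩ := h
  have h1 : σ ^ i = σ ^ (i % (r : ℤ)) := zpow_eq_zpow_emod' i hσr
  have hr' : (0 : ℤ) < r := by exact_mod_cast hr
  have h2 : 0 ≤ i % (r : ℤ) := Int.emod_nonneg _ hr'.ne'
  have h3 : i % (r : ℤ) < r := Int.emod_lt_of_pos _ hr'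
  refine ⟨(i % (r : ℤ)).toNat, by omega, ?_⟩
  rw [← hi, h1]
  have h4 : ((i % (r : ℤ)).toNat : ℤ) = i % (r : ℤ) := Int.toNat_of_nonneg h2
  rw [← zpow_natCast, h4]

theorem h41_pow_inj {r : ℕ} (hr : r.Prime) (hσr : σ ^ r = 1) {j : Fin t} (hj : σ j ≠ j)
    {m m' : ℕ} (hm : m < r) (hm' : m' < r) (h : (σ ^ m) j = (σ ^ m') j) : m = m' := by
  have hper : Function.IsPeriodicPt σ r j := by
    show (σ)^[r] j = j
    rw [Equiv.Perm.iterate_eq_pow, hσr]; rfl
  have hdvd : Function.minimalPeriod σ j ∣ r := Function.isPeriodicPt_iff_minimalPeriod_dvd.1 hper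
  have hmp : Function.minimalPeriod σ j = r := by
    rcases (Nat.dvd_prime hr).1 hdvd with h1 | h1
    · exfalso
      exact hj (Function.minimalPeriod_eq_one_iff_isFixedPt.1 h1)
    · exact h1
  have h' : (σ)^[m] j = (σ)^[m'] j := by
    rw [Equiv.Perm.iterate_eq_pow, Equiv.Perm.iterate_eq_pow]; exact h
  exact (Function.iterate_eq_iterate_iff_of_lt_minimalPeriod (by rw [hmp]; exact hm)
    (by rw [hmp]; exact hm')).1 h'

theorem h41_pow_fixed {j : Fin t} (hj : σ j = j) (m : ℕ) : (σ ^ m) j = j := by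
  induction m with
  | zero => simp
  | succ m ih => rw [pow_succ, Equiv.Perm.mul_apply, hj, ih]

theorem h41_fixed_mem_J0 {j : Fin t} (hj : σ j = j) : j ∈ h41_J0 σ := by
  rw [h41_mem_J0]
  intro k hk
  obtain ⟨i, hi⟩ := hk
  have : (σ ^ i) j = j := by
    have := Equiv.Perm.zpow_apply_eq_self_of_apply_eq_self hj i
    exact this
  rw [← hi, this]

theorem h41_card_nonfixed {r : ℕ} (hr : r.Prime) (hσr : σ ^ r = 1) :
    (Finset.univ.filter (fun j => σ j ≠ j)).card =
      ((h41_J0 σ).filter (fun j => σ j ≠ j)).card * r := by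
  classical
  rw [← Finset.card_range r, ← Finset.card_product]
  symm
  refine Finset.card_bij (fun p _ => (σ ^ p.2) p.1) ?_ ?_ ?_
  · intro p hp
    simp only [Finset.mem_product, Finset.mem_filter, Finset.mem_range] at hp
    simp only [Finset.mem_filter, Finset.mem_univ, true_and]
    intro h
    apply hp.1.2
    have h1 : (σ ^ p.2) (σ p.1) = (σ ^ p.2) p.1 := by
      rw [← Equiv.Perm.mul_apply, ← pow_succ, pow_succ', Equiv.Perm.mul_apply]; exact h
    exact (σ ^ p.2).injective h1
  · intro p hp q hq h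
    simp only [Finset.mem_product, Finset.mem_filter, Finset.mem_range] at hp hq
    have hsc : σ.SameCycle p.1 q.1 := by
      have h1 : σ.SameCycle p.1 ((σ ^ p.2) p.1) := ⟨p.2, by simp⟩
      have h2 : σ.SameCycle q.1 ((σ ^ q.2) q.1) := ⟨q.2, by simp⟩
      rw [h] at h1
      exact h1.trans h2.symm
    have h1 : p.1 = q.1 := h41_J0_unique σ hp.1.1 hq.1.1 hsc
    have h2 : p.2 = q.2 := by
      apply h41_pow_inj σ hr hσr hp.1.2 hp.2 hq.2
      rw [h, h1]
    exact Prod.ext h1 h2
  · intro k hk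
    simp only [Finset.mem_filter, Finset.mem_univ, true_and] at hk
    obtain ⟨j, hj, hjk⟩ := h41_exists_min σ k
    obtain ⟨m, hm, hmk⟩ := h41_exists_pow σ hr.pos hσr hjk
    refine ⟨(j, m), ?_, hmk⟩
    simp only [Finset.mem_product, Finset.mem_filter, Finset.mem_range]
    refine ⟨⟨hj, ?_⟩, hm⟩
    intro hfix
    apply hk
    rw [← hmk, h41_pow_fixed σ hfix]
    exact hfix

theorem h41_card_J0 :
    (h41_J0 σ).card = ((h41_J0 σ).filter (fun j => σ j ≠ j)).card +
      (Finset.univ.filter (fun j => σ j = j)).card := by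
  classical
  have h1 := Finset.card_filter_add_card_filter_not (s := h41_J0 σ) (fun j => σ j ≠ j)
  rw [← h1]
  congr 1
  congr 1
  ext j
  simp only [Finset.mem_filter, Finset.mem_univ, true_and, not_not]
  constructor
  · intro h; exact h.2
  · intro h; exact ⟨h41_fixed_mem_J0 σ h, h⟩

end comb


theorem h41_map_pow {F V : Type*} [Field F] [AddCommGroup V] [Module F V]
    (x : V →ₗ[F] V) {t : ℕ} (D : Fin t → Submodule F V) (σ : Equiv.Perm (Fin t))
    (hσ : ∀ j, (D j).map x = D (σ j)) (m : ℕ) (j : Fin t) :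
    (D j).map (x ^ m) = D ((σ ^ m) j) := by
  induction m with
  | zero => simp [Module.End.one_eq_id]
  | succ m ih =>
    rw [pow_succ', Module.End.mul_eq_comp, Submodule.map_comp, ih, hσ, pow_succ',
      Equiv.Perm.mul_apply]

theorem orbit_count {F V : Type*} [Field F] [AddCommGroup V] [Module F V]
    [FiniteDimensional F V] (x : V →ₗ[F] V) (r : ℕ) [Fact r.Prime] (hr0 : (r : F) ≠ 0)
    (hxr : x ^ r = 1)
    {t : ℕ} (a : ℕ) (ha : 0 < a) (D : Fin t → Submodule F V) (hDa : ∀ j, finrank F (D j) = a)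
    (hind : iSupIndep D) (σ : Equiv.Perm (Fin t)) (hσ : ∀ j, (D j).map x = D (σ j))
    (htriv : ∀ j, σ j = j → ∀ v ∈ D j, x v = v) :
    ∃ s : ℕ, (Finset.univ.filter (fun j => σ j ≠ j)).card = s * r ∧
      a * (s + (Finset.univ.filter (fun j => σ j = j)).card) ≤
        finrank F (LinearMap.ker (x - 1)) := by
  classical
  have hr : r.Prime := Fact.out
  -- `D` is injective
  have hDne : ∀ j, D j ≠ ⊥ := by
    intro j h
    have := hDa j
    rw [h, finrank_bot] at this
    omega
  have hDinj : Function.Injective D := hind.injective hDne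
  have hmap := h41_map_pow x D σ hσ
  have hσr : σ ^ r = 1 := by
    ext j
    have h1 := hmap r j
    rw [hxr, Module.End.one_eq_id, Submodule.map_id] at h1
    have h2 := hDinj h1
    rw [← h2]; rfl
  have hmem : ∀ (m : ℕ) (j : Fin t) (v : V), v ∈ D j → (x ^ m) v ∈ D ((σ ^ m) j) := by
    intro m j v hv
    rw [← hmap m j]
    exact Submodule.mem_map_of_mem hv
  have hfixpow : ∀ j, σ j = j → ∀ v ∈ D j, ∀ m : ℕ, (x ^ m) v = v := by
    intro j hj v hv m
    induction m with
    | zero => simp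
    | succ m ih => rw [pow_succ', Module.End.mul_apply, ih, htriv j hj v hv]
  refine ⟨((h41_J0 σ).filter (fun j => σ j ≠ j)).card, h41_card_nonfixed σ hr hσr, ?_⟩
  rw [← h41_card_J0 σ]
  -- the map
  set N : V →ₗ[F] V := ∑ m ∈ Finset.range r, x ^ m with hN
  set S : (∀ j : ↥(h41_J0 σ), ↥(D j)) →ₗ[F] V :=
    ∑ j : ↥(h41_J0 σ), (D j).subtype ∘ₗ LinearMap.proj j with hS
  have hSapp : ∀ w : (∀ j : ↥(h41_J0 σ), ↥(D j)), S w = ∑ j : ↥(h41_J0 σ), ((w j : ↥(D j)) : V) := by
    intro w
    simp [hS, LinearMap.sum_apply]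
  have hker : ∀ v : V, N v ∈ LinearMap.ker (x - 1) := by
    intro v
    rw [LinearMap.mem_ker]
    have h1 : (x - 1) * N = 0 := by
      rw [hN, mul_geom_sum, hxr, sub_self]
    have h2 := LinearMap.congr_fun h1 v
    simpa [Module.End.mul_apply] using h2
  set Φ : (∀ j : ↥(h41_J0 σ), ↥(D j)) →ₗ[F] ↥(LinearMap.ker (x - 1)) :=
    LinearMap.codRestrict (LinearMap.ker (x - 1)) (N ∘ₗ S) (fun w => hker (S w)) with hΦ
  have hinj : Function.Injective Φ := by
    rw [← LinearMap.ker_eq_bot, LinearMap.ker_eq_bot']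
    intro w hw
    have hw' : N (S w) = 0 := by
      have := congrArg Subtype.val hw
      simpa [hΦ] using this
    -- regroup
    have hvmem : ∀ k : Fin t, (∑ j : ↥(h41_J0 σ), ∑ m ∈ Finset.range r,
        if (σ ^ m) (j : Fin t) = k then (x ^ m) ((w j : ↥(D j)) : V) else 0) ∈ D k := by
      intro k
      refine Submodule.sum_mem _ (fun j _ => Submodule.sum_mem _ (fun m _ => ?_))
      split_ifs with h
      · rw [← h]; exact hmem m j _ (w j).2
      · exact Submodule.zero_mem _
    have hsum : ∑ k : Fin t, (∑ j : ↥(h41_J0 σ), ∑ m ∈ Finset.range r,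
        if (σ ^ m) (j : Fin t) = k then (x ^ m) ((w j : ↥(D j)) : V) else 0) = 0 := by
      rw [Finset.sum_comm]
      have : ∀ j : ↥(h41_J0 σ), ∑ k : Fin t, ∑ m ∈ Finset.range r,
          (if (σ ^ m) (j : Fin t) = k then (x ^ m) ((w j : ↥(D j)) : V) else 0) =
          N ((w j : ↥(D j)) : V) := by
        intro j
        rw [Finset.sum_comm, hN, LinearMap.sum_apply]
        refine Finset.sum_congr rfl (fun m _ => ?_)
        rw [Finset.sum_ite_eq]
        simp
      rw [Finset.sum_congr rfl (fun j _ => this j), ← map_sum, ← hSapp]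
      exact hw'
    have hv0 := h41_indep_sum_zero D hind (fun k => ⟨_, hvmem k⟩) hsum
    funext j₀
    have h0 : (∑ j : ↥(h41_J0 σ), ∑ m ∈ Finset.range r,
        if (σ ^ m) (j : Fin t) = (j₀ : Fin t) then (x ^ m) ((w j : ↥(D j)) : V) else 0) = 0 := by
      have := congrArg Subtype.val (hv0 (j₀ : Fin t))
      simpa using this
    rw [Finset.sum_eq_single j₀] at h0
    · apply Subtype.ext
      show ((w j₀ : ↥(D j₀)) : V) = 0
      by_cases hfix : σ (j₀ : Fin t) = (j₀ : Fin t)
      · have h1 : ∀ m ∈ Finset.range r, (if (σ ^ m) (j₀ : Fin t) = (j₀ : Fin t) then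
            (x ^ m) ((w j₀ : ↥(D j₀)) : V) else 0) = ((w j₀ : ↥(D j₀)) : V) := by
          intro m _
          rw [if_pos (h41_pow_fixed σ hfix m), hfixpow _ hfix _ (w j₀).2 m]
        rw [Finset.sum_congr rfl h1, Finset.sum_const, Finset.card_range] at h0
        rw [← Nat.cast_smul_eq_nsmul F] at h0
        exact (smul_eq_zero.1 h0).resolve_left hr0
      · have h1 : ∀ m ∈ Finset.range r, m ≠ 0 → (if (σ ^ m) (j₀ : Fin t) = (j₀ : Fin t) then
            (x ^ m) ((w j₀ : ↥(D j₀)) : V) else 0) = 0 := by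
          intro m hm hm0
          rw [if_neg]
          intro h
          apply hm0
          exact h41_pow_inj σ hr hσr hfix (Finset.mem_range.1 hm) hr.pos (by simpa using h)
        rw [Finset.sum_eq_single 0 h1] at h0
        · simpa using h0
        · intro h; exact absurd (Finset.mem_range.2 hr.pos) h
    · intro j _ hj
      apply Finset.sum_eq_zero
      intro m _
      rw [if_neg]
      intro h
      apply hj
      apply Subtype.ext
      apply h41_J0_unique σ j.2 j₀.2
      exact ⟨m, by simpa using h⟩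
    · intro h; exact absurd (Finset.mem_univ _) h
  have hle := LinearMap.finrank_le_finrank_of_injective hinj
  have hfr : finrank F (∀ j : ↥(h41_J0 σ), ↥(D j)) = a * (h41_J0 σ).card := by
    rw [Module.finrank_pi_fintype]
    simp [hDa, mul_comm]
  rw [hfr] at hle
  exact hle

end Cfsg.Agent.Helper41.GLI
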