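import Mathlib
import Cfsg.Agent.Lib.Helper2.SS0
import Cfsg.Agent.Lib.Helper2.SRC0

/-!
# SS project (S2411, helper2 server): piece (Y3) `y_act` (helper41)
-/

set_option autoImplicit false

namespace Cfsg.Agent.Helper41.SS

open Matrix Cfsg Cfsg.Agent.Helper13 Cfsg.Agent.Helper84.SpRoot Cfsg.Agent.Helper5.SpAut
open Cfsg.Agent.Helper2.SR Cfsg.Agent.Helper2.SS

section Y
variable {F : Type*} [Field F] {m : ℕ}

theorem h41_one_ne_zero : (1 : Fin (m + 2)) ≠ 0 := by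
  intro h
  have := congrArg Fin.val h
  simp at this

theorem h41_wp_e0 (ξ : F) :
    Cfsg.sympForm (m + 2) F (be (m := m) 0) (wpV (m := m) ξ) = 0 := by
  rw [(form_basis _ _).2.2.1]
  have h10 : (1 : Fin (m + 2)) ≠ 0 := h41_one_ne_zero
  simp [wpV, be, bf, h10.symm]

theorem h41_w_e0 :
    Cfsg.sympForm (m + 2) F (be (m := m) 0) (wV (m := m) (F := F)) = 0 := by
  rw [(form_basis _ _).2.2.1]
  simp [wV, be]

theorem h41_wp_e1 (ξ : F) :
    Cfsg.sympForm (m + 2) F (be (m := m) 1) (wpV (m := m) ξ) = -1 := by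
  rw [(form_basis _ _).2.2.1]
  simp [wpV, be, bf]

theorem h41_w_e1 :
    Cfsg.sympForm (m + 2) F (be (m := m) 1) (wV (m := m) (F := F)) = 0 := by
  rw [(form_basis _ _).2.2.1]
  simp [wV, be]

theorem h41_wp_w (ξ : F) :
    Cfsg.sympForm (m + 2) F (wpV (m := m) ξ) (wV (m := m) (F := F)) = 1 := by
  have h10 : (1 : Fin (m + 2)) ≠ 0 := h41_one_ne_zero
  rw [wV, sympForm_sub_right, (form_basis _ _).1, (form_basis _ _).1]
  simp [wpV, be, bf, h10.symm]

theorem h41_y_e0 (α β ξ : F) :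
    (yEl (m := m) α β ξ).val *ᵥ be 0 = be 0 := by
  rw [yEl, mul_act, sympT_act (wpV ξ) β, h41_wp_e0, mul_zero, zero_smul, add_zero, sympT_act,
    h41_w_e0, mul_zero, zero_smul, add_zero]

/-- (Y3) -/
theorem y_act (α β ξ : F) :
    (yEl (m := m) α β ξ).val *ᵥ be 0 = be 0 ∧
    (yEl (m := m) α β ξ).val *ᵥ be 1 = dV α β ξ ∧
    (∀ c : F, sympT (be (m := m) 0) c * yEl α β ξ = yEl α β ξ * sympT (be 0) c) := by
  refine ⟨h41_y_e0 α β ξ, ?_, ?_⟩
  · rw [yEl, mul_act, sympT_act (wpV ξ) β, h41_wp_e1, sympT_act, sympForm_add_left,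
      sympForm_smul_left, h41_w_e1, h41_wp_w, dV, wV, wpV]
    module
  · intro c
    have h := conj_sympT (yEl (m := m) α β ξ) (be 0) c
    rw [h41_y_e0] at h
    conv_lhs => rw [← h]
    group

end Y

end Cfsg.Agent.Helper41.SS
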