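import Mathlib
import Cfsg.Prelude.Def_Sporadic
import Cfsg.Prelude.Def_Sporadic_a
import Cfsg.Agent.Lib.Helper7.M11UDefs
import Cfsg.Agent.Lib.Helper37.M11Q5

/-!
# M11U (L4): Sylow 3-subgroups of a simple group of order 7920 are TI (helper41 for helper7, S0420)
-/

set_option autoImplicit false

namespace Cfsg.Agent.Helper41.M11U

open Subgroup Cfsg.Agent.Helper7.M11U
open scoped Pointwise

variable {G : Type*} [Group G] [Finite G]

/-- (L4) Sylow 3-subgroups are TI.  If `R ≠ R'` and `R ⊓ R' ≠ ⊥` then `|R ⊓ R'| = 3`; take `w` inverting `R` (h3), apply `h4a`; case 36 is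
`Cfsg.Agent.Helper37.M11.false_of_36 B.h48 D R R' …` (ON MAIN: import Cfsg.Agent.Lib.Helper37.M11Q5; `Cen`/`CenS`/`NorS` are abbrevs of Lib/Helper74/M11Defs), case 72 is `h4c`
(`|N(D)| = 2·72`). -/
theorem loc_ti (B : Base G)
    (hcard3 : ∀ R : Sylow 3 G, Nat.card (R : Subgroup G) = 9)
    (hcomm : ∀ R : Sylow 3 G, ∀ x ∈ (R : Subgroup G), ∀ y ∈ (R : Subgroup G), x * y = y * x)
    (h3 : ∀ R : Sylow 3 G, ∃ t : G, orderOf t = 2 ∧ Inverts t (R : Subgroup G))
    (h4a : ∀ (R R' : Sylow 3 G), Nat.card ((R : Subgroup G) ⊓ (R' : Subgroup G) : Subgroup G) = 3 →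
      ∀ w : G, orderOf w = 2 → Inverts w (R : Subgroup G) →
      (Nat.card (centralizer (((R : Subgroup G) ⊓ (R' : Subgroup G) : Subgroup G) : Set G)) = 36 ∨
        Nat.card (centralizer (((R : Subgroup G) ⊓ (R' : Subgroup G) : Subgroup G) : Set G)) = 72) ∧
      Nat.card (normalizer (((R : Subgroup G) ⊓ (R' : Subgroup G) : Subgroup G) : Set G)) =
        2 * Nat.card (centralizer (((R : Subgroup G) ⊓ (R' : Subgroup G) : Subgroup G) : Set G)) ∧
      w ∈ normalizer (((R : Subgroup G) ⊓ (R' : Subgroup G) : Subgroup G) : Set G) ∧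
      w ∉ centralizer (((R : Subgroup G) ⊓ (R' : Subgroup G) : Subgroup G) : Set G))
    (h4c : ∀ (R R' : Sylow 3 G), R ≠ R' → ∀ D : Subgroup G, Nat.card D = 3 → D ≤ (R : Subgroup G) →
      D ≤ (R' : Subgroup G) → Nat.card (centralizer (D : Set G)) = 72 →
      Nat.card (normalizer (D : Set G)) = 144 → False) :
    ∀ R R' : Sylow 3 G, R ≠ R' → ∀ x : G, x ∈ (R : Subgroup G) → x ∈ (R' : Subgroup G) → x = 1 := by
  intro R R' hne x hxR hxR'
  by_contra hx1
  have hneS : (R : Subgroup G) ≠ (R' : Subgroup G) := fun h => hne (Sylow.ext h)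
  have hxD : x ∈ ((R : Subgroup G) ⊓ (R' : Subgroup G) : Subgroup G) := ⟨hxR, hxR'⟩
  -- `|D| = 3`
  have hdvd : Nat.card ((R : Subgroup G) ⊓ (R' : Subgroup G) : Subgroup G) ∣ 9 := by
    rw [← hcard3 R]
    exact Subgroup.card_dvd_of_le inf_le_left
  have hD : Nat.card ((R : Subgroup G) ⊓ (R' : Subgroup G) : Subgroup G) = 3 := by
    have hle : Nat.card ((R : Subgroup G) ⊓ (R' : Subgroup G) : Subgroup G) ≤ 9 :=
      Nat.le_of_dvd (by norm_num) hdvd
    have hpos : 0 < Nat.card ((R : Subgroup G) ⊓ (R' : Subgroup G) : Subgroup G) := Nat.card_pos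
    generalize hm : Nat.card ((R : Subgroup G) ⊓ (R' : Subgroup G) : Subgroup G) = m at hdvd hle hpos
    interval_cases m
    · -- `|D| = 1`
      exfalso
      have hbot := (Subgroup.card_eq_one).1 hm
      rw [hbot] at hxD
      exact hx1 ((Subgroup.mem_bot).1 hxD)
    · exfalso; revert hdvd; decide
    · rfl
    · exfalso; revert hdvd; decide
    · exfalso; revert hdvd; decide
    · exfalso; revert hdvd; decide
    · exfalso; revert hdvd; decide
    · exfalso; revert hdvd; decide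
    · -- `|D| = 9`
      exfalso
      have e1 : ((R : Subgroup G) ⊓ (R' : Subgroup G) : Subgroup G) = (R : Subgroup G) :=
        Subgroup.eq_of_le_of_card_ge inf_le_left (by rw [hm, hcard3 R])
      have e2 : ((R : Subgroup G) ⊓ (R' : Subgroup G) : Subgroup G) = (R' : Subgroup G) :=
        Subgroup.eq_of_le_of_card_ge inf_le_right (by rw [hm, hcard3 R'])
      exact hneS (e1.symm.trans e2)
  obtain ⟨w, hw, hwR⟩ := h3 R
  obtain ⟨hcase, hN, hwN, hwC⟩ := h4a R R' hD w hw hwR
  -- `R, R' ≤ C(D)`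
  have hRC : (R : Subgroup G) ≤
      centralizer (((R : Subgroup G) ⊓ (R' : Subgroup G) : Subgroup G) : Set G) := by
    intro r hr
    rw [Subgroup.mem_centralizer_iff]
    intro d hd
    exact hcomm R d hd.1 r hr
  have hR'C : (R' : Subgroup G) ≤
      centralizer (((R : Subgroup G) ⊓ (R' : Subgroup G) : Subgroup G) : Set G) := by
    intro r hr
    rw [Subgroup.mem_centralizer_iff]
    intro d hd
    exact hcomm R' d hd.2 r hr
  rcases hcase with h36 | h72
  · exact Cfsg.Agent.Helper37.M11.false_of_36 B.h48 _ (R : Subgroup G) (R' : Subgroup G) hD h36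
      (hcard3 R) (hcard3 R') hneS hRC hR'C w hw hwN hwC
  · exact h4c R R' hne _ hD inf_le_left inf_le_right h72 (by rw [hN, h72])

end Cfsg.Agent.Helper41.M11U
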