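import Mathlib
import Cfsg.Prelude.Def_Sporadic
import Cfsg.Prelude.Def_Sporadic_a
import Cfsg.Agent.Lib.Helper7.M11UDefs
import Cfsg.Agent.Lib.Helper77.M11LAK6

/-!
# M11U (L6): every involution inverts exactly 3 Sylow 3-subgroups (helper41 for helper7, S0420)
-/

set_option autoImplicit false

namespace Cfsg.Agent.Helper41.M11U

open Subgroup Cfsg.Agent.Helper7.M11U
open scoped Pointwise

variable {G : Type*} [Group G]

/-- if `t₀` inverts the abelian `R` then so does `t₀ r`, `r ∈ R` -/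
theorem l6_inverts_mul {t₀ : G} {R : Subgroup G} (hcomm : ∀ x ∈ R, ∀ y ∈ R, x * y = y * x)
    (h : Inverts t₀ R) {r : G} (hr : r ∈ R) : Inverts (t₀ * r) R := by
  intro x hx
  have h1 : r * x * r⁻¹ = x := by rw [hcomm r hr x hx, mul_inv_cancel_right]
  calc t₀ * r * x * (t₀ * r)⁻¹ = t₀ * (r * x * r⁻¹) * t₀⁻¹ := by group
    _ = x⁻¹ := by rw [h1]; exact h x hx

/-- `t₀ r` is an involution -/
theorem l6_order_mul {t₀ : G} {R : Subgroup G} (hR : Nat.card R = 9) (ht₀ : orderOf t₀ = 2)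
    (h : Inverts t₀ R) {r : G} (hr : r ∈ R) : orderOf (t₀ * r) = 2 := by
  haveI : Fact (Nat.Prime 2) := ⟨Nat.prime_two⟩
  have h1 : t₀ * r * t₀⁻¹ = r⁻¹ := h r hr
  have ht2 : t₀ * t₀ = 1 := by
    have := pow_orderOf_eq_one t₀
    rw [ht₀, sq] at this
    exact this
  have e : t₀ * r = r⁻¹ * t₀ := by rw [← h1]; group
  have hsq : (t₀ * r) ^ 2 = 1 := by
    calc (t₀ * r) ^ 2 = (t₀ * r) * (t₀ * r) := sq _
      _ = (r⁻¹ * t₀) * (t₀ * r) := by nth_rewrite 1 [e]; rfl
      _ = r⁻¹ * (t₀ * t₀) * r := by group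
      _ = 1 := by rw [ht2]; group
  have hne : t₀ * r ≠ 1 := by
    intro h1
    have h2 : t₀ = r⁻¹ := eq_inv_of_mul_eq_one_left h1
    have hmem : t₀ ∈ R := h2 ▸ R.inv_mem hr
    have h3 := Subgroup.orderOf_dvd_natCard R hmem
    rw [ht₀, hR] at h3
    omega
  exact orderOf_eq_prime hsq hne

/-- two elements inverting `R` differ by an element of `C(R)` -/
theorem l6_mem_centralizer {t₀ t : G} {R : Subgroup G} (h₀ : Inverts t₀ R) (h : Inverts t R) :
    t₀⁻¹ * t ∈ centralizer (R : Set G) := by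
  rw [Subgroup.mem_centralizer_iff]
  intro x hx
  have h1 : t * x * t⁻¹ = x⁻¹ := h x hx
  have h3 : t₀ * x * t₀⁻¹ = x⁻¹ := h₀ x hx
  have e1 : t * x = x⁻¹ * t := by rw [← h1]; group
  have e2 : x * t₀⁻¹ = t₀⁻¹ * x⁻¹ := by rw [← h3]; group
  calc x * (t₀⁻¹ * t) = (x * t₀⁻¹) * t := by group
    _ = t₀⁻¹ * x⁻¹ * t := by rw [e2]
    _ = t₀⁻¹ * (t * x) := by rw [e1]; group
    _ = t₀⁻¹ * t * x := by group

/-- the involutions inverting `R` are the `9` elements of `t₀ R` -/
theorem l6_count (R : Subgroup G) (hR : Nat.card R = 9) (hcomm : ∀ x ∈ R, ∀ y ∈ R, x * y = y * x)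
    (hcent : ∀ g : G, g ∈ centralizer (R : Set G) → g ∈ R)
    (t₀ : G) (ht₀ : orderOf t₀ = 2) (h₀ : Inverts t₀ R) :
    Nat.card {t : G // orderOf t = 2 ∧ Inverts t R} = 9 := by
  rw [← hR]
  symm
  apply Nat.card_congr
  refine Equiv.ofBijective
    (fun r => ⟨t₀ * r.1, l6_order_mul hR ht₀ h₀ r.2, l6_inverts_mul hcomm h₀ r.2⟩) ⟨?_, ?_⟩
  · intro a b hab
    have h1 := congrArg Subtype.val hab
    exact Subtype.ext (mul_left_cancel h1)
  · rintro ⟨t, ht, hti⟩
    refine ⟨⟨t₀⁻¹ * t, hcent _ (l6_mem_centralizer h₀ hti)⟩, ?_⟩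
    apply Subtype.ext
    show t₀ * (t₀⁻¹ * t) = t
    rw [mul_inv_cancel_left]

/-- conjugation transports `Inverts` -/
theorem l6_inverts_smul {s g : G} {R : Sylow 3 G} (h : Inverts s (R : Subgroup G)) :
    Inverts (g * s * g⁻¹) ((g • R : Sylow 3 G) : Subgroup G) := by
  intro x hx
  rw [Sylow.coe_subgroup_smul, Subgroup.mem_smul_pointwise_iff_exists] at hx
  obtain ⟨y, hy, rfl⟩ := hx
  simp only [MulAut.smul_def, MulAut.conj_apply]
  have h1 := h y hy
  calc g * s * g⁻¹ * (g * y * g⁻¹) * (g * s * g⁻¹)⁻¹ = g * (s * y * s⁻¹) * g⁻¹ := by group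
    _ = (g * y * g⁻¹)⁻¹ := by rw [h1]; group

variable [Finite G]

/-- (L6) every involution inverts exactly 3 Sylow 3-subgroups.  If `t₀` inverts `R` then the involutions inverting `R` are exactly the 9 elements of `t₀ R`
(`t₀⁻¹ t` centralises `R`, so lies in `R`; conversely `t₀ r` inverts the abelian `R` and has order 2).  So there are `55 · 9 = 495` pairs (involution, inverted Sylow);
the 165 involutions are conjugate (`B.hconj`, `165 = 7920/48` by orbit-stabiliser) so each inverts the same number `m`: `165 m = 495`. -/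
theorem loc_three (B : Base G)
    (hcard3 : ∀ R : Sylow 3 G, Nat.card (R : Subgroup G) = 9)
    (hcomm : ∀ R : Sylow 3 G, ∀ x ∈ (R : Subgroup G), ∀ y ∈ (R : Subgroup G), x * y = y * x)
    (hcent : ∀ R : Sylow 3 G, ∀ g : G, g ∈ centralizer ((R : Subgroup G) : Set G) → g ∈ (R : Subgroup G))
    (hn55 : Nat.card (Sylow 3 G) = 55)
    (h3 : ∀ R : Sylow 3 G, ∃ t : G, orderOf t = 2 ∧ Inverts t (R : Subgroup G)) :
    ∀ t : G, orderOf t = 2 → Nat.card {R : Sylow 3 G // Inverts t (R : Subgroup G)} = 3 := by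
  classical
  intro t ht
  haveI : Fintype G := Fintype.ofFinite G
  haveI : Fintype (Sylow 3 G) := Fintype.ofFinite _
  let m : G → ℕ := fun s =>
    (Finset.univ.filter (fun R : Sylow 3 G => Inverts s (R : Subgroup G))).card
  have hm : ∀ s, Nat.card {R : Sylow 3 G // Inverts s (R : Subgroup G)} = m s := by
    intro s
    rw [Nat.card_eq_fintype_card, Fintype.card_subtype]
  -- `m` is conjugation invariant
  have hmle : ∀ s g, m s ≤ m (g * s * g⁻¹) := by
    intro s g
    apply Finset.card_le_card_of_injOn (fun R => g • R)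
    · intro R hR
      have hR' : Inverts s (R : Subgroup G) := (Finset.mem_filter.1 hR).2
      exact Finset.mem_coe.2 (Finset.mem_filter.2 ⟨Finset.mem_univ _, l6_inverts_smul hR'⟩)
    · intro R _ R' _ h
      exact (MulAction.injective g) h
  have hmconj : ∀ s g, m (g * s * g⁻¹) = m s := by
    intro s g
    apply le_antisymm _ (hmle s g)
    have := hmle (g * s * g⁻¹) g⁻¹
    have e : g⁻¹ * (g * s * g⁻¹) * g⁻¹⁻¹ = s := by group
    rwa [e] at this
  -- the set of involutions
  set S : Finset G := Finset.univ.filter (fun s : G => orderOf s = 2) with hS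
  have hScard : S.card = 165 := by
    have h1 := Cfsg.Agent.Helper77.M11LA.cls_mul_card_centralizer t
    rw [B.h48 t ht, B.card] at h1
    have h2 : Cfsg.Agent.Helper7.M11LA.cls t = S.card := by
      unfold Cfsg.Agent.Helper7.M11LA.cls
      rw [Nat.card_eq_fintype_card, Fintype.card_subtype]
      congr 1
      ext s
      simp only [Finset.mem_filter, Finset.mem_univ, true_and, hS]
      constructor
      · intro hc
        obtain ⟨c, hc⟩ := isConj_iff.1 hc
        rw [← hc, ← ht, ← MulAut.conj_apply]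
        exact (MulAut.conj c).orderOf_eq t
      · intro hs
        obtain ⟨g, hg⟩ := B.hconj t s ht hs
        exact isConj_iff.2 ⟨g, hg⟩
    rw [h2] at h1
    omega
  -- double counting
  have hdc := Finset.sum_card_bipartiteAbove_eq_sum_card_bipartiteBelow
    (r := fun (s : G) (R : Sylow 3 G) => Inverts s (R : Subgroup G)) (s := S)
    (t := (Finset.univ : Finset (Sylow 3 G)))
  have hL : ∀ s ∈ S, ((Finset.univ : Finset (Sylow 3 G)).bipartiteAbove
      (fun (s : G) (R : Sylow 3 G) => Inverts s (R : Subgroup G)) s).card = m t := by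
    intro s hs
    have hs2 : orderOf s = 2 := (Finset.mem_filter.1 hs).2
    obtain ⟨g, hg⟩ := B.hconj t s ht hs2
    rw [← hmconj t g, hg]
    rfl
  have hR : ∀ R ∈ (Finset.univ : Finset (Sylow 3 G)), (S.bipartiteBelow
      (fun (s : G) (R : Sylow 3 G) => Inverts s (R : Subgroup G)) R).card = 9 := by
    intro R _
    obtain ⟨t₀, ht₀, h₀⟩ := h3 R
    have h1 := l6_count (R : Subgroup G) (hcard3 R) (hcomm R) (hcent R) t₀ ht₀ h₀
    rw [Nat.card_eq_fintype_card, Fintype.card_subtype] at h1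
    rw [← h1]
    unfold Finset.bipartiteBelow
    rw [hS, Finset.filter_filter]
  rw [Finset.sum_congr rfl hL, Finset.sum_congr rfl hR, Finset.sum_const, Finset.sum_const,
    hScard, Finset.card_univ, ← Nat.card_eq_fintype_card, hn55] at hdc
  rw [hm t]
  simp only [smul_eq_mul] at hdc
  omega

end Cfsg.Agent.Helper41.M11U
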