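import Mathlib

/-!
# JPC (TR): two overlapping cycles covering `Ω` generate a transitive group
(helper41 for helper35, S4150)
-/

set_option autoImplicit false

namespace Cfsg.Agent.Helper41.JPC

open Equiv Equiv.Perm MulAction Subgroup

universe u

/-- a subgroup of `Perm Ω` is transitive as soon as every point is in the orbit of a base point -/
theorem tr_of_base {Ω : Type u} (H : Subgroup (Perm Ω)) (c : Ω)
    (h : ∀ a : Ω, ∃ g ∈ H, g c = a) : IsPretransitive H Ω := by
  constructor
  intro a b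
  obtain ⟨g, hg, hga⟩ := h a
  obtain ⟨k, hk, hkb⟩ := h b
  refine ⟨⟨k * g⁻¹, H.mul_mem hk (H.inv_mem hg)⟩, ?_⟩
  show (k * g⁻¹) a = b
  rw [← hga, Perm.mul_apply]
  have : g⁻¹ (g c) = c := by simp
  rw [this, hkb]

/-- (TR) pick `c` in both supports; every point is `x^i c` or `y^j c` (`IsCycle.exists_zpow_eq`). -/
theorem isPretransitive_closure_pair {Ω : Type u} [Fintype Ω] [DecidableEq Ω] {x y : Perm Ω}
    (hx : x.IsCycle) (hy : y.IsCycle) (hun : x.support ∪ y.support = Finset.univ)
    (hmeet : ¬ Disjoint x.support y.support) :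
    IsPretransitive (closure ({x, y} : Set (Perm Ω))) Ω := by
  obtain ⟨c, hcx, hcy⟩ := Finset.not_disjoint_iff.1 hmeet
  have hxm : x ∈ closure ({x, y} : Set (Perm Ω)) := subset_closure (by simp)
  have hym : y ∈ closure ({x, y} : Set (Perm Ω)) := subset_closure (by simp)
  apply tr_of_base _ c
  intro a
  have ha : a ∈ x.support ∪ y.support := by rw [hun]; exact Finset.mem_univ a
  rcases Finset.mem_union.1 ha with hax | hay
  · obtain ⟨i, hi⟩ := hx.exists_zpow_eq (Perm.mem_support.1 hcx) (Perm.mem_support.1 hax)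
    exact ⟨x ^ i, Subgroup.zpow_mem _ hxm i, hi⟩
  · obtain ⟨i, hi⟩ := hy.exists_zpow_eq (Perm.mem_support.1 hcy) (Perm.mem_support.1 hay)
    exact ⟨y ^ i, Subgroup.zpow_mem _ hym i, hi⟩

end Cfsg.Agent.Helper41.JPC
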