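import Mathlib
import Cfsg.Agent.Lib.Helper41.JPCTR

/-!
# JPC (TR2): a product of two `p`-cycles on `2p` points and a cycle longer than `p` generate a
transitive group (helper41 for helper35, S4150)
-/

set_option autoImplicit false

namespace Cfsg.Agent.Helper41.JPC

open Equiv Equiv.Perm MulAction Subgroup

universe u

/-- (TR2) `x` has no fixed point and every `⟨x⟩`-orbit has p points; `y.supportᶜ` has `2p - |supp y| < p`
points, so every `⟨x⟩`-orbit meets `y.support`, which is one `⟨y⟩`-orbit. -/
theorem isPretransitive_closure_pair' {Ω : Type u} [Fintype Ω] [DecidableEq Ω] {p : ℕ}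
    {x y : Perm Ω} (hxt : x.cycleType = {p, p}) (hcard : Fintype.card Ω = 2 * p)
    (hy : y.IsCycle) (hyq : p < y.support.card) :
    IsPretransitive (closure ({x, y} : Set (Perm Ω))) Ω := by
  have hxm : x ∈ closure ({x, y} : Set (Perm Ω)) := subset_closure (by simp)
  have hym : y ∈ closure ({x, y} : Set (Perm Ω)) := subset_closure (by simp)
  -- `x` has full support
  have hsupp : x.support = Finset.univ := by
    apply Finset.eq_univ_of_card
    rw [← Equiv.Perm.sum_cycleType, hxt, hcard]
    simp [two_mul]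
  -- a base point in `supp y`
  have hne : y.support.Nonempty := Finset.card_pos.1 (lt_of_le_of_lt (Nat.zero_le p) hyq)
  obtain ⟨c, hc⟩ := hne
  apply tr_of_base _ c
  -- points of `supp y`
  have hbase : ∀ b ∈ y.support, ∃ g ∈ closure ({x, y} : Set (Perm Ω)), g c = b := by
    intro b hb
    obtain ⟨i, hi⟩ := hy.exists_zpow_eq (Perm.mem_support.1 hc) (Perm.mem_support.1 hb)
    exact ⟨y ^ i, Subgroup.zpow_mem _ hym i, hi⟩
  intro a
  -- the `x`-cycle of `a` has `p` points
  have hax : a ∈ x.support := by rw [hsupp]; exact Finset.mem_univ a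
  have hcyc : (x.cycleOf a).support.card = p := by
    have h1 : x.cycleOf a ∈ x.cycleFactorsFinset := cycleOf_mem_cycleFactorsFinset_iff.2 hax
    have h2 : (x.cycleOf a).support.card ∈ x.cycleType := by
      rw [cycleType_def]
      exact Multiset.mem_map.2 ⟨x.cycleOf a, h1, rfl⟩
    rw [hxt] at h2
    simpa using h2
  -- it meets `supp y`
  have hmeet : ¬ Disjoint (x.cycleOf a).support y.support := by
    intro hd
    have h1 : ((x.cycleOf a).support ∪ y.support).card ≤ Fintype.card Ω := Finset.card_le_univ _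
    rw [Finset.card_union_of_disjoint hd, hcyc, hcard] at h1
    omega
  obtain ⟨b, hb1, hb2⟩ := Finset.not_disjoint_iff.1 hmeet
  obtain ⟨i, hi⟩ : x.SameCycle a b := (mem_support_cycleOf_iff.1 hb1).1
  obtain ⟨g, hg, hgb⟩ := hbase b hb2
  refine ⟨(x ^ i)⁻¹ * g, Subgroup.mul_mem _ (Subgroup.inv_mem _ (Subgroup.zpow_mem _ hxm i)) hg, ?_⟩
  rw [Perm.mul_apply, hgb, ← hi]
  simp

end Cfsg.Agent.Helper41.JPC
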