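import Mathlib
import Cfsg.Agent.Lib.Helper31.G2Defs

/-!
# G2 piece (AB) (helper31 server, S3795): `g2_abelian`

If `ρ` is commutative on the `s`-group `A` (char `r ≠ s`), `x` normalises `A`, `x ^ 2 ^ (n+1) = 1` and `ρ x`
has no nonzero fixed vector, then `ρ (x ^ 2 ^ n)` commutes with `ρ A`.

Mathlib-only route: simultaneous eigenspaces `W χ` of the commuting semisimple family `ρ A`; `ρ (x ^ i)`
maps `W χ` to `W (χ ∘ conj)`; a weight moved by `τ = x ^ 2 ^ n` is moved by every `x ^ i`, `0 < i < 2 ^ (n+1)`,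
and then the orbit sum of a nonzero weight vector would be a nonzero fixed vector of `ρ x`.
-/

set_option autoImplicit false

namespace Cfsg.Agent.Helper41.G2

open Module Subgroup Cfsg.Agent.Helper31.SG Cfsg.Agent.Helper31.G2

universe u uG uK uV

/-- orbit sums are fixed. -/
theorem h41_sum_pow_fixed {K : Type*} [Field K] {V : Type*} [AddCommGroup V] [Module K V]
    (y : Module.End K V) (m : ℕ) (hy : y ^ m = 1) (v : V) :
    y (∑ i ∈ Finset.range m, (y ^ i) v) = ∑ i ∈ Finset.range m, (y ^ i) v := by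
  rw [map_sum]
  have h1 := Finset.sum_range_succ (fun i => (y ^ i) v) m
  have h2 := Finset.sum_range_succ' (fun i => (y ^ i) v) m
  rw [h1] at h2
  simp only [hy, pow_zero, Module.End.one_apply] at h2
  have h3 : ∑ i ∈ Finset.range m, y ((y ^ i) v) = ∑ i ∈ Finset.range m, (y ^ (i + 1)) v := by
    refine Finset.sum_congr rfl (fun i _ => ?_)
    rw [pow_succ', Module.End.mul_apply]
  rw [h3]
  exact (add_right_cancel h2).symm

/-- (AB) -/
theorem g2_abelian {K : Type uK} [Field K] [IsAlgClosed K] (r s : ℕ) [hr : Fact r.Prime]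
    [hs : Fact s.Prime] (hr2 : r ≠ 2) (hrs : r ≠ s) [CharP K r]
    {V : Type uV} [AddCommGroup V] [Module K V] [FiniteDimensional K V]
    {G : Type uG} [Group G] [Finite G] (ρ : Representation K G V) (A : Subgroup G) (x : G) (n : ℕ)
    (hA : IsPGroup s A) (hxA : ∀ a ∈ A, x * a * x⁻¹ ∈ A) (hx : x ^ 2 ^ (n + 1) = 1)
    (hfix : ∀ v : V, ρ x v = v → v = 0)
    (hab : ∀ a ∈ A, ∀ b ∈ A, ρ a * ρ b = ρ b * ρ a) :
    ∀ a ∈ A, ρ a * ρ (x ^ 2 ^ n) = ρ (x ^ 2 ^ n) * ρ a := by
  classical
  -- each `ρ a`, `a ∈ A`, is semisimple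
  have hsK : (s : K) ≠ 0 := by
    intro h
    rw [CharP.cast_eq_zero_iff K r s] at h
    exact hrs ((Nat.prime_dvd_prime_iff_eq hr.out hs.out).1 h)
  have hss : ∀ a ∈ A, Module.End.IsFinitelySemisimple (ρ a) := by
    intro a ha
    obtain ⟨k, hk⟩ := hA ⟨a, ha⟩
    have hk' : a ^ s ^ k = 1 := by simpa using congrArg Subtype.val hk
    have hpow : (ρ a) ^ (s ^ k) = 1 := by rw [← map_pow, hk', map_one]
    have hsep : (Polynomial.X ^ (s ^ k) - Polynomial.C (1 : K)).Separable :=
      Polynomial.separable_X_pow_sub_C 1 (by rw [Nat.cast_pow]; exact pow_ne_zero _ hsK) one_ne_zero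
    have haev : Polynomial.aeval (ρ a) (Polynomial.X ^ (s ^ k) - Polynomial.C (1 : K)) = 0 := by
      simp [hpow]
    exact (Module.End.isSemisimple_of_squarefree_aeval_eq_zero hsep.squarefree
      haev).isFinitelySemisimple
  -- the weight spaces
  set f : ↥A → Module.End K V := fun a => ρ (a : G) with hf
  set W : (↥A → K) → Submodule K V := fun χ => ⨅ a, (f a).maxGenEigenspace (χ a) with hW
  have hWmem : ∀ (χ : ↥A → K) (v : V), v ∈ W χ ↔ ∀ a : ↥A, ρ (a : G) v = χ a • v := by
    intro χ v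
    simp only [hW, Submodule.mem_iInf]
    refine forall_congr' (fun a => ?_)
    rw [(hss a a.2).maxGenEigenspace_eq_eigenspace, Module.End.mem_eigenspace_iff]
  have htop : ⨆ χ, W χ = ⊤ :=
    Module.End.iSup_iInf_maxGenEigenspace_eq_top_of_iSup_maxGenEigenspace_eq_top_of_commute f
      (fun a b _ => hab a a.2 b b.2) (fun a => Module.End.iSup_maxGenEigenspace_eq_top _)
  have hind : iSupIndep W :=
    Module.End.independent_iInf_maxGenEigenspace_of_forall_mapsTo f
      (fun a b φ => Module.End.mapsTo_maxGenEigenspace_of_comm (hab b b.2 a a.2) φ)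
  -- powers of `x` normalise `A`, in both directions
  have hfw : ∀ (i : ℕ), ∀ a ∈ A, x ^ i * a * (x ^ i)⁻¹ ∈ A := by
    intro i
    induction i with
    | zero => intro a ha; simpa using ha
    | succ i ih =>
      intro a ha
      have := hxA _ (ih a ha)
      have e : x ^ (i + 1) * a * (x ^ (i + 1))⁻¹ = x * (x ^ i * a * (x ^ i)⁻¹) * x⁻¹ := by
        rw [pow_succ']; group
      rw [e]; exact this
  have hm1 : 1 ≤ 2 ^ (n + 1) := Nat.one_le_two_pow
  have hxinv : x⁻¹ = x ^ (2 ^ (n + 1) - 1) := by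
    apply inv_eq_of_mul_eq_one_left
    rw [← pow_succ, Nat.sub_add_cancel hm1, hx]
  have hinvA : ∀ a ∈ A, x⁻¹ * a * x ∈ A := by
    intro a ha
    have := hfw (2 ^ (n + 1) - 1) a ha
    rw [← hxinv, inv_inv] at this
    exact this
  have hbw : ∀ (i : ℕ), ∀ a ∈ A, (x ^ i)⁻¹ * a * x ^ i ∈ A := by
    intro i
    induction i with
    | zero => intro a ha; simpa using ha
    | succ i ih =>
      intro a ha
      have := hinvA _ (ih a ha)
      have e : (x ^ (i + 1))⁻¹ * a * x ^ (i + 1) = x⁻¹ * ((x ^ i)⁻¹ * a * x ^ i) * x := by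
        rw [pow_succ]; group
      rw [e]; exact this
  -- the action on weights
  set cj : ℕ → ↥A → ↥A := fun i a => ⟨(x ^ i)⁻¹ * a * x ^ i, hbw i a a.2⟩ with hcj
  set act : ℕ → (↥A → K) → (↥A → K) := fun i χ a => χ (cj i a) with hact
  have hact_eq : ∀ i j : ℕ, x ^ i = x ^ j → ∀ χ, act i χ = act j χ := by
    intro i j h χ
    funext a
    simp only [hact, hcj]
    congr 1
    apply Subtype.ext
    simp only [h]
  have hact_add : ∀ (i j : ℕ) χ, act (i + j) χ = act i (act j χ) := by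
    intro i j χ
    funext a
    simp only [hact, hcj]
    congr 1
    apply Subtype.ext
    simp only [pow_add]
    group
  have hact_mul : ∀ (i : ℕ) χ, act i χ = χ → ∀ k : ℕ, act (i * k) χ = χ := by
    intro i χ h k
    induction k with
    | zero =>
      funext a
      simp only [hact, hcj]
      congr 1
      apply Subtype.ext
      simp
    | succ k ih => rw [Nat.mul_succ, hact_add, h, ih]
  have hmap : ∀ (i : ℕ) (χ : ↥A → K) (v : V), v ∈ W χ → ρ (x ^ i) v ∈ W (act i χ) := by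
    intro i χ v hv
    rw [hWmem] at hv ⊢
    intro a
    have e : (a : G) * x ^ i = x ^ i * ((cj i a : ↥A) : G) := by
      simp only [hcj]; group
    have h1 : ρ (a : G) (ρ (x ^ i) v) = ρ (x ^ i) (ρ ((cj i a : ↥A) : G) v) := by
      rw [← Module.End.mul_apply, ← Module.End.mul_apply, ← map_mul, ← map_mul, e]
    rw [h1, hv (cj i a), map_smul]
  -- `τ` fixes every weight that occurs
  have hτ2 : (x ^ 2 ^ n) ^ 2 = 1 := by rw [← pow_mul, ← pow_succ, hx]
  have hclaim : ∀ (χ : ↥A → K) (v : V), v ∈ W χ → v ≠ 0 → act (2 ^ n) χ = χ := by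
    intro χ v hv hv0
    by_contra hne
    have hmove : ∀ i : ℕ, 0 < i → i < 2 ^ (n + 1) → act i χ ≠ χ := by
      intro i hi0 hi hfixχ
      obtain ⟨e, u, hu, hiu⟩ := Nat.exists_eq_two_pow_mul_odd (Nat.pos_iff_ne_zero.1 hi0)
      have he : e ≤ n := by
        by_contra hcon
        have hcon' : n + 1 ≤ e := by omega
        have h1 : 2 ^ (n + 1) ≤ 2 ^ e := Nat.pow_le_pow_right (by norm_num) hcon'
        have h2 : 2 ^ e ≤ i := by
          rw [hiu]; exact Nat.le_mul_of_pos_right _ hu.pos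
        omega
      have h3 := hact_mul i χ hfixχ (2 ^ (n - e))
      have h4 : i * 2 ^ (n - e) = 2 ^ n * u := by
        rw [hiu, mul_comm (2 ^ e) u, mul_assoc, ← pow_add, Nat.add_sub_cancel' he, mul_comm]
      obtain ⟨w, hw⟩ := hu
      have h5 : x ^ (i * 2 ^ (n - e)) = x ^ 2 ^ n := by
        rw [h4, pow_mul, hw, pow_succ, pow_mul, hτ2, one_pow, one_mul]
      rw [hact_eq _ _ h5] at h3
      exact hne h3
    set y : Module.End K V := ρ x with hy
    have hym : y ^ 2 ^ (n + 1) = 1 := by rw [hy, ← map_pow, hx, map_one]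
    have hu0 : ∑ i ∈ Finset.range (2 ^ (n + 1)), (y ^ i) v = 0 :=
      hfix _ (h41_sum_pow_fixed y _ hym v)
    obtain ⟨m', hm'⟩ : ∃ m', 2 ^ (n + 1) = m' + 1 := ⟨2 ^ (n + 1) - 1, by omega⟩
    rw [hm', Finset.sum_range_succ'] at hu0
    simp only [pow_zero, Module.End.one_apply] at hu0
    have hv' : v = -∑ i ∈ Finset.range m', (y ^ (i + 1)) v := by
      rw [eq_neg_iff_add_eq_zero, add_comm]; exact hu0
    have hmem : v ∈ ⨆ (ψ : ↥A → K) (_ : ψ ≠ χ), W ψ := by
      rw [hv']
      apply Submodule.neg_mem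
      apply Submodule.sum_mem
      intro i hi
      have hi' : i + 1 < 2 ^ (n + 1) := by
        rw [hm']; have := Finset.mem_range.1 hi; omega
      have h6 : (y ^ (i + 1)) v ∈ W (act (i + 1) χ) := by
        rw [hy, ← map_pow]; exact hmap (i + 1) χ v hv
      exact Submodule.mem_iSup_of_mem (act (i + 1) χ)
        (Submodule.mem_iSup_of_mem (hmove (i + 1) (Nat.succ_pos i) hi') h6)
    have hdis := hind χ
    exact hv0 ((Submodule.disjoint_def.1 hdis) v hv hmem)
  -- conclusion
  intro a ha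
  apply LinearMap.ext
  intro v
  have hv : v ∈ ⨆ χ, W χ := by rw [htop]; trivial
  refine Submodule.iSup_induction W (motive := fun v => (ρ a * ρ (x ^ 2 ^ n)) v =
    (ρ (x ^ 2 ^ n) * ρ a) v) hv ?_ ?_ ?_
  · intro χ w hw
    by_cases hw0 : w = 0
    · rw [hw0]; simp
    · have h1 := hclaim χ w hw hw0
      have h2 := hmap (2 ^ n) χ w hw
      rw [h1] at h2
      rw [Module.End.mul_apply, Module.End.mul_apply, (hWmem χ _).1 h2 ⟨a, ha⟩,
        (hWmem χ _).1 hw ⟨a, ha⟩, map_smul]
  · simp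
  · intro v w hv hw
    rw [map_add, map_add, hv, hw]

end Cfsg.Agent.Helper41.G2
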