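import Mathlib
import Cfsg.Agent.Lib.Helper93.RU0

/-!
# RU (C2) (helper41, for helper93 server, S2280): the commutator rule
`[x_{02}(μ), l⁻¹ x_{02}(λ) l] = 1 + μλε e₀ (e₁+e₂)ᵀ`.
-/

set_option autoImplicit false

namespace Cfsg.Agent.Helper41.RU

open Matrix Cfsg.Agent.Helper93.RU

variable {F : Type*} [Field F] {m : ℕ}

theorem h41_tvM_det (v φ : Fin (m + 3) → F) : (tvM v φ).det = 1 + φ ⬝ᵥ v := by
  unfold tvM
  rw [Matrix.vecMulVec_eq Unit, Matrix.det_one_add_replicateCol_mul_replicateRow]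

theorem h41_tvS_val (v φ : Fin (m + 3) → F) (h : φ ⬝ᵥ v = 0) : (tvS v φ).1 = tvM v φ := by
  have hd : (tvM v φ).det = 1 := by rw [h41_tvM_det, h, add_zero]
  have h1 : tvS v φ = ⟨tvM v φ, hd⟩ := by
    unfold tvS
    exact dif_pos hd
  rw [h1]

theorem h41_lEl_val (ε : F) : (lEl (m := m) ε).1 = 1 + Lmat ε := by
  have hd : (1 + Lmat (m := m) ε).det = 1 := by
    rw [Matrix.det_of_isLowerTriangular]
    · apply Finset.prod_eq_one
      intro i _
      simp [Lmat]
    · intro i j hij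
      have hij' : i < j := hij
      have h1 : i ≠ j := ne_of_lt hij'
      have h2 : ¬ (j.val + 1 = i.val) := by
        have : i.val < j.val := hij'
        omega
      simp [Lmat, Matrix.one_apply_ne h1, h2]
  have h1 : lEl (m := m) ε = ⟨1 + Lmat ε, hd⟩ := by
    unfold lEl
    exact dif_pos hd
  rw [h1]


theorem h41_val1 : ((1 : Fin (m + 3)) : ℕ) = 1 := rfl

theorem h41_val2 : ((2 : Fin (m + 3)) : ℕ) = 2 := rfl

theorem h41_ne01 : (0 : Fin (m + 3)) ≠ 1 := by
  intro h; have := congrArg Fin.val h; rw [h41_val1] at this; simp at this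

theorem h41_ne02 : (0 : Fin (m + 3)) ≠ 2 := by
  intro h; have := congrArg Fin.val h; rw [h41_val2] at this; simp at this

theorem h41_ne12 : (1 : Fin (m + 3)) ≠ 2 := by
  intro h; have := congrArg Fin.val h; rw [h41_val2, h41_val1] at this; omega

theorem h41_eV_apply (k j : Fin (m + 3)) : (eV k : Fin (m + 3) → F) j = if j = k then 1 else 0 := by
  unfold eV
  rw [Pi.single_apply]

theorem h41_eV_dot (k : Fin (m + 3)) (v : Fin (m + 3) → F) : (eV k : Fin (m + 3) → F) ⬝ᵥ v = v k := by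
  unfold eV
  simp

theorem h41_dot_eV (k : Fin (m + 3)) (v : Fin (m + 3) → F) : v ⬝ᵥ (eV k : Fin (m + 3) → F) = v k := by
  unfold eV
  simp

theorem h41_t13_val (a : F) :
    (t13 (m := m) a).1 = 1 + a • Matrix.vecMulVec (eV 0 : Fin (m + 3) → F) (eV 2 : Fin (m + 3) → F) := by
  unfold t13
  rw [h41_tvS_val]
  · unfold tvM
    rw [Matrix.vecMulVec_smul]
  · rw [h41_dot_eV, Pi.smul_apply, h41_eV_apply, if_neg h41_ne02, smul_zero]

theorem h41_X_sq :
    Matrix.vecMulVec (eV 0 : Fin (m + 3) → F) (eV 2 : Fin (m + 3) → F) *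
      Matrix.vecMulVec (eV 0 : Fin (m + 3) → F) (eV 2 : Fin (m + 3) → F) = 0 := by
  rw [Matrix.vecMulVec_mul_vecMulVec, h41_eV_dot, h41_eV_apply, if_neg h41_ne02.symm, zero_smul,
    Matrix.vecMulVec_zero]

theorem h41_t13_inv (a : F) : (t13 (m := m) a)⁻¹ = t13 (-a) := by
  apply inv_eq_of_mul_eq_one_right
  apply Subtype.ext
  rw [Matrix.SpecialLinearGroup.coe_mul, h41_t13_val, h41_t13_val, Matrix.SpecialLinearGroup.coe_one]
  simp only [add_mul, mul_add, one_mul, mul_one, smul_mul_assoc, mul_smul_comm, h41_X_sq,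
    smul_zero, add_zero]
  module

/-- row 2 of `l` -/
theorem h41_row2 (ε : F) :
    (eV 2 : Fin (m + 3) → F) ᵥ* (lEl (m := m) ε).1 = eV 1 + eV 2 := by
  rw [h41_lEl_val, Matrix.vecMul_add, Matrix.vecMul_one]
  have h1 : (eV 2 : Fin (m + 3) → F) ᵥ* Lmat ε = eV 1 := by
    ext j
    rw [h41_eV_apply]
    unfold eV
    rw [Matrix.single_one_vecMul]
    simp only [Lmat, Matrix.of_apply, Matrix.row]
    rw [h41_val2]
    by_cases hj : j = 1
    · subst hj
      rw [h41_val1]
      simp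
    · have : ¬ (j.val + 1 = 2) := by
        intro h
        apply hj
        apply Fin.ext
        rw [h41_val1]
        omega
      rw [if_neg this, if_neg hj]
  rw [h1]
  exact add_comm _ _

theorem h41_L_mulVec_zero (ε : F) (w : Fin (m + 3) → F) : (Lmat (m := m) ε *ᵥ w) 0 = 0 := by
  simp only [Matrix.mulVec, dotProduct, Lmat, Matrix.of_apply]
  apply Finset.sum_eq_zero
  intro j _
  rw [if_neg, zero_mul]
  simp

theorem h41_L_mulVec_one (ε : F) (w : Fin (m + 3) → F) : (Lmat (m := m) ε *ᵥ w) 1 = ε * w 0 := by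
  simp only [Matrix.mulVec, dotProduct, Lmat, Matrix.of_apply]
  rw [Finset.sum_eq_single 0]
  · rw [h41_val1]; simp
  · intro j _ hj
    have : ¬ (j.val + 1 = ((1 : Fin (m + 3)) : ℕ)) := by
      rw [h41_val1]
      intro h
      apply hj
      apply Fin.ext
      show j.val = 0
      omega
    rw [if_neg this, zero_mul]
  · intro h; exact absurd (Finset.mem_univ _) h

theorem h41_L_mulVec_two (ε : F) (w : Fin (m + 3) → F) : (Lmat (m := m) ε *ᵥ w) 2 = w 1 := by
  simp only [Matrix.mulVec, dotProduct, Lmat, Matrix.of_apply]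
  rw [Finset.sum_eq_single 1]
  · rw [h41_val1, h41_val2]; simp
  · intro j _ hj
    have : ¬ (j.val + 1 = ((2 : Fin (m + 3)) : ℕ)) := by
      rw [h41_val2]
      intro h
      apply hj
      apply Fin.ext
      rw [h41_val1]
      omega
    rw [if_neg this, zero_mul]
  · intro h; exact absurd (Finset.mem_univ _) h

theorem comm_rule (H : Subgroup (SLm m F)) (ε lam μ : F) (hl : lEl ε ∈ H)
    (hlam : t13 lam ∈ H) (hμ : t13 μ ∈ H) :
    tvS (eV 0) ((μ * lam * ε) • (eV 1 + eV 2)) ∈ H := by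
  have hc : t13 μ * ((lEl ε)⁻¹ * t13 lam * lEl ε) * (t13 μ)⁻¹ * ((lEl ε)⁻¹ * (t13 lam)⁻¹ * lEl ε) ∈ H :=
    H.mul_mem (H.mul_mem (H.mul_mem hμ (H.mul_mem (H.mul_mem (H.inv_mem hl) hlam) hl))
      (H.inv_mem hμ)) (H.mul_mem (H.mul_mem (H.inv_mem hl) (H.inv_mem hlam)) hl)
  have heq : tvS (eV 0) ((μ * lam * ε) • (eV 1 + eV 2)) =
      t13 μ * ((lEl ε)⁻¹ * t13 lam * lEl ε) * (t13 μ)⁻¹ * ((lEl (m := m) ε)⁻¹ * (t13 lam)⁻¹ * lEl ε) := by
    rw [h41_t13_inv, h41_t13_inv]
    apply Subtype.ext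
    have hdot : ((μ * lam * ε) • ((eV 1 : Fin (m + 3) → F) + eV 2)) ⬝ᵥ (eV 0) = 0 := by
      rw [h41_dot_eV, Pi.smul_apply, Pi.add_apply, h41_eV_apply, h41_eV_apply, if_neg h41_ne01,
        if_neg h41_ne02, add_zero, smul_zero]
    rw [h41_tvS_val _ _ hdot]
    simp only [Matrix.SpecialLinearGroup.coe_mul, h41_t13_val]
    set l1 : Matrix (Fin (m + 3)) (Fin (m + 3)) F := (lEl (m := m) ε).1 with hl1
    set l' : Matrix (Fin (m + 3)) (Fin (m + 3)) F := ((lEl (m := m) ε)⁻¹).1 with hl'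
    have h1 : l' * l1 = 1 := by
      rw [hl', hl1, ← Matrix.SpecialLinearGroup.coe_mul, inv_mul_cancel,
        Matrix.SpecialLinearGroup.coe_one]
    have h2 : l1 * l' = 1 := by
      rw [hl', hl1, ← Matrix.SpecialLinearGroup.coe_mul, mul_inv_cancel,
        Matrix.SpecialLinearGroup.coe_one]
    set X : Matrix (Fin (m + 3)) (Fin (m + 3)) F := Matrix.vecMulVec (eV 0) (eV 2) with hX
    set w : Fin (m + 3) → F := l' *ᵥ eV 0 with hw
    set ψ : Fin (m + 3) → F := (eV 1 : Fin (m + 3) → F) + eV 2 with hψ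
    set W : Matrix (Fin (m + 3)) (Fin (m + 3)) F := Matrix.vecMulVec w ψ with hW
    set P : Matrix (Fin (m + 3)) (Fin (m + 3)) F := Matrix.vecMulVec (eV 0) ψ with hP
    have hconj : ∀ a : F, l' * (1 + a • X) * l1 = 1 + a • W := by
      intro a
      rw [Matrix.mul_add, Matrix.add_mul, Matrix.mul_one, h1, Matrix.mul_smul, Matrix.smul_mul,
        hX, Matrix.mul_vecMulVec, Matrix.vecMulVec_mul, hl1, h41_row2]
    have hlw : l1 *ᵥ w = eV 0 := by
      rw [hw, Matrix.mulVec_mulVec, h2, Matrix.one_mulVec]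
    have hl1' : l1 = 1 + Lmat ε := h41_lEl_val ε
    have hw0 : w 0 = 1 := by
      have := congrFun hlw 0
      rw [hl1', Matrix.add_mulVec, Matrix.one_mulVec, Pi.add_apply, h41_L_mulVec_zero,
        h41_eV_apply, if_pos rfl, add_zero] at this
      exact this
    have hw1 : w 1 + ε * w 0 = 0 := by
      have := congrFun hlw 1
      rw [hl1', Matrix.add_mulVec, Matrix.one_mulVec, Pi.add_apply, h41_L_mulVec_one,
        h41_eV_apply, if_neg h41_ne01.symm] at this
      exact this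
    have hw2 : w 2 + w 1 = 0 := by
      have := congrFun hlw 2
      rw [hl1', Matrix.add_mulVec, Matrix.one_mulVec, Pi.add_apply, h41_L_mulVec_two,
        h41_eV_apply, if_neg h41_ne02.symm] at this
      exact this
    have hw2' : w 2 = ε := by
      rw [hw0, mul_one] at hw1
      linear_combination hw2 - hw1
    have hψ0 : ψ ⬝ᵥ (eV 0 : Fin (m + 3) → F) = 0 := by
      rw [h41_dot_eV, hψ, Pi.add_apply, h41_eV_apply, h41_eV_apply, if_neg h41_ne01,
        if_neg h41_ne02, add_zero]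
    have hψw : ψ ⬝ᵥ w = 0 := by
      rw [hψ, add_dotProduct, h41_eV_dot, h41_eV_dot]
      linear_combination hw2
    have hXW : X * W = ε • P := by
      rw [hX, hW, Matrix.vecMulVec_mul_vecMulVec, h41_eV_dot, hw2', Matrix.vecMulVec_smul]
    have hWX : W * X = 0 := by
      rw [hX, hW, Matrix.vecMulVec_mul_vecMulVec, hψ0, zero_smul, Matrix.vecMulVec_zero]
    have hWW : W * W = 0 := by
      rw [hW, Matrix.vecMulVec_mul_vecMulVec, hψw, zero_smul, Matrix.vecMulVec_zero]
    have hPX : P * X = 0 := by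
      rw [hX, hP, Matrix.vecMulVec_mul_vecMulVec, hψ0, zero_smul, Matrix.vecMulVec_zero]
    have hPW : P * W = 0 := by
      rw [hW, hP, Matrix.vecMulVec_mul_vecMulVec, hψw, zero_smul, Matrix.vecMulVec_zero]
    rw [hconj, hconj]
    unfold tvM
    rw [Matrix.vecMulVec_smul]
    have hXX : X * X = 0 := h41_X_sq
    have e1 : (1 + μ • X) * (1 + lam • W) = 1 + μ • X + lam • W + (μ * lam * ε) • P := by
      simp only [add_mul, mul_add, one_mul, mul_one, smul_mul_assoc, mul_smul_comm, hXW, smul_smul]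
      module
    have e2 : (1 + μ • X + lam • W + (μ * lam * ε) • P) * (1 + (-μ) • X) =
        1 + lam • W + (μ * lam * ε) • P := by
      simp only [add_mul, mul_add, one_mul, mul_one, smul_mul_assoc, mul_smul_comm, hXX, hWX, hPX,
        smul_zero, add_zero]
      module
    have e3 : (1 + lam • W + (μ * lam * ε) • P) * (1 + (-lam) • W) = 1 + (μ * lam * ε) • P := by
      simp only [add_mul, mul_add, one_mul, mul_one, smul_mul_assoc, mul_smul_comm, hWW, hPW,
        smul_zero, add_zero]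
      module
    rw [e1, e2, e3]
  rw [heq]
  exact hc

end Cfsg.Agent.Helper41.RU
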