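import Mathlib

/-!
# JPC (CS): cycle type of an element of prime order `p` on at most `2p` points
(helper41 for helper35, S4150)
-/

set_option autoImplicit false

namespace Cfsg.Agent.Helper41.JPC

open Equiv Equiv.Perm MulAction Subgroup

universe u

/-- (CS) `cycleType_prime_order` gives `replicate (n+1) p`; `sum_cycleType`, `card_support_le` bound
`(n+1) p ≤ card α ≤ 2p`. -/
theorem cycleType_of_prime_order {α : Type u} [Fintype α] [DecidableEq α] {p : ℕ} (hp : p.Prime)
    {X : Perm α} (hX : orderOf X = p) (hcard : Fintype.card α ≤ 2 * p) :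
    X.cycleType = {p} ∨ (Fintype.card α = 2 * p ∧ X.cycleType = {p, p}) := by
  obtain ⟨n, hn⟩ := Equiv.Perm.cycleType_prime_order (σ := X) (by rw [hX]; exact hp)
  rw [hX] at hn
  have hsum : X.cycleType.sum = X.support.card := Equiv.Perm.sum_cycleType X
  have hle : X.support.card ≤ Fintype.card α := Finset.card_le_univ _
  rw [hn, Multiset.sum_replicate, smul_eq_mul] at hsum
  have hpos : 0 < p := hp.pos
  have h1 : (n + 1) * p ≤ 2 * p := by rw [hsum]; exact hle.trans hcard
  have h2 : n + 1 ≤ 2 := Nat.le_of_mul_le_mul_right h1 hpos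
  rcases Nat.lt_or_ge n 1 with h0 | h0
  · left
    have : n = 0 := by omega
    rw [hn, this]
    rfl
  · right
    have h3 : n = 1 := by omega
    subst h3
    refine ⟨?_, ?_⟩
    · have : 2 * p ≤ Fintype.card α := by
        calc 2 * p = (1 + 1) * p := by norm_num
          _ = X.support.card := hsum
          _ ≤ _ := hle
      omega
    · rw [hn]
      rfl

end Cfsg.Agent.Helper41.JPC
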