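import Mathlib
import Cfsg.Agent.S0800
import Cfsg.Agent.Lib.Helper41.SL2
import Cfsg.Agent.Lib.Helper41.SL2Class
import Cfsg.Agent.Lib.Helper41.SL2ClassOdd
import Cfsg.Agent.Lib.Helper41.SL2Quat

set_option autoImplicit false

namespace Cfsg.Agent.Helper41

open Matrix

variable {F : Type*} [Field F]

/-- `C ∈ SL₂` has odd order modulo the centre -/
def OddOrd (C : SpecialLinearGroup (Fin 2) F) : Prop :=
  ∃ k : ℕ, Odd k ∧ (QuotientGroup.mk C : ProjectiveSpecialLinearGroup (Fin 2) F) ^ k = 1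

theorem OddOrd.odd_orderOf {C : SpecialLinearGroup (Fin 2) F} (h : OddOrd C) :
    Odd (orderOf (QuotientGroup.mk C : ProjectiveSpecialLinearGroup (Fin 2) F)) := by
  obtain ⟨k, hk, hpow⟩ := h
  exact Odd.of_dvd_nat hk (orderOf_dvd_of_pow_eq_one hpow)

theorem sl2_charpoly (C : SpecialLinearGroup (Fin 2) F) :
    (C : Matrix (Fin 2) (Fin 2) F).charpoly =
      Polynomial.X ^ 2 - Polynomial.C (C : Matrix (Fin 2) (Fin 2) F).trace * Polynomial.X + 1 := by
  rw [Matrix.charpoly_fin_two, C.det_coe, Polynomial.C_1]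

/-- in odd characteristic, an element of `SL₂` whose square is one is `±1` -/
theorem sl2_eq_one_or_neg_one_of_sq (h2 : (2 : F) ≠ 0) (D : SpecialLinearGroup (Fin 2) F)
    (h : (D : Matrix (Fin 2) (Fin 2) F) * D = 1) :
    (D : Matrix (Fin 2) (Fin 2) F) = 1 ∨ (D : Matrix (Fin 2) (Fin 2) F) = -1 := by
  have hsq := sq_eq_of_det_one (D : Matrix (Fin 2) (Fin 2) F) D.2
  rw [pow_two, h] at hsq
  apply sl2_scalar_eq
  have e01 := congrFun (congrFun hsq 0) 1
  have e10 := congrFun (congrFun hsq 1) 0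
  have e00 := congrFun (congrFun hsq 0) 0
  have e11 := congrFun (congrFun hsq 1) 1
  simp only [Matrix.sub_apply, Matrix.smul_apply, Matrix.one_apply_eq, smul_eq_mul,
    Matrix.one_apply_ne (show (0 : Fin 2) ≠ 1 by decide),
    Matrix.one_apply_ne (show (1 : Fin 2) ≠ 0 by decide), sub_zero] at e01 e10 e00 e11
  have htr : (D : Matrix (Fin 2) (Fin 2) F).trace ≠ 0 := by
    intro h0
    rw [h0, zero_mul] at e00
    apply h2
    linear_combination e00
  refine ⟨?_, ?_, ?_⟩
  · exact (mul_eq_zero.mp e01.symm).resolve_left htr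
  · exact (mul_eq_zero.mp e10.symm).resolve_left htr
  · apply mul_left_cancel₀ htr
    linear_combination e11 - e00

theorem psl2_pow_eq_one_of_pow_two_mul (h2 : (2 : F) ≠ 0) (C : SpecialLinearGroup (Fin 2) F)
    (k : ℕ) (h : (C : Matrix (Fin 2) (Fin 2) F) ^ (2 * k) = 1) :
    (QuotientGroup.mk C : ProjectiveSpecialLinearGroup (Fin 2) F) ^ k = 1 := by
  rw [psl2_mk_pow_eq_one_iff]
  have h1 : ((C ^ k : SpecialLinearGroup (Fin 2) F) : Matrix (Fin 2) (Fin 2) F) *
      (C ^ k : SpecialLinearGroup (Fin 2) F) = 1 := by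
    rw [Matrix.SpecialLinearGroup.coe_pow, ← pow_add, ← two_mul, h]
  have := sl2_eq_one_or_neg_one_of_sq h2 (C ^ k) h1
  rwa [Matrix.SpecialLinearGroup.coe_pow] at this

/-- parabolic elements have odd order `p` modulo the centre, odd characteristic -/
theorem oddOrd_of_trace_sq_eq_four [Fintype F] (h2 : (2 : F) ≠ 0)
    (C : SpecialLinearGroup (Fin 2) F)
    (h : (C : Matrix (Fin 2) (Fin 2) F).trace ^ 2 = 4) : OddOrd C := by
  obtain ⟨p, hp⟩ := CharP.exists F
  haveI := hp
  have hprime : p.Prime := CharP.char_is_prime F p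
  haveI : Fact p.Prime := ⟨hprime⟩
  have hp2 : p ≠ 2 := by
    rintro rfl
    apply h2
    exact_mod_cast CharP.cast_eq_zero F 2
  set lam := (C : Matrix (Fin 2) (Fin 2) F).trace / 2 with hlamdef
  have hlam : lam ^ 2 = 1 := by
    rw [hlamdef]
    field_simp
    linear_combination h
  have htr : (C : Matrix (Fin 2) (Fin 2) F).trace = lam + lam := by
    rw [hlamdef]
    field_simp
    ring
  have hdvd := Cfsg.Agent.S0800.dvd_of_double_root p lam hlam
  have hpow := Cfsg.Agent.S0800.pow_eq_one_of_charpoly_dvd (C : Matrix (Fin 2) (Fin 2) F) (2 * p)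
    (by rw [sl2_charpoly, htr]; exact hdvd)
  exact ⟨p, hprime.odd_of_ne_two hp2, psl2_pow_eq_one_of_pow_two_mul h2 C p hpow⟩

/-- split semisimple elements have odd order modulo the centre when `q ≡ 3 (mod 4)` -/
theorem oddOrd_of_hyperbolic [Fintype F] (h2 : (2 : F) ≠ 0) (hq : Fintype.card F % 4 = 3)
    (C : SpecialLinearGroup (Fin 2) F) (μ : F) (hμ0 : μ ≠ 0) (hμ : μ ^ 2 ≠ 1)
    (htr : (C : Matrix (Fin 2) (Fin 2) F).trace = μ + μ⁻¹) : OddOrd C := by
  have hdvd := Cfsg.Agent.S0800.dvd_of_distinct_roots μ hμ0 hμ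
  have hpow := Cfsg.Agent.S0800.pow_eq_one_of_charpoly_dvd (C : Matrix (Fin 2) (Fin 2) F)
    (Fintype.card F - 1) (by rw [sl2_charpoly, htr]; exact hdvd)
  have hk : Fintype.card F - 1 = 2 * ((Fintype.card F - 1) / 2) := by omega
  rw [hk] at hpow
  refine ⟨(Fintype.card F - 1) / 2, ?_, psl2_pow_eq_one_of_pow_two_mul h2 C _ hpow⟩
  rw [Nat.odd_iff]
  omega

/-- in characteristic two, elements of non-zero trace have odd order -/
theorem oddOrd_char_two [Fintype F] (h2 : (2 : F) = 0) (C : SpecialLinearGroup (Fin 2) F)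
    (htr : (C : Matrix (Fin 2) (Fin 2) F).trace ≠ 0) : OddOrd C := by
  have hchar : ringChar F = 2 :=
    CharP.ringChar_of_prime_eq_zero Nat.prime_two (by exact_mod_cast h2)
  haveI : CharP F 2 := ringChar.of_eq hchar
  haveI : Fact (Nat.Prime 2) := ⟨Nat.prime_two⟩
  have heven : Fintype.card F % 2 = 0 := FiniteField.even_card_iff_char_two.mp hchar
  have hcard : 1 < Fintype.card F := Fintype.one_lt_card
  set s := (C : Matrix (Fin 2) (Fin 2) F).trace with hs
  by_cases hroot : ∃ c : F, c ^ 2 - s * c + 1 = 0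
  · obtain ⟨c, hc⟩ := hroot
    have hc0 : c ≠ 0 := by
      rintro rfl
      simp at hc
    have hsc : s = c + c⁻¹ := by
      field_simp
      linear_combination -hc
    have hc1 : c ^ 2 ≠ 1 := by
      intro h1
      have h3 : (c - 1) ^ 2 = 0 := by linear_combination h1 + (1 - c) * h2
      have h4 : c = 1 := by
        have := pow_eq_zero_iff (two_ne_zero) |>.mp h3
        linear_combination this
      apply htr
      rw [hsc, h4, inv_one]
      linear_combination h2
    have hdvd := Cfsg.Agent.S0800.dvd_of_distinct_roots c hc0 hc1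
    have hpow := Cfsg.Agent.S0800.pow_eq_one_of_charpoly_dvd (C : Matrix (Fin 2) (Fin 2) F)
      (Fintype.card F - 1) (by rw [sl2_charpoly, ← hs, hsc]; exact hdvd)
    refine ⟨Fintype.card F - 1, ?_, ?_⟩
    · rw [Nat.odd_iff]; omega
    · rw [psl2_mk_pow_eq_one_iff]
      exact Or.inl hpow
  · push Not at hroot
    have hdvd := Cfsg.Agent.S0800.dvd_of_no_root 2 s hroot
    have hpow := Cfsg.Agent.S0800.pow_eq_one_of_charpoly_dvd (C : Matrix (Fin 2) (Fin 2) F)
      (Fintype.card F + 1) (by rw [sl2_charpoly, ← hs]; exact hdvd)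
    refine ⟨Fintype.card F + 1, ?_, ?_⟩
    · rw [Nat.odd_iff]; omega
    · rw [psl2_mk_pow_eq_one_iff]
      exact Or.inl hpow

end Cfsg.Agent.Helper41
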