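import Cfsg.Agent.Lib.Helper41.SylowUnique
import Cfsg.Agent.Lib.Helper41.SL2ClassOdd
import Cfsg.Agent.Lib.Helper41.SL2NormCent
import Cfsg.Agent.Lib.Helper41.SL2Quat
import Cfsg.Agent.Lib.Helper41.SL2OddOrd
import Cfsg.Agent.Lib.Helper41.SL2Spec

/-!
# Tori of `SL₂(q)`: elements of order `q ± 1`, orders of centralizers
-/

set_option autoImplicit false

namespace Cfsg.Agent.Helper41

open Matrix

section tori

variable {F : Type*} [Field F] [Fintype F]

/-- an element of order `q - 1` in `SL(2,F)` -/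
theorem sl2_exists_orderOf_sub_one :
    ∃ A : SpecialLinearGroup (Fin 2) F, orderOf A = Fintype.card F - 1 := by
  classical
  obtain ⟨z, hz⟩ := IsCyclic.exists_generator (α := Fˣ)
  have hzord : orderOf z = Fintype.card F - 1 := by
    rw [orderOf_eq_card_of_forall_mem_zpowers hz, Nat.card_eq_fintype_card, Fintype.card_units]
  let A : SpecialLinearGroup (Fin 2) F :=
    ⟨Matrix.diagonal ![(z : F), ((z⁻¹ : Fˣ) : F)], by simp [Matrix.det_diagonal, Fin.prod_univ_two]⟩
  refine ⟨A, ?_⟩
  rw [← hzord]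
  rw [orderOf_eq_orderOf_iff]
  intro k
  have hA : ((A ^ k : SpecialLinearGroup (Fin 2) F) : Matrix (Fin 2) (Fin 2) F) =
      Matrix.diagonal ![(z : F) ^ k, ((z⁻¹ : Fˣ) : F) ^ k] := by
    rw [Matrix.SpecialLinearGroup.coe_pow]
    show (Matrix.diagonal ![(z : F), ((z⁻¹ : Fˣ) : F)]) ^ k = _
    rw [Matrix.diagonal_pow]
    congr 1
    ext i
    fin_cases i <;> simp
  constructor
  · intro h
    have h1 := congrArg (fun M : SpecialLinearGroup (Fin 2) F => (M : Matrix (Fin 2) (Fin 2) F) 0 0) h
    simp only [hA, Matrix.SpecialLinearGroup.coe_one] at h1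
    apply Units.ext
    simpa using h1
  · intro h
    apply Subtype.ext
    rw [hA, Matrix.SpecialLinearGroup.coe_one]
    have h1 : (z : F) ^ k = 1 := by
      have := congrArg Units.val h
      simpa using this
    have h2 : ((z⁻¹ : Fˣ) : F) ^ k = 1 := by
      have : ((z⁻¹ : Fˣ) : F) ^ k = ((z : F) ^ k)⁻¹ := by simp
      rw [this, h1, _root_.inv_one]
    rw [h1, h2]
    ext i j
    fin_cases i <;> fin_cases j <;> simp

/-- an element of order `q + 1` in `SL(2,F)` -/
theorem sl2_exists_orderOf_add_one :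
    ∃ A : SpecialLinearGroup (Fin 2) F, orderOf A = Fintype.card F + 1 := by
  classical
  obtain ⟨p, hpc⟩ := CharP.exists F
  have := hpc
  have : Fact p.Prime := ⟨CharP.char_is_prime F p⟩
  obtain ⟨q, hq⟩ : ∃ q, q = Fintype.card F := ⟨_, rfl⟩
  rw [← hq]
  have hq2 : 2 ≤ q := by rw [hq]; exact Fintype.one_lt_card
  let L := FiniteField.Extension F p 2
  let _ : Fintype L := Fintype.ofFinite L
  have hcardL : Fintype.card L = q ^ 2 := by
    rw [Fintype.card_eq_nat_card, FiniteField.natCard_extension, Nat.card_eq_fintype_card, hq]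
  obtain ⟨z, hz⟩ := IsCyclic.exists_generator (α := Lˣ)
  have hzord : orderOf z = q ^ 2 - 1 := by
    rw [orderOf_eq_card_of_forall_mem_zpowers hz, Nat.card_eq_fintype_card, Fintype.card_units, hcardL]
  have hfac : q ^ 2 - 1 = (q - 1) * (q + 1) := by
    obtain ⟨r, hr⟩ := Nat.exists_eq_add_of_le hq2
    rw [hr]
    have : (2 + r) ^ 2 = (2 + r - 1) * (2 + r + 1) + 1 := by
      have : 2 + r - 1 = r + 1 := by omega
      rw [this]; ring
    omega
  let w : Lˣ := z ^ (q - 1)
  have hword : orderOf w = q + 1 := by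
    show orderOf (z ^ (q - 1)) = q + 1
    rw [orderOf_pow_of_dvd (by omega) (by rw [hzord, hfac]; exact dvd_mul_right _ _), hzord, hfac]
    exact Nat.mul_div_cancel_left _ (by omega)
  let b : Module.Basis (Fin 2) F L := Module.finBasisOfFinrankEq F L (FiniteField.finrank_extension F p 2)
  have hdet : (Algebra.leftMulMatrix b (w : L)).det = 1 := by
    rw [← Algebra.norm_eq_matrix_det]
    show Algebra.norm F ((z ^ (q - 1) : Lˣ) : L) = 1
    rw [Units.val_pow_eq_pow_val, map_pow, hq]
    apply FiniteField.pow_card_sub_one_eq_one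
    rw [Algebra.norm_ne_zero_iff]
    exact z.ne_zero
  let A : SpecialLinearGroup (Fin 2) F := ⟨Algebra.leftMulMatrix b (w : L), hdet⟩
  refine ⟨A, ?_⟩
  rw [← hword, orderOf_eq_orderOf_iff]
  intro k
  have hA : ((A ^ k : SpecialLinearGroup (Fin 2) F) : Matrix (Fin 2) (Fin 2) F) =
      Algebra.leftMulMatrix b ((w : L) ^ k) := by
    rw [Matrix.SpecialLinearGroup.coe_pow]
    show (Algebra.leftMulMatrix b (w : L)) ^ k = _
    rw [map_pow]
  have hinj := Algebra.leftMulMatrix_injective b
  constructor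
  · intro h
    have h1 : Algebra.leftMulMatrix b ((w : L) ^ k) = Algebra.leftMulMatrix b 1 := by
      rw [← hA, h, map_one, Matrix.SpecialLinearGroup.coe_one]
    have h2 := hinj h1
    apply Units.ext
    simpa using h2
  · intro h
    apply Subtype.ext
    rw [hA, Matrix.SpecialLinearGroup.coe_one]
    have h1 : (w : L) ^ k = 1 := by
      have := congrArg Units.val h
      simpa using this
    rw [h1, map_one]

end tori

section centralizer

variable {F : Type*} [Field F] [Fintype F]

/-- the centralizer of a regular semisimple element of `SL₂(q)` has order `q - 1` or `q + 1` -/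
theorem sl2_card_centralizer (X : SpecialLinearGroup (Fin 2) F)
    (hs : (X : Matrix (Fin 2) (Fin 2) F).trace ^ 2 ≠ 4) :
    Nat.card (Subgroup.centralizer ({X} : Set (SpecialLinearGroup (Fin 2) F))) = Fintype.card F - 1 ∨
      Nat.card (Subgroup.centralizer ({X} : Set (SpecialLinearGroup (Fin 2) F))) =
        Fintype.card F + 1 := by
  classical
  have h1 := Subgroup.card_mul_index (Subgroup.centralizer ({X} : Set (SpecialLinearGroup (Fin 2) F)))
  rw [index_centralizer_eq_ncard, sl2_conj_class_eq X hs, ncard_trace_fiber', card_sl2] at h1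
  have hq : 2 ≤ Fintype.card F := Fintype.one_lt_card
  obtain ⟨r, hr⟩ := Nat.exists_eq_add_of_le hq
  rcases card_roots_eq (X : Matrix (Fin 2) (Fin 2) F).trace hs with h | h
  · right
    rw [h, mul_zero, add_zero] at h1
    have hpos : 0 < Fintype.card F * (Fintype.card F - 1) := by
      apply Nat.mul_pos <;> omega
    apply Nat.eq_of_mul_eq_mul_right hpos
    rw [h1]; ring
  · left
    rw [h] at h1
    have e : Fintype.card F * (Fintype.card F - 1) + Fintype.card F * 2 =
        Fintype.card F * (Fintype.card F + 1) := by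
      rw [hr]
      have : 2 + r - 1 = r + 1 := by omega
      rw [this]; ring
    rw [e] at h1
    have hpos : 0 < Fintype.card F * (Fintype.card F + 1) := by
      apply Nat.mul_pos <;> omega
    apply Nat.eq_of_mul_eq_mul_right hpos
    rw [h1]; ring

/-- an element of `SL₂(F)` with `tr² = 4` satisfies `X^(2p) = 1` -/
theorem sl2_pow_two_mul_char_of_trace_sq {F : Type*} [Field F] (p : ℕ) [Fact p.Prime] [CharP F p]
    (X : SpecialLinearGroup (Fin 2) F)
    (hs : (X : Matrix (Fin 2) (Fin 2) F).trace ^ 2 = 4) : X ^ (2 * p) = 1 := by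
  have hdet : (X : Matrix (Fin 2) (Fin 2) F).det = 1 := X.2
  have hsq := sq_eq_of_det_one (X : Matrix (Fin 2) (Fin 2) F) hdet
  have h4 : ((X : Matrix (Fin 2) (Fin 2) F).trace - 2) * ((X : Matrix (Fin 2) (Fin 2) F).trace + 2) = 0 := by
    linear_combination hs
  apply Subtype.ext
  rw [Matrix.SpecialLinearGroup.coe_pow, Matrix.SpecialLinearGroup.coe_one]
  rcases mul_eq_zero.mp h4 with h | h
  · have ht : (X : Matrix (Fin 2) (Fin 2) F).trace = 2 := by linear_combination h
    have h0 : ((X : Matrix (Fin 2) (Fin 2) F) - 1) ^ 2 = 0 := by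
      rw [ht] at hsq
      have : ((X : Matrix (Fin 2) (Fin 2) F) - 1) ^ 2 =
          (X : Matrix (Fin 2) (Fin 2) F) ^ 2 - (2 : F) • (X : Matrix (Fin 2) (Fin 2) F) + 1 := by
        rw [two_smul]; noncomm_ring
      rw [this, hsq]
      abel
    have := pow_char_eq_one_of_sub_one_sq p _ h0
    rw [mul_comm, pow_mul, this, one_pow]
  · have ht : (X : Matrix (Fin 2) (Fin 2) F).trace = -2 := by linear_combination h
    have h0 : (-(X : Matrix (Fin 2) (Fin 2) F) - 1) ^ 2 = 0 := by
      rw [ht] at hsq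
      have : (-(X : Matrix (Fin 2) (Fin 2) F) - 1) ^ 2 =
          (X : Matrix (Fin 2) (Fin 2) F) ^ 2 + (2 : F) • (X : Matrix (Fin 2) (Fin 2) F) + 1 := by
        rw [two_smul]; noncomm_ring
      rw [this, hsq, neg_smul]
      abel
    have := pow_char_eq_one_of_sub_one_sq p _ h0
    have h2 : (X : Matrix (Fin 2) (Fin 2) F) ^ (2 * p) =
        ((-(X : Matrix (Fin 2) (Fin 2) F)) ^ p) ^ 2 := by
      rw [← pow_mul, mul_comm p 2, Even.neg_pow ⟨p, by ring⟩]
    rw [h2, this, one_pow]

/-- an element of order prime to the characteristic, not of order `≤ 2`, is regular semisimple -/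
theorem sl2_trace_sq_ne_four {F : Type*} [Field F] (p : ℕ) [Fact p.Prime] [CharP F p]
    (X : SpecialLinearGroup (Fin 2) F) (n : ℕ) (hn : n.Coprime p) (hXn : X ^ n = 1)
    (hX2 : X * X ≠ 1) : (X : Matrix (Fin 2) (Fin 2) F).trace ^ 2 ≠ 4 := by
  intro hs
  have h1 := sl2_pow_two_mul_char_of_trace_sq p X hs
  have h2 := pow_gcd_eq_one.mpr ⟨h1, hXn⟩
  have hg : Nat.gcd (2 * p) n ∣ 2 := by
    have : Nat.gcd (2 * p) n = Nat.gcd 2 n := by
      rw [Nat.gcd_comm, Nat.gcd_comm 2 n]
      exact Nat.Coprime.gcd_mul_right_cancel_right 2 hn.symm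
    rw [this]; exact Nat.gcd_dvd_left 2 n
  apply hX2
  rw [← pow_two]
  obtain ⟨c, hc⟩ := hg
  have h3 : X ^ (Nat.gcd (2 * p) n * c) = 1 := by rw [pow_mul, h2, one_pow]
  rwa [← hc] at h3

end centralizer

end Cfsg.Agent.Helper41
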