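import Cfsg.Agent.Lib.Helper39.MH4Defs

/-!
# MH4 piece (K) for helper39's S4221 server: in degree 11 the centralizer of an involution with
three fixed points in the pointwise stabilizer of two of its 2-cycles is trivial.
-/

set_option autoImplicit false
set_option linter.unusedSectionVars false
set_option linter.unusedVariables false

namespace Cfsg.Agent.Helper41.MH4

open Equiv Cfsg.Agent.Helper39.MH4

variable {α : Type*} [Fintype α] [DecidableEq α] {G : Subgroup (Perm α)}

/-- a permutation commuting with a fixed-point-free involution of a 4-set it preserves has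
fourth power trivial on that set -/
theorem h41_pow4 (g s : Perm α) (hgs : g * s = s * g) (hss : ∀ x, s (s x) = x) (R : Finset α)
    (hR : R.card = 4) (hsR : ∀ x ∈ R, s x ∈ R) (hsne : ∀ x ∈ R, s x ≠ x)
    (hgR : ∀ x ∈ R, g x ∈ R) : ∀ x ∈ R, g (g (g (g x))) = x := by
  have hc : ∀ y, g (s y) = s (g y) := fun y => by
    have := congrArg (fun f : Perm α => f y) hgs
    simpa using this
  have key1 : ∀ y, (g y = y ∨ g y = s y) → g (g y) = y := by
    intro y h
    rcases h with h | h
    · rw [h, h]
    · rw [h, hc, h, hss]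
  intro x hx
  by_cases h1 : g x = x ∨ g x = s x
  · rw [key1 x h1, key1 x h1]
  · rw [not_or] at h1
    obtain ⟨h1a, h1b⟩ := h1
    have hRe : ({x, s x, g x, s (g x)} : Finset α) = R := by
      apply Finset.eq_of_subset_of_card_le
      · intro y hy
        simp only [Finset.mem_insert, Finset.mem_singleton] at hy
        rcases hy with rfl | rfl | rfl | rfl
        · exact hx
        · exact hsR _ hx
        · exact hgR _ hx
        · exact hsR _ (hgR _ hx)
      · rw [hR, Finset.card_insert_of_notMem, Finset.card_insert_of_notMem,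
          Finset.card_insert_of_notMem, Finset.card_singleton]
        · simp only [Finset.mem_singleton]
          exact fun h => hsne _ (hgR _ hx) h.symm
        · simp only [Finset.mem_insert, Finset.mem_singleton, not_or]
          exact ⟨fun h => h1b h.symm, fun h => h1a (s.injective h).symm⟩
        · simp only [Finset.mem_insert, Finset.mem_singleton, not_or]
          refine ⟨fun h => hsne x hx h.symm, fun h => h1a h.symm, fun h => h1b ?_⟩
          have h' := congrArg s h
          rw [hss] at h'
          exact h'.symm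
    have h2 : g (g x) ∈ ({x, s x, g x, s (g x)} : Finset α) := by
      rw [hRe]
      exact hgR _ (hgR _ hx)
    simp only [Finset.mem_insert, Finset.mem_singleton] at h2
    have key2 : g (g x) = x ∨ g (g x) = s x := by
      rcases h2 with h | h | h | h
      · exact Or.inl h
      · exact Or.inr h
      · exact absurd (g.injective h) h1a
      · rw [← hc] at h
        exact absurd (g.injective h) h1b
    rcases key2 with h | h
    · rw [h, h]
    · rw [h, hc, hc, h, hss]

/-- (K) degree 11 -/
theorem cps_eq_one_of_eleven (hyp : Hyp G) (hn : Fintype.card α = 11) {s : Perm α}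
    (hs : s ∈ G) (hs2 : s * s = 1) (hf : (fx s).card = 3) (i k : α) (hi : s i ≠ i)
    (hk : s k ≠ k) (hki : k ≠ i) (hksi : k ≠ s i) :
    Nat.card (CPS G {i, s i, k, s k} s) = 1 := by
  classical
  have hss : ∀ x, s (s x) = x := fun x => by
    have := congrArg (fun f : Perm α => f x) hs2
    simpa using this
  obtain ⟨D, hDdef⟩ : ∃ D : Finset α, D = {i, s i, k, s k} := ⟨_, rfl⟩
  rw [← hDdef]
  have hD : D.card = 4 := by
    rw [hDdef, Finset.card_insert_of_notMem, Finset.card_insert_of_notMem,
      Finset.card_insert_of_notMem, Finset.card_singleton]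
    · simp only [Finset.mem_singleton]
      exact fun h => hk h.symm
    · simp only [Finset.mem_insert, Finset.mem_singleton, not_or]
      exact ⟨fun h => hksi h.symm, fun h => hki (s.injective h).symm⟩
    · simp only [Finset.mem_insert, Finset.mem_singleton, not_or]
      refine ⟨fun h => hi h.symm, fun h => hki h.symm, fun h => hksi ?_⟩
      have h' := congrArg s h
      rw [hss] at h'
      exact h'.symm
  have hDS : ∀ x ∈ D, s x ≠ x := by
    intro x hx
    simp only [hDdef, Finset.mem_insert, Finset.mem_singleton] at hx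
    rcases hx with rfl | rfl | rfl | rfl
    · exact hi
    · rw [hss]
      exact fun h => hi h.symm
    · exact hk
    · rw [hss]
      exact fun h => hk h.symm
  have hsD : ∀ x ∈ D, s x ∈ D := by
    intro x hx
    simp only [hDdef, Finset.mem_insert, Finset.mem_singleton] at hx ⊢
    rcases hx with rfl | rfl | rfl | rfl
    · exact Or.inr (Or.inl rfl)
    · rw [hss]
      exact Or.inl rfl
    · exact Or.inr (Or.inr (Or.inr rfl))
    · rw [hss]
      exact Or.inr (Or.inr (Or.inl rfl))
  have hodd : Odd (Nat.card (PS G D)) := hyp.odd D hD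
  -- odd order: a point of period dividing 4 is fixed
  have hA : ∀ t ∈ PS G D, ∀ x : α, t (t (t (t x))) = x → t x = x := by
    intro t ht x hx
    have h1 : t ^ Nat.card (PS G D) = 1 := by
      have h0 := pow_card_eq_one' (G := ↥(PS G D)) (x := ⟨t, ht⟩)
      have h0' := congrArg Subtype.val h0
      rw [Subgroup.coe_pow] at h0'
      exact h0'
    have h2 : MulAction.period t x ∣ Nat.card (PS G D) := by
      rw [← MulAction.pow_smul_eq_iff_period_dvd, h1, one_smul]
    have h3 : MulAction.period t x ∣ 2 ^ 2 := by
      rw [← MulAction.pow_smul_eq_iff_period_dvd]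
      have : (t ^ 2 ^ 2) x = t (t (t (t x))) := by
        norm_num [pow_succ, Perm.mul_apply]
      rw [Perm.smul_def, this, hx]
    have h4 : Nat.Coprime (2 ^ 2) (Nat.card (PS G D)) :=
      Nat.Coprime.pow_left 2 (Nat.coprime_two_left.mpr hodd)
    have h5 : MulAction.period t x = 1 := by
      have h6 := Nat.dvd_gcd h3 h2
      rw [Nat.Coprime] at h4
      rw [h4] at h6
      exact Nat.dvd_one.mp h6
    exact MulAction.period_eq_one_iff.mp h5
  rw [Subgroup.card_eq_one, Subgroup.eq_bot_iff_forall]
  intro g hg
  rw [mem_CPS] at hg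
  obtain ⟨hgG, hgD, hgs⟩ := hg
  have hgPS : g ∈ PS G D := ⟨hgG, hgD⟩
  have hc : ∀ y, g (s y) = s (g y) := fun y => by
    have := congrArg (fun f : Perm α => f y) hgs
    simpa using this
  -- the remaining moved points
  obtain ⟨R, hRdef⟩ : ∃ R : Finset α, R = (Finset.univ.filter (fun x => s x ≠ x)) \ D := ⟨_, rfl⟩
  have hmemR : ∀ x, x ∈ R ↔ s x ≠ x ∧ x ∉ D := by
    intro x
    simp [hRdef]
  have hRcard : R.card = 4 := by
    have h1 : (Finset.univ.filter (fun x => s x ≠ x)).card = 8 := by
      have h2 := Finset.card_filter_add_card_filter_not (s := (Finset.univ : Finset α))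
        (fun x => s x = x)
      have h3 : (Finset.univ.filter (fun x => s x = x)).card = 3 := hf
      rw [h3, Finset.card_univ, hn] at h2
      change (Finset.univ.filter (fun x => ¬ s x = x)).card = 8
      omega
    have h3 : D ⊆ Finset.univ.filter (fun x => s x ≠ x) := by
      intro x hx
      simp [hDS x hx]
    rw [hRdef, Finset.card_sdiff_of_subset h3, h1, hD]
  have hgR : ∀ x ∈ R, g x ∈ R := by
    intro x hx
    rw [hmemR] at hx ⊢
    refine ⟨?_, ?_⟩
    · rw [← hc]
      exact fun h => hx.1 (g.injective h)
    · intro h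
      have h' := hgD _ h
      have h'' : g x = x := g.injective h'
      rw [h''] at h
      exact hx.2 h
  have hsR : ∀ x ∈ R, s x ∈ R := by
    intro x hx
    rw [hmemR] at hx ⊢
    refine ⟨?_, fun h => hx.2 ?_⟩
    · rw [hss]
      exact fun h => hx.1 h.symm
    · have h' := hsD _ h
      rwa [hss] at h'
  have hfixS : ∀ x, s x ≠ x → g x = x := by
    intro x hx
    by_cases hxD : x ∈ D
    · exact hgD x hxD
    · apply hA g hgPS
      exact h41_pow4 g s hgs hss R hRcard hsR (fun y hy => ((hmemR y).1 hy).1) hgR x
        ((hmemR x).2 ⟨hx, hxD⟩)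
  -- now the fixed points of `s`
  by_contra hg1
  obtain ⟨p, hp⟩ : ∃ p, g p ≠ p := by
    by_contra h
    apply hg1
    apply Perm.ext
    intro x
    by_contra hx
    exact h ⟨x, hx⟩
  have hpf : s p = p := by
    by_contra h
    exact hp (hfixS p h)
  have hgf : ∀ x, s x = x → s (g x) = g x := fun x hx => by rw [← hc, hx]
  obtain ⟨q, hq⟩ : ∃ q, q = g p := ⟨_, rfl⟩
  obtain ⟨r, hr⟩ : ∃ r, r = g q := ⟨_, rfl⟩
  have hqf : s q = q := by
    rw [hq]
    exact hgf p hpf
  have hrf : s r = r := by
    rw [hr]
    exact hgf q hqf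
  have hqp : q ≠ p := by
    rw [hq]
    exact hp
  have hrq : r ≠ q := by
    intro h
    apply hqp
    apply g.injective
    rw [← hr, ← hq]
    exact h
  have hrp : r ≠ p := by
    intro h
    apply hp
    apply hA g hgPS
    have h1 : g (g p) = p := by rw [← hq, ← hr, h]
    rw [h1, h1]
  have hP : ({p, q, r} : Finset α) = fx s := by
    apply Finset.eq_of_subset_of_card_le
    · intro y hy
      simp only [Finset.mem_insert, Finset.mem_singleton] at hy
      rcases hy with rfl | rfl | rfl <;> rw [mem_fx] <;> assumption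
    · rw [hf, Finset.card_insert_of_notMem, Finset.card_insert_of_notMem, Finset.card_singleton]
      · simp only [Finset.mem_singleton]
        exact fun h => hrq h.symm
      · simp only [Finset.mem_insert, Finset.mem_singleton, not_or]
        exact ⟨fun h => hqp h.symm, fun h => hrp h.symm⟩
  have hfx3 : ∀ z, s z = z → z = p ∨ z = q ∨ z = r := by
    intro z hz
    have h1 : z ∈ fx s := mem_fx.2 hz
    rw [← hP] at h1
    simpa only [Finset.mem_insert, Finset.mem_singleton] using h1
  have hgr : g r = p := by
    rcases hfx3 (g r) (hgf r hrf) with h | h | h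
    · exact h
    · exact absurd (g.injective (h.trans hq)) hrp
    · exact absurd (g.injective (h.trans hr)) hrq
  -- a moved point outside `D`
  obtain ⟨e, he⟩ : R.Nonempty := by
    rw [← Finset.card_pos, hRcard]
    norm_num
  rw [hmemR] at he
  obtain ⟨hes, heD⟩ := he
  have hpe : p ≠ e := fun h => hes (h ▸ hpf)
  have hqe : q ≠ e := fun h => hes (h ▸ hqf)
  have hre : r ≠ e := fun h => hes (h ▸ hrf)
  have hinj1 : Function.Injective ![p, q, r, e] := by
    rw [← List.nodup_ofFn]
    simp [hqp.symm, hrp.symm, hpe, hrq.symm, hqe, hre]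
  have hinj2 : Function.Injective ![p, q, e, r] := by
    rw [← List.nodup_ofFn]
    simp [hqp.symm, hrp.symm, hpe, hrq.symm, hqe, hre.symm]
  obtain ⟨h, hhG, hh⟩ := hyp.tr ⟨![p, q, r, e], hinj1⟩ ⟨![p, q, e, r], hinj2⟩
  have hh0 : h p = p := hh 0
  have hh1 : h q = q := hh 1
  have hh2 : h r = e := hh 2
  have hh3 : h e = r := hh 3
  have hτPS : g * (h * g * h⁻¹) ∈ PS G D := by
    refine ⟨G.mul_mem hgG (G.mul_mem (G.mul_mem hhG hgG) (G.inv_mem hhG)), fun y hy => ?_⟩
    obtain ⟨z, hz⟩ : ∃ z, z = h⁻¹ y := ⟨_, rfl⟩
    have hzy : h z = y := by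
      rw [hz]
      simp
    have hzs : s z ≠ z := by
      intro hzf
      rcases hfx3 z hzf with h1 | h1 | h1
      · rw [h1, hh0] at hzy
        exact hDS y hy (hzy ▸ hpf)
      · rw [h1, hh1] at hzy
        exact hDS y hy (hzy ▸ hqf)
      · rw [h1, hh2] at hzy
        exact heD (hzy ▸ hy)
    simp only [Perm.mul_apply]
    rw [← hz, hfixS z hzs, hzy, hgD y hy]
  have hτp : (g * (h * g * h⁻¹)) p = r := by
    have h1 : h⁻¹ p = p := by
      rw [Perm.inv_eq_iff_eq, hh0]
    simp only [Perm.mul_apply]
    rw [h1, ← hq, hh1, ← hr]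
  have hτr : (g * (h * g * h⁻¹)) r = p := by
    have h1 : h⁻¹ r = e := by
      rw [Perm.inv_eq_iff_eq, hh3]
    simp only [Perm.mul_apply]
    rw [h1, hfixS e hes, hh3, hgr]
  have hfin := hA _ hτPS p (by rw [hτp, hτr, hτp, hτr])
  rw [hτp] at hfin
  exact hrp hfin

end Cfsg.Agent.Helper41.MH4
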