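import Mathlib

set_option autoImplicit false

namespace Cfsg.Agent.Helper41

open Equiv Equiv.Perm

theorem mem_range_orderOf_alt_iff (n k : ℕ) :
    k ∈ Set.range (orderOf : alternatingGroup (Fin n) → ℕ) ↔
      ∃ m : Multiset ℕ, (∀ a ∈ m, 2 ≤ a) ∧ m.sum ≤ n ∧ Even (m.sum + Multiset.card m) ∧
        m.lcm = k := by
  constructor
  · rintro ⟨σ, rfl⟩
    refine ⟨(σ : Perm (Fin n)).cycleType, fun a ha => two_le_of_mem_cycleType ha, ?_, ?_, ?_⟩
    · simpa using sum_cycleType_le (σ : Perm (Fin n))
    · have h := σ.2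
      rw [Equiv.Perm.mem_alternatingGroup, sign_of_cycleType] at h
      by_contra hodd
      rw [Nat.not_even_iff_odd] at hodd
      rw [hodd.neg_one_pow] at h
      exact absurd h (by decide)
    · rw [lcm_cycleType]
      exact (Subgroup.orderOf_coe σ)
  · rintro ⟨m, h2, hsum, heven, rfl⟩
    obtain ⟨g, hg⟩ := (Equiv.Perm.exists_with_cycleType_iff (α := Fin n)).mpr
      ⟨by simpa using hsum, h2⟩
    have hmem : g ∈ alternatingGroup (Fin n) := by
      rw [Equiv.Perm.mem_alternatingGroup, sign_of_cycleType, hg, heven.neg_one_pow]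
    refine ⟨⟨g, hmem⟩, ?_⟩
    rw [← hg, lcm_cycleType]
    exact (Subgroup.orderOf_mk g hmem)

theorem exists_mem_dvd_of_prime_dvd_lcm {p : ℕ} (hp : p.Prime) (m : Multiset ℕ) (h : p ∣ m.lcm) :
    ∃ a ∈ m, p ∣ a := by
  induction m using Multiset.induction_on with
  | empty =>
    simp only [Multiset.lcm_zero, Nat.dvd_one] at h
    exact absurd h hp.one_lt.ne'
  | cons a m ih =>
    rw [Multiset.lcm_cons] at h
    rcases (Nat.Prime.dvd_mul hp).mp (dvd_trans h (Nat.lcm_dvd_mul a m.lcm)) with h | h
    · exact ⟨a, Multiset.mem_cons_self a m, h⟩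
    · obtain ⟨b, hb, hpb⟩ := ih h
      exact ⟨b, Multiset.mem_cons_of_mem hb, hpb⟩

/-- parity of `sum + card` is the parity of the number of even parts -/
theorem even_sum_add_card_iff (m : Multiset ℕ) :
    Even (m.sum + Multiset.card m) ↔ Even (Multiset.card (m.filter (fun a => Even a))) := by
  induction m using Multiset.induction_on with
  | empty => simp
  | cons a m ih =>
    rw [Multiset.sum_cons, Multiset.card_cons]
    by_cases ha : Even a
    · rw [Multiset.filter_cons_of_pos _ ha, Multiset.card_cons]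
      have : a + m.sum + (Multiset.card m + 1) = (m.sum + Multiset.card m) + (a + 1) := by ring
      rw [this, Nat.even_add, Nat.even_add_one (n := Multiset.card _), ← ih]
      have : ¬ Even (a + 1) := by rw [Nat.even_add_one]; exact not_not.mpr ha
      tauto
    · rw [Multiset.filter_cons_of_neg _ ha]
      have : a + m.sum + (Multiset.card m + 1) = (m.sum + Multiset.card m) + (a + 1) := by ring
      rw [this, Nat.even_add, ← ih]
      have : Even (a + 1) := by rw [Nat.even_add_one]; exact ha
      tauto

end Cfsg.Agent.Helper41
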