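import Mathlib
import Cfsg.Agent.Lib.Helper96.FpfAction
import Cfsg.Agent.Lib.Helper11.InvComplement
import Cfsg.Agent.Lib.Helper33.Conj

/-!
# Pure lemmas for B–G Lemma 12.12 (S1421), requested in board post #3100 (helper78)

* `exists_compl_of_pow` (CP)
* `exists_invariant_compl` (MC)
* `exists_fixed_of_noncyclic` (NC)
* `isCyclic_of_unique_card_prime` (CY)
-/

set_option autoImplicit false
set_option linter.unusedSectionVars false
open Pointwise

namespace Cfsg.Agent.Helper41.BG1212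

open Subgroup
open Cfsg.Agent.Helper33 (mem_normalizer_iff_smul_eq smul_eq_of_mem_normalizer conj_smul_inf
  centralizer_conj_smul)

variable {G : Type*} [Group G] [Finite G]

/-- elements of `C ⊔ ⟨x⟩` inside an abelian subgroup `P`. -/
theorem mem_sup_zpowers {P C : Subgroup G} (hPc : ∀ a ∈ P, ∀ b ∈ P, a * b = b * a) (hCP : C ≤ P)
    {x : G} (hx : x ∈ P) {d : G} (hd : d ∈ C ⊔ zpowers x) : ∃ c ∈ C, ∃ i : ℤ, d = c * x ^ i := by
  rw [sup_eq_closure] at hd
  induction hd using closure_induction with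
  | mem y hy =>
    rcases hy with hy | hy
    · exact ⟨y, hy, 0, by simp⟩
    · obtain ⟨i, rfl⟩ := mem_zpowers_iff.mp hy
      exact ⟨1, C.one_mem, i, by simp⟩
  | one => exact ⟨1, C.one_mem, 0, by simp⟩
  | mul y z _ _ hy hz =>
    obtain ⟨c1, hc1, i, rfl⟩ := hy
    obtain ⟨c2, hc2, j, rfl⟩ := hz
    refine ⟨c1 * c2, C.mul_mem hc1 hc2, i + j, ?_⟩
    have hxi : x ^ i ∈ P := P.zpow_mem hx i
    have h1 : x ^ i * c2 = c2 * x ^ i := hPc _ hxi _ (hCP hc2)
    calc c1 * x ^ i * (c2 * x ^ j) = c1 * (x ^ i * c2) * x ^ j := by group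
      _ = c1 * (c2 * x ^ i) * x ^ j := by rw [h1]
      _ = c1 * c2 * x ^ (i + j) := by rw [zpow_add]; group
  | inv y _ hy =>
    obtain ⟨c, hc, i, rfl⟩ := hy
    refine ⟨c⁻¹, C.inv_mem hc, -i, ?_⟩
    have hxi : x ^ i ∈ P := P.zpow_mem hx i
    have h1 : x ^ i * c = c * x ^ i := hPc _ hxi _ (hCP hc)
    have h2 : (x ^ i)⁻¹ * c⁻¹ = c⁻¹ * (x ^ i)⁻¹ := by
      have := congrArg (fun t => t⁻¹) h1
      simpa [mul_inv_rev] using this.symm
    rw [mul_inv_rev, zpow_neg, h2]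

/-- (CP) a subgroup `A₀` of prime order `p` of a finite abelian group `P` which contains no
nontrivial `p`-th power of `P` has a complement in `P`. -/
theorem exists_compl_of_pow {p : ℕ} [hp : Fact p.Prime] (P A0 : Subgroup G)
    (hPc : ∀ a ∈ P, ∀ b ∈ P, a * b = b * a) (hA0P : A0 ≤ P) (hA0 : Nat.card A0 = p)
    (hpow : ∀ y ∈ P, y ^ p ∈ A0 → y ^ p = 1) :
    ∃ C : Subgroup G, C ≤ P ∧ A0 ⊓ C = ⊥ ∧ A0 ⊔ C = P := by
  let pr : Subgroup G → Prop := fun D => D ≤ P ∧ (∀ y ∈ P, y ^ p ∈ D) ∧ A0 ⊓ D = ⊥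
  obtain ⟨Q0, hQ0def⟩ : ∃ Q0 : Subgroup G, Q0 = closure {z | ∃ y ∈ P, z = y ^ p} := ⟨_, rfl⟩
  have hQ0pow : ∀ z ∈ Q0, ∃ y ∈ P, z = y ^ p := by
    intro z hz
    rw [hQ0def] at hz
    induction hz using closure_induction with
    | mem x hx => exact hx
    | one => exact ⟨1, P.one_mem, (one_pow p).symm⟩
    | mul x y _ _ hx hy =>
      obtain ⟨a, ha, rfl⟩ := hx
      obtain ⟨b, hb, rfl⟩ := hy
      exact ⟨a * b, P.mul_mem ha hb, ((Commute.mul_pow (hPc a ha b hb) p)).symm⟩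
    | inv x _ hx =>
      obtain ⟨a, ha, rfl⟩ := hx
      exact ⟨a⁻¹, P.inv_mem ha, (inv_pow a p).symm⟩
  have hQ0 : pr Q0 := by
    refine ⟨?_, ?_, ?_⟩
    · rw [hQ0def, closure_le]; rintro z ⟨y, hy, rfl⟩; exact P.pow_mem hy p
    · intro y hy; rw [hQ0def]; exact subset_closure ⟨y, hy, rfl⟩
    · rw [eq_bot_iff]; rintro z ⟨hzA, hzQ⟩
      obtain ⟨y, hy, rfl⟩ := hQ0pow z hzQ
      rw [mem_bot]; exact hpow y hy hzA
  obtain ⟨C, -, hCmax⟩ := Finite.exists_le_maximal (p := pr) hQ0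
  obtain ⟨⟨hCP, hCpow, hCA⟩, hmax⟩ := hCmax
  refine ⟨C, hCP, hCA, le_antisymm (sup_le hA0P hCP) ?_⟩
  intro x hx
  by_cases hxC : x ∈ C
  · exact (le_sup_right : C ≤ A0 ⊔ C) hxC
  have hD : ¬ pr (C ⊔ zpowers x) := by
    intro hprD
    have := hmax hprD le_sup_left
    exact hxC (this ((le_sup_right : zpowers x ≤ C ⊔ zpowers x) (mem_zpowers x)))
  have hDP : C ⊔ zpowers x ≤ P := sup_le hCP (by rw [zpowers_le]; exact hx)
  have hDpow : ∀ y ∈ P, y ^ p ∈ C ⊔ zpowers x := fun y hy => (le_sup_left : C ≤ C ⊔ zpowers x) (hCpow y hy)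
  have hne : A0 ⊓ (C ⊔ zpowers x) ≠ ⊥ := fun h => hD ⟨hDP, hDpow, h⟩
  obtain ⟨⟨a, ha⟩, ha1⟩ := (Subgroup.ne_bot_iff_exists_ne_one).mp hne
  have haA : a ∈ A0 := ha.1
  have ha1' : a ≠ 1 := fun h => ha1 (Subtype.ext h)
  obtain ⟨c, hc, i, hci⟩ := mem_sup_zpowers hPc hCP hx ha.2
  have hxi : x ^ i = c⁻¹ * a := by rw [hci]; group
  have hnd : ¬ (p : ℤ) ∣ i := by
    rintro ⟨m, rfl⟩
    have h1 : x ^ ((p : ℤ) * m) = (x ^ m) ^ p := by
      rw [mul_comm, zpow_mul, zpow_natCast]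
    have h2 : x ^ ((p : ℤ) * m) ∈ C := by rw [h1]; exact hCpow _ (P.zpow_mem hx m)
    have h3 : a ∈ A0 ⊓ C := ⟨haA, by rw [hci]; exact C.mul_mem hc h2⟩
    rw [hCA, mem_bot] at h3
    exact ha1' h3
  have hcop : IsCoprime i (p : ℤ) := by
    rw [Int.isCoprime_iff_gcd_eq_one]
    have h1 : ¬ p ∣ i.natAbs := fun h => hnd (Int.natCast_dvd.mpr h)
    have h2 : Nat.Coprime p i.natAbs := (Nat.Prime.coprime_iff_not_dvd hp.out).mpr h1
    rw [Int.gcd_def, Int.natAbs_natCast]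
    exact h2.symm
  obtain ⟨u, v, huv⟩ := hcop
  have hx1 : x = (c⁻¹ * a) ^ u * (x ^ v) ^ p := by
    calc x = x ^ (1 : ℤ) := (zpow_one x).symm
      _ = x ^ (u * i + v * p) := by rw [huv]
      _ = (x ^ i) ^ u * (x ^ v) ^ (p : ℤ) := by rw [zpow_add, zpow_mul', zpow_mul]
      _ = (c⁻¹ * a) ^ u * (x ^ v) ^ p := by rw [hxi, zpow_natCast]
  rw [hx1]
  refine (A0 ⊔ C).mul_mem ((A0 ⊔ C).zpow_mem ?_ u) ?_
  · exact (A0 ⊔ C).mul_mem ((le_sup_right : C ≤ A0 ⊔ C) (C.inv_mem hc))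
      ((le_sup_left : A0 ≤ A0 ⊔ C) haA)
  · exact (le_sup_right : C ≤ A0 ⊔ C) (hCpow _ (P.zpow_mem hx v))

/-- (CY) an abelian `p`-group with at most one subgroup of order `p` is cyclic. -/
theorem isCyclic_of_unique_card_prime {p : ℕ} [hp : Fact p.Prime] (S : Subgroup G)
    (hS : IsPGroup p S) (hSc : ∀ a ∈ S, ∀ b ∈ S, a * b = b * a)
    (huniq : ∀ X Y : Subgroup G, X ≤ S → Y ≤ S → Nat.card X = p → Nat.card Y = p → X = Y) :
    IsCyclic S := by
  letI : CommGroup S :=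
    { (inferInstance : Group S) with
      mul_comm := fun a b => Subtype.ext (hSc a a.2 b b.2) }
  apply Cfsg.Agent.Helper96.isCyclic_of_card_ker_pow_prime_le
  intro r hr
  haveI : Fact r.Prime := ⟨hr⟩
  by_contra hlt
  push Not at hlt
  set Kr := (powMonoidHom r : S →* S).ker with hKr
  have hmemK : ∀ a : S, a ∈ Kr ↔ a ^ r = 1 := fun a => by
    rw [hKr, MonoidHom.mem_ker]; rfl
  -- a nontrivial element of the `r`-torsion forces `r = p`
  have h1lt : 1 < Nat.card Kr := lt_of_le_of_lt hr.one_lt.le hlt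
  haveI : Nontrivial Kr := Finite.one_lt_card_iff_nontrivial.mp h1lt
  obtain ⟨⟨x, hxK⟩, hx1⟩ := exists_ne (1 : Kr)
  have hx1' : x ≠ 1 := fun h => hx1 (Subtype.ext h)
  have hxr : x ^ r = 1 := (hmemK x).mp hxK
  have hox : orderOf x = r := orderOf_eq_prime hxr hx1'
  have hrp : r = p := by
    obtain ⟨k, hk⟩ := hS x
    have h1 : orderOf x ∣ p ^ k := orderOf_dvd_of_pow_eq_one hk
    rw [hox] at h1
    exact (Nat.prime_dvd_prime_iff_eq hr hp.out).mp (hr.dvd_of_dvd_pow h1)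
  -- a second element outside `⟨x⟩`
  have hcz : Nat.card (zpowers x) = r := by rw [Nat.card_zpowers, hox]
  obtain ⟨⟨y, hyK⟩, hyx⟩ : ∃ y : Kr, (y : S) ∉ zpowers x := by
    by_contra hall
    push Not at hall
    have hle : Nat.card Kr ≤ Nat.card (zpowers x) :=
      Nat.card_le_card_of_injective (fun y : Kr => (⟨(y : S), hall y⟩ : zpowers x))
        (fun a b hab => Subtype.ext (congrArg (fun t : zpowers x => (t : S)) hab))
    rw [hcz] at hle
    exact absurd hlt (not_lt.mpr hle)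
  have hy1 : y ≠ 1 := fun h => hyx (h ▸ (zpowers x).one_mem)
  have hyr : y ^ r = 1 := (hmemK y).mp hyK
  have hoy : orderOf y = r := orderOf_eq_prime hyr hy1
  -- two distinct subgroups of order `p` of `S`
  have hX : Nat.card (zpowers (x : G)) = p := by
    rw [Nat.card_zpowers, Subgroup.orderOf_coe, hox, hrp]
  have hY : Nat.card (zpowers (y : G)) = p := by
    rw [Nat.card_zpowers, Subgroup.orderOf_coe, hoy, hrp]
  have hXS : zpowers (x : G) ≤ S := by rw [zpowers_le]; exact x.2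
  have hYS : zpowers (y : G) ≤ S := by rw [zpowers_le]; exact y.2
  have heq := huniq _ _ hXS hYS hX hY
  apply hyx
  have hy' : (y : G) ∈ zpowers (x : G) := by rw [heq]; exact mem_zpowers _
  obtain ⟨i, hi⟩ := mem_zpowers_iff.mp hy'
  rw [mem_zpowers_iff]
  exact ⟨i, Subtype.ext (by simpa using hi)⟩

/-- conjugation action of `H ≤ N_G(P)` on `P`. -/
def conjAct (H P : Subgroup G) (hHP : H ≤ normalizer (P : Set G)) : ↥H →* MulAut ↥P where
  toFun r :=
    { toFun := fun z => ⟨(r : G) * z * (r : G)⁻¹, (mem_normalizer_iff.mp (hHP r.2) z).mp z.2⟩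
      invFun := fun z => ⟨(r : G)⁻¹ * z * (r : G), by
        have := (mem_normalizer_iff.mp (hHP (H.inv_mem r.2)) z).mp z.2
        simpa using this⟩
      left_inv := fun z => by apply Subtype.ext; simp [mul_assoc]
      right_inv := fun z => by apply Subtype.ext; simp [mul_assoc]
      map_mul' := fun a b => by apply Subtype.ext; simp [mul_assoc] }
  map_one' := by ext z; simp
  map_mul' := fun a b => by ext z; simp [mul_assoc]

theorem conjAct_apply (H P : Subgroup G) (hHP : H ≤ normalizer (P : Set G)) (r : ↥H) (z : ↥P) :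
    ((conjAct H P hHP r z : ↥P) : G) = (r : G) * z * (r : G)⁻¹ := rfl

/-- (MC) an `H`-invariant direct factor `A₀` of a finite abelian group `P`, `(|H|, |P|) = 1`, has an
`H`-invariant complement. -/
theorem exists_invariant_compl (P A0 C H : Subgroup G)
    (hPc : ∀ a ∈ P, ∀ b ∈ P, a * b = b * a) (hA0C : A0 ⊓ C = ⊥) (hsup : A0 ⊔ C = P)
    (hHP : H ≤ normalizer (P : Set G)) (hHA0 : H ≤ normalizer (A0 : Set G))
    (hcop : (Nat.card H).Coprime (Nat.card P)) :
    ∃ C1 : Subgroup G, C1 ≤ P ∧ A0 ⊓ C1 = ⊥ ∧ A0 ⊔ C1 = P ∧ H ≤ normalizer (C1 : Set G) := by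
  classical
  letI : CommGroup P :=
    { (inferInstance : Group P) with
      mul_comm := fun a b => Subtype.ext (hPc a a.2 b b.2) }
  haveI : Fintype H := Fintype.ofFinite H
  have hA0P : A0 ≤ P := hsup ▸ le_sup_left
  have hCP : C ≤ P := hsup ▸ le_sup_right
  obtain ⟨W', hWinv, hdisj', hsup'⟩ := Cfsg.Agent.Helper11.exists_invariant_complement
    (conjAct H P hHP) (by rw [← Nat.card_eq_fintype_card]; exact hcop)
    (A0.subgroupOf P) (C.subgroupOf P)
    (by
      intro a u hu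
      rw [mem_subgroupOf] at hu ⊢
      rw [conjAct_apply]
      exact (mem_normalizer_iff.mp (hHA0 a.2) u).mp hu)
    (by
      rw [eq_bot_iff]
      intro x hx
      have hx1 : (x : G) ∈ A0 := mem_subgroupOf.mp (mem_inf.mp hx).1
      have hx2 : (x : G) ∈ C := mem_subgroupOf.mp (mem_inf.mp hx).2
      have : (x : G) ∈ A0 ⊓ C := ⟨hx1, hx2⟩
      rw [hA0C, mem_bot] at this
      rw [mem_bot]
      exact Subtype.ext this)
    (by rw [← subgroupOf_sup hA0P hCP, hsup, subgroupOf_self])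
  refine ⟨W'.map P.subtype, map_subtype_le _, ?_, ?_, ?_⟩
  · rw [eq_bot_iff]
    rintro x ⟨hxA, w, hw, rfl⟩
    have : w ∈ A0.subgroupOf P ⊓ W' := ⟨mem_subgroupOf.mpr hxA, hw⟩
    rw [hdisj', mem_bot] at this
    rw [mem_bot, this]; rfl
  · apply le_antisymm (sup_le hA0P (map_subtype_le _))
    intro x hx
    have hxtop : (⟨x, hx⟩ : P) ∈ A0.subgroupOf P ⊔ W' := by rw [hsup']; exact mem_top _
    obtain ⟨y, hy, z, hz, hyz⟩ := Subgroup.mem_sup.mp hxtop
    have hxyz : x = (y : G) * (z : G) := by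
      have := congrArg Subtype.val hyz
      simpa using this.symm
    rw [hxyz]
    exact (A0 ⊔ W'.map P.subtype).mul_mem
      ((le_sup_left : A0 ≤ A0 ⊔ W'.map P.subtype) (mem_subgroupOf.mp hy))
      ((le_sup_right : W'.map P.subtype ≤ A0 ⊔ W'.map P.subtype) ⟨z, hz, rfl⟩)
  · intro h hh
    rw [mem_normalizer_iff]
    intro n
    constructor
    · rintro ⟨w, hw, rfl⟩
      exact ⟨conjAct H P hHP ⟨h, hh⟩ w, hWinv ⟨h, hh⟩ w hw, rfl⟩
    · rintro ⟨w, hw, hwn⟩
      refine ⟨conjAct H P hHP ⟨h⁻¹, H.inv_mem hh⟩ w, hWinv ⟨h⁻¹, H.inv_mem hh⟩ w hw, ?_⟩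
      have h1 : (P.subtype w : G) = h * n * h⁻¹ := hwn
      show ((conjAct H P hHP ⟨h⁻¹, H.inv_mem hh⟩ w : ↥P) : G) = n
      rw [conjAct_apply]
      have h2 : ((w : ↥P) : G) = h * n * h⁻¹ := h1
      rw [h2]
      group

/-- a proper subgroup of a cyclic `q`-group consists of `q`-th powers. -/
theorem exists_pow_of_lt_cyclic {q : ℕ} [hq : Fact q.Prime] {Q X : Subgroup G} (hQ : IsPGroup q Q)
    (hQc : IsCyclic Q) (hXQ : X ≤ Q) (hXne : X ≠ Q) {x : G} (hx : x ∈ X) :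
    ∃ u ∈ Q, x = u ^ q := by
  obtain ⟨⟨c, hcQ⟩, hc⟩ := hQc.exists_generator
  obtain ⟨i, hi⟩ := mem_zpowers_iff.mp (hc ⟨x, hXQ hx⟩)
  have hxi : c ^ i = x := by
    have := congrArg Subtype.val hi
    simpa using this
  by_cases hd : (q : ℤ) ∣ i
  · obtain ⟨m, rfl⟩ := hd
    refine ⟨c ^ m, Q.zpow_mem hcQ m, ?_⟩
    rw [← hxi, mul_comm, zpow_mul, zpow_natCast]
  · exfalso
    apply hXne
    apply le_antisymm hXQ
    obtain ⟨n, hn⟩ := IsPGroup.iff_card.mp hQ
    have hcn : c ^ (q ^ n) = 1 := by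
      have h1 : (⟨c, hcQ⟩ : Q) ^ Nat.card Q = 1 := pow_card_eq_one'
      rw [hn] at h1
      have := congrArg Subtype.val h1
      simpa using this
    have hcop : IsCoprime i ((q : ℤ) ^ n) := by
      apply IsCoprime.pow_right
      rw [Int.isCoprime_iff_gcd_eq_one]
      have h1 : ¬ q ∣ i.natAbs := fun h => hd (Int.natCast_dvd.mpr h)
      have h2 : Nat.Coprime q i.natAbs := (Nat.Prime.coprime_iff_not_dvd hq.out).mpr h1
      rw [Int.gcd_def, Int.natAbs_natCast]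
      exact h2.symm
    obtain ⟨u, v, huv⟩ := hcop
    have hcX : c ∈ X := by
      have h1 : c = x ^ u := by
        calc c = c ^ (1 : ℤ) := (zpow_one c).symm
          _ = c ^ (u * i + v * (q : ℤ) ^ n) := by rw [huv]
          _ = (c ^ i) ^ u * (c ^ ((q : ℤ) ^ n)) ^ v := by
            rw [zpow_add, zpow_mul', zpow_mul']
          _ = x ^ u := by
            have h2 : c ^ ((q : ℤ) ^ n) = 1 := by
              have : ((q : ℤ) ^ n) = ((q ^ n : ℕ) : ℤ) := by push_cast; rfl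
              rw [this, zpow_natCast, hcn]
            rw [hxi, h2, one_zpow, mul_one]
      rw [h1]; exact X.zpow_mem hx u
    intro z hz
    obtain ⟨j, hj⟩ := mem_zpowers_iff.mp (hc ⟨z, hz⟩)
    have hzj : c ^ j = z := by
      have := congrArg Subtype.val hj
      simpa using this
    rw [← hzj]; exact X.zpow_mem hcX j

/-- (NC) an abelian `q`-group `P*` acting on a nontrivial `p`-group `S` with `P*/C_{P*}(S)`
noncyclic (given as `C_{P*}(S) < Q ≤ P*`, `Q` cyclic, `P*` noncyclic) has an element outside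
`C_{P*}(S)` with a nontrivial fixed point on `S`. -/
theorem exists_fixed_of_noncyclic {p q : ℕ} [hp : Fact p.Prime] [hq : Fact q.Prime]
    (S Pst Q X : Subgroup G)
    (hS : IsPGroup p S) (hS1 : S ≠ ⊥) (hPst : IsPGroup q Pst)
    (hPc : ∀ a ∈ Pst, ∀ b ∈ Pst, a * b = b * a) (hPS : Pst ≤ normalizer (S : Set G))
    (hX : X = Pst ⊓ centralizer (S : Set G)) (hXQ : X ≤ Q) (hQP : Q ≤ Pst) (hQc : IsCyclic Q)
    (hXne : X ≠ Q) (hPnc : ¬ IsCyclic Pst) :
    ∃ b ∈ Pst, b ∉ X ∧ S ⊓ centralizer ({b} : Set G) ≠ ⊥ := by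
  by_contra hcon
  push Not at hcon
  apply hPnc
  -- `V = Z(S)`
  obtain ⟨V, hVdef⟩ : ∃ V : Subgroup G, V = S ⊓ centralizer (S : Set G) := ⟨_, rfl⟩
  have hVS : V ≤ S := hVdef ▸ inf_le_left
  have hV1 : V ≠ ⊥ := by
    haveI : Nontrivial S := (Subgroup.nontrivial_iff_ne_bot S).mpr hS1
    haveI := hS.center_nontrivial
    obtain ⟨⟨z, hz⟩, hz1⟩ := exists_ne (1 : center S)
    intro hbot
    apply hz1
    have hzmem : (z : G) ∈ V := by
      rw [hVdef]
      refine mem_inf.mpr ⟨z.2, ?_⟩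
      rw [mem_centralizer_iff]
      intro h hh
      have := (Subgroup.mem_center_iff.mp hz) ⟨h, hh⟩
      exact congrArg Subtype.val this
    rw [hbot, mem_bot] at hzmem
    exact Subtype.ext (Subtype.ext hzmem)
  have hVc : ∀ a ∈ V, ∀ b ∈ V, a * b = b * a := by
    intro a ha b hb
    rw [hVdef] at ha hb
    exact ((mem_centralizer_iff.mp ha.2) b hb.1).symm
  have hPV : Pst ≤ normalizer (V : Set G) := by
    intro h hh
    have h1 : MulAut.conj h • S = S := smul_eq_of_mem_normalizer (hPS hh)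
    rw [hVdef, mem_normalizer_iff_smul_eq, conj_smul_inf, ← centralizer_conj_smul, h1]
  letI : CommGroup V :=
    { (inferInstance : Group V) with
      mul_comm := fun a b => Subtype.ext (hVc a a.2 b b.2) }
  haveI : Nontrivial V := (Subgroup.nontrivial_iff_ne_bot V).mpr hV1
  set φ := conjAct Pst V hPV with hφ
  -- the kernel of `φ` is `X`
  have hker1 : ∀ b : Pst, (b : G) ∈ X → φ b = 1 := by
    intro b hb
    rw [hX] at hb
    ext v
    rw [conjAct_apply, MulAut.one_apply]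
    have := (mem_centralizer_iff.mp hb.2) v (hVS v.2)
    calc (b : G) * v * (b : G)⁻¹ = (v : G) * b * (b : G)⁻¹ := by rw [this]
      _ = v := by group
  have hfix : ∀ b : Pst, (b : G) ∉ X → ∀ v : V, φ b v = v → v = 1 := by
    intro b hb v hv
    have h0 := hcon b b.2 hb
    have hv' : (b : G) * v * (b : G)⁻¹ = v := by
      have := congrArg Subtype.val hv
      rwa [conjAct_apply] at this
    have hmem : (v : G) ∈ S ⊓ centralizer ({(b : G)} : Set G) := by
      refine mem_inf.mpr ⟨hVS v.2, ?_⟩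
      rw [mem_centralizer_iff]
      intro z hz
      rw [Set.mem_singleton_iff] at hz
      rw [hz]
      calc (b : G) * v = (b : G) * v * (b : G)⁻¹ * b := by group
        _ = v * b := by rw [hv']
    rw [h0, mem_bot] at hmem
    exact Subtype.ext hmem
  have hker2 : ∀ b : Pst, φ b = 1 → (b : G) ∈ X := by
    intro b hb
    by_contra hbX
    obtain ⟨v, hv⟩ := exists_ne (1 : V)
    exact hv (hfix b hbX v (by rw [hb, MulAut.one_apply]))
  -- the image of `φ` is cyclic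
  letI : CommGroup φ.range :=
    { (inferInstance : Group φ.range) with
      mul_comm := by
        rintro ⟨_, a, rfl⟩ ⟨_, b, rfl⟩
        apply Subtype.ext
        show φ a * φ b = φ b * φ a
        rw [← map_mul, ← map_mul]
        congr 1
        exact Subtype.ext (hPc a a.2 b b.2) }
  have hfpf : Cfsg.Agent.Helper96.IsFpf φ.range V := by
    rintro ⟨_, b, rfl⟩ ha v hv
    have hbX : (b : G) ∉ X := fun h => ha (Subtype.ext (hker1 b h))
    exact hfix b hbX v hv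
  have hcyc : IsCyclic φ.range := Cfsg.Agent.Helper96.isCyclic_of_fpf_comm hfpf
  obtain ⟨⟨_, g, rfl⟩, hg⟩ := hcyc.exists_generator
  -- `P* = ⟨g⟩ X`
  have hdec : ∀ b ∈ Pst, ∃ k : ℤ, ∃ x ∈ X, b = (g : G) ^ k * x := by
    intro b hb
    obtain ⟨k, hk⟩ := mem_zpowers_iff.mp (hg ⟨φ ⟨b, hb⟩, ⟨b, hb⟩, rfl⟩)
    have hk' : φ g ^ k = φ ⟨b, hb⟩ := by
      have := congrArg Subtype.val hk
      simpa using this
    have h1 : φ (g⁻¹ ^ k * ⟨b, hb⟩) = 1 := by
      rw [map_mul, map_zpow, map_inv, inv_zpow, hk', inv_mul_cancel]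
    have h2 := hker2 _ h1
    refine ⟨k, _, h2, ?_⟩
    simp only [Subgroup.coe_mul, Subgroup.coe_zpow, Subgroup.coe_inv]
    rw [inv_zpow]; group
  -- iterate
  have hQq : IsPGroup q Q := hPst.to_le hQP
  have hiter : ∀ m : ℕ, ∀ b ∈ Pst, ∃ k : ℤ, ∃ u ∈ Pst, b = (g : G) ^ k * u ^ (q ^ m) := by
    intro m
    induction m with
    | zero => intro b hb; exact ⟨0, b, hb, by simp⟩
    | succ m ih =>
      intro b hb
      obtain ⟨k, u, hu, hbu⟩ := ih b hb
      obtain ⟨j, x, hx, hux⟩ := hdec u hu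
      obtain ⟨w, hw, hxw⟩ := exists_pow_of_lt_cyclic hQq hQc hXQ hXne hx
      refine ⟨k + j * (q ^ m : ℕ), w, hQP hw, ?_⟩
      have hgw : Commute ((g : G) ^ j) (w ^ q) :=
        hPc _ (Pst.zpow_mem g.2 j) _ (Pst.pow_mem (hQP hw) q)
      rw [hbu, hux, hxw, hgw.mul_pow, zpow_add, zpow_mul, zpow_natCast, ← pow_mul, pow_succ,
        mul_assoc, mul_comm q (q ^ m)]
  obtain ⟨n, hn⟩ := IsPGroup.iff_card.mp hPst
  refine ⟨⟨g, fun b => ?_⟩⟩
  obtain ⟨k, u, hu, hbu⟩ := hiter n b b.2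
  have hun : u ^ (q ^ n) = 1 := by
    have h1 : (⟨u, hu⟩ : Pst) ^ Nat.card Pst = 1 := pow_card_eq_one'
    rw [hn] at h1
    have := congrArg Subtype.val h1
    simpa using this
  rw [hun, mul_one] at hbu
  exact ⟨k, Subtype.ext (by simpa using hbu.symm)⟩

end Cfsg.Agent.Helper41.BG1212
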