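import Mathlib
import Cfsg.Agent.Lib.Helper1.CD3.Defs
import Cfsg.Agent.Lib.Helper74.LinChar

set_option autoImplicit false
set_option linter.style.haveILetI false

/-!
CD3B (Q1) for helper1's server (S4460): a linear character of `W` extends to its inertia group when
`G = W N` with `W ∩ N ≤ W'`.
-/

namespace Cfsg.Agent.Helper41.CD3B

open Cfsg Cfsg.Agent.Helper81 Cfsg.Agent.Helper1.CD3
open scoped commutatorElement

universe u

/-- abstract extension lemma: a hom `φ : W →* A` (`A` commutative) from a normal subgroup `W` extends to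
any subgroup `T ⊇ W` with `T ⊆ W N`, provided `T` fixes `φ` under conjugation and `W ⊓ N ≤ ker φ`. -/
theorem exists_hom_extension {G : Type u} [Group G] {A : Type*} [CommGroup A] (W : Subgroup G)
    (hW : W.Normal) (N T : Subgroup G) (hWT : W ≤ T)
    (hdec : ∀ t ∈ T, ∃ w ∈ W, ∃ h ∈ N, t = w * h) (φ : W →* A)
    (hker : ∀ w : W, (w : G) ∈ N → φ w = 1)
    (hfix : ∀ t ∈ T, ∀ w : W, φ ⟨t * w * t⁻¹, hW.conj_mem w w.2 t⟩ = φ w) :
    ∃ μ : T →* A, ∀ w : W, μ ⟨(w : G), hWT w.2⟩ = φ w := by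
  classical
  have hdec' : ∀ t : T, ∃ w : W, ∃ h : G, h ∈ N ∧ (t : G) = (w : G) * h := by
    intro t
    obtain ⟨w, hw, h, hh, e⟩ := hdec t.1 t.2
    exact ⟨⟨w, hw⟩, h, hh, e⟩
  choose wf hf hfN hwf using hdec'
  -- well-definedness
  have wd : ∀ (t : T) (w : W) (h : G), h ∈ N → (t : G) = (w : G) * h → φ (wf t) = φ w := by
    intro t w h hh e
    have e2 : ((wf t : W) : G) * hf t = (w : G) * h := by rw [← hwf t, e]
    have e3 : ((w⁻¹ * wf t : W) : G) = h * (hf t)⁻¹ := by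
      rw [Subgroup.coe_mul, Subgroup.coe_inv]
      have : ((wf t : W) : G) = (w : G) * h * (hf t)⁻¹ := by
        rw [← e2]; group
      rw [this]; group
    have e4 : ((w⁻¹ * wf t : W) : G) ∈ N := by
      rw [e3]
      exact N.mul_mem hh (N.inv_mem (hfN t))
    have e5 := hker _ e4
    rw [map_mul, map_inv, inv_mul_eq_one] at e5
    exact e5.symm
  have hmul : ∀ a b : T, φ (wf (a * b)) = φ (wf a) * φ (wf b) := by
    intro a b
    have hha : hf a ∈ T := by
      have : hf a = ((wf a : W) : G)⁻¹ * (a : G) := by rw [hwf a]; group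
      rw [this]
      exact T.mul_mem (T.inv_mem (hWT (wf a).2)) a.2
    have e1 : ((a * b : T) : G) =
        ((wf a * ⟨hf a * (wf b : G) * (hf a)⁻¹, hW.conj_mem _ (wf b).2 (hf a)⟩ : W) : G) *
          (hf a * hf b) := by
      rw [Subgroup.coe_mul, Subgroup.coe_mul]
      simp only
      conv_lhs => rw [hwf a, hwf b]
      group
    rw [wd (a * b) _ _ (N.mul_mem (hfN a) (hfN b)) e1, map_mul, hfix _ hha]
  refine ⟨MonoidHom.mk' (fun t => φ (wf t)) hmul, ?_⟩
  intro w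
  show φ (wf ⟨(w : G), hWT w.2⟩) = φ w
  exact wd ⟨(w : G), hWT w.2⟩ w 1 N.one_mem (by simp)

/-- (Q1) a linear character `ν` of `W` extends to its inertia group when `G = W N` with
`W ∩ N ≤ W'`. -/
theorem exists_extension {G : Type u} [Group G] [Finite G] (W : Subgroup G) (hW : W.Normal) (N : Subgroup G)
    (hsup : W ⊔ N = ⊤) (hint : W ⊓ N ≤ ⁅W, W⁆) (ν : W → ℂ) (hν : IsIrrCharacter W ν) (h1 : ν 1 = 1) :
    ∃ (hle : W ≤ stab W hW ν) (μ : stab W hW ν → ℂ), IsIrrCharacter (stab W hW ν) μ ∧ μ 1 = 1 ∧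
      ∀ w : W, μ ⟨(w : G), hle w.2⟩ = ν w := by
  classical
  set φ : W →* ℂˣ := Cfsg.Agent.Helper74.Lin.toHom ⟨ν, hν⟩ h1 with hφ
  have hφν : ∀ w : W, ((φ w : ℂˣ) : ℂ) = ν w := fun w => rfl
  -- W fixes ν
  have hle : W ≤ stab W hW ν := by
    intro w hw
    rw [mem_stab]
    funext n
    rw [conjFun_apply, ← hφν, ← hφν]
    have : (⟨w * (n : G) * w⁻¹, hW.conj_mem n n.2 w⟩ : W) = ⟨w, hw⟩ * n * ⟨w, hw⟩⁻¹ := by
      apply Subtype.ext
      simp
    rw [this, map_mul, map_mul, map_inv, mul_inv_cancel_comm]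
  -- decomposition
  have hdec : ∀ t ∈ stab W hW ν, ∃ w ∈ W, ∃ h ∈ N, t = w * h := by
    intro t _
    haveI := hW
    have ht : t ∈ ((W ⊔ N : Subgroup G) : Set G) := by
      rw [hsup]; exact Subgroup.mem_top t
    rw [Subgroup.normal_mul, Set.mem_mul] at ht
    obtain ⟨w, hw, h, hh, e⟩ := ht
    exact ⟨w, hw, h, hh, e.symm⟩
  -- kernel
  have hcomm : ⁅W, W⁆ ≤ (φ.ker).map W.subtype := by
    rw [Subgroup.commutator_le]
    intro a ha b hb
    refine ⟨⁅(⟨a, ha⟩ : W), (⟨b, hb⟩ : W)⁆, ?_, rfl⟩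
    rw [SetLike.mem_coe, MonoidHom.mem_ker, map_commutatorElement]
    exact commutatorElement_eq_one_iff_commute.mpr (Commute.all _ _)
  have hker : ∀ w : W, (w : G) ∈ N → φ w = 1 := by
    intro w hwN
    have h2 : (w : G) ∈ W ⊓ N := Subgroup.mem_inf.mpr ⟨w.2, hwN⟩
    obtain ⟨w', hw', e⟩ := hcomm (hint h2)
    have : w' = w := Subtype.ext e
    rw [← this]
    exact hw'
  -- T fixes φ
  have hfix : ∀ t ∈ stab W hW ν, ∀ w : W,
      φ ⟨t * w * t⁻¹, hW.conj_mem w w.2 t⟩ = φ w := by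
    intro t ht w
    apply Units.ext
    rw [hφν, hφν]
    have := congrFun ((mem_stab W hW ν t).mp ht) w
    rw [conjFun_apply] at this
    exact this
  obtain ⟨μ, hμ⟩ := exists_hom_extension W hW N (stab W hW ν) hle hdec φ hker hfix
  refine ⟨hle, (Cfsg.Agent.Helper74.Lin.ofHom μ : stab W hW ν → ℂ),
    (Cfsg.Agent.Helper74.Lin.ofHom μ).2, Cfsg.Agent.Helper74.Lin.ofHom_one_eq μ, ?_⟩
  intro w
  rw [Cfsg.Agent.Helper74.Lin.ofHom_apply, hμ w, hφν]

end Cfsg.Agent.Helper41.CD3B
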