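import Mathlib
import Cfsg.Agent.Lib.Helper41.SL2Conj
import Cfsg.Agent.Lib.Helper41.SL2Class
import Cfsg.Agent.Lib.Helper41.SL2ClassOdd

set_option autoImplicit false

namespace Cfsg.Agent.Helper41

variable {F : Type*} [Field F]

/-- the only solution of `v² + w² = 0` is trivial when `-1` is not a square -/
theorem sq_add_sq_eq_zero (hneg : ¬ IsSquare (-1 : F)) {v w : F} (h : v ^ 2 + w ^ 2 = 0) :
    v = 0 ∧ w = 0 := by
  by_cases hw : w = 0
  · subst hw
    refine ⟨?_, rfl⟩
    have : v ^ 2 = 0 := by linear_combination h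
    exact pow_eq_zero_iff (two_ne_zero) |>.mp this
  · exfalso
    apply hneg
    refine ⟨v / w, ?_⟩
    field_simp
    linear_combination -h

/-- the circle `v² + w² = c`, `c ≠ 0`, is in bijection with the unit circle -/
def circleEquiv (c v0 w0 : F) (hc : c ≠ 0) (h0 : v0 ^ 2 + w0 ^ 2 = c) :
    {p : F × F // p.1 ^ 2 + p.2 ^ 2 = 1} ≃ {p : F × F // p.1 ^ 2 + p.2 ^ 2 = c} where
  toFun p := ⟨(p.1.1 * v0 - p.1.2 * w0, p.1.1 * w0 + p.1.2 * v0), by
    have := p.2
    linear_combination (v0 ^ 2 + w0 ^ 2) * this + h0⟩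
  invFun p := ⟨((p.1.1 * v0 + p.1.2 * w0) / c, (p.1.2 * v0 - p.1.1 * w0) / c), by
    have := p.2
    field_simp
    linear_combination (v0 ^ 2 + w0 ^ 2) * this + (c) * h0⟩
  left_inv p := by
    apply Subtype.ext
    apply Prod.ext
    · simp only
      field_simp
      linear_combination p.1.1 * h0
    · simp only
      field_simp
      linear_combination p.1.2 * h0
  right_inv p := by
    apply Subtype.ext
    apply Prod.ext
    · simp only
      field_simp
      linear_combination p.1.1 * h0
    · simp only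
      field_simp
      linear_combination p.1.2 * h0

/-- over a finite field in which `-1` is not a square, every circle `v² + w² = c`, `c ≠ 0`, has
exactly `q + 1` points -/
theorem card_circle [Fintype F] [DecidableEq F] (h2 : (2 : F) ≠ 0) (hneg : ¬ IsSquare (-1 : F))
    (c : F) (hc : c ≠ 0) :
    Fintype.card {p : F × F // p.1 ^ 2 + p.2 ^ 2 = c} = Fintype.card F + 1 := by
  have h4 : (0 : F) ^ 2 ≠ 4 := by
    intro h
    apply h2
    have : (2 : F) * 2 = 0 := by linear_combination -h
    exact (mul_eq_zero.mp this).elim id id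
  -- all circles have the size of the unit circle
  have hall : ∀ d : F, d ≠ 0 → Fintype.card {p : F × F // p.1 ^ 2 + p.2 ^ 2 = d} =
      Fintype.card {p : F × F // p.1 ^ 2 + p.2 ^ 2 = 1} := by
    intro d hd
    obtain ⟨a, b, hab⟩ := binary_form_surj (0 : F) d h4
    exact (Fintype.card_congr (circleEquiv d a b hd (by linear_combination hab))).symm
  have hzero : Fintype.card {p : F × F // p.1 ^ 2 + p.2 ^ 2 = 0} = 1 := by
    rw [Fintype.card_eq_one_iff]
    refine ⟨⟨(0, 0), by simp⟩, ?_⟩
    rintro ⟨⟨v, w⟩, h⟩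
    obtain ⟨rfl, rfl⟩ := sq_add_sq_eq_zero hneg h
    rfl
  have htot : ∑ d : F, Fintype.card {p : F × F // p.1 ^ 2 + p.2 ^ 2 = d} =
      Fintype.card F * Fintype.card F := by
    rw [← Fintype.card_sigma, Fintype.card_congr (Equiv.sigmaFiberEquiv
      (fun p : F × F => p.1 ^ 2 + p.2 ^ 2)), Fintype.card_prod]
  rw [← Finset.add_sum_erase Finset.univ _ (Finset.mem_univ (0 : F)), hzero] at htot
  have hsum : ∑ d ∈ Finset.univ.erase (0 : F), Fintype.card {p : F × F // p.1 ^ 2 + p.2 ^ 2 = d} =
      (Fintype.card F - 1) * Fintype.card {p : F × F // p.1 ^ 2 + p.2 ^ 2 = 1} := by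
    rw [Finset.sum_congr rfl (fun d hd => hall d (Finset.ne_of_mem_erase hd)), Finset.sum_const,
      Finset.card_erase_of_mem (Finset.mem_univ _), Finset.card_univ, smul_eq_mul]
  rw [hsum] at htot
  rw [hall c hc]
  have hq : 1 < Fintype.card F := Fintype.one_lt_card
  obtain ⟨k, hk⟩ : ∃ k, Fintype.card F = k + 2 := ⟨Fintype.card F - 2, by omega⟩
  rw [hk] at htot ⊢
  have h5 : k + 2 - 1 = k + 1 := by omega
  rw [h5] at htot
  have h6 : (k + 1) * Fintype.card {p : F × F // p.1 ^ 2 + p.2 ^ 2 = 1} = (k + 1) * (k + 3) := by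
    have : (k + 2) * (k + 2) = 1 + (k + 1) * (k + 3) := by ring
    omega
  exact Nat.eq_of_mul_eq_mul_left (by omega) h6

/-- at least `(q+1)/2` abscissae (shifted by `d`) occur on a circle -/
theorem card_circle_abscissae [Fintype F] [DecidableEq F] (h2 : (2 : F) ≠ 0)
    (hneg : ¬ IsSquare (-1 : F)) (c d : F) (hc : c ≠ 0) :
    Fintype.card F + 1 ≤
      2 * (Finset.univ.filter (fun σ : F => ∃ w : F, (σ + d) ^ 2 + w ^ 2 = c)).card := by
  rw [← card_circle h2 hneg c hc, Fintype.card_subtype]
  set S := Finset.univ.filter (fun p : F × F => p.1 ^ 2 + p.2 ^ 2 = c) with hS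
  have himg : S.image (fun p => p.1 - d) ⊆
      Finset.univ.filter (fun σ : F => ∃ w : F, (σ + d) ^ 2 + w ^ 2 = c) := by
    intro σ hσ
    rw [Finset.mem_image] at hσ
    obtain ⟨p, hp, rfl⟩ := hσ
    rw [hS, Finset.mem_filter] at hp
    rw [Finset.mem_filter]
    refine ⟨Finset.mem_univ _, p.2, ?_⟩
    rw [sub_add_cancel]
    exact hp.2
  refine le_trans ?_ (Nat.mul_le_mul_left 2 (Finset.card_le_card himg))
  apply Finset.card_le_mul_card_image
  intro σ _
  -- the fibre over `σ` has at most two points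
  by_cases hne : (S.filter (fun p => p.1 - d = σ)).Nonempty
  · obtain ⟨p0, hp0⟩ := hne
    rw [Finset.mem_filter, hS, Finset.mem_filter] at hp0
    have hsub : S.filter (fun p => p.1 - d = σ) ⊆ {(p0.1, p0.2), (p0.1, -p0.2)} := by
      intro p hp
      rw [Finset.mem_filter, hS, Finset.mem_filter] at hp
      have h1 : p.1 = p0.1 := by
        have := hp.2.trans hp0.2.symm
        linear_combination this
      have h3 : (p.2 - p0.2) * (p.2 + p0.2) = 0 := by
        have e1 := hp.1.2
        have e0 := hp0.1.2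
        rw [h1] at e1
        linear_combination e1 - e0
      rw [Finset.mem_insert, Finset.mem_singleton]
      rcases mul_eq_zero.mp h3 with h | h
      · left
        exact Prod.ext h1 (by linear_combination h)
      · right
        exact Prod.ext h1 (by simp only; linear_combination h)
    exact (Finset.card_le_card hsub).trans Finset.card_le_two
  · rw [Finset.not_nonempty_iff_eq_empty] at hne
    rw [hne]
    simp

/-- `a (2ε - a) = 1` has the unique solution `a = ε` when `ε² = 1` -/
theorem card_roots_parabolic [Fintype F] [DecidableEq F] (ε : F) (hε : ε ^ 2 = 1) :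
    Fintype.card {a : F // a * (2 * ε - a) - 1 = 0} = 1 := by
  rw [Fintype.card_eq_one_iff]
  refine ⟨⟨ε, by linear_combination hε⟩, ?_⟩
  rintro ⟨a, ha⟩
  apply Subtype.ext
  have : (a - ε) ^ 2 = 0 := by linear_combination -ha + hε
  have := pow_eq_zero_iff (two_ne_zero) |>.mp this
  show a = ε
  linear_combination this

/-- at least `(q+1)/2` elements of `F_q`, `q` odd, are of the form `ν + ν⁻¹` -/
theorem card_hyperbolic_traces [Fintype F] [DecidableEq F] (h2 : (2 : F) ≠ 0) :
    Fintype.card F + 1 ≤
      2 * (Finset.univ.filter (fun σ : F => ∃ ν : F, ν ≠ 0 ∧ σ = ν + ν⁻¹)).card := by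
  set T := Finset.univ.filter (fun σ : F => ∃ ν : F, ν ≠ 0 ∧ σ = ν + ν⁻¹) with hT
  have h4 : (4 : F) ≠ 0 := by
    have : (4 : F) = 2 * 2 := by norm_num
    rw [this]; exact mul_ne_zero h2 h2
  have hsum := sum_card_roots (F := F)
  -- terms outside `T` vanish
  have hzero : ∀ s : F, s ∉ T → Fintype.card {a : F // a * (s - a) - 1 = 0} = 0 := by
    intro s hs
    rw [Fintype.card_eq_zero_iff]
    refine ⟨fun a => hs ?_⟩
    rw [hT, Finset.mem_filter]
    have ha := a.2
    have ha0 : a.1 ≠ 0 := by
      intro h0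
      rw [h0] at ha
      simp at ha
    refine ⟨Finset.mem_univ _, a.1, ha0, ?_⟩
    field_simp
    linear_combination ha
  have h2T : (2 : F) ∈ T := by
    rw [hT, Finset.mem_filter]
    exact ⟨Finset.mem_univ _, 1, one_ne_zero, by norm_num⟩
  have hn2T : (-2 : F) ∈ T := by
    rw [hT, Finset.mem_filter]
    refine ⟨Finset.mem_univ _, -1, by simp, ?_⟩
    rw [inv_neg, inv_one]; norm_num
  have hne : (2 : F) ≠ -2 := by
    intro h
    apply h4
    linear_combination h
  have hsumT : ∑ s : F, Fintype.card {a : F // a * (s - a) - 1 = 0} =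
      ∑ s ∈ T, Fintype.card {a : F // a * (s - a) - 1 = 0} := by
    symm
    apply Finset.sum_subset (Finset.subset_univ _)
    intro s _ hs
    exact hzero s hs
  rw [hsumT, ← Finset.add_sum_erase T _ h2T,
    ← Finset.add_sum_erase (T.erase 2) _ (Finset.mem_erase.mpr ⟨hne.symm, hn2T⟩)] at hsum
  have h2card : Fintype.card {a : F // a * (2 - a) - 1 = 0} = 1 := by
    have := card_roots_parabolic (1 : F) (by ring)
    rwa [mul_one] at this
  have hn2card : Fintype.card {a : F // a * (-2 - a) - 1 = 0} = 1 := by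
    have := card_roots_parabolic (-1 : F) (by ring)
    have e : (2 : F) * -1 = -2 := by ring
    rwa [e] at this
  rw [h2card, hn2card] at hsum
  have hrest : ∑ s ∈ (T.erase 2).erase (-2), Fintype.card {a : F // a * (s - a) - 1 = 0} ≤
      ∑ _s ∈ (T.erase 2).erase (-2), 2 := by
    apply Finset.sum_le_sum
    intro s hs
    have hs1 : s ≠ -2 := Finset.ne_of_mem_erase hs
    have hs2 : s ≠ 2 := Finset.ne_of_mem_erase (Finset.mem_of_mem_erase hs)
    have hs4 : s ^ 2 ≠ 4 := by
      intro h
      have : (s - 2) * (s + 2) = 0 := by linear_combination h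
      rcases mul_eq_zero.mp this with h' | h'
      · exact hs2 (by linear_combination h')
      · exact hs1 (by linear_combination h')
    rcases card_roots_eq s hs4 with h | h <;> omega
  rw [Finset.sum_const, smul_eq_mul, Finset.card_erase_of_mem
    (Finset.mem_erase.mpr ⟨hne.symm, hn2T⟩), Finset.card_erase_of_mem h2T] at hrest
  have hTcard : 2 ≤ T.card := by
    have : ({2, -2} : Finset F) ⊆ T := by
      intro x hx
      rw [Finset.mem_insert, Finset.mem_singleton] at hx
      rcases hx with rfl | rfl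
      · exact h2T
      · exact hn2T
    have h3 := Finset.card_le_card this
    rwa [Finset.card_pair hne] at h3
  have hq : 1 < Fintype.card F := Fintype.one_lt_card
  omega

end Cfsg.Agent.Helper41
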