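import Mathlib

/-!
# Dickson, part C (abstract part): subgroups of `PGL₂(K)` containing `PSL₂(K)`

* `pgl2_map_injective`: base change `PGL₂(K) → PGL₂(F)` along a field embedding is injective;
* `pgl2_sub_cases`: a subgroup of `PGL₂(K)` (`K` a finite field) containing the image of
  `PSL₂(K)` is that image or everything;
* `iso_of_sandwich`: a subgroup `H` of `PSL₂(F)` whose image in `PGL₂(F)` is sandwiched between
  the images of `PSL₂(K)` and `PGL₂(K)` under an injective hom `j : PGL₂(K) → PGL₂(F)` is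
  isomorphic to `PSL₂(K)` or `PGL₂(K)`.
-/

set_option autoImplicit false

namespace Cfsg.Agent.Helper41

open Matrix

section pgl

variable {K : Type*} [Field K] {F : Type*} [Field F]

/-- base change of `PGL₂` along a field embedding is injective -/
theorem pgl2_map_injective (ι : K →+* F) :
    Function.Injective (ProjGenLinGroup.map (n := Fin 2) ι) := by
  rw [injective_iff_map_eq_one]
  intro y hy
  induction y using Matrix.ProjGenLinGroup.induction_on with | mk g =>
  rw [ProjGenLinGroup.map_mk, ProjGenLinGroup.mk_eq_one,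
    GeneralLinearGroup.center_eq_range_scalar] at hy
  obtain ⟨u, hu⟩ := hy
  rw [ProjGenLinGroup.mk_eq_one, GeneralLinearGroup.center_eq_range_scalar]
  have h := fun i j => congrArg (fun M : GL (Fin 2) F => (M : Matrix (Fin 2) (Fin 2) F) i j) hu
  have h00 := h 0 0
  have h01 := h 0 1
  have h10 := h 1 0
  have h11 := h 1 1
  simp only [GeneralLinearGroup.coe_scalar, Matrix.scalar_apply, Matrix.diagonal_apply_eq,
    Matrix.diagonal_apply_ne, ne_eq, zero_ne_one, one_ne_zero, not_false_eq_true,
    GeneralLinearGroup.map_apply] at h00 h01 h10 h11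
  have hinj := ι.injective
  have e01 : (g : Matrix (Fin 2) (Fin 2) K) 0 1 = 0 := hinj (by rw [← h01, map_zero])
  have e10 : (g : Matrix (Fin 2) (Fin 2) K) 1 0 = 0 := hinj (by rw [← h10, map_zero])
  have e11 : (g : Matrix (Fin 2) (Fin 2) K) 1 1 = (g : Matrix (Fin 2) (Fin 2) K) 0 0 :=
    hinj (by rw [← h11, ← h00])
  have hne : (g : Matrix (Fin 2) (Fin 2) K) 0 0 ≠ 0 := by
    intro h0
    rw [h0, map_zero] at h00
    exact u.ne_zero h00
  refine ⟨Units.mk0 _ hne, ?_⟩
  apply Units.ext
  ext i j
  fin_cases i <;> fin_cases j <;>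
    simp [GeneralLinearGroup.coe_scalar, e01, e10, e11]

/-- an element of `GL₂(K)` with square determinant lies in the image of `PSL₂(K)` in `PGL₂(K)` -/
theorem mk_mem_range_toPGL_of_isSquare (g : GL (Fin 2) K)
    (h : IsSquare ((GeneralLinearGroup.det g : Kˣ) : K)) :
    ProjGenLinGroup.mk g ∈
      (ProjectiveSpecialLinearGroup.toPGL (n := Fin 2) (R := K)).range := by
  obtain ⟨r, hr⟩ := h
  have hr0 : r ≠ 0 := by
    intro h0
    rw [h0, mul_zero] at hr
    exact (GeneralLinearGroup.det g).ne_zero hr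
  have hdet : (r⁻¹ • (g : Matrix (Fin 2) (Fin 2) K)).det = 1 := by
    rw [Matrix.det_smul, Fintype.card_fin]
    have : (g : Matrix (Fin 2) (Fin 2) K).det = r * r := hr
    rw [this]
    field_simp
  obtain ⟨x, hx⟩ : ∃ x : SpecialLinearGroup (Fin 2) K,
      (x : Matrix (Fin 2) (Fin 2) K) = r⁻¹ • (g : Matrix (Fin 2) (Fin 2) K) := ⟨⟨_, hdet⟩, rfl⟩
  refine ⟨(QuotientGroup.mk x : ProjectiveSpecialLinearGroup (Fin 2) K), ?_⟩
  change ProjGenLinGroup.mk (SpecialLinearGroup.toGL x) = _
  rw [ProjGenLinGroup.mk_eq_mk_iff]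
  refine ⟨Units.mk0 r hr0, ?_⟩
  apply Units.ext
  ext i j
  simp only [Units.val_mul, GeneralLinearGroup.coe_scalar, Matrix.scalar_apply,
    Matrix.mul_diagonal, Units.val_mk0]
  change (x : Matrix (Fin 2) (Fin 2) K) i j * r = _
  rw [hx, Matrix.smul_apply, smul_eq_mul]
  field_simp

end pgl

section finite

variable {K : Type*} [Field K] [Fintype K]

/-- in a finite field, the product of two non-squares is a square -/
theorem isSquare_mul_of_not_isSquare {a b : K} (ha : ¬ IsSquare a) (hb : ¬ IsSquare b) :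
    IsSquare (a * b) := by
  classical
  have ha0 : a ≠ 0 := fun h => ha (h ▸ IsSquare.zero)
  have hb0 : b ≠ 0 := fun h => hb (h ▸ IsSquare.zero)
  rw [← quadraticChar_one_iff_isSquare (mul_ne_zero ha0 hb0), map_mul,
    quadraticChar_neg_one_iff_not_isSquare.mpr ha, quadraticChar_neg_one_iff_not_isSquare.mpr hb]
  norm_num

/-- a subgroup of `PGL₂(K)` containing the image of `PSL₂(K)` is that image or everything -/
theorem pgl2_sub_cases (S : Subgroup (ProjGenLinGroup (Fin 2) K))
    (hS : (ProjectiveSpecialLinearGroup.toPGL (n := Fin 2) (R := K)).range ≤ S) :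
    S = (ProjectiveSpecialLinearGroup.toPGL (n := Fin 2) (R := K)).range ∨ S = ⊤ := by
  by_cases h : S ≤ (ProjectiveSpecialLinearGroup.toPGL (n := Fin 2) (R := K)).range
  · left; exact le_antisymm h hS
  · right
    obtain ⟨s, hsS, hsP⟩ := SetLike.not_le_iff_exists.mp h
    induction s using Matrix.ProjGenLinGroup.induction_on with | mk g =>
    have hg : ¬ IsSquare ((GeneralLinearGroup.det g : Kˣ) : K) :=
      fun hsq => hsP (mk_mem_range_toPGL_of_isSquare g hsq)
    rw [eq_top_iff]
    intro y _
    induction y using Matrix.ProjGenLinGroup.induction_on with | mk g' =>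
    by_cases hg' : IsSquare ((GeneralLinearGroup.det g' : Kˣ) : K)
    · exact hS (mk_mem_range_toPGL_of_isSquare g' hg')
    · have hsq : IsSquare ((GeneralLinearGroup.det (g' * g) : Kˣ) : K) := by
        rw [map_mul, Units.val_mul]
        exact isSquare_mul_of_not_isSquare hg' hg
      have h1 := hS (mk_mem_range_toPGL_of_isSquare (g' * g) hsq)
      rw [map_mul] at h1
      have := S.mul_mem h1 (S.inv_mem hsS)
      rwa [mul_inv_cancel_right] at this

/-- **sandwich lemma**: if the image of `H ≤ PSL₂(F)` in `PGL₂(F)` lies between the images of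
`PSL₂(K)` and `PGL₂(K)` under an injective hom `j`, then `H ≅ PSL₂(K)` or `H ≅ PGL₂(K)`. -/
theorem iso_of_sandwich {F : Type*} [Field F]
    (H : Subgroup (ProjectiveSpecialLinearGroup (Fin 2) F))
    (j : ProjGenLinGroup (Fin 2) K →* ProjGenLinGroup (Fin 2) F) (hj : Function.Injective j)
    (h1 : H.map (ProjectiveSpecialLinearGroup.toPGL (n := Fin 2) (R := F)) ≤ j.range)
    (h2 : (ProjectiveSpecialLinearGroup.toPGL (n := Fin 2) (R := K)).range ≤
      (H.map (ProjectiveSpecialLinearGroup.toPGL (n := Fin 2) (R := F))).comap j) :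
    Nonempty (H ≃* ProjectiveSpecialLinearGroup (Fin 2) K) ∨
      Nonempty (H ≃* ProjGenLinGroup (Fin 2) K) := by
  obtain ⟨S, hSdef⟩ : ∃ S : Subgroup (ProjGenLinGroup (Fin 2) K),
      S = (H.map (ProjectiveSpecialLinearGroup.toPGL (n := Fin 2) (R := F))).comap j := ⟨_, rfl⟩
  have hSmap : S.map j = H.map (ProjectiveSpecialLinearGroup.toPGL (n := Fin 2) (R := F)) := by
    rw [hSdef]; exact Subgroup.map_comap_eq_self h1
  have e1 : H ≃* H.map (ProjectiveSpecialLinearGroup.toPGL (n := Fin 2) (R := F)) :=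
    H.equivMapOfInjective _ ProjectiveSpecialLinearGroup.toPGL_injective
  have e2 : S ≃* S.map j := S.equivMapOfInjective _ hj
  have e3 : H ≃* S := e1.trans ((MulEquiv.subgroupCongr hSmap).symm.trans e2.symm)
  rw [← hSdef] at h2
  rcases pgl2_sub_cases S h2 with h | h
  · left
    exact ⟨e3.trans ((MulEquiv.subgroupCongr h).trans
      (MonoidHom.ofInjective ProjectiveSpecialLinearGroup.toPGL_injective).symm)⟩
  · right
    exact ⟨e3.trans ((MulEquiv.subgroupCongr h).trans Subgroup.topEquiv)⟩

end finite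

end Cfsg.Agent.Helper41
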