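import Mathlib
import Cfsg.Agent.S0253
import Cfsg.Agent.Lib.Helper56.SL25Mat
import Cfsg.Agent.Lib.Helper41.SL2
import Cfsg.Agent.Lib.Helper41.SL2Conj
import Cfsg.Agent.Lib.Helper41.SL2ClassOdd
import Cfsg.Agent.Lib.Helper41.SL2Quat

set_option autoImplicit false

/-!
`A₅ ≤ PSL₂(q)` iff `5 ∣ q (q² - 1)`: the binary icosahedral group inside `SL₂(q)`.
-/

namespace Cfsg.Agent.Helper41

open Matrix

variable {F : Type*} [Field F]

/-- one step of the Chebyshev recursion for powers of a `2 × 2` matrix of determinant one -/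
theorem cheb_step (M : Matrix (Fin 2) (Fin 2) F) (h : M.det = 1) (a b : F) :
    (a • M + b • (1 : Matrix (Fin 2) (Fin 2) F)) * M =
      (a * M.trace + b) • M + (-a) • (1 : Matrix (Fin 2) (Fin 2) F) := by
  have h2 := sq_eq_of_det_one M h
  rw [pow_two] at h2
  rw [add_mul, smul_mul_assoc, smul_mul_assoc, one_mul, h2, smul_sub, smul_smul, add_smul, neg_smul]
  abel

theorem pow_three_of_det_one (M : Matrix (Fin 2) (Fin 2) F) (h : M.det = 1) :
    M ^ 3 = (M.trace ^ 2 - 1) • M + (-M.trace) • (1 : Matrix (Fin 2) (Fin 2) F) := by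
  have h2 : M ^ 2 = M.trace • M + (-1 : F) • (1 : Matrix (Fin 2) (Fin 2) F) := by
    rw [sq_eq_of_det_one M h, neg_smul, one_smul, sub_eq_add_neg]
  rw [pow_succ, h2, cheb_step M h]
  congr 2
  ring

theorem pow_five_of_det_one (M : Matrix (Fin 2) (Fin 2) F) (h : M.det = 1) :
    M ^ 5 = (M.trace ^ 4 - 3 * M.trace ^ 2 + 1) • M +
      (-(M.trace ^ 3 - 2 * M.trace)) • (1 : Matrix (Fin 2) (Fin 2) F) := by
  rw [pow_succ, pow_succ, pow_three_of_det_one M h, cheb_step M h, cheb_step M h]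
  congr 2
  · ring
  · ring

/-- trace `-1` gives order dividing three -/
theorem pow_three_eq_one_of_trace (M : Matrix (Fin 2) (Fin 2) F) (h : M.det = 1)
    (htr : M.trace = -1) : M ^ 3 = 1 := by
  rw [pow_three_of_det_one M h, htr]
  have h1 : ((-1 : F) ^ 2 - 1) = 0 := by ring
  rw [h1, zero_smul, zero_add, neg_neg, one_smul]

/-- trace a root of `x² + x - 1` gives order dividing five -/
theorem pow_five_eq_one_of_trace (M : Matrix (Fin 2) (Fin 2) F) (h : M.det = 1)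
    (htr : M.trace ^ 2 + M.trace - 1 = 0) : M ^ 5 = 1 := by
  rw [pow_five_of_det_one M h]
  have h1 : M.trace ^ 4 - 3 * M.trace ^ 2 + 1 = 0 := by
    linear_combination (M.trace ^ 2 - M.trace - 1) * htr
  have h2 : -(M.trace ^ 3 - 2 * M.trace) = 1 := by
    linear_combination (1 - M.trace) * htr
  rw [h1, h2, zero_smul, zero_add, one_smul]

/-- a root of `x² + x - 1` from an element of order five -/
theorem exists_golden_root [Fintype F] (h5 : 5 ∣ Fintype.card F * (Fintype.card F ^ 2 - 1)) :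
    ∃ τ : F, τ ^ 2 + τ - 1 = 0 := by
  classical
  haveI : Fact (Nat.Prime 5) := ⟨by norm_num⟩
  have hcard : 5 ∣ Nat.card (SpecialLinearGroup (Fin 2) F) := by
    rw [card_sl2]
    obtain ⟨k, hk⟩ : ∃ k, Fintype.card F = k + 1 :=
      ⟨Fintype.card F - 1, by have := Fintype.card_pos (α := F); omega⟩
    rw [hk] at h5 ⊢
    have h1 : (k + 1) ^ 2 - 1 = k * (k + 2) := by
      rw [show (k + 1) ^ 2 = k * (k + 2) + 1 by ring]
      simp
    rw [h1] at h5
    have h2 : (k + 1) * (k + 1 - 1) * (k + 1 + 1) = (k + 1) * (k * (k + 2)) := by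
      rw [Nat.add_sub_cancel]
      ring
    rw [h2]
    exact h5
  obtain ⟨Y, hY⟩ := exists_prime_orderOf_dvd_card' 5 hcard
  have hY5 : (Y : Matrix (Fin 2) (Fin 2) F) ^ 5 = 1 := by
    have := pow_orderOf_eq_one Y
    rw [hY] at this
    have h := congrArg (fun Z : SpecialLinearGroup (Fin 2) F => (Z : Matrix (Fin 2) (Fin 2) F)) this
    simpa using h
  obtain ⟨t, ht⟩ : ∃ t : F, t = (Y : Matrix (Fin 2) (Fin 2) F).trace := ⟨_, rfl⟩
  have h5' := pow_five_of_det_one (Y : Matrix (Fin 2) (Fin 2) F) Y.2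
  rw [hY5, ← ht] at h5'
  by_cases hU : t ^ 4 - 3 * t ^ 2 + 1 = 0
  · have hfac : (t ^ 2 + t - 1) * ((-t) ^ 2 + (-t) - 1) = 0 := by linear_combination hU
    rcases mul_eq_zero.mp hfac with h | h
    · exact ⟨t, h⟩
    · exact ⟨-t, h⟩
  · exfalso
    have e01 := congrFun (congrFun h5' 0) 1
    have e10 := congrFun (congrFun h5' 1) 0
    have e00 := congrFun (congrFun h5' 0) 0
    have e11 := congrFun (congrFun h5' 1) 1
    simp only [Matrix.add_apply, Matrix.smul_apply, Matrix.one_apply_eq, smul_eq_mul,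
      Matrix.one_apply_ne (show (0 : Fin 2) ≠ 1 by decide),
      Matrix.one_apply_ne (show (1 : Fin 2) ≠ 0 by decide), mul_zero, add_zero] at e01 e10 e00 e11
    have hsc := sl2_scalar_eq Y ⟨(mul_eq_zero.mp e01.symm).resolve_left hU,
      (mul_eq_zero.mp e10.symm).resolve_left hU, by
        apply mul_left_cancel₀ hU
        linear_combination e11 - e00⟩
    have hY1 : Y = 1 := by
      rcases hsc with h | h
      · exact Subtype.ext h
      · rw [h] at hY5
        have h6 : ((-1 : Matrix (Fin 2) (Fin 2) F)) ^ 5 = -1 := Odd.neg_one_pow (by decide)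
        rw [h6] at hY5
        apply Subtype.ext
        rw [h, hY5]
        rfl
    rw [hY1, orderOf_one] at hY
    omega

/-- the affine conic `b² + τ b d + d² + d + 1 = 0` has a point -/
theorem exists_icosa_conic [Fintype F] (τ : F) (hτ : τ ^ 2 + τ - 1 = 0) :
    ∃ b d : F, b ^ 2 + τ * b * d + d ^ 2 + d + 1 = 0 := by
  by_cases h4 : τ ^ 2 = 4
  · refine ⟨1, -1, ?_⟩
    linear_combination (2 - τ) * (hτ - h4) + h4
  · have hD : (4 - τ ^ 2 : F) ≠ 0 := by
      intro h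
      apply h4
      linear_combination -h
    obtain ⟨D, hDdef⟩ : ∃ D : F, D = 4 - τ ^ 2 := ⟨_, rfl⟩
    rw [← hDdef] at hD
    -- centre of the conic: `b₀ = -τ / D`, `d₀ = 2 / D`
    have hr : (-τ) ^ 2 ≠ 4 := by
      intro h
      apply h4
      linear_combination h
    obtain ⟨x, y, hxy⟩ := binary_form_surj (-τ) (D⁻¹ - 1) hr
    refine ⟨x + τ * D⁻¹, y - 2 * D⁻¹, ?_⟩
    have hDi : D * D⁻¹ = 1 := mul_inv_cancel₀ hD
    obtain ⟨e, he⟩ : ∃ e : F, e = D⁻¹ := ⟨_, rfl⟩
    rw [← he] at hxy hDi ⊢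
    have hDi2 : (4 - τ ^ 2) * e = 1 := by rw [← hDdef]; exact hDi
    linear_combination hxy + e * hDi2 - y * hDi2

/-- generators of a binary icosahedral group in `SL₂(q)` -/
theorem exists_icosa_gens [Fintype F] (τ : F) (hτ : τ ^ 2 + τ - 1 = 0) :
    ∃ X Y : SpecialLinearGroup (Fin 2) F, X ^ 3 = 1 ∧ Y ^ 5 = 1 ∧
      (-1 : SpecialLinearGroup (Fin 2) F) ^ 2 = 1 ∧ X * (-1) = (-1) * X ∧ Y * (-1) = (-1) * Y ∧
      (X * Y) ^ 2 = -1 ∧ (Y : Matrix (Fin 2) (Fin 2) F) 0 1 ≠ 0 := by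
  obtain ⟨b, d, hbd⟩ := exists_icosa_conic τ hτ
  have hXdet : (!![-1 - d, b; b + d * τ, d] : Matrix (Fin 2) (Fin 2) F).det = 1 := by
    rw [Matrix.det_fin_two_of]
    linear_combination -hbd
  have hYdet : (!![0, -1; 1, τ] : Matrix (Fin 2) (Fin 2) F).det = 1 := by
    rw [Matrix.det_fin_two_of]
    ring
  have hXtr : (!![-1 - d, b; b + d * τ, d] : Matrix (Fin 2) (Fin 2) F).trace = -1 := by
    rw [Matrix.trace_fin_two_of]
    ring
  have hYtr : (!![0, -1; 1, τ] : Matrix (Fin 2) (Fin 2) F).trace = τ := by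
    rw [Matrix.trace_fin_two_of]
    ring
  have hXYtr : ((!![-1 - d, b; b + d * τ, d] : Matrix (Fin 2) (Fin 2) F) * !![0, -1; 1, τ]).trace
      = 0 := by
    rw [Matrix.trace_fin_two]
    simp [Matrix.mul_apply, Fin.sum_univ_two]
  have hXYdet : ((!![-1 - d, b; b + d * τ, d] : Matrix (Fin 2) (Fin 2) F) * !![0, -1; 1, τ]).det
      = 1 := by
    rw [Matrix.det_mul, hXdet, hYdet, one_mul]
  refine ⟨⟨_, hXdet⟩, ⟨_, hYdet⟩, ?_⟩
  have hrel := Cfsg.Agent.Helper56.sl_rels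
    (⟨_, hXdet⟩ : SpecialLinearGroup (Fin 2) F) (⟨_, hYdet⟩ : SpecialLinearGroup (Fin 2) F)
    (pow_three_eq_one_of_trace _ hXdet hXtr)
    (pow_five_eq_one_of_trace _ hYdet (by rw [hYtr]; exact hτ))
    (by
      rw [pow_two]
      exact mul_self_of_trace_zero _ hXYdet hXYtr)
  refine ⟨hrel.1, hrel.2.1, hrel.2.2.1, hrel.2.2.2.1, hrel.2.2.2.2.1, hrel.2.2.2.2.2, ?_⟩
  show (!![0, -1; 1, τ] : Matrix (Fin 2) (Fin 2) F) 0 1 ≠ 0
  simp

theorem card_alternatingGroup_five : Nat.card (alternatingGroup (Fin 5)) = 60 := by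
  rw [Nat.card_eq_fintype_card]
  have h := two_mul_card_alternatingGroup (α := Fin 5)
  rw [Fintype.card_perm, Fintype.card_fin] at h
  have : Nat.factorial 5 = 120 := by decide
  omega

/-- `A₅` embeds in `PSL₂(q)` as soon as `x² + x - 1` has a root in `F_q` -/
theorem exists_alt5_of_golden_root [Fintype F] (τ : F) (hτ : τ ^ 2 + τ - 1 = 0) :
    ∃ H : Subgroup (ProjectiveSpecialLinearGroup (Fin 2) F),
      Nonempty (H ≃* alternatingGroup (Fin 5)) := by
  haveI : Fact (Nat.Prime 5) := ⟨by norm_num⟩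
  obtain ⟨X, Y, h1, h2, h3, h4, h5, h6, hY01⟩ := exists_icosa_gens τ hτ
  -- the homomorphism from the presented group
  let ψ0 : Cfsg.Agent.Helper56.P120 →* SpecialLinearGroup (Fin 2) F :=
    Cfsg.Agent.Helper56.homOf X Y (-1) h1 h2 h3 h4 h5 h6
  let ψ1 : SpecialLinearGroup (Fin 2) (ZMod 5) →* ProjectiveSpecialLinearGroup (Fin 2) F :=
    (QuotientGroup.mk' (Subgroup.center (SpecialLinearGroup (Fin 2) F))).comp
      (ψ0.comp Cfsg.Agent.Helper56.presEquiv.symm.toMonoidHom)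
  have hgz : Cfsg.Agent.Helper56.presEquiv.symm (-1) = Cfsg.Agent.Helper56.gz := by
    rw [MulEquiv.symm_apply_eq]
    show (-1 : SpecialLinearGroup (Fin 2) (ZMod 5)) = Cfsg.Agent.Helper56.φ5 Cfsg.Agent.Helper56.gz
    rw [Cfsg.Agent.Helper56.φ5, Cfsg.Agent.Helper56.homOf_gz]
  have hgy : Cfsg.Agent.Helper56.presEquiv.symm Cfsg.Agent.Helper56.Y5 =
      Cfsg.Agent.Helper56.gy := by
    rw [MulEquiv.symm_apply_eq]
    show Cfsg.Agent.Helper56.Y5 = Cfsg.Agent.Helper56.φ5 Cfsg.Agent.Helper56.gy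
    rw [Cfsg.Agent.Helper56.φ5, Cfsg.Agent.Helper56.homOf_gy]
  have hψ1neg : ψ1 (-1) = 1 := by
    show (QuotientGroup.mk (ψ0 (Cfsg.Agent.Helper56.presEquiv.symm (-1))) :
      ProjectiveSpecialLinearGroup (Fin 2) F) = 1
    rw [hgz, Cfsg.Agent.Helper56.homOf_gz, psl2_mk_eq_one_iff]
    right
    simp
  have hψ1Y : ψ1 Cfsg.Agent.Helper56.Y5 = QuotientGroup.mk Y := by
    show (QuotientGroup.mk (ψ0 (Cfsg.Agent.Helper56.presEquiv.symm Cfsg.Agent.Helper56.Y5)) :
      ProjectiveSpecialLinearGroup (Fin 2) F) = QuotientGroup.mk Y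
    rw [hgy, Cfsg.Agent.Helper56.homOf_gy]
  have hker : Subgroup.center (SpecialLinearGroup (Fin 2) (ZMod 5)) ≤ ψ1.ker := by
    intro g hg
    rw [sl2_mem_center_iff] at hg
    rw [MonoidHom.mem_ker]
    rcases hg with h | h
    · have : g = 1 := Subtype.ext h
      rw [this, map_one]
    · have : g = -1 := Subtype.ext (by rw [h]; simp)
      rw [this, hψ1neg]
  let ψ2 : ProjectiveSpecialLinearGroup (Fin 2) (ZMod 5) →*
      ProjectiveSpecialLinearGroup (Fin 2) F :=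
    QuotientGroup.lift (Subgroup.center (SpecialLinearGroup (Fin 2) (ZMod 5))) ψ1 hker
  obtain ⟨e⟩ := Cfsg.Agent.S0253.result (F := ZMod 5) (ZMod.card 5)
  haveI : IsSimpleGroup (alternatingGroup (Fin 5)) :=
    alternatingGroup.isSimpleGroup (by simp)
  haveI : IsSimpleGroup (ProjectiveSpecialLinearGroup (Fin 2) (ZMod 5)) := e.isSimpleGroup
  have hinj : Function.Injective ψ2 := by
    rw [← MonoidHom.ker_eq_bot_iff]
    rcases (ψ2.normal_ker).eq_bot_or_eq_top with h | h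
    · exact h
    · exfalso
      have hmem : (QuotientGroup.mk Cfsg.Agent.Helper56.Y5 :
          ProjectiveSpecialLinearGroup (Fin 2) (ZMod 5)) ∈ ψ2.ker := by
        rw [h]
        trivial
      rw [MonoidHom.mem_ker] at hmem
      have hval : ψ2 (QuotientGroup.mk Cfsg.Agent.Helper56.Y5) = ψ1 Cfsg.Agent.Helper56.Y5 := rfl
      rw [hval, hψ1Y, psl2_mk_eq_one_iff] at hmem
      rcases hmem with h' | h'
      · apply hY01
        rw [h']
        simp
      · apply hY01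
        rw [h']
        simp
  exact ⟨ψ2.range, ⟨(MonoidHom.ofInjective hinj).symm.trans e⟩⟩

/-- `A₅ ≤ PSL₂(q)` iff `5 ∣ q (q² - 1)` -/
theorem alt5_le_psl2_iff [Fintype F] {q : ℕ} (hF : Fintype.card F = q) :
    (∃ H : Subgroup (ProjectiveSpecialLinearGroup (Fin 2) F),
      Nonempty (H ≃* alternatingGroup (Fin 5))) ↔ 5 ∣ q * (q ^ 2 - 1) := by
  classical
  subst hF
  constructor
  · rintro ⟨H, ⟨e⟩⟩
    have h60 : Nat.card H = 60 := by
      rw [Nat.card_congr e.toEquiv, card_alternatingGroup_five]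
    have hd1 : Nat.card H ∣ Nat.card (ProjectiveSpecialLinearGroup (Fin 2) F) :=
      Subgroup.card_subgroup_dvd_card H
    have hd2 : Nat.card (ProjectiveSpecialLinearGroup (Fin 2) F) ∣
        Nat.card (SpecialLinearGroup (Fin 2) F) :=
      Subgroup.card_quotient_dvd_card _
    have hd3 := hd1.trans hd2
    rw [h60, card_sl2] at hd3
    have h5 : 5 ∣ Fintype.card F * (Fintype.card F - 1) * (Fintype.card F + 1) :=
      Dvd.dvd.trans (by norm_num) hd3
    obtain ⟨k, hk⟩ : ∃ k, Fintype.card F = k + 1 :=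
      ⟨Fintype.card F - 1, by have := Fintype.card_pos (α := F); omega⟩
    rw [hk] at h5 ⊢
    have h1 : (k + 1) ^ 2 - 1 = k * (k + 2) := by
      rw [show (k + 1) ^ 2 = k * (k + 2) + 1 by ring]
      simp
    have h2 : (k + 1) * (k + 1 - 1) * (k + 1 + 1) = (k + 1) * (k * (k + 2)) := by
      rw [Nat.add_sub_cancel]
      ring
    rw [h1, ← h2]
    exact h5
  · intro h5
    obtain ⟨τ, hτ⟩ := exists_golden_root h5
    exact exists_alt5_of_golden_root τ hτ

end Cfsg.Agent.Helper41
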