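import Cfsg.Agent.Lib.Helper41.DicksonB2
import Cfsg.Agent.Lib.Helper41.IcosaPSL2

/-!
# Dickson's generation lemma: auxiliary facts

* `eq_top_of_rootSets`: a subgroup of `SL₂(F)` containing all root elements is everything;
* `trace_poly_of_pow_central`: in characteristic `3`, `y² , y³` or `y⁵` central forces
  `t (t² - 1) (t⁴ + 1) = 0` for `t = tr y`;
* `card_eq_nine`: `λ² = -1` generating a field of characteristic `3` forces `|F| = 9`.
-/

set_option autoImplicit false

namespace Cfsg.Agent.Helper41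

open Matrix

section gen

variable {F : Type*} [Field F]

theorem upperTri_eq_prod (B : SpecialLinearGroup (Fin 2) F)
    (hB0 : (B : Matrix (Fin 2) (Fin 2) F) 1 0 = 0)
    (ha : (B : Matrix (Fin 2) (Fin 2) F) 0 0 ≠ 0) :
    B = wSL ((B : Matrix (Fin 2) (Fin 2) F) 0 0) ha * wSL (-1) (neg_ne_zero.mpr one_ne_zero) *
      upperSL ((B : Matrix (Fin 2) (Fin 2) F) 0 1 / (B : Matrix (Fin 2) (Fin 2) F) 0 0) := by
  have hdet := B.2
  rw [Matrix.det_fin_two, hB0, mul_zero, sub_zero] at hdet
  have hd : (B : Matrix (Fin 2) (Fin 2) F) 1 1 = ((B : Matrix (Fin 2) (Fin 2) F) 0 0)⁻¹ := by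
    exact eq_inv_of_mul_eq_one_right hdet
  apply Subtype.ext
  rw [Matrix.SpecialLinearGroup.coe_mul, Matrix.SpecialLinearGroup.coe_mul]
  ext i j
  fin_cases i <;> fin_cases j <;>
    simp [upperSL, wSL, Matrix.mul_apply, Fin.sum_univ_two, hB0, hd]
  field_simp

/-- a subgroup of `SL₂(F)` containing all elementary matrices is everything -/
theorem eq_top_of_rootSets (L : Subgroup (SpecialLinearGroup (Fin 2) F))
    (hU : ∀ α : F, upperSL α ∈ L) (hL : ∀ β : F, lowerSL β ∈ L) : L = ⊤ := by
  have hw : ∀ (t : F) (ht : t ≠ 0), wSL t ht ∈ L := by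
    intro t ht
    rw [← upper_lower_upper t ht]
    exact L.mul_mem (L.mul_mem (hU t) (hL _)) (hU t)
  have hB : ∀ B : SpecialLinearGroup (Fin 2) F,
      (B : Matrix (Fin 2) (Fin 2) F) 1 0 = 0 → B ∈ L := by
    intro B hB0
    have hdet := B.2
    rw [Matrix.det_fin_two, hB0, mul_zero, sub_zero] at hdet
    have ha : (B : Matrix (Fin 2) (Fin 2) F) 0 0 ≠ 0 := by
      intro h
      rw [h, zero_mul] at hdet
      exact zero_ne_one hdet
    rw [upperTri_eq_prod B hB0 ha]
    exact L.mul_mem (L.mul_mem (hw _ _) (hw _ _)) (hU _)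
  rw [eq_top_iff]
  intro X _
  by_cases hX : (X : Matrix (Fin 2) (Fin 2) F) 1 0 = 0
  · exact hB X hX
  · obtain ⟨s, B, hB0, hXe⟩ := sl2_bruhat X hX
    rw [hXe]
    exact L.mul_mem (L.mul_mem (hU s) (hw _ _)) (hB B hB0)

end gen

section trace

variable {F : Type*} [Field F]

/-- if `a • M` is scalar for a matrix `M` of determinant one, then `a = 0` or `tr M ^ 2 = 4` -/
theorem smul_eq_smul_one_cases (M : Matrix (Fin 2) (Fin 2) F) (h : M.det = 1) (a b : F)
    (hM : a • M = b • (1 : Matrix (Fin 2) (Fin 2) F)) : a = 0 ∨ M.trace ^ 2 = 4 := by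
  by_cases ha : a = 0
  · exact Or.inl ha
  right
  have h00 := congrFun (congrFun hM 0) 0
  have h01 := congrFun (congrFun hM 0) 1
  have h10 := congrFun (congrFun hM 1) 0
  have h11 := congrFun (congrFun hM 1) 1
  simp only [Matrix.smul_apply, smul_eq_mul, Matrix.one_apply_eq, Matrix.one_apply_ne, ne_eq,
    zero_ne_one, one_ne_zero, not_false_eq_true, mul_one, mul_zero] at h00 h01 h10 h11
  have e01 : M 0 1 = 0 := by
    rcases mul_eq_zero.mp h01 with h' | h'
    · exact absurd h' ha
    · exact h'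
  have e10 : M 1 0 = 0 := by
    rcases mul_eq_zero.mp h10 with h' | h'
    · exact absurd h' ha
    · exact h'
  have e : M 0 0 = M 1 1 := by
    apply mul_left_cancel₀ ha
    rw [h00, h11]
  rw [Matrix.det_fin_two, e01, e10, mul_zero, sub_zero] at h
  rw [Matrix.trace_fin_two]
  rw [e] at h ⊢
  linear_combination 4 * h

/-- In characteristic `3`, an element of `SL₂(F)` whose square, cube or fifth power is central
has trace `t` with `t (t² - 1) (t⁴ + 1) = 0`. -/
theorem trace_poly_of_pow_central (h3 : (3 : F) = 0) (y : SpecialLinearGroup (Fin 2) F)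
    (hy : y ^ 2 ∈ Subgroup.center (SpecialLinearGroup (Fin 2) F) ∨
      y ^ 3 ∈ Subgroup.center (SpecialLinearGroup (Fin 2) F) ∨
      y ^ 5 ∈ Subgroup.center (SpecialLinearGroup (Fin 2) F)) :
    (y : Matrix (Fin 2) (Fin 2) F).trace * ((y : Matrix (Fin 2) (Fin 2) F).trace ^ 2 - 1) *
      ((y : Matrix (Fin 2) (Fin 2) F).trace ^ 4 + 1) = 0 := by
  obtain ⟨M, hM⟩ : ∃ M : Matrix (Fin 2) (Fin 2) F, M = (y : Matrix (Fin 2) (Fin 2) F) := ⟨_, rfl⟩
  have hdet : M.det = 1 := by rw [hM]; exact y.2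
  rw [← hM]
  obtain ⟨t, ht⟩ : ∃ t : F, t = M.trace := ⟨_, rfl⟩
  rw [← ht]
  have h4 : (4 : F) = 1 := by linear_combination h3
  -- the three cases give `t = 0`, `t² = 1` or `t⁴ + 1 = 0`
  have sc_sub : ∀ N N' : Matrix (Fin 2) (Fin 2) F,
      (∃ b : F, N = b • (1 : Matrix (Fin 2) (Fin 2) F)) →
      (∃ b : F, N' = b • (1 : Matrix (Fin 2) (Fin 2) F)) →
      ∃ b : F, N - N' = b • (1 : Matrix (Fin 2) (Fin 2) F) := by
    rintro _ _ ⟨b, rfl⟩ ⟨b', rfl⟩
    exact ⟨b - b', (sub_smul _ _ _).symm⟩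
  have sc_add : ∀ N N' : Matrix (Fin 2) (Fin 2) F,
      (∃ b : F, N = b • (1 : Matrix (Fin 2) (Fin 2) F)) →
      (∃ b : F, N' = b • (1 : Matrix (Fin 2) (Fin 2) F)) →
      ∃ b : F, N + N' = b • (1 : Matrix (Fin 2) (Fin 2) F) := by
    rintro _ _ ⟨b, rfl⟩ ⟨b', rfl⟩
    exact ⟨b + b', (add_smul _ _ _).symm⟩
  have sc1 : ∃ b : F, (1 : Matrix (Fin 2) (Fin 2) F) = b • (1 : Matrix (Fin 2) (Fin 2) F) :=
    ⟨1, (one_smul F _).symm⟩
  have scn1 : ∃ b : F, (-1 : Matrix (Fin 2) (Fin 2) F) = b • (1 : Matrix (Fin 2) (Fin 2) F) :=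
    ⟨-1, by rw [neg_smul, one_smul]⟩
  have scc : ∀ c : F, ∃ b : F, c • (1 : Matrix (Fin 2) (Fin 2) F) =
      b • (1 : Matrix (Fin 2) (Fin 2) F) := fun c => ⟨c, rfl⟩
  have key : t = 0 ∨ t ^ 2 = 1 ∨ t ^ 4 + 1 = 0 := by
    rcases hy with h | h | h
    · rw [sl2_mem_center_iff, Matrix.SpecialLinearGroup.coe_pow, ← hM,
        sq_eq_of_det_one M hdet, ← ht] at h
      have : ∃ b : F, t • M = b • (1 : Matrix (Fin 2) (Fin 2) F) := by
        rcases h with h | h
        · rw [sub_eq_iff_eq_add.mp h]; exact sc_add _ _ sc1 sc1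
        · rw [sub_eq_iff_eq_add.mp h]; exact sc_add _ _ scn1 sc1
      obtain ⟨b, hb⟩ := this
      rcases smul_eq_smul_one_cases M hdet t b hb with h0 | h0
      · exact Or.inl h0
      · right; left; rw [← ht] at h0; rw [h0, h4]
    · rw [sl2_mem_center_iff, Matrix.SpecialLinearGroup.coe_pow, ← hM,
        pow_three_of_det_one M hdet, ← ht] at h
      have : ∃ b : F, (t ^ 2 - 1) • M = b • (1 : Matrix (Fin 2) (Fin 2) F) := by
        rcases h with h | h
        · rw [eq_sub_of_add_eq h]; exact sc_sub _ _ sc1 (scc _)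
        · rw [eq_sub_of_add_eq h]; exact sc_sub _ _ scn1 (scc _)
      obtain ⟨b, hb⟩ := this
      rcases smul_eq_smul_one_cases M hdet _ b hb with h0 | h0
      · right; left; linear_combination h0
      · right; left; rw [← ht] at h0; rw [h0, h4]
    · rw [sl2_mem_center_iff, Matrix.SpecialLinearGroup.coe_pow, ← hM,
        pow_five_of_det_one M hdet, ← ht] at h
      have : ∃ b : F, (t ^ 4 - 3 * t ^ 2 + 1) • M = b • (1 : Matrix (Fin 2) (Fin 2) F) := by
        rcases h with h | h
        · rw [eq_sub_of_add_eq h]; exact sc_sub _ _ sc1 (scc _)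
        · rw [eq_sub_of_add_eq h]; exact sc_sub _ _ scn1 (scc _)
      obtain ⟨b, hb⟩ := this
      rcases smul_eq_smul_one_cases M hdet _ b hb with h0 | h0
      · right; right; linear_combination h0 + t ^ 2 * h3
      · right; left; rw [← ht] at h0; rw [h0, h4]
  rcases key with h | h | h
  · rw [h]; ring
  · rw [h]; ring
  · rw [h]; ring

/-- the trace polynomial constraint for both `l(1) u(λ)` and `l(1) u(-λ)` forces `λ⁵ = λ` -/
theorem lam_pow_five_of_traces (h3 : (3 : F) = 0) (lam : F)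
    (h1 : (2 + lam) * ((2 + lam) ^ 2 - 1) * ((2 + lam) ^ 4 + 1) = 0)
    (h2 : (2 - lam) * ((2 - lam) ^ 2 - 1) * ((2 - lam) ^ 4 + 1) = 0) :
    lam = 0 ∨ lam = 1 ∨ lam = -1 ∨ lam ^ 2 = -1 := by
  have h1' : (lam - 1) * ((lam - 1) ^ 2 - 1) * ((lam - 1) ^ 4 + 1) = 0 := by
    have : 2 + lam = lam - 1 := by linear_combination h3
    rw [this] at h1; exact h1
  have h2' : (-lam - 1) * ((-lam - 1) ^ 2 - 1) * ((-lam - 1) ^ 4 + 1) = 0 := by
    have : 2 - lam = -lam - 1 := by linear_combination h3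
    rw [this] at h2; exact h2
  have key : lam ^ 5 - lam = 0 := by
    linear_combination (1 + lam) * h1' + (2 + lam) * h2' -
      (-lam - 14 * lam ^ 2 - 18 * lam ^ 3 - 30 * lam ^ 4 - 27 * lam ^ 5 - 7 * lam ^ 6
        - 5 * lam ^ 7) * h3
  have : lam * ((lam - 1) * ((lam + 1) * (lam ^ 2 + 1))) = 0 := by linear_combination key
  rcases mul_eq_zero.mp this with h | h
  · exact Or.inl h
  rcases mul_eq_zero.mp h with h | h
  · right; left; linear_combination h
  rcases mul_eq_zero.mp h with h | h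
  · right; right; left; linear_combination h
  · right; right; right; linear_combination h

end trace

section card

variable {F : Type*} [Field F] [Fintype F]

/-- a field of characteristic `3` generated by a square root of `-1` has `9` elements -/
theorem card_eq_nine (h3 : (3 : F) = 0) (lam : F) (hlam : lam ^ 2 = -1)
    (hgen : Subfield.closure ({lam} : Set F) = ⊤) : Fintype.card F = 9 := by
  haveI : CharP F 3 := by
    have hd : ringChar F ∣ 3 := ringChar.dvd (by exact_mod_cast h3)
    have h1 : ringChar F ≠ 1 := CharP.ringChar_ne_one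
    have : ringChar F = 3 := by
      rcases (Nat.dvd_prime Nat.prime_three).mp hd with h | h
      · exact absurd h h1
      · exact h
    rw [← this]; exact ringChar.charP F
  haveI : Fact (Nat.Prime 3) := ⟨Nat.prime_three⟩
  -- every element satisfies `x ^ 9 = x`
  have hall : ∀ x : F, x ^ 9 = x := by
    have hle : Subfield.closure ({lam} : Set F) ≤
        RingHom.eqLocusField (iterateFrobenius F 3 2) (RingHom.id F) := by
      rw [Subfield.closure_le]
      intro x hx
      rw [Set.mem_singleton_iff] at hx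
      rw [hx]
      show iterateFrobenius F 3 2 lam = RingHom.id F lam
      rw [iterateFrobenius_def, RingHom.id_apply]
      have : lam ^ 3 ^ 2 = lam * (lam ^ 2) ^ 4 := by ring
      rw [this, hlam]; ring
    intro x
    have hx : x ∈ RingHom.eqLocusField (iterateFrobenius F 3 2) (RingHom.id F) :=
      hle (hgen ▸ Subfield.mem_top x)
    have hx' : iterateFrobenius F 3 2 x = RingHom.id F x := hx
    rw [iterateFrobenius_def, RingHom.id_apply] at hx'
    have : (3 : ℕ) ^ 2 = 9 := by norm_num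
    rw [this] at hx'
    exact hx'
  -- so `|F| ≤ 9`
  have hle9 : Fintype.card F ≤ 9 := by
    classical
    have hdeg : (Polynomial.X ^ 9 - Polynomial.X : Polynomial F).natDegree = 9 :=
      FiniteField.X_pow_card_sub_X_natDegree_eq F (by norm_num)
    have hne : (Polynomial.X ^ 9 - Polynomial.X : Polynomial F) ≠ 0 :=
      FiniteField.X_pow_card_sub_X_ne_zero F (by norm_num)
    have hsub : (Finset.univ : Finset F) ⊆
        (Polynomial.X ^ 9 - Polynomial.X : Polynomial F).roots.toFinset := by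
      intro x _
      rw [Multiset.mem_toFinset, Polynomial.mem_roots hne]
      simp [hall x]
    calc Fintype.card F = (Finset.univ : Finset F).card := rfl
      _ ≤ (Polynomial.X ^ 9 - Polynomial.X : Polynomial F).roots.toFinset.card :=
          Finset.card_le_card hsub
      _ ≤ Multiset.card (Polynomial.X ^ 9 - Polynomial.X : Polynomial F).roots :=
          Multiset.toFinset_card_le _
      _ ≤ (Polynomial.X ^ 9 - Polynomial.X : Polynomial F).natDegree :=
          Polynomial.card_roots' _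
      _ = 9 := hdeg
  obtain ⟨n, _, hn⟩ := FiniteField.card F 3
  -- `n ≠ 1`
  have hn1 : (n : ℕ) ≠ 1 := by
    intro h1
    rw [h1, pow_one] at hn
    have := FiniteField.pow_card lam
    rw [hn] at this
    have h' : lam ^ 3 = -lam := by
      have : lam ^ 3 = lam * lam ^ 2 := by ring
      rw [this, hlam]; ring
    rw [h'] at this
    have h2lam : lam = 0 := by linear_combination lam * h3 + this
    rw [h2lam] at hlam
    have : (1 : F) = 0 := by linear_combination hlam
    exact one_ne_zero this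
  have hnpos : 0 < (n : ℕ) := n.pos
  have hn2 : (n : ℕ) ≤ 2 := by
    by_contra hcon
    push Not at hcon
    have : 3 ^ 3 ≤ 3 ^ (n : ℕ) := Nat.pow_le_pow_right (by norm_num) hcon
    rw [← hn] at this
    omega
  have : (n : ℕ) = 2 := by omega
  rw [hn, this]
  norm_num

end card

end Cfsg.Agent.Helper41
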