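import Cfsg.Agent.Lib.Helper41.DicksonC1
import Cfsg.Agent.Lib.Helper41.DicksonGen

/-!
# Dickson, part C: matrix identification in standard position

Let `L ≤ SL₂(F)` have root parameter sets `a K` and `a⁻¹ K` (`K` a subfield given as the image
of `ι : K →+* F`), and assume every unipotent element of `L` not fixing `∞` fixes a point of
`a K`.  Then `L` contains the twisted copy of `SL₂(K)` and every element of `L` is, up to a
scalar, a twisted element of `GL₂(K)`.  Hence the image of `L` in `PSL₂(F)` is isomorphic to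
`PSL₂(K)` or `PGL₂(K)`.
-/

set_option autoImplicit false

namespace Cfsg.Agent.Helper41

open Matrix

section twist

variable {K : Type*} [Field K] {F : Type*} [Field F] (ι : K →+* F) (a : F) (ha : a ≠ 0)

/-- the twisted matrix `[[ι x, a ι y],[a⁻¹ ι z, ι w]]` -/
def twistMat (M : Matrix (Fin 2) (Fin 2) K) : Matrix (Fin 2) (Fin 2) F :=
  !![ι (M 0 0), a * ι (M 0 1); a⁻¹ * ι (M 1 0), ι (M 1 1)]

include ha in
theorem twistMat_mul (M N : Matrix (Fin 2) (Fin 2) K) :
    twistMat ι a (M * N) = twistMat ι a M * twistMat ι a N := by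
  unfold twistMat
  ext i j
  fin_cases i <;> fin_cases j <;>
    simp [Matrix.mul_apply, Fin.sum_univ_two] <;> field_simp

theorem twistMat_one : twistMat ι a (1 : Matrix (Fin 2) (Fin 2) K) = 1 := by
  unfold twistMat
  ext i j
  fin_cases i <;> fin_cases j <;> simp

include ha in
theorem det_twistMat (M : Matrix (Fin 2) (Fin 2) K) : (twistMat ι a M).det = ι M.det := by
  unfold twistMat
  rw [Matrix.det_fin_two_of, Matrix.det_fin_two]
  simp only [map_sub, map_mul]
  have e : a * ι (M 0 1) * (a⁻¹ * ι (M 1 0)) = ι (M 0 1) * ι (M 1 0) := by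
    field_simp
  rw [e]

/-- the twisted embedding `SL₂(K) → SL₂(F)`, `[[x,y],[z,w]] ↦ [[ι x, a ι y],[a⁻¹ ι z, ι w]]` -/
def twistSL : SpecialLinearGroup (Fin 2) K →* SpecialLinearGroup (Fin 2) F where
  toFun m := ⟨twistMat ι a m.1, by rw [det_twistMat ι a ha, m.2, map_one]⟩
  map_one' := Subtype.ext (twistMat_one ι a)
  map_mul' x y := Subtype.ext (twistMat_mul ι a ha x.1 y.1)

theorem twistSL_apply (m : SpecialLinearGroup (Fin 2) K) :
    ((twistSL ι a ha m : SpecialLinearGroup (Fin 2) F) : Matrix (Fin 2) (Fin 2) F) =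
      !![ι (m.1 0 0), a * ι (m.1 0 1); a⁻¹ * ι (m.1 1 0), ι (m.1 1 1)] := rfl

theorem twistSL_upperSL (k : K) : twistSL ι a ha (upperSL k) = upperSL (a * ι k) := by
  apply Subtype.ext
  rw [twistSL_apply]
  ext i j
  fin_cases i <;> fin_cases j <;> simp [upperSL]

theorem twistSL_lowerSL (k : K) : twistSL ι a ha (lowerSL k) = lowerSL (a⁻¹ * ι k) := by
  apply Subtype.ext
  rw [twistSL_apply]
  ext i j
  fin_cases i <;> fin_cases j <;> simp [lowerSL]

/-- the diagonal element `diag(a, 1)` of `GL₂(F)` -/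
def dGL : GL (Fin 2) F :=
  ⟨!![a, 0; 0, 1], !![a⁻¹, 0; 0, 1], by
    ext i j
    fin_cases i <;> fin_cases j <;> simp [Matrix.mul_apply, Fin.sum_univ_two, ha],
   by
    ext i j
    fin_cases i <;> fin_cases j <;> simp [Matrix.mul_apply, Fin.sum_univ_two, ha]⟩

/-- the twisted embedding `PGL₂(K) → PGL₂(F)` -/
noncomputable def jHom : ProjGenLinGroup (Fin 2) K →* ProjGenLinGroup (Fin 2) F :=
  (MulAut.conj (ProjGenLinGroup.mk (dGL a ha))).toMonoidHom.comp (ProjGenLinGroup.map ι)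

theorem jHom_injective : Function.Injective (jHom ι a ha) :=
  (MulAut.conj (ProjGenLinGroup.mk (dGL a ha))).injective.comp (pgl2_map_injective ι)

theorem jHom_mk (m : GL (Fin 2) K) :
    jHom ι a ha (ProjGenLinGroup.mk m) =
      ProjGenLinGroup.mk (dGL a ha * GeneralLinearGroup.map ι m * (dGL a ha)⁻¹) := by
  simp [jHom, MulAut.conj_apply]

theorem dGL_conj_apply (m : GL (Fin 2) K) :
    ((dGL a ha * GeneralLinearGroup.map ι m * (dGL a ha)⁻¹ : GL (Fin 2) F) :
      Matrix (Fin 2) (Fin 2) F) =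
      !![ι (m 0 0), a * ι (m 0 1); a⁻¹ * ι (m 1 0), ι (m 1 1)] := by
  have h1 : ((dGL a ha : GL (Fin 2) F) : Matrix (Fin 2) (Fin 2) F) = !![a, 0; 0, 1] := rfl
  have h2 : (((dGL a ha)⁻¹ : GL (Fin 2) F) : Matrix (Fin 2) (Fin 2) F) = !![a⁻¹, 0; 0, 1] := rfl
  have h3 : ((GeneralLinearGroup.map ι m : GL (Fin 2) F) : Matrix (Fin 2) (Fin 2) F) =
      !![ι (m 0 0), ι (m 0 1); ι (m 1 0), ι (m 1 1)] := by
    ext i j
    fin_cases i <;> fin_cases j <;> simp [GeneralLinearGroup.map_apply]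
  rw [Units.val_mul, Units.val_mul, h1, h2, h3]
  ext i j
  fin_cases i <;> fin_cases j <;>
    simp [Matrix.mul_apply, Fin.sum_univ_two] <;> field_simp

/-- elements of `SL₂(F)` that are scalar multiples of twisted matrices over `K` land in the
image of `PGL₂(K)` -/
theorem mk_toGL_mem_range_jHom (x : SpecialLinearGroup (Fin 2) F) (s : F) (hs : s ≠ 0)
    (m : Matrix (Fin 2) (Fin 2) K)
    (hx : (x : Matrix (Fin 2) (Fin 2) F) =
      s • !![ι (m 0 0), a * ι (m 0 1); a⁻¹ * ι (m 1 0), ι (m 1 1)]) :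
    ProjGenLinGroup.mk (SpecialLinearGroup.toGL x) ∈ (jHom ι a ha).range := by
  have hdet : m.det ≠ 0 := by
    intro h0
    have h1 := x.2
    rw [hx, Matrix.det_smul, Matrix.det_fin_two_of] at h1
    have e : a * ι (m 0 1) * (a⁻¹ * ι (m 1 0)) = ι (m 0 1) * ι (m 1 0) := by
      field_simp
    rw [e, ← map_mul, ← map_mul, ← map_sub, ← Matrix.det_fin_two, h0, map_zero, mul_zero] at h1
    exact zero_ne_one h1
  refine ⟨ProjGenLinGroup.mk (GeneralLinearGroup.mkOfDetNeZero m hdet), ?_⟩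
  rw [jHom_mk, ProjGenLinGroup.mk_eq_mk_iff]
  refine ⟨Units.mk0 s hs, ?_⟩
  apply Units.ext
  rw [Units.val_mul, dGL_conj_apply]
  change _ = (x : Matrix (Fin 2) (Fin 2) F)
  rw [hx]
  ext i j
  fin_cases i <;> fin_cases j <;>
    simp [GeneralLinearGroup.coe_scalar, Matrix.mul_apply, Fin.sum_univ_two,
      GeneralLinearGroup.mkOfDetNeZero] <;> ring

/-- compatibility of `jHom` with `twistSL` -/
theorem jHom_toPGL (m : SpecialLinearGroup (Fin 2) K) :
    jHom ι a ha (ProjGenLinGroup.mk (SpecialLinearGroup.toGL m)) =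
      ProjGenLinGroup.mk (SpecialLinearGroup.toGL (twistSL ι a ha m)) := by
  rw [jHom_mk]
  congr 1
  apply Units.ext
  rw [dGL_conj_apply]
  rfl

/-- the subgroup of `SL₂(F)` of elements that are projectively twisted `K`-rational -/
noncomputable def kForm : Subgroup (SpecialLinearGroup (Fin 2) F) :=
  (jHom ι a ha).range.comap (SpecialLinearGroup.toPGL (n := Fin 2) (R := F))

theorem mem_kForm_of_eq (x : SpecialLinearGroup (Fin 2) F) (s : F) (hs : s ≠ 0)
    (m : Matrix (Fin 2) (Fin 2) K)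
    (hx : (x : Matrix (Fin 2) (Fin 2) F) =
      s • !![ι (m 0 0), a * ι (m 0 1); a⁻¹ * ι (m 1 0), ι (m 1 1)]) :
    x ∈ kForm ι a ha :=
  mk_toGL_mem_range_jHom ι a ha x s hs m hx

theorem twistSL_mem_kForm (m : SpecialLinearGroup (Fin 2) K) :
    twistSL ι a ha m ∈ kForm ι a ha := by
  refine mem_kForm_of_eq ι a ha _ 1 one_ne_zero m.1 ?_
  rw [one_smul, twistSL_apply]

end twist

section bruhat

variable {K : Type*} [Field K] {F : Type*} [Field F] (ι : K →+* F) (a : F) (ha : a ≠ 0)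
variable (L : Subgroup (SpecialLinearGroup (Fin 2) F))

/-- conjugating a unipotent `u(t)` : entries -/
theorem conj_upperSL_apply (x : SpecialLinearGroup (Fin 2) F) (t : F) :
    ((x * upperSL t * x⁻¹ : SpecialLinearGroup (Fin 2) F) : Matrix (Fin 2) (Fin 2) F) =
      !![1 - t * x.1 0 0 * x.1 1 0, t * x.1 0 0 ^ 2; -(t * x.1 1 0 ^ 2),
        1 + t * x.1 0 0 * x.1 1 0] := by
  have hdet := x.2
  rw [Matrix.det_fin_two] at hdet
  rw [Matrix.SpecialLinearGroup.coe_mul, Matrix.SpecialLinearGroup.coe_mul,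
    Matrix.SpecialLinearGroup.coe_inv, Matrix.adjugate_fin_two]
  ext i j
  fin_cases i <;> fin_cases j <;>
    simp [upperSL, Matrix.mul_apply, Fin.sum_univ_two]
  · linear_combination (1 : F) * hdet
  · ring
  · ring
  · linear_combination (1 : F) * hdet

/-- conjugating a unipotent `l(t)` : entries -/
theorem conj_lowerSL_apply (x : SpecialLinearGroup (Fin 2) F) (t : F) :
    ((x * lowerSL t * x⁻¹ : SpecialLinearGroup (Fin 2) F) : Matrix (Fin 2) (Fin 2) F) =
      !![1 + t * x.1 0 1 * x.1 1 1, -(t * x.1 0 1 ^ 2); t * x.1 1 1 ^ 2,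
        1 - t * x.1 0 1 * x.1 1 1] := by
  have hdet := x.2
  rw [Matrix.det_fin_two] at hdet
  rw [Matrix.SpecialLinearGroup.coe_mul, Matrix.SpecialLinearGroup.coe_mul,
    Matrix.SpecialLinearGroup.coe_inv, Matrix.adjugate_fin_two]
  ext i j
  fin_cases i <;> fin_cases j <;>
    simp [lowerSL, Matrix.mul_apply, Fin.sum_univ_two]
  · linear_combination (1 : F) * hdet
  · ring
  · ring
  · linear_combination (1 : F) * hdet

variable (hA : ∀ x, x ∈ rootSetU L ↔ ∃ k : K, x = a * ι k)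
  (hB : ∀ x, x ∈ rootSetL L ↔ ∃ k : K, x = a⁻¹ * ι k)
  (hfix : ∀ y ∈ L, (y : Matrix (Fin 2) (Fin 2) F).trace = 2 →
      (y : Matrix (Fin 2) (Fin 2) F) 1 0 ≠ 0 →
      ∃ α ∈ rootSetU L, (y : Matrix (Fin 2) (Fin 2) F) 1 0 * α +
        (y : Matrix (Fin 2) (Fin 2) F) 1 1 = 1)

include hA in
theorem upperSL_mem_kForm_of_mem (α : F) (hα : α ∈ rootSetU L) : upperSL α ∈ kForm ι a ha := by
  obtain ⟨k, hk⟩ := (hA α).mp hα
  rw [hk, ← twistSL_upperSL ι a ha k]
  exact twistSL_mem_kForm ι a ha _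

include hB in
theorem lowerSL_mem_kForm_of_mem (β : F) (hβ : β ∈ rootSetL L) : lowerSL β ∈ kForm ι a ha := by
  obtain ⟨k, hk⟩ := (hB β).mp hβ
  rw [hk, ← twistSL_lowerSL ι a ha k]
  exact twistSL_mem_kForm ι a ha _

include hA hB hfix in
/-- upper triangular elements of `L` are `K`-rational up to scalars -/
theorem upperTri_mem_kForm (x : SpecialLinearGroup (Fin 2) F) (hxL : x ∈ L)
    (hx10 : (x : Matrix (Fin 2) (Fin 2) F) 1 0 = 0) : x ∈ kForm ι a ha := by
  have hdet := x.2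
  rw [Matrix.det_fin_two, hx10, mul_zero, sub_zero] at hdet
  obtain ⟨s, hs⟩ : ∃ s : F, s = (x : Matrix (Fin 2) (Fin 2) F) 0 0 := ⟨_, rfl⟩
  obtain ⟨b, hb⟩ : ∃ b : F, b = (x : Matrix (Fin 2) (Fin 2) F) 0 1 := ⟨_, rfl⟩
  obtain ⟨d, hd⟩ : ∃ d : F, d = (x : Matrix (Fin 2) (Fin 2) F) 1 1 := ⟨_, rfl⟩
  rw [← hs, ← hd] at hdet
  have hs0 : s ≠ 0 := by
    intro h; rw [h, zero_mul] at hdet; exact zero_ne_one hdet
  have hd0 : d ≠ 0 := by
    intro h; rw [h, mul_zero] at hdet; exact zero_ne_one hdet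
  have haA : a ∈ rootSetU L := (hA a).mpr ⟨1, by rw [map_one, mul_one]⟩
  have haB : a⁻¹ ∈ rootSetL L := (hB a⁻¹).mpr ⟨1, by rw [map_one, mul_one]⟩
  -- `s² ∈ K`
  have h1 : s ^ 2 * a ∈ rootSetU L := by
    rw [mem_rootSetU]
    have := upperTri_mul_upperSL x hx10 a
    have e : upperSL (s ^ 2 * a) = x * upperSL a * x⁻¹ := by
      rw [this, ← hs, mul_inv_cancel_right]
    rw [e]
    exact L.mul_mem (L.mul_mem hxL haA) (L.inv_mem hxL)
  obtain ⟨k1, hk1⟩ := (hA _).mp h1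
  have hk1' : s ^ 2 = ι k1 := by
    have : s ^ 2 * a = ι k1 * a := by rw [hk1, mul_comm]
    exact mul_right_cancel₀ ha this
  have hk10 : k1 ≠ 0 := by
    intro h; rw [h, map_zero] at hk1'
    exact hs0 (pow_eq_zero_iff (two_ne_zero)|>.mp hk1')
  -- `b s ∈ a K`
  have hyL : x * lowerSL a⁻¹ * x⁻¹ ∈ L := L.mul_mem (L.mul_mem hxL haB) (L.inv_mem hxL)
  have hy := conj_lowerSL_apply x a⁻¹
  rw [← hb, ← hd] at hy
  have htr : ((x * lowerSL a⁻¹ * x⁻¹ : SpecialLinearGroup (Fin 2) F) :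
      Matrix (Fin 2) (Fin 2) F).trace = 2 := by
    rw [hy, Matrix.trace_fin_two_of]; ring
  have hy10 : ((x * lowerSL a⁻¹ * x⁻¹ : SpecialLinearGroup (Fin 2) F) :
      Matrix (Fin 2) (Fin 2) F) 1 0 = a⁻¹ * d ^ 2 := by rw [hy]; simp
  have hy11 : ((x * lowerSL a⁻¹ * x⁻¹ : SpecialLinearGroup (Fin 2) F) :
      Matrix (Fin 2) (Fin 2) F) 1 1 = 1 - a⁻¹ * b * d := by rw [hy]; simp
  have hy10ne : ((x * lowerSL a⁻¹ * x⁻¹ : SpecialLinearGroup (Fin 2) F) :
      Matrix (Fin 2) (Fin 2) F) 1 0 ≠ 0 := by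
    rw [hy10]; exact mul_ne_zero (inv_ne_zero ha) (pow_ne_zero 2 hd0)
  obtain ⟨α, hαA, hα⟩ := hfix _ hyL htr hy10ne
  rw [hy10, hy11] at hα
  have hαe : α = b * s := by
    have h2 : a⁻¹ * d * (d * α - b) = 0 := by linear_combination hα
    have h3 : d * α - b = 0 := by
      rcases mul_eq_zero.mp h2 with h | h
      · exact absurd h (mul_ne_zero (inv_ne_zero ha) hd0)
      · exact h
    linear_combination s * h3 - α * hdet
  obtain ⟨k2, hk2⟩ := (hA _).mp hαA
  rw [hαe] at hk2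
  -- assemble
  refine mem_kForm_of_eq ι a ha x s hs0 !![1, k2 / k1; 0, k1⁻¹] ?_
  have hk1inv : ι k1⁻¹ = (s ^ 2)⁻¹ := by rw [map_inv₀, hk1']
  ext i j
  fin_cases i <;> fin_cases j
  · simp [← hs]
  · simp only [Fin.zero_eta, Fin.isValue, Fin.mk_one, Matrix.smul_apply, Matrix.of_apply,
      Matrix.cons_val', Matrix.cons_val_one, Matrix.cons_val_fin_one, Matrix.cons_val_zero,
      smul_eq_mul]
    rw [← hb, map_div₀, ← hk1']
    have : a * ι k2 = b * s := hk2.symm
    field_simp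
    linear_combination -this
  · simp [hx10]
  · simp only [Fin.mk_one, Fin.isValue, Matrix.smul_apply, Matrix.of_apply, Matrix.cons_val',
      Matrix.cons_val_one, Matrix.cons_val_fin_one, smul_eq_mul]
    rw [← hd, hk1inv]
    field_simp
    linear_combination hdet

include hA hB hfix in
/-- **Bruhat in `L`**: all of `L` is `K`-rational up to scalars -/
theorem le_kForm : L ≤ kForm ι a ha := by
  intro x hxL
  by_cases hx10 : (x : Matrix (Fin 2) (Fin 2) F) 1 0 = 0
  · exact upperTri_mem_kForm ι a ha L hA hB hfix x hxL hx10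
  have haA : a ∈ rootSetU L := (hA a).mpr ⟨1, by rw [map_one, mul_one]⟩
  have haB : -a⁻¹ ∈ rootSetL L := (hB _).mpr ⟨-1, by rw [map_neg, map_one]; ring⟩
  have hyL : x * upperSL a * x⁻¹ ∈ L := L.mul_mem (L.mul_mem hxL haA) (L.inv_mem hxL)
  have hy := conj_upperSL_apply x a
  have htr : ((x * upperSL a * x⁻¹ : SpecialLinearGroup (Fin 2) F) :
      Matrix (Fin 2) (Fin 2) F).trace = 2 := by
    rw [hy, Matrix.trace_fin_two_of]; ring
  have hy10 : ((x * upperSL a * x⁻¹ : SpecialLinearGroup (Fin 2) F) :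
      Matrix (Fin 2) (Fin 2) F) 1 0 = -(a * x.1 1 0 ^ 2) := by rw [hy]; simp
  have hy11 : ((x * upperSL a * x⁻¹ : SpecialLinearGroup (Fin 2) F) :
      Matrix (Fin 2) (Fin 2) F) 1 1 = 1 + a * x.1 0 0 * x.1 1 0 := by rw [hy]; simp
  have hy10ne : ((x * upperSL a * x⁻¹ : SpecialLinearGroup (Fin 2) F) :
      Matrix (Fin 2) (Fin 2) F) 1 0 ≠ 0 := by
    rw [hy10]; exact neg_ne_zero.mpr (mul_ne_zero ha (pow_ne_zero 2 hx10))
  obtain ⟨α, hαA, hα⟩ := hfix _ hyL htr hy10ne
  rw [hy10, hy11] at hα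
  have hαe : x.1 0 0 = α * x.1 1 0 := by
    have h2 : a * x.1 1 0 * (x.1 0 0 - α * x.1 1 0) = 0 := by linear_combination hα
    rcases mul_eq_zero.mp h2 with h | h
    · exact absurd h (mul_ne_zero ha hx10)
    · linear_combination h
  have hwL : wSL a ha ∈ L := by
    rw [← upper_lower_upper a ha]
    exact L.mul_mem (L.mul_mem haA haB) haA
  have hwK : wSL a ha ∈ kForm ι a ha := by
    rw [← upper_lower_upper a ha]
    exact (kForm ι a ha).mul_mem ((kForm ι a ha).mul_mem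
      (upperSL_mem_kForm_of_mem ι a ha L hA a haA)
      (lowerSL_mem_kForm_of_mem ι a ha L hB _ haB))
      (upperSL_mem_kForm_of_mem ι a ha L hA a haA)
  have hαK := upperSL_mem_kForm_of_mem ι a ha L hA α hαA
  have hx'L : wSL a ha * upperSL (-α) * x ∈ L := by
    refine L.mul_mem (L.mul_mem hwL ?_) hxL
    rw [← upperSL_inv]; exact L.inv_mem hαA
  have hx'10 : ((wSL a ha * upperSL (-α) * x : SpecialLinearGroup (Fin 2) F) :
      Matrix (Fin 2) (Fin 2) F) 1 0 = 0 := by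
    rw [Matrix.SpecialLinearGroup.coe_mul, Matrix.SpecialLinearGroup.coe_mul]
    simp [wSL, upperSL, Matrix.mul_apply, Fin.sum_univ_two]
    rw [hαe]; ring
  have hx'K := upperTri_mem_kForm ι a ha L hA hB hfix _ hx'L hx'10
  have hxe : x = upperSL α * (wSL a ha)⁻¹ * (wSL a ha * upperSL (-α) * x) := by
    rw [← upperSL_inv]; group
  rw [hxe]
  exact (kForm ι a ha).mul_mem ((kForm ι a ha).mul_mem hαK ((kForm ι a ha).inv_mem hwK)) hx'K

include hA hB in
/-- `L` contains the twisted copy of `SL₂(K)` -/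
theorem twistSL_mem (m : SpecialLinearGroup (Fin 2) K) : twistSL ι a ha m ∈ L := by
  have htop : L.comap (twistSL ι a ha) = ⊤ := by
    apply eq_top_of_rootSets
    · intro k
      rw [Subgroup.mem_comap, twistSL_upperSL, ← mem_rootSetU]
      exact (hA _).mpr ⟨k, rfl⟩
    · intro k
      rw [Subgroup.mem_comap, twistSL_lowerSL, ← mem_rootSetL]
      exact (hB _).mpr ⟨k, rfl⟩
  have : m ∈ L.comap (twistSL ι a ha) := by rw [htop]; trivial
  exact this

include ha hA hB hfix in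
/-- **Dickson, part C (standard position)**: the image of `L` in `PSL₂(F)` is isomorphic to
`PSL₂(K)` or `PGL₂(K)`. -/
theorem iso_of_standard [Fintype K] :
    Nonempty (L.map (QuotientGroup.mk' (Subgroup.center (SpecialLinearGroup (Fin 2) F))) ≃*
        ProjectiveSpecialLinearGroup (Fin 2) K) ∨
      Nonempty (L.map (QuotientGroup.mk' (Subgroup.center (SpecialLinearGroup (Fin 2) F))) ≃*
        ProjGenLinGroup (Fin 2) K) := by
  apply iso_of_sandwich (F := F)
    (L.map (QuotientGroup.mk' (Subgroup.center (SpecialLinearGroup (Fin 2) F))))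
    (jHom ι a ha) (jHom_injective ι a ha)
  · rintro _ ⟨_, ⟨x, hxL, rfl⟩, rfl⟩
    exact le_kForm ι a ha L hA hB hfix hxL
  · rintro _ ⟨y, rfl⟩
    induction y using QuotientGroup.induction_on with | H m =>
    rw [Subgroup.mem_comap]
    refine ⟨QuotientGroup.mk (twistSL ι a ha m), ⟨_, twistSL_mem ι a ha L hA hB m, rfl⟩, ?_⟩
    exact (jHom_toPGL ι a ha m).symm

end bruhat

end Cfsg.Agent.Helper41
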