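import Cfsg.Agent.Lib.Helper41.DicksonC2
import Cfsg.Agent.Lib.Helper59.SL2Sub

/-!
# Dickson, part C: reduction to standard position and the final isomorphism

`dickson_subfield_case`: if `L ≤ SL₂(F)` (`F` finite of characteristic `p`, any `p`) has more than
one Sylow `p`-subgroup and exactly `|U| + 1` of them, then the image of `L` in `PSL₂(F)` is
isomorphic to `PSL₂(K)` or `PGL₂(K)` for a finite field `K` with `|K| ^ m = |F|`.
-/

set_option autoImplicit false

namespace Cfsg.Agent.Helper41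

open Matrix

section sylowTransport

variable {G G' : Type*} [Group G] [Group G'] (p : ℕ)

/-- transport of Sylow subgroups along an isomorphism -/
noncomputable def sylowCongr (e : G ≃* G') : Sylow p G ≃ Sylow p G' where
  toFun P := P.comapOfInjective e.symm.toMonoidHom e.symm.injective (by
    rw [MonoidHom.range_eq_top.mpr e.symm.surjective]; exact le_top)
  invFun Q := Q.comapOfInjective e.toMonoidHom e.injective (by
    rw [MonoidHom.range_eq_top.mpr e.surjective]; exact le_top)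
  left_inv P := by
    apply Sylow.ext
    ext x
    change e.symm.toMonoidHom (e.toMonoidHom x) ∈ (P : Subgroup G) ↔ x ∈ (P : Subgroup G)
    simp
  right_inv Q := by
    apply Sylow.ext
    ext x
    change e.toMonoidHom (e.symm.toMonoidHom x) ∈ (Q : Subgroup G') ↔ x ∈ (Q : Subgroup G')
    simp

theorem card_sylow_congr (e : G ≃* G') : Nat.card (Sylow p G) = Nat.card (Sylow p G') :=
  Nat.card_congr (sylowCongr p e)

theorem card_sylow_elem_congr [Fact p.Prime] [Finite G] [Finite G'] (e : G ≃* G')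
    (P : Sylow p G) (Q : Sylow p G') : Nat.card P = Nat.card Q := by
  rw [Sylow.card_eq_multiplicity, Sylow.card_eq_multiplicity, Nat.card_congr e.toEquiv]

end sylowTransport

section standard

variable {F : Type*} [Field F] [Fintype F] (p : ℕ) [Fact p.Prime] [CharP F p]

/-- every `p`-subgroup of `SL₂(F)` lies in a conjugate of the upper unitriangular group -/
theorem exists_le_rootConj (Q : Subgroup (SpecialLinearGroup (Fin 2) F)) (hQ : IsPGroup p Q) :
    ∃ g : SpecialLinearGroup (Fin 2) F, Q ≤ rootConj g := by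
  classical
  obtain ⟨S, hS⟩ := hQ.exists_le_sylow
  obtain ⟨h, rfl⟩ := MulAction.exists_smul_eq (SpecialLinearGroup (Fin 2) F)
    (Cfsg.Agent.Helper5.slUSylow p) S
  refine ⟨h, fun x hx => ?_⟩
  have := hS hx
  rw [Cfsg.Agent.Helper5.mem_smul_slUSylow_iff, Cfsg.Agent.Helper59.SL2Sub.mem_slU_iff'] at this
  exact this

/-- upper triangular elements normalise the upper unitriangular group -/
theorem upperTri_conj_mem_upperUni (B z : SpecialLinearGroup (Fin 2) F)
    (hB : (B : Matrix (Fin 2) (Fin 2) F) 1 0 = 0) (hz : z ∈ upperUni F) :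
    B * z * B⁻¹ ∈ upperUni F := by
  rw [upperUni_eq z hz, upperTri_mul_upperSL B hB, mul_inv_cancel_right]
  exact upperSL_mem _

theorem rootConj_mul_upperTri (g B : SpecialLinearGroup (Fin 2) F)
    (hB : (B : Matrix (Fin 2) (Fin 2) F) 1 0 = 0) : rootConj (g * B) = rootConj g := by
  have hB' : ((B⁻¹ : SpecialLinearGroup (Fin 2) F) : Matrix (Fin 2) (Fin 2) F) 1 0 = 0 := by
    rw [Matrix.SpecialLinearGroup.coe_inv, Matrix.adjugate_fin_two]
    simp [hB]
  ext x
  rw [mem_rootConj, mem_rootConj]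
  constructor
  · intro h
    have := upperTri_conj_mem_upperUni B _ hB h
    have e : B * ((g * B)⁻¹ * x * (g * B)) * B⁻¹ = g⁻¹ * x * g := by group
    rwa [e] at this
  · intro h
    have := upperTri_conj_mem_upperUni B⁻¹ _ hB' h
    have e : B⁻¹ * (g⁻¹ * x * g) * B⁻¹⁻¹ = (g * B)⁻¹ * x * (g * B) := by group
    rwa [e] at this

/-- **standard position**: a subgroup of `SL₂(F)` with more than one Sylow `p`-subgroup can be
conjugated so as to contain nontrivial upper and lower root elements -/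
theorem exists_conj_standard (L : Subgroup (SpecialLinearGroup (Fin 2) F))
    (hN1 : 1 < Nat.card (Sylow p L)) :
    ∃ (c : SpecialLinearGroup (Fin 2) F) (ζ η : F), ζ ≠ 0 ∧ η ≠ 0 ∧
      c * upperSL ζ * c⁻¹ ∈ L ∧ c * lowerSL η * c⁻¹ ∈ L := by
  classical
  haveI : Nontrivial (Sylow p L) := Finite.one_lt_card_iff_nontrivial.mp hN1
  obtain ⟨P, Q, hPQ⟩ := exists_pair_ne (Sylow p L)
  -- both are of the form `L ∩ g U⁺ g⁻¹`
  obtain ⟨g1, hg1⟩ := exists_le_rootConj p ((P : Subgroup L).map L.subtype)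
    (P.isPGroup'.map L.subtype)
  obtain ⟨g2, hg2⟩ := exists_le_rootConj p ((Q : Subgroup L).map L.subtype)
    (Q.isPGroup'.map L.subtype)
  have hP : rootSub L g1 = (P : Subgroup L) :=
    P.is_maximal' (isPGroup_rootSub L p g1) (fun x hx => by
      rw [mem_rootSub]; exact hg1 (Subgroup.mem_map_of_mem L.subtype hx))
  have hQ : rootSub L g2 = (Q : Subgroup L) :=
    Q.is_maximal' (isPGroup_rootSub L p g2) (fun x hx => by
      rw [mem_rootSub]; exact hg2 (Subgroup.mem_map_of_mem L.subtype hx))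
  -- both are nontrivial
  have hcard : Nat.card (P : Subgroup L) = Nat.card (Q : Subgroup L) := by
    rw [Sylow.card_eq_multiplicity, Sylow.card_eq_multiplicity]
  have hPne : (P : Subgroup L) ≠ ⊥ := by
    intro hbot
    apply hPQ
    apply Sylow.ext
    have h1 : Nat.card (Q : Subgroup L) = 1 := by rw [← hcard, hbot, Subgroup.card_bot]
    rw [hbot, Subgroup.card_eq_one.mp h1]
  have hQne : (Q : Subgroup L) ≠ ⊥ := by
    intro hbot
    apply hPQ
    apply Sylow.ext
    have h1 : Nat.card (P : Subgroup L) = 1 := by rw [hcard, hbot, Subgroup.card_bot]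
    rw [hbot, Subgroup.card_eq_one.mp h1]
  obtain ⟨x, hxP, hx1⟩ : ∃ x ∈ (P : Subgroup L), x ≠ 1 := by
    by_contra hcon
    push Not at hcon
    exact hPne ((Subgroup.eq_bot_iff_forall _).mpr hcon)
  obtain ⟨y, hyQ, hy1⟩ : ∃ y ∈ (Q : Subgroup L), y ≠ 1 := by
    by_contra hcon
    push Not at hcon
    exact hQne ((Subgroup.eq_bot_iff_forall _).mpr hcon)
  rw [← hP, mem_rootSub, mem_rootConj_iff_exists] at hxP
  rw [← hQ, mem_rootSub, mem_rootConj_iff_exists] at hyQ
  obtain ⟨ζ, hζ⟩ := hxP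
  obtain ⟨ξ, hξ⟩ := hyQ
  have hζ0 : ζ ≠ 0 := by
    intro h0
    apply hx1
    apply Subtype.ext
    rw [hζ, h0, upperSL_zero, mul_one, mul_inv_cancel]; rfl
  have hξ0 : ξ ≠ 0 := by
    intro h0
    apply hy1
    apply Subtype.ext
    rw [hξ, h0, upperSL_zero, mul_one, mul_inv_cancel]; rfl
  by_cases h10 : ((g1⁻¹ * g2 : SpecialLinearGroup (Fin 2) F) : Matrix (Fin 2) (Fin 2) F) 1 0 = 0
  · exfalso
    apply hPQ
    apply Sylow.ext
    rw [← hP, ← hQ]
    have : rootConj g2 = rootConj g1 := by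
      have e : g2 = g1 * (g1⁻¹ * g2) := by group
      rw [e, rootConj_mul_upperTri g1 _ h10]
    unfold rootSub
    rw [this]
  · obtain ⟨s, B, hB0, hgB⟩ := sl2_bruhat _ h10
    have hdet := B.2
    rw [Matrix.det_fin_two, hB0, mul_zero, sub_zero] at hdet
    have hB00 : (B : Matrix (Fin 2) (Fin 2) F) 0 0 ≠ 0 := by
      intro h; rw [h, zero_mul] at hdet; exact zero_ne_one hdet
    refine ⟨g1 * upperSL s, ζ, -((B : Matrix (Fin 2) (Fin 2) F) 0 0 ^ 2 * ξ), hζ0,
      neg_ne_zero.mpr (mul_ne_zero (pow_ne_zero 2 hB00) hξ0), ?_, ?_⟩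
    · have e : g1 * upperSL s * upperSL ζ * (g1 * upperSL s)⁻¹ = g1 * upperSL ζ * g1⁻¹ := by
        rw [_root_.mul_inv_rev, upperSL_inv]
        calc g1 * upperSL s * upperSL ζ * (upperSL (-s) * g1⁻¹)
            = g1 * (upperSL s * upperSL ζ * upperSL (-s)) * g1⁻¹ := by group
          _ = g1 * upperSL ζ * g1⁻¹ := by
              rw [upperSL_mul, upperSL_mul]; congr 3; ring
      rw [e, ← hζ]; exact x.2
    · have hg2 : g2 = g1 * upperSL s * wSL 1 one_ne_zero * B := by
        have e : g2 = g1 * (g1⁻¹ * g2) := by group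
        rw [e, hgB]; group
      have hw := wSL_conj_upperSL (1 : F) one_ne_zero
        ((B : Matrix (Fin 2) (Fin 2) F) 0 0 ^ 2 * ξ)
      rw [one_pow, div_one] at hw
      have e : g1 * upperSL s * lowerSL (-((B : Matrix (Fin 2) (Fin 2) F) 0 0 ^ 2 * ξ)) *
          (g1 * upperSL s)⁻¹ = g2 * upperSL ξ * g2⁻¹ := by
        rw [← hw, hg2]
        have hBu := upperTri_mul_upperSL B hB0 ξ
        have e2 : upperSL ((B : Matrix (Fin 2) (Fin 2) F) 0 0 ^ 2 * ξ) = B * upperSL ξ * B⁻¹ := by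
          rw [hBu, mul_inv_cancel_right]
        rw [e2]; group
      rw [e, ← hξ]; exact y.2

end standard

section final

variable {F : Type*} [Field F] [Fintype F] (p : ℕ) [Fact p.Prime] [CharP F p]

/-- **Dickson, part C**: a subgroup `L` of `SL₂(F)` with `1 < #Syl_p(L) = |U| + 1` has image in
`PSL₂(F)` isomorphic to `PSL₂(K)` or `PGL₂(K)`, `K` a finite field with `|K|^m = |F|`. -/
theorem dickson_subfield_case (L : Subgroup (SpecialLinearGroup (Fin 2) F)) (U : Sylow p L)
    (hN1 : 1 < Nat.card (Sylow p L)) (hN : Nat.card (Sylow p L) = Nat.card U + 1) :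
    ∃ (K : Type) (_ : Field K) (_ : Fintype K) (m : ℕ), Fintype.card K ^ m = Fintype.card F ∧
      (Nonempty (L.map (QuotientGroup.mk' (Subgroup.center (SpecialLinearGroup (Fin 2) F))) ≃*
          ProjectiveSpecialLinearGroup (Fin 2) K) ∨
        Nonempty (L.map (QuotientGroup.mk' (Subgroup.center (SpecialLinearGroup (Fin 2) F))) ≃*
          ProjGenLinGroup (Fin 2) K)) := by
  classical
  obtain ⟨c, ζ, η, hζ, hη, hcu, hcl⟩ := exists_conj_standard p L hN1
  -- the conjugate `L' = c⁻¹ L c`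
  obtain ⟨φ, hφ⟩ : ∃ φ : SpecialLinearGroup (Fin 2) F ≃* SpecialLinearGroup (Fin 2) F,
      φ = MulAut.conj c⁻¹ := ⟨_, rfl⟩
  obtain ⟨L', hL'⟩ : ∃ L' : Subgroup (SpecialLinearGroup (Fin 2) F),
      L' = L.map φ.toMonoidHom := ⟨_, rfl⟩
  have hmemL' : ∀ x, c * x * c⁻¹ ∈ L → x ∈ L' := by
    intro x hx
    rw [hL']
    refine ⟨c * x * c⁻¹, hx, ?_⟩
    rw [hφ]
    simp only [MulEquiv.coe_toMonoidHom, MulAut.conj_apply, inv_inv]
    group
  have e : L ≃* L' := by
    rw [hL']; exact L.equivMapOfInjective _ φ.injective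
  have hζ' : ζ ∈ rootSetU L' := (mem_rootSetU L' ζ).mpr (hmemL' _ hcu)
  have hη' : η ∈ rootSetL L' := (mem_rootSetL L' η).mpr (hmemL' _ hcl)
  obtain ⟨U'⟩ : Nonempty (Sylow p L') := inferInstance
  have hN' : Nat.card (Sylow p L') = Nat.card U' + 1 := by
    rw [← card_sylow_congr p e, hN, card_sylow_elem_congr p e U U']
  obtain ⟨hfix, hcard⟩ := fix_of_card_sylow p L' ζ η hζ' hζ hη' hη U' hN'
  obtain ⟨K, a, ha, hKU, hKL⟩ := rootSets_eq_of_fix L' ζ hζ' hζ hfix hcard
  -- an abstract copy of `K` in `Type`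
  haveI : Fintype K := Fintype.ofFinite K
  haveI : CharP K p := by
    refine (RingHom.charP_iff (K.subtype) K.subtype_injective p).mpr inferInstance
  obtain ⟨n, -, hn⟩ := FiniteField.card K p
  haveI : Fintype (GaloisField p n) := Fintype.ofFinite _
  have hcardK : Fintype.card (GaloisField p n) = Fintype.card K := by
    rw [hn, ← Nat.card_eq_fintype_card, GaloisField.card p n n.ne_zero]
  obtain ⟨e0⟩ : Nonempty (GaloisField p n ≃+* K) := ⟨FiniteField.ringEquivOfCardEq hcardK⟩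
  obtain ⟨ι, hι⟩ : ∃ ι : GaloisField p n →+* F, ι = K.subtype.comp e0.toRingHom := ⟨_, rfl⟩
  have hιK : ∀ k : GaloisField p n, ι k ∈ K := by
    intro k; rw [hι]; exact (e0 k).2
  have hιsurj : ∀ x ∈ K, ∃ k : GaloisField p n, ι k = x := by
    intro x hx
    refine ⟨e0.symm ⟨x, hx⟩, ?_⟩
    rw [hι]
    simp
  have hA : ∀ x, x ∈ rootSetU L' ↔ ∃ k : GaloisField p n, x = a * ι k := by
    intro x
    rw [hKU]
    constructor
    · rintro ⟨k, hk, rfl⟩
      obtain ⟨k0, hk0⟩ := hιsurj k hk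
      exact ⟨k0, by rw [hk0]⟩
    · rintro ⟨k0, rfl⟩
      exact ⟨ι k0, hιK k0, rfl⟩
  have hB : ∀ x, x ∈ rootSetL L' ↔ ∃ k : GaloisField p n, x = a⁻¹ * ι k := by
    intro x
    rw [hKL]
    constructor
    · rintro ⟨k, hk, rfl⟩
      obtain ⟨k0, hk0⟩ := hιsurj k hk
      exact ⟨k0, by rw [hk0]⟩
    · rintro ⟨k0, rfl⟩
      exact ⟨ι k0, hιK k0, rfl⟩
  have hiso := iso_of_standard ι a ha L' hA hB hfix
  -- cardinalities
  have hm : Fintype.card (GaloisField p n) ^
      (@Module.finrank (GaloisField p n) F _ _ ι.toAlgebra.toModule) = Fintype.card F := by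
    letI := ι.toAlgebra
    exact (Module.card_eq_pow_finrank (K := GaloisField p n) (V := F)).symm
  refine ⟨GaloisField p n, inferInstance, inferInstance, _, hm, ?_⟩
  -- transport back to `L`
  obtain ⟨ψ, hψ⟩ : ∃ ψ : ProjectiveSpecialLinearGroup (Fin 2) F ≃*
      ProjectiveSpecialLinearGroup (Fin 2) F,
      ψ = MulAut.conj ((QuotientGroup.mk c⁻¹ : ProjectiveSpecialLinearGroup (Fin 2) F)) :=
    ⟨_, rfl⟩
  have hmap : L'.map (QuotientGroup.mk' (Subgroup.center (SpecialLinearGroup (Fin 2) F))) =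
      (L.map (QuotientGroup.mk' (Subgroup.center (SpecialLinearGroup (Fin 2) F)))).map
        ψ.toMonoidHom := by
    rw [hL', Subgroup.map_map, Subgroup.map_map]
    congr 1
    ext x
    rw [hφ, hψ]
    simp only [MonoidHom.coe_comp, Function.comp_apply, MulEquiv.coe_toMonoidHom,
      MulAut.conj_apply, QuotientGroup.mk'_apply, QuotientGroup.mk_mul, QuotientGroup.mk_inv]
  have e' : L.map (QuotientGroup.mk' (Subgroup.center (SpecialLinearGroup (Fin 2) F))) ≃*
      L'.map (QuotientGroup.mk' (Subgroup.center (SpecialLinearGroup (Fin 2) F))) :=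
    ((L.map (QuotientGroup.mk' (Subgroup.center (SpecialLinearGroup (Fin 2) F)))).equivMapOfInjective
      _ ψ.injective).trans (MulEquiv.subgroupCongr hmap.symm)
  rcases hiso with ⟨⟨h⟩⟩ | ⟨⟨h⟩⟩
  · exact Or.inl ⟨e'.trans h⟩
  · exact Or.inr ⟨e'.trans h⟩

end final

end Cfsg.Agent.Helper41
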