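import Cfsg.Agent.Lib.Helper51.CTCount11
import Cfsg.Agent.Lib.Helper59.SL2Sub

/-!
# The Sylow count of a subgroup of `SL₂(F)` (odd characteristic)

Instantiation of helper51's abstract counting theorem `Hyp.main` with helper59's verification
of the hypotheses for subgroups of `SL₂(F)`.
-/

set_option autoImplicit false

namespace Cfsg.Agent.Helper41

open Cfsg.Agent.Helper59.SL2Sub Cfsg.Agent.Helper51.CT

variable {F : Type*} [Field F] [Fintype F] (p : ℕ) [Fact p.Prime] [CharP F p]

theorem sl2_sub_hyp (hp : p ≠ 2) (L : Subgroup (Matrix.SpecialLinearGroup (Fin 2) F)) :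
    Hyp p (ZL L) where
  central := ZL_le_center L
  coprimeZ := by
    rw [Nat.coprime_comm]
    exact (Nat.Prime.coprime_iff_not_dvd (Fact.out)).mpr (not_dvd_card_ZL p L hp)
  comm := fun x hx y w hy hw => subgroup_H1 L x hx y w hy hw
  normIdx := fun x hx hnd => subgroup_H2 p L hp x hx hnd
  pcent := fun x hx hd => subgroup_H3 p L hp x hx hd

theorem sl2_sub_hypB (hp : p ≠ 2) (L : Subgroup (Matrix.SpecialLinearGroup (Fin 2) F))
    (U : Sylow p L) (hne : (U : Subgroup L) ≠ ⊥) : HypB p (ZL L) (U : Subgroup L) where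
  centLe := fun c hc hc' => subgroup_H5 p L hp U c hc hc'
  commMem := fun a b ha hb => subgroup_H6 p L U hne a b ha hb

/-- **Sylow count** for subgroups of `SL₂(F)`, `F` finite of odd characteristic `p`. -/
theorem sl2_sub_card_sylow (hp : p ≠ 2) (L : Subgroup (Matrix.SpecialLinearGroup (Fin 2) F))
    (U : Sylow p L) (hN : 1 < Nat.card (Sylow p L)) :
    Nat.card (Sylow p L) = Nat.card (U : Subgroup L) + 1 ∨
      (p = 3 ∧ ∀ y : L, ((y ^ 2 : L) : Matrix.SpecialLinearGroup (Fin 2) F) ∈
          Subgroup.center (Matrix.SpecialLinearGroup (Fin 2) F) ∨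
        ((y ^ 3 : L) : Matrix.SpecialLinearGroup (Fin 2) F) ∈
          Subgroup.center (Matrix.SpecialLinearGroup (Fin 2) F) ∨
        ((y ^ 5 : L) : Matrix.SpecialLinearGroup (Fin 2) F) ∈
          Subgroup.center (Matrix.SpecialLinearGroup (Fin 2) F)) := by
  have hne : (U : Subgroup L) ≠ ⊥ := by
    intro hbot
    -- if U = ⊥ then all Sylow p-subgroups are trivial, so there is only one
    have : Nat.card (Sylow p L) ≤ 1 := by
      haveI : Subsingleton (Sylow p L) := by
        refine ⟨fun P Q => ?_⟩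
        obtain ⟨g, hg⟩ := MulAction.exists_smul_eq L U P
        obtain ⟨g', hg'⟩ := MulAction.exists_smul_eq L U Q
        have hP : (P : Subgroup L) = ⊥ := by
          rw [← hg, Sylow.coe_subgroup_smul, hbot, Subgroup.smul_bot]
        have hQ : (Q : Subgroup L) = ⊥ := by
          rw [← hg', Sylow.coe_subgroup_smul, hbot, Subgroup.smul_bot]
        exact Sylow.ext (hP.trans hQ.symm)
      exact Finite.card_le_one_iff_subsingleton.mpr this
    omega
  rcases (sl2_sub_hyp p hp L).main hp U hN (sl2_sub_hypB p hp L U hne) with h | ⟨h3, h⟩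
  · exact Or.inl h
  · exact Or.inr ⟨h3, fun y => h y⟩

end Cfsg.Agent.Helper41
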