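import Mathlib
import Cfsg.Agent.Lib.Helper41.IcosaPSL2
import Cfsg.Agent.Lib.Helper41.PSL2Gens

set_option autoImplicit false

/-!
# The exceptional case of Dickson's generation lemma

* `homOf_sl2_injective`: a homomorphism from the binary icosahedral presentation `P120` to
  `SL₂(F)` sending the central generator to `-1` and `gy` to a non-central element is injective.
* `card_closure_exc`: in characteristic `3`, if `λ² = -1` then `⟨l(1), u(λ)⟩` has order `120`.
-/

namespace Cfsg.Agent.Helper41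

open Matrix

section exc

variable {F : Type*} [Field F]

/-- trace a root of `x² - x - 1` gives fifth power `-1` -/
theorem pow_five_eq_neg_one_of_trace (M : Matrix (Fin 2) (Fin 2) F) (h : M.det = 1)
    (htr : M.trace ^ 2 - M.trace - 1 = 0) : M ^ 5 = -1 := by
  rw [pow_five_of_det_one M h]
  have h1 : M.trace ^ 4 - 3 * M.trace ^ 2 + 1 = 0 := by
    linear_combination (M.trace ^ 2 + M.trace - 1) * htr
  have h2 : -(M.trace ^ 3 - 2 * M.trace) = -1 := by
    linear_combination (-1 - M.trace) * htr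
  rw [h1, h2, zero_smul, zero_add, neg_smul, one_smul]

/-- A homomorphism from the binary icosahedral presentation to `SL₂(F)` (odd characteristic)
mapping the central generator to `-1` and `gy` to a non-central element is injective. -/
theorem homOf_sl2_injective (h2 : (2 : F) ≠ 0) (X Y : SpecialLinearGroup (Fin 2) F)
    (h1 : X ^ 3 = 1) (h2' : Y ^ 5 = 1) (h3 : (-1 : SpecialLinearGroup (Fin 2) F) ^ 2 = 1)
    (h4 : X * (-1) = (-1) * X) (h5 : Y * (-1) = (-1) * Y) (h6 : (X * Y) ^ 2 = -1)
    (hY : ¬ ((Y : Matrix (Fin 2) (Fin 2) F) = 1 ∨ (Y : Matrix (Fin 2) (Fin 2) F) = -1)) :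
    Function.Injective (Cfsg.Agent.Helper56.homOf X Y (-1) h1 h2' h3 h4 h5 h6) := by
  haveI : Fact (Nat.Prime 5) := ⟨by norm_num⟩
  set ψ0 : Cfsg.Agent.Helper56.P120 →* SpecialLinearGroup (Fin 2) F :=
    Cfsg.Agent.Helper56.homOf X Y (-1) h1 h2' h3 h4 h5 h6 with hψ0
  let θ' : SpecialLinearGroup (Fin 2) (ZMod 5) →* SpecialLinearGroup (Fin 2) F :=
    ψ0.comp Cfsg.Agent.Helper56.presEquiv.symm.toMonoidHom
  let ψ1 : SpecialLinearGroup (Fin 2) (ZMod 5) →* ProjectiveSpecialLinearGroup (Fin 2) F :=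
    (QuotientGroup.mk' (Subgroup.center (SpecialLinearGroup (Fin 2) F))).comp θ'
  have hgz : Cfsg.Agent.Helper56.presEquiv.symm (-1) = Cfsg.Agent.Helper56.gz := by
    rw [MulEquiv.symm_apply_eq]
    show (-1 : SpecialLinearGroup (Fin 2) (ZMod 5)) = Cfsg.Agent.Helper56.φ5 Cfsg.Agent.Helper56.gz
    rw [Cfsg.Agent.Helper56.φ5, Cfsg.Agent.Helper56.homOf_gz]
  have hgy : Cfsg.Agent.Helper56.presEquiv.symm Cfsg.Agent.Helper56.Y5 =
      Cfsg.Agent.Helper56.gy := by
    rw [MulEquiv.symm_apply_eq]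
    show Cfsg.Agent.Helper56.Y5 = Cfsg.Agent.Helper56.φ5 Cfsg.Agent.Helper56.gy
    rw [Cfsg.Agent.Helper56.φ5, Cfsg.Agent.Helper56.homOf_gy]
  have hθneg : θ' (-1) = -1 := by
    show ψ0 (Cfsg.Agent.Helper56.presEquiv.symm (-1)) = -1
    rw [hgz, hψ0, Cfsg.Agent.Helper56.homOf_gz]
  have hθY : θ' Cfsg.Agent.Helper56.Y5 = Y := by
    show ψ0 (Cfsg.Agent.Helper56.presEquiv.symm Cfsg.Agent.Helper56.Y5) = Y
    rw [hgy, hψ0, Cfsg.Agent.Helper56.homOf_gy]
  have hψ1neg : ψ1 (-1) = 1 := by
    show (QuotientGroup.mk (θ' (-1)) : ProjectiveSpecialLinearGroup (Fin 2) F) = 1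
    rw [hθneg, psl2_mk_eq_one_iff]
    right
    simp
  have hker : Subgroup.center (SpecialLinearGroup (Fin 2) (ZMod 5)) ≤ ψ1.ker := by
    intro g hg
    rw [sl2_mem_center_iff] at hg
    rw [MonoidHom.mem_ker]
    rcases hg with h | h
    · have : g = 1 := Subtype.ext h
      rw [this, map_one]
    · have : g = -1 := Subtype.ext (by rw [h]; simp)
      rw [this, hψ1neg]
  let ψ2 : ProjectiveSpecialLinearGroup (Fin 2) (ZMod 5) →*
      ProjectiveSpecialLinearGroup (Fin 2) F :=
    QuotientGroup.lift (Subgroup.center (SpecialLinearGroup (Fin 2) (ZMod 5))) ψ1 hker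
  obtain ⟨e⟩ := Cfsg.Agent.S0253.result (F := ZMod 5) (ZMod.card 5)
  haveI : IsSimpleGroup (alternatingGroup (Fin 5)) :=
    alternatingGroup.isSimpleGroup (by simp)
  haveI : IsSimpleGroup (ProjectiveSpecialLinearGroup (Fin 2) (ZMod 5)) := e.isSimpleGroup
  have hinj2 : Function.Injective ψ2 := by
    rw [← MonoidHom.ker_eq_bot_iff]
    rcases (ψ2.normal_ker).eq_bot_or_eq_top with h | h
    · exact h
    · exfalso
      have hmem : (QuotientGroup.mk Cfsg.Agent.Helper56.Y5 :
          ProjectiveSpecialLinearGroup (Fin 2) (ZMod 5)) ∈ ψ2.ker := by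
        rw [h]
        trivial
      rw [MonoidHom.mem_ker] at hmem
      have hval : ψ2 (QuotientGroup.mk Cfsg.Agent.Helper56.Y5) =
          (QuotientGroup.mk (θ' Cfsg.Agent.Helper56.Y5) :
            ProjectiveSpecialLinearGroup (Fin 2) F) := rfl
      rw [hval, hθY, psl2_mk_eq_one_iff] at hmem
      exact hY hmem
  -- injectivity of `θ'`
  have hinjθ : Function.Injective θ' := by
    rw [injective_iff_map_eq_one]
    intro g hg
    have h1' : ψ2 (QuotientGroup.mk g) = 1 := by
      show (QuotientGroup.mk (θ' g) : ProjectiveSpecialLinearGroup (Fin 2) F) = 1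
      rw [hg]; rfl
    have h2'' : (QuotientGroup.mk g : ProjectiveSpecialLinearGroup (Fin 2) (ZMod 5)) = 1 :=
      hinj2 (by rw [h1', map_one])
    rw [psl2_mk_eq_one_iff] at h2''
    rcases h2'' with h | h
    · exact Subtype.ext h
    · exfalso
      have : g = -1 := Subtype.ext (by rw [h]; simp)
      rw [this, hθneg] at hg
      have h00 := congrArg (fun M : SpecialLinearGroup (Fin 2) F =>
        (M : Matrix (Fin 2) (Fin 2) F) 0 0) hg
      simp at h00
      apply h2
      linear_combination -h00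
  intro a b hab
  have : θ' (Cfsg.Agent.Helper56.presEquiv a) = θ' (Cfsg.Agent.Helper56.presEquiv b) := by
    show ψ0 (Cfsg.Agent.Helper56.presEquiv.symm (Cfsg.Agent.Helper56.presEquiv a)) =
      ψ0 (Cfsg.Agent.Helper56.presEquiv.symm (Cfsg.Agent.Helper56.presEquiv b))
    rw [MulEquiv.symm_apply_apply, MulEquiv.symm_apply_apply, hab]
  exact Cfsg.Agent.Helper56.presEquiv.injective (hinjθ this)

end exc

section card

variable {F : Type*} [Field F]

/-- In characteristic `3`, for `λ² = -1`, the group `⟨l(1), u(λ)⟩` has order `120`. -/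
theorem card_closure_exc (h3 : (3 : F) = 0) (lam : F) (hlam : lam ^ 2 = -1) :
    Nat.card (Subgroup.closure
      ({lowerSL (1 : F), upperSL lam} : Set (SpecialLinearGroup (Fin 2) F))) = 120 := by
  have h2 : (2 : F) ≠ 0 := by
    intro h
    have : (1 : F) = 0 := by linear_combination h3 - h
    exact one_ne_zero this
  obtain ⟨a, ha⟩ : ∃ a : SpecialLinearGroup (Fin 2) F, a = lowerSL 1 := ⟨_, rfl⟩
  obtain ⟨b, hb⟩ : ∃ b : SpecialLinearGroup (Fin 2) F, b = upperSL lam := ⟨_, rfl⟩
  rw [← ha, ← hb]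
  have hM : ((a * b : SpecialLinearGroup (Fin 2) F) : Matrix (Fin 2) (Fin 2) F) =
      !![1, lam; 1, 1 + lam] := by
    rw [Matrix.SpecialLinearGroup.coe_mul]
    ext i j
    fin_cases i <;> fin_cases j <;>
      simp [ha, hb, upperSL, lowerSL, Matrix.mul_apply, Fin.sum_univ_two]
    ring
  have hMdet : ((a * b : SpecialLinearGroup (Fin 2) F) : Matrix (Fin 2) (Fin 2) F).det = 1 :=
    (a * b).2
  have hMtr : ((a * b : SpecialLinearGroup (Fin 2) F) : Matrix (Fin 2) (Fin 2) F).trace =
      2 + lam := by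
    rw [hM, Matrix.trace_fin_two_of]; ring
  have hM5 : ((a * b : SpecialLinearGroup (Fin 2) F) : Matrix (Fin 2) (Fin 2) F) ^ 5 = -1 := by
    apply pow_five_eq_neg_one_of_trace _ hMdet
    rw [hMtr]
    linear_combination hlam + lam * h3
  have hM5' : (a * b) ^ 5 = -1 := by
    apply Subtype.ext
    rw [Matrix.SpecialLinearGroup.coe_pow, hM5]
    simp
  obtain ⟨X, hX⟩ : ∃ X : SpecialLinearGroup (Fin 2) F, X = a := ⟨_, rfl⟩
  obtain ⟨Y, hY⟩ : ∃ Y : SpecialLinearGroup (Fin 2) F, Y = (a * b) ^ 2 := ⟨_, rfl⟩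
  have hX3 : (X : Matrix (Fin 2) (Fin 2) F) ^ 3 = 1 := by
    apply pow_three_eq_one_of_trace _ X.2
    rw [hX, ha]
    simp only [lowerSL, Matrix.trace_fin_two_of]
    linear_combination h3
  have hY5 : (Y : Matrix (Fin 2) (Fin 2) F) ^ 5 = 1 := by
    rw [hY, Matrix.SpecialLinearGroup.coe_pow, ← pow_mul]
    have : 2 * 5 = 5 * 2 := by norm_num
    rw [this, pow_mul, hM5]
    simp
  have hYmat : (Y : Matrix (Fin 2) (Fin 2) F) =
      !![1 + lam, 2 * lam - 1; 2 + lam, 0] := by
    rw [hY, Matrix.SpecialLinearGroup.coe_pow, hM, pow_two]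
    ext i j
    fin_cases i <;> fin_cases j <;>
      simp [Matrix.mul_apply, Fin.sum_univ_two]
    · linear_combination hlam
    · ring
    · linear_combination hlam + lam * h3
  have hXYtr : ((X : Matrix (Fin 2) (Fin 2) F) * Y).trace = 0 := by
    rw [hYmat, hX, ha]
    simp only [lowerSL]
    rw [Matrix.trace_fin_two]
    simp [Matrix.mul_apply, Fin.sum_univ_two]
    linear_combination lam * h3
  have hXYdet : ((X : Matrix (Fin 2) (Fin 2) F) * Y).det = 1 := by
    rw [Matrix.det_mul, X.2, Y.2, one_mul]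
  have hXY2 : ((X : Matrix (Fin 2) (Fin 2) F) * Y) ^ 2 = -1 := by
    rw [pow_two]
    exact mul_self_of_trace_zero _ hXYdet hXYtr
  obtain ⟨r1, r2, r3, r4, r5, r6⟩ := Cfsg.Agent.Helper56.sl_rels X Y hX3 hY5 hXY2
  have hYnc : ¬ ((Y : Matrix (Fin 2) (Fin 2) F) = 1 ∨ (Y : Matrix (Fin 2) (Fin 2) F) = -1) := by
    have h10 : (Y : Matrix (Fin 2) (Fin 2) F) 1 0 ≠ 0 := by
      rw [hYmat]
      simp only [Matrix.of_apply, Matrix.cons_val', Matrix.cons_val_zero, Matrix.cons_val_one]
      intro h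
      have hl : lam = 1 := by linear_combination h - h3
      rw [hl] at hlam
      apply h2
      linear_combination hlam
    rintro (h | h)
    · apply h10; rw [h]; simp
    · apply h10; rw [h]; simp
  have hinj := homOf_sl2_injective h2 X Y r1 r2 r3 r4 r5 r6 hYnc
  set ψ0 := Cfsg.Agent.Helper56.homOf X Y (-1) r1 r2 r3 r4 r5 r6 with hψ0
  have hrange : ψ0.range = Subgroup.closure ({X, Y, -1} : Set (SpecialLinearGroup (Fin 2) F)) := by
    rw [MonoidHom.range_eq_map, ← Cfsg.Agent.Helper56.closure_gens, MonoidHom.map_closure]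
    congr 1
    rw [Set.image_insert_eq, Set.image_insert_eq, Set.image_singleton, hψ0,
      Cfsg.Agent.Helper56.homOf_gx, Cfsg.Agent.Helper56.homOf_gy, Cfsg.Agent.Helper56.homOf_gz]
  have hcl : Subgroup.closure ({X, Y, -1} : Set (SpecialLinearGroup (Fin 2) F)) =
      Subgroup.closure ({a, b} : Set (SpecialLinearGroup (Fin 2) F)) := by
    apply le_antisymm
    · rw [Subgroup.closure_le]
      have haL : a ∈ Subgroup.closure ({a, b} : Set (SpecialLinearGroup (Fin 2) F)) :=
        Subgroup.subset_closure (by simp)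
      have hbL : b ∈ Subgroup.closure ({a, b} : Set (SpecialLinearGroup (Fin 2) F)) :=
        Subgroup.subset_closure (by simp)
      have hXL : X ∈ Subgroup.closure ({a, b} : Set (SpecialLinearGroup (Fin 2) F)) := by
        rw [hX]; exact haL
      have hYL : Y ∈ Subgroup.closure ({a, b} : Set (SpecialLinearGroup (Fin 2) F)) := by
        rw [hY]
        exact Subgroup.pow_mem _ (Subgroup.mul_mem _ haL hbL) 2
      intro x hx
      simp only [Set.mem_insert_iff, Set.mem_singleton_iff] at hx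
      rcases hx with h | h | h
      · rw [h]; exact hXL
      · rw [h]; exact hYL
      · rw [h, ← r6]
        exact Subgroup.pow_mem _ (Subgroup.mul_mem _ hXL hYL) 2
    · rw [Subgroup.closure_le]
      have hXC : X ∈ Subgroup.closure ({X, Y, -1} : Set (SpecialLinearGroup (Fin 2) F)) :=
        Subgroup.subset_closure (by simp)
      have hYC : Y ∈ Subgroup.closure ({X, Y, -1} : Set (SpecialLinearGroup (Fin 2) F)) :=
        Subgroup.subset_closure (by simp)
      have hNC : (-1 : SpecialLinearGroup (Fin 2) F) ∈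
          Subgroup.closure ({X, Y, -1} : Set (SpecialLinearGroup (Fin 2) F)) :=
        Subgroup.subset_closure (by simp)
      have hab : a * b = (-1) * Y ^ 3 := by
        have e : Y ^ 3 = (a * b) ^ 5 * (a * b) := by
          rw [hY, ← pow_mul, ← pow_succ]
        rw [e, hM5', ← mul_assoc]
        have : (-1 : SpecialLinearGroup (Fin 2) F) * (-1) = 1 := by
          rw [← pow_two]; exact r3
        rw [this, one_mul]
      intro x hx
      simp only [Set.mem_insert_iff, Set.mem_singleton_iff] at hx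
      rcases hx with h | h
      · rw [h, ← hX]; exact hXC
      · have hb' : b = a⁻¹ * (a * b) := by group
        rw [h, hb', hab, ← hX]
        exact Subgroup.mul_mem _ (Subgroup.inv_mem _ hXC)
          (Subgroup.mul_mem _ hNC (Subgroup.pow_mem _ hYC 3))
  rw [← hcl, ← hrange]
  rw [← Cfsg.Agent.Helper56.card_P120]
  exact (Nat.card_congr (MonoidHom.ofInjective hinj).toEquiv).symm

end card

end Cfsg.Agent.Helper41
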