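import Cfsg.Agent.Lib.Helper41.DicksonUse4

/-!
# Using Dickson's theorem, VI: metabelian groups

`IsMetab G`: commutators of `G` commute.  Cyclic groups, dihedral groups and the Sylow
`p`-normalizers of `PSL₂(F)` are metabelian; `S₄` is not.
-/

set_option autoImplicit false

namespace Cfsg.Agent.Helper41

open Matrix
open scoped commutatorElement

section basic

/-- commutators commute -/
def IsMetab (G : Type*) [Group G] : Prop :=
  ∀ x y z w : G, ⁅x, y⁆ * ⁅z, w⁆ = ⁅z, w⁆ * ⁅x, y⁆

variable {G H : Type*} [Group G] [Group H]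

theorem IsMetab.of_injective (f : G →* H) (hf : Function.Injective f) (h : IsMetab H) :
    IsMetab G := by
  intro x y z w
  apply hf
  rw [map_mul, map_mul, map_commutatorElement, map_commutatorElement]
  exact h _ _ _ _

theorem IsMetab.of_surjective (f : G →* H) (hf : Function.Surjective f) (h : IsMetab G) :
    IsMetab H := by
  intro x y z w
  obtain ⟨x, rfl⟩ := hf x
  obtain ⟨y, rfl⟩ := hf y
  obtain ⟨z, rfl⟩ := hf z
  obtain ⟨w, rfl⟩ := hf w
  rw [← map_commutatorElement, ← map_commutatorElement, ← map_mul, ← map_mul, h]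

theorem IsMetab.of_mulEquiv (e : G ≃* H) (h : IsMetab H) : IsMetab G :=
  IsMetab.of_injective e.toMonoidHom e.injective h

theorem IsMetab.subgroup (K : Subgroup G) (h : IsMetab G) : IsMetab K :=
  IsMetab.of_injective K.subtype K.subtype_injective h

theorem isMetab_of_comm (h : ∀ x y : G, x * y = y * x) : IsMetab G := by
  intro x y z w
  exact h _ _

theorem isMetab_of_isCyclic [IsCyclic G] : IsMetab G := by
  apply isMetab_of_comm
  obtain ⟨g, hg⟩ := IsCyclic.exists_generator (α := G)
  intro x y
  obtain ⟨i, rfl⟩ := hg x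
  obtain ⟨j, rfl⟩ := hg y
  rw [← _root_.zpow_add, ← _root_.zpow_add, add_comm]

theorem isMetab_of_ker_le_range {A C : Type*} [CommGroup A] [CommGroup C] (f : A →* G)
    (g : G →* C) (h : g.ker ≤ f.range) : IsMetab G := by
  have key : ∀ x y : G, ∃ a : A, f a = ⁅x, y⁆ := by
    intro x y
    apply h
    rw [MonoidHom.mem_ker, map_commutatorElement, commutatorElement_def]
    rw [mul_comm (g x) (g y), mul_assoc, mul_assoc, mul_inv_cancel_left, mul_inv_cancel]
  intro x y z w
  obtain ⟨a, ha⟩ := key x y
  obtain ⟨b, hb⟩ := key z w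
  rw [← ha, ← hb, ← map_mul, ← map_mul, mul_comm]

theorem isMetab_dihedral (k : ℕ) : IsMetab (DihedralGroup k) := by
  let g : DihedralGroup k →* ℤˣ :=
    { toFun := fun x => match x with
        | DihedralGroup.r _ => 1
        | DihedralGroup.sr _ => -1
      map_one' := rfl
      map_mul' := by
        rintro (i | i) (j | j) <;> simp }
  let f : Multiplicative (ZMod k) →* DihedralGroup k :=
    { toFun := fun i => DihedralGroup.r (Multiplicative.toAdd i)
      map_one' := rfl
      map_mul' := by
        intro i j
        simp }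
  refine isMetab_of_ker_le_range f g ?_
  rintro (i | i) hx
  · exact ⟨Multiplicative.ofAdd i, rfl⟩
  · rw [MonoidHom.mem_ker] at hx
    have : (-1 : ℤˣ) = 1 := hx
    exact absurd this (by decide)

theorem not_isMetab_perm4 : ¬ IsMetab (Equiv.Perm (Fin 4)) := by
  intro h
  have := h (Equiv.swap 0 1) (Equiv.swap 1 2) (Equiv.swap 0 1) (Equiv.swap 1 3)
  revert this
  decide

end basic

section borel

variable {F : Type*} [Field F]

theorem isMetab_borel : IsMetab (Cfsg.Agent.Helper40.borel F) := by
  let g : Cfsg.Agent.Helper40.borel F →* Fˣ :=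
    { toFun := fun b => Units.mk0 ((b : SpecialLinearGroup (Fin 2) F).1 0 0)
        (Cfsg.Agent.Helper40.g00_ne_zero_of_g10 b.1 ((Cfsg.Agent.Helper40.mem_borel _).mp b.2))
      map_one' := by
        apply Units.ext
        simp
      map_mul' := by
        intro a b
        apply Units.ext
        have ha := (Cfsg.Agent.Helper40.mem_borel _).mp a.2
        simp only [Subgroup.coe_mul, Units.val_mk0, Units.val_mul]
        rw [Matrix.SpecialLinearGroup.coe_mul, Matrix.mul_apply, Fin.sum_univ_two]
        have hb := (Cfsg.Agent.Helper40.mem_borel _).mp b.2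
        rw [hb, mul_zero, add_zero] }
  let f : Multiplicative F →* Cfsg.Agent.Helper40.borel F :=
    { toFun := fun t => ⟨upperSL (Multiplicative.toAdd t), by
        rw [Cfsg.Agent.Helper40.mem_borel]; simp [upperSL]⟩
      map_one' := by
        apply Subtype.ext
        exact upperSL_zero
      map_mul' := by
        intro a b
        apply Subtype.ext
        simp only [toAdd_mul, Subgroup.coe_mul]
        exact (upperSL_mul _ _).symm }
  refine isMetab_of_ker_le_range f g ?_
  intro b hb
  rw [MonoidHom.mem_ker] at hb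
  have h00 : (b : SpecialLinearGroup (Fin 2) F).1 0 0 = 1 := by
    have := congrArg Units.val hb
    simpa [g] using this
  have h10 := (Cfsg.Agent.Helper40.mem_borel _).mp b.2
  have hdet := (b : SpecialLinearGroup (Fin 2) F).2
  rw [Matrix.det_fin_two, h10, mul_zero, sub_zero, h00, one_mul] at hdet
  refine ⟨Multiplicative.ofAdd ((b : SpecialLinearGroup (Fin 2) F).1 0 1), ?_⟩
  apply Subtype.ext
  apply Subtype.ext
  ext i j
  fin_cases i <;> fin_cases j <;> simp [f, upperSL, h00, h10, hdet]

theorem isMetab_borelP : IsMetab (borelP F) := by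
  unfold borelP
  exact IsMetab.of_surjective
    ((QuotientGroup.mk' (Subgroup.center (SpecialLinearGroup (Fin 2) F))).subgroupMap
      (Cfsg.Agent.Helper40.borel F))
    (MonoidHom.subgroupMap_surjective _ _) isMetab_borel

variable [Fintype F] (p : ℕ) [Fact p.Prime] [CharP F p]

/-- Sylow `p`-normalizers of `PSL₂(F)` are metabelian -/
theorem isMetab_normalizer_sylow (P : Sylow p (ProjectiveSpecialLinearGroup (Fin 2) F)) :
    IsMetab (Subgroup.normalizer ((P : Subgroup (ProjectiveSpecialLinearGroup (Fin 2) F)) :
      Set (ProjectiveSpecialLinearGroup (Fin 2) F))) := by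
  obtain ⟨g, rfl⟩ := MulAction.exists_smul_eq (ProjectiveSpecialLinearGroup (Fin 2) F) (sylP p) P
  have h1 : ((g • sylP p : Sylow p (ProjectiveSpecialLinearGroup (Fin 2) F)) :
      Subgroup (ProjectiveSpecialLinearGroup (Fin 2) F)) =
      ((sylP p : Sylow p (ProjectiveSpecialLinearGroup (Fin 2) F)) :
        Subgroup (ProjectiveSpecialLinearGroup (Fin 2) F)).map (MulAut.conj g).toMonoidHom := rfl
  rw [h1, ← Subgroup.map_equiv_normalizer_eq, normalizer_sylP]
  exact IsMetab.of_surjective ((MulAut.conj g).toMonoidHom.subgroupMap (borelP F))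
    (MonoidHom.subgroupMap_surjective _ _) isMetab_borelP

end borel

end Cfsg.Agent.Helper41
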