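import Cfsg.Agent.Lib.Helper41.DicksonC3
import Cfsg.Agent.Lib.Helper40.SL2
import Cfsg.Agent.Lib.Helper98.PSL2Card

/-!
# Using Dickson's theorem, I: the Borel subgroup of `PSL₂(F)` and Sylow `p`-normalizers

* `borelP F`: the image of the upper triangular group in `PSL₂(F)`; `index_borelP = q + 1`;
* `sylP p`: the standard Sylow `p`-subgroup of `PSL₂(F)`; `normalizer_sylP = borelP F`;
* `index_normalizer_sylow`: every Sylow `p`-normalizer of `PSL₂(F)` has index `q + 1`;
* `isSolvable_normalizer_sylow`: Sylow `p`-normalizers of `PSL₂(F)` are solvable.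
-/

set_option autoImplicit false

namespace Cfsg.Agent.Helper41

open Matrix

section borel

variable {F : Type*} [Field F]

/-- the Borel subgroup of `PSL₂(F)` -/
def borelP (F : Type*) [Field F] : Subgroup (ProjectiveSpecialLinearGroup (Fin 2) F) :=
  (Cfsg.Agent.Helper40.borel F).map
    (QuotientGroup.mk' (Subgroup.center (SpecialLinearGroup (Fin 2) F)))

theorem center_le_borel :
    Subgroup.center (SpecialLinearGroup (Fin 2) F) ≤ Cfsg.Agent.Helper40.borel F := by
  intro z hz
  rw [Cfsg.Agent.Helper40.mem_borel]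
  rcases (sl2_mem_center_iff z).mp hz with h | h <;> rw [h] <;> simp

theorem mk_mem_borelP_iff (x : SpecialLinearGroup (Fin 2) F) :
    (QuotientGroup.mk x : ProjectiveSpecialLinearGroup (Fin 2) F) ∈ borelP F ↔
      (x : Matrix (Fin 2) (Fin 2) F) 1 0 = 0 := by
  rw [← Cfsg.Agent.Helper40.mem_borel]
  constructor
  · rintro ⟨y, hy, hxy⟩
    have hz : y⁻¹ * x ∈ Subgroup.center (SpecialLinearGroup (Fin 2) F) :=
      QuotientGroup.eq.mp hxy
    have : x = y * (y⁻¹ * x) := by group
    rw [this]
    exact (Cfsg.Agent.Helper40.borel F).mul_mem hy (center_le_borel hz)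
  · intro hx
    exact ⟨x, hx, rfl⟩

theorem index_borelP [Fintype F] : (borelP F).index = Fintype.card F + 1 := by
  unfold borelP
  rw [Subgroup.index_map, QuotientGroup.ker_mk', sup_eq_left.mpr center_le_borel,
    MonoidHom.range_eq_top.mpr (QuotientGroup.mk'_surjective _), Subgroup.index_top, mul_one]
  have h1 := Subgroup.card_mul_index (Cfsg.Agent.Helper40.borel F)
  rw [Cfsg.Agent.Helper40.card_SL2_eq] at h1
  have hpos : 0 < Nat.card (Cfsg.Agent.Helper40.borel F) := Nat.card_pos
  apply Nat.eq_of_mul_eq_mul_left hpos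
  rw [h1]; ring

/-- the Borel subgroup of `SL₂(F)` is solvable -/
theorem isSolvable_borel : Group.IsSolvable (Cfsg.Agent.Helper40.borel F) := by
  -- the diagonal character
  let g : Cfsg.Agent.Helper40.borel F →* Fˣ :=
    { toFun := fun b => Units.mk0 ((b : SpecialLinearGroup (Fin 2) F).1 0 0)
        (Cfsg.Agent.Helper40.g00_ne_zero_of_g10 b.1 ((Cfsg.Agent.Helper40.mem_borel _).mp b.2))
      map_one' := by
        apply Units.ext
        simp
      map_mul' := by
        intro a b
        apply Units.ext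
        have ha := (Cfsg.Agent.Helper40.mem_borel _).mp a.2
        simp only [Subgroup.coe_mul, Units.val_mk0, Units.val_mul]
        rw [Matrix.SpecialLinearGroup.coe_mul, Matrix.mul_apply, Fin.sum_univ_two]
        have hb := (Cfsg.Agent.Helper40.mem_borel _).mp b.2
        rw [hb, mul_zero, add_zero] }
  let f : Multiplicative F →* Cfsg.Agent.Helper40.borel F :=
    { toFun := fun t => ⟨upperSL (Multiplicative.toAdd t), by
        rw [Cfsg.Agent.Helper40.mem_borel]; simp [upperSL]⟩
      map_one' := by
        apply Subtype.ext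
        exact upperSL_zero
      map_mul' := by
        intro a b
        apply Subtype.ext
        simp only [toAdd_mul, Subgroup.coe_mul]
        exact (upperSL_mul _ _).symm }
  refine solvable_of_ker_le_range f g ?_
  intro b hb
  rw [MonoidHom.mem_ker] at hb
  have h00 : (b : SpecialLinearGroup (Fin 2) F).1 0 0 = 1 := by
    have := congrArg Units.val hb
    simpa [g] using this
  have h10 := (Cfsg.Agent.Helper40.mem_borel _).mp b.2
  have hdet := (b : SpecialLinearGroup (Fin 2) F).2
  rw [Matrix.det_fin_two, h10, mul_zero, sub_zero, h00, one_mul] at hdet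
  refine ⟨Multiplicative.ofAdd ((b : SpecialLinearGroup (Fin 2) F).1 0 1), ?_⟩
  apply Subtype.ext
  apply Subtype.ext
  ext i j
  fin_cases i <;> fin_cases j <;> simp [f, upperSL, h00, h10, hdet]

theorem isSolvable_borelP : Group.IsSolvable (borelP F) := by
  haveI := isSolvable_borel (F := F)
  unfold borelP
  exact Group.isSolvable_of_surjective
    (f := ((QuotientGroup.mk' (Subgroup.center (SpecialLinearGroup (Fin 2) F))).subgroupMap
      (Cfsg.Agent.Helper40.borel F)))
    (MonoidHom.subgroupMap_surjective _ _)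

end borel

section sylow

variable {F : Type*} [Field F] [Fintype F] (p : ℕ) [Fact p.Prime] [CharP F p]

/-- the standard Sylow `p`-subgroup of `PSL₂(F)` -/
noncomputable def sylP : Sylow p (ProjectiveSpecialLinearGroup (Fin 2) F) :=
  (Cfsg.Agent.Helper5.slUSylow p).mapSurjective
    (QuotientGroup.mk'_surjective (Subgroup.center (SpecialLinearGroup (Fin 2) F)))

theorem coe_sylP : ((sylP p : Sylow p (ProjectiveSpecialLinearGroup (Fin 2) F)) :
    Subgroup (ProjectiveSpecialLinearGroup (Fin 2) F)) =
    (Cfsg.Agent.Helper5.slU F).map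
      (QuotientGroup.mk' (Subgroup.center (SpecialLinearGroup (Fin 2) F))) := rfl

theorem mem_slU_iff_upperUni (x : SpecialLinearGroup (Fin 2) F) :
    x ∈ Cfsg.Agent.Helper5.slU F ↔ x ∈ upperUni F := by
  rw [Cfsg.Agent.Helper59.SL2Sub.mem_slU_iff', mem_upperUni]

/-- the normalizer of the standard Sylow `p`-subgroup is the Borel subgroup -/
theorem normalizer_sylP :
    Subgroup.normalizer (((sylP p : Sylow p (ProjectiveSpecialLinearGroup (Fin 2) F)) :
      Subgroup (ProjectiveSpecialLinearGroup (Fin 2) F)) :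
      Set (ProjectiveSpecialLinearGroup (Fin 2) F)) = borelP F := by
  ext y
  obtain ⟨x, rfl⟩ := QuotientGroup.mk_surjective y
  rw [mk_mem_borelP_iff]
  constructor
  · intro hx
    rw [Subgroup.mem_normalizer_iff] at hx
    have h1 : (QuotientGroup.mk (upperSL (1 : F)) : ProjectiveSpecialLinearGroup (Fin 2) F) ∈
        ((sylP p : Sylow p (ProjectiveSpecialLinearGroup (Fin 2) F)) :
          Subgroup (ProjectiveSpecialLinearGroup (Fin 2) F)) := by
      rw [coe_sylP]
      exact ⟨upperSL 1, (mem_slU_iff_upperUni _).mpr (upperSL_mem 1), rfl⟩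
    have h2 := (hx _).mp h1
    rw [coe_sylP] at h2
    obtain ⟨v, hv, hvx⟩ := h2
    have hvx' : (QuotientGroup.mk v : ProjectiveSpecialLinearGroup (Fin 2) F) =
        QuotientGroup.mk (x * upperSL 1 * x⁻¹) := by
      rw [QuotientGroup.mk_mul, QuotientGroup.mk_mul, QuotientGroup.mk_inv]; exact hvx
    have hz : v⁻¹ * (x * upperSL 1 * x⁻¹) ∈ Subgroup.center (SpecialLinearGroup (Fin 2) F) :=
      QuotientGroup.eq.mp hvx'
    have hv' := (mem_slU_iff_upperUni _).mp hv
    have hprod : x * upperSL 1 * x⁻¹ = v * (v⁻¹ * (x * upperSL 1 * x⁻¹)) := by group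
    have h10 : ((x * upperSL 1 * x⁻¹ : SpecialLinearGroup (Fin 2) F) :
        Matrix (Fin 2) (Fin 2) F) 1 0 = 0 := by
      rw [hprod, Matrix.SpecialLinearGroup.coe_mul]
      rcases (sl2_mem_center_iff _).mp hz with h | h
      · rw [h, mul_one]; exact hv'.2.1
      · rw [h, mul_neg, mul_one, Matrix.neg_apply, hv'.2.1, neg_zero]
    rw [conj_upperSL_apply] at h10
    simp at h10
    exact h10
  · intro hx
    rw [Subgroup.mem_normalizer_iff]
    have key : ∀ (b : SpecialLinearGroup (Fin 2) F), (b : Matrix (Fin 2) (Fin 2) F) 1 0 = 0 →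
        ∀ h ∈ ((sylP p : Sylow p (ProjectiveSpecialLinearGroup (Fin 2) F)) :
          Subgroup (ProjectiveSpecialLinearGroup (Fin 2) F)),
        (QuotientGroup.mk b : ProjectiveSpecialLinearGroup (Fin 2) F) * h *
          (QuotientGroup.mk b)⁻¹ ∈
          ((sylP p : Sylow p (ProjectiveSpecialLinearGroup (Fin 2) F)) :
            Subgroup (ProjectiveSpecialLinearGroup (Fin 2) F)) := by
      intro b hb h hh
      rw [coe_sylP] at hh ⊢
      obtain ⟨v, hv, rfl⟩ := hh
      refine ⟨b * v * b⁻¹, ?_, ?_⟩
      · have hv' : v ∈ Cfsg.Agent.Helper5.slU F := hv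
        show b * v * b⁻¹ ∈ Cfsg.Agent.Helper5.slU F
        rw [mem_slU_iff_upperUni] at hv' ⊢
        exact upperTri_conj_mem_upperUni b v hb hv'
      · simp
    intro h
    constructor
    · exact key x hx h
    · intro hh
      have hx' : ((x⁻¹ : SpecialLinearGroup (Fin 2) F) : Matrix (Fin 2) (Fin 2) F) 1 0 = 0 := by
        rw [Matrix.SpecialLinearGroup.coe_inv, Matrix.adjugate_fin_two]
        simp [hx]
      have := key x⁻¹ hx' _ hh
      rw [QuotientGroup.mk_inv] at this
      have e : ((QuotientGroup.mk x : ProjectiveSpecialLinearGroup (Fin 2) F))⁻¹ *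
          (QuotientGroup.mk x * h * (QuotientGroup.mk x)⁻¹) *
          ((QuotientGroup.mk x : ProjectiveSpecialLinearGroup (Fin 2) F))⁻¹⁻¹ = h := by group
      rwa [e] at this

/-- every Sylow `p`-normalizer of `PSL₂(F)` has index `q + 1` -/
theorem index_normalizer_sylow (P : Sylow p (ProjectiveSpecialLinearGroup (Fin 2) F)) :
    (Subgroup.normalizer ((P : Subgroup (ProjectiveSpecialLinearGroup (Fin 2) F)) :
      Set (ProjectiveSpecialLinearGroup (Fin 2) F))).index = Fintype.card F + 1 := by
  have hP : Nat.card (Sylow p (ProjectiveSpecialLinearGroup (Fin 2) F)) =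
      (Subgroup.normalizer ((P : Subgroup (ProjectiveSpecialLinearGroup (Fin 2) F)) :
        Set (ProjectiveSpecialLinearGroup (Fin 2) F))).index := Sylow.card_eq_index_normalizer P
  have hP0 : Nat.card (Sylow p (ProjectiveSpecialLinearGroup (Fin 2) F)) =
      (Subgroup.normalizer (((sylP p : Sylow p (ProjectiveSpecialLinearGroup (Fin 2) F)) :
        Subgroup (ProjectiveSpecialLinearGroup (Fin 2) F)) :
        Set (ProjectiveSpecialLinearGroup (Fin 2) F))).index :=
    Sylow.card_eq_index_normalizer (sylP p)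
  rw [← hP, hP0, normalizer_sylP, index_borelP]

theorem card_normalizer_sylow_mul (P : Sylow p (ProjectiveSpecialLinearGroup (Fin 2) F)) :
    Nat.card (Subgroup.normalizer ((P : Subgroup (ProjectiveSpecialLinearGroup (Fin 2) F)) :
      Set (ProjectiveSpecialLinearGroup (Fin 2) F))) * (Fintype.card F + 1) =
      Nat.card (ProjectiveSpecialLinearGroup (Fin 2) F) := by
  rw [← index_normalizer_sylow p P]
  exact Subgroup.card_mul_index _

/-- Sylow `p`-normalizers of `PSL₂(F)` are solvable -/
theorem isSolvable_normalizer_sylow (P : Sylow p (ProjectiveSpecialLinearGroup (Fin 2) F)) :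
    Group.IsSolvable (Subgroup.normalizer ((P : Subgroup (ProjectiveSpecialLinearGroup (Fin 2) F)) :
      Set (ProjectiveSpecialLinearGroup (Fin 2) F))) := by
  obtain ⟨g, rfl⟩ := MulAction.exists_smul_eq (ProjectiveSpecialLinearGroup (Fin 2) F) (sylP p) P
  have h1 : ((g • sylP p : Sylow p (ProjectiveSpecialLinearGroup (Fin 2) F)) :
      Subgroup (ProjectiveSpecialLinearGroup (Fin 2) F)) =
      ((sylP p : Sylow p (ProjectiveSpecialLinearGroup (Fin 2) F)) :
        Subgroup (ProjectiveSpecialLinearGroup (Fin 2) F)).map (MulAut.conj g).toMonoidHom := rfl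
  rw [h1, ← Subgroup.map_equiv_normalizer_eq, normalizer_sylP]
  haveI := isSolvable_borelP (F := F)
  exact Group.isSolvable_of_surjective
    (f := ((MulAut.conj g).toMonoidHom.subgroupMap (borelP F)))
    (MonoidHom.subgroupMap_surjective _ _)

end sylow

end Cfsg.Agent.Helper41
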