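import Cfsg.Agent.Lib.Helper41.DicksonUse1
import Cfsg.Agent.Lib.Helper19.MoebiusPGL

/-!
# Using Dickson's theorem, II: order bounds

`DicksonConcl q p H` is the conclusion of Dickson's theorem (statement S0799) for a subgroup `H` of
`PSL₂(F)`.  We show that for `q ∉ {2, 3, 5, 7, 9, 11}` it forces `|H| ≤ q (q - 1) / d` for proper
`H` (Galois' minimal index theorem).
-/

set_option autoImplicit false

namespace Cfsg.Agent.Helper41

open Matrix

/-- the conclusion of Dickson's theorem (statement S0799) -/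
def DicksonConcl {F : Type*} [Field F] [Fintype F] (q p : ℕ)
    (H : Subgroup (Matrix.ProjectiveSpecialLinearGroup (Fin 2) F)) : Prop :=
  (∃ k : ℕ, (k ∣ (q + 1) / Nat.gcd 2 (q - 1) ∨ k ∣ (q - 1) / Nat.gcd 2 (q - 1)) ∧ ((IsCyclic H ∧ Nat.card H = k) ∨ Nonempty (H ≃* DihedralGroup k))) ∨ (∃ (P : Sylow p (Matrix.ProjectiveSpecialLinearGroup (Fin 2) F)) (K : Subgroup (Matrix.ProjectiveSpecialLinearGroup (Fin 2) F)), K ≤ Subgroup.normalizer ((P : Subgroup (Matrix.ProjectiveSpecialLinearGroup (Fin 2) F)) : Set (Matrix.ProjectiveSpecialLinearGroup (Fin 2) F)) ∧ Nonempty (H ≃* K)) ∨ Nonempty (H ≃* alternatingGroup (Fin 4)) ∨ Nonempty (H ≃* Equiv.Perm (Fin 4)) ∨ Nonempty (H ≃* alternatingGroup (Fin 5)) ∨ (∃ (K : Type) (_ : Field K) (_ : Fintype K) (m : ℕ), Fintype.card K ^ m = q ∧ (Nonempty (H ≃* Matrix.ProjectiveSpecialLinearGroup (Fin 2) K) ∨ Nonempty (H ≃* Matrix.ProjGenLinGroup (Fin 2) K)))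

section cards

theorem card_alternatingGroup_four : Nat.card (alternatingGroup (Fin 4)) = 12 := by
  rw [Nat.card_eq_fintype_card]
  have h := two_mul_card_alternatingGroup (α := Fin 4)
  rw [Fintype.card_perm, Fintype.card_fin] at h
  have : Nat.factorial 4 = 24 := by decide
  omega

theorem card_perm_four : Nat.card (Equiv.Perm (Fin 4)) = 24 := by
  rw [Nat.card_eq_fintype_card, Fintype.card_perm, Fintype.card_fin]
  decide

variable {F : Type*} [Field F] [Fintype F]

theorem card_borelP_mul : Nat.card (borelP F) * (Fintype.card F + 1) =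
    Nat.card (ProjectiveSpecialLinearGroup (Fin 2) F) := by
  rw [← index_borelP]
  exact Subgroup.card_mul_index _

/-- `|B| = q (q - 1) / d` : odd case -/
theorem two_mul_card_borelP_of_odd {q : ℕ} (hF : Fintype.card F = q) (hodd : Odd q) :
    2 * Nat.card (borelP F) = q * (q - 1) := by
  have h1 := card_borelP_mul (F := F)
  have h2 := Cfsg.Agent.Helper98.PSL2Card.card_psl2_odd hF hodd
  rw [← h1, hF] at h2
  have hq1 : 1 ≤ q := by rw [← hF]; exact Fintype.card_pos
  have e : q ^ 2 - 1 = (q - 1) * (q + 1) := by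
    obtain ⟨r, rfl⟩ := Nat.exists_eq_add_of_le hq1
    have : (1 + r) ^ 2 - 1 = (1 + r - 1) * (1 + r + 1) := by
      rw [Nat.add_sub_cancel_left]
      have : (1 + r) ^ 2 = r * (1 + r + 1) + 1 := by ring
      rw [this, Nat.add_sub_cancel]
    exact this
  rw [e] at h2
  have h3 : (q + 1) * (2 * Nat.card (borelP F)) = (q + 1) * (q * (q - 1)) := by
    calc (q + 1) * (2 * Nat.card (borelP F)) = Nat.card (borelP F) * (q + 1) * 2 := by ring
      _ = (q - 1) * (q + 1) * q := h2
      _ = (q + 1) * (q * (q - 1)) := by ring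
  exact Nat.eq_of_mul_eq_mul_left (by omega) h3

/-- `|B| = q (q - 1) / d` : even case -/
theorem card_borelP_of_even {q : ℕ} (hF : Fintype.card F = q) (heven : Even q) :
    Nat.card (borelP F) = q * (q - 1) := by
  have h1 := card_borelP_mul (F := F)
  have h2 := Cfsg.Agent.Helper98.PSL2Card.card_psl2_even hF heven
  rw [← h1, hF] at h2
  have hq1 : 1 ≤ q := by rw [← hF]; exact Fintype.card_pos
  have e : q ^ 2 - 1 = (q - 1) * (q + 1) := by
    obtain ⟨r, rfl⟩ := Nat.exists_eq_add_of_le hq1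
    have : (1 + r) ^ 2 - 1 = (1 + r - 1) * (1 + r + 1) := by
      rw [Nat.add_sub_cancel_left]
      have : (1 + r) ^ 2 = r * (1 + r + 1) + 1 := by ring
      rw [this, Nat.add_sub_cancel]
    exact this
  rw [e] at h2
  have h3 : (q + 1) * Nat.card (borelP F) = (q + 1) * (q * (q - 1)) := by
    calc (q + 1) * Nat.card (borelP F) = Nat.card (borelP F) * (q + 1) := by ring
      _ = (q - 1) * (q + 1) * q := h2
      _ = (q + 1) * (q * (q - 1)) := by ring
  exact Nat.eq_of_mul_eq_mul_left (by omega) h3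

theorem gcd_two_of_odd {q : ℕ} (hodd : Odd q) : Nat.gcd 2 (q - 1) = 2 := by
  obtain ⟨m, rfl⟩ := hodd
  apply Nat.gcd_eq_left
  exact ⟨m, by omega⟩

theorem gcd_two_of_even {q : ℕ} (heven : Even q) (hq : 1 ≤ q) : Nat.gcd 2 (q - 1) = 1 := by
  obtain ⟨m, rfl⟩ := heven
  have : Nat.Coprime 2 (m + m - 1) := by
    rw [Nat.coprime_two_left]
    exact ⟨m - 1, by omega⟩
  exact this

/-- `d * |B| = q (q - 1)` in all cases -/
theorem gcd_mul_card_borelP {q : ℕ} (hF : Fintype.card F = q) :
    Nat.gcd 2 (q - 1) * Nat.card (borelP F) = q * (q - 1) := by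
  have hq1 : 1 ≤ q := by rw [← hF]; exact Fintype.card_pos
  rcases Nat.even_or_odd q with h | h
  · rw [gcd_two_of_even h hq1, one_mul, card_borelP_of_even hF h]
  · rw [gcd_two_of_odd h, two_mul_card_borelP_of_odd hF h]

/-- `|PSL₂(K)| ≤ |PGL₂(K)|` -/
theorem card_psl2_le_card_pgl2 (K : Type*) [Field K] [Fintype K] :
    Nat.card (ProjectiveSpecialLinearGroup (Fin 2) K) ≤ Nat.card (ProjGenLinGroup (Fin 2) K) := by
  classical
  haveI : Finite (ProjGenLinGroup (Fin 2) K) :=
    Finite.of_surjective _ (ProjGenLinGroup.mk_surjective (n := Fin 2) (R := K))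
  exact Nat.card_le_card_of_injective _ ProjectiveSpecialLinearGroup.toPGL_injective

/-- `|PGL₂(K)| = k (k² - 1)` -/
theorem card_pgl2_eq (K : Type*) [Field K] [Fintype K] :
    Nat.card (ProjGenLinGroup (Fin 2) K) =
      (Fintype.card K - 1) * Fintype.card K * (Fintype.card K + 1) := by
  classical
  have hk : 1 ≤ Fintype.card K := Fintype.card_pos
  obtain ⟨k, hk'⟩ := Nat.exists_eq_add_of_le hk
  have h := Cfsg.Agent.Helper19.Moebius.card_pgl2 (K := K) k (by omega)
  rw [h, hk']
  have : 1 + k - 1 = k := by omega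
  rw [this]; ring

end cards

end Cfsg.Agent.Helper41
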