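import Cfsg.Agent.Lib.Helper41.DicksonUse2

/-!
# Using Dickson's theorem, III: Galois' minimal index theorem

For `q ∉ {2, 3, 5, 7, 9, 11}`, Dickson's list forces every proper subgroup of `PSL₂(q)` to have
order at most `q (q - 1) / d`, i.e. index at least `q + 1`.
-/

set_option autoImplicit false

namespace Cfsg.Agent.Helper41

open Matrix

section galois

variable {F : Type*} [Field F] [Fintype F]

/-- the three size regimes -/
theorem borel_trichotomy {q : ℕ} (hF : Fintype.card F = q)
    (hq : q ∉ ({2, 3, 5, 7, 9, 11} : Finset ℕ)) :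
    (q = 4 ∧ Nat.card (borelP F) = 12 ∧
        Nat.card (ProjectiveSpecialLinearGroup (Fin 2) F) = 60) ∨
      (q = 8 ∧ Nat.card (borelP F) = 56 ∧
        Nat.card (ProjectiveSpecialLinearGroup (Fin 2) F) = 504) ∨
      (13 ≤ q ∧ 60 ≤ Nat.card (borelP F)) := by
  have hq2 : 2 ≤ q := by rw [← hF]; exact Fintype.one_lt_card
  simp only [Finset.mem_insert, Finset.mem_singleton, not_or] at hq
  obtain ⟨h2, h3, h5, h7, h9, h11⟩ := hq
  have hmul := card_borelP_mul (F := F)
  rw [hF] at hmul
  rcases Nat.even_or_odd q with he | ho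
  · have hM := card_borelP_of_even hF he
    -- `q` is a power of two
    obtain ⟨p, hpc⟩ := CharP.exists F
    haveI := hpc
    haveI : Fact p.Prime := ⟨CharP.char_is_prime F p⟩
    obtain ⟨n, -, hn⟩ := FiniteField.card F p
    rw [hF] at hn
    have hp2 : p = 2 := by
      have h2q : 2 ∣ p ^ (n : ℕ) := by rw [← hn]; exact even_iff_two_dvd.mp he
      have := (Nat.Prime.dvd_of_dvd_pow Nat.prime_two h2q)
      exact ((Nat.prime_dvd_prime_iff_eq Nat.prime_two (Fact.out)).mp this).symm
    rw [hp2] at hn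
    have hn1 : 1 ≤ (n : ℕ) := n.pos
    rcases Nat.lt_or_ge (n : ℕ) 4 with hlt | hge
    · have hcases : (n : ℕ) = 1 ∨ (n : ℕ) = 2 ∨ (n : ℕ) = 3 := by omega
      rcases hcases with h | h | h
      · rw [h] at hn; exact absurd hn h2
      · rw [h] at hn
        have hq4 : q = 4 := by rw [hn]; norm_num
        left
        refine ⟨hq4, ?_, ?_⟩
        · rw [hM, hq4]
        · rw [← hmul, hM, hq4]
      · rw [h] at hn
        have hq8 : q = 8 := by rw [hn]; norm_num
        right; left
        refine ⟨hq8, ?_, ?_⟩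
        · rw [hM, hq8]
        · rw [← hmul, hM, hq8]
    · right; right
      have h16 : 16 ≤ q := by
        rw [hn]
        calc 16 = 2 ^ 4 := by norm_num
          _ ≤ 2 ^ (n : ℕ) := Nat.pow_le_pow_right (by norm_num) hge
      refine ⟨by omega, ?_⟩
      rw [hM]
      have : 16 * 15 ≤ q * (q - 1) := Nat.mul_le_mul h16 (by omega)
      omega
  · right; right
    have h13 : 13 ≤ q := by
      obtain ⟨m, rfl⟩ := ho
      omega
    refine ⟨h13, ?_⟩
    have hM := two_mul_card_borelP_of_odd hF ho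
    have : 13 * 12 ≤ q * (q - 1) := Nat.mul_le_mul h13 (by omega)
    omega

/-- **Galois**: Dickson's list bounds the order of proper subgroups of `PSL₂(q)` -/
theorem card_le_borelP_of_dickson {q : ℕ} (hF : Fintype.card F = q) (p : ℕ) [Fact p.Prime]
    [CharP F p] (hq : q ∉ ({2, 3, 5, 7, 9, 11} : Finset ℕ))
    (H : Subgroup (ProjectiveSpecialLinearGroup (Fin 2) F)) (hH : H ≠ ⊤)
    (hD : DicksonConcl q p H) : Nat.card H ≤ Nat.card (borelP F) := by
  classical
  have hq2 : 2 ≤ q := by rw [← hF]; exact Fintype.one_lt_card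
  have hq4 : 4 ≤ q := by
    simp only [Finset.mem_insert, Finset.mem_singleton, not_or] at hq
    omega
  have hdM := gcd_mul_card_borelP (F := F) hF
  have hmul := card_borelP_mul (F := F)
  rw [hF] at hmul
  obtain ⟨d, hd⟩ : ∃ d : ℕ, d = Nat.gcd 2 (q - 1) := ⟨_, rfl⟩
  rw [← hd] at hdM
  have hd1 : 1 ≤ d := by
    rw [hd]; exact Nat.gcd_pos_of_pos_left _ (by norm_num)
  have hd2 : d ≤ 2 := by
    rw [hd]; exact Nat.le_of_dvd (by norm_num) (Nat.gcd_dvd_left 2 (q - 1))
  have hcardle : Nat.card H ≤ Nat.card (ProjectiveSpecialLinearGroup (Fin 2) F) :=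
    Subgroup.card_le_card_group H
  have hne : Nat.card H ≠ Nat.card (ProjectiveSpecialLinearGroup (Fin 2) F) := by
    intro h
    exact hH (Subgroup.card_eq_iff_eq_top H |>.mp h)
  have hdvd : Nat.card H ∣ Nat.card (ProjectiveSpecialLinearGroup (Fin 2) F) :=
    Subgroup.card_subgroup_dvd_card H
  rcases hD with ⟨k, hk, hHk⟩ | ⟨P, K, hK, ⟨e⟩⟩ | ⟨⟨e⟩⟩ | ⟨⟨e⟩⟩ | ⟨⟨e⟩⟩ | ⟨K, _, _, m, hKm, hHK⟩
  · -- cyclic or dihedral
    rw [← hd] at hk
    have hkd : k * d ≤ q + 1 := by
      rcases hk with h | h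
      · have hpos : 0 < (q + 1) / d := Nat.div_pos (by omega) (by omega)
        have := Nat.le_of_dvd hpos h
        calc k * d ≤ (q + 1) / d * d := Nat.mul_le_mul_right d this
          _ ≤ q + 1 := Nat.div_mul_le_self _ _
      · have hpos : 0 < (q - 1) / d := Nat.div_pos (by omega) (by omega)
        have := Nat.le_of_dvd hpos h
        calc k * d ≤ (q - 1) / d * d := Nat.mul_le_mul_right d this
          _ ≤ q - 1 := Nat.div_mul_le_self _ _
          _ ≤ q + 1 := by omega
    have hcard : Nat.card H ≤ 2 * k := by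
      rcases hHk with ⟨-, h⟩ | ⟨⟨e⟩⟩
      · omega
      · rw [Nat.card_congr e.toEquiv, DihedralGroup.nat_card]
    have h1 : 2 * (q + 1) ≤ q * (q - 1) := by
      have : 4 * (q - 1) ≤ q * (q - 1) := Nat.mul_le_mul_right _ hq4
      omega
    have h2 : d * (2 * k) ≤ d * Nat.card (borelP F) := by
      rw [hdM]
      calc d * (2 * k) = 2 * (k * d) := by ring
        _ ≤ 2 * (q + 1) := Nat.mul_le_mul_left 2 hkd
        _ ≤ q * (q - 1) := h1
    have := Nat.le_of_mul_le_mul_left h2 (by omega)
    omega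
  · -- inside a Sylow normalizer
    rw [Nat.card_congr e.toEquiv]
    have h1 := Subgroup.card_le_of_le hK
    have h2 := card_normalizer_sylow_mul p P
    rw [hF, ← hmul] at h2
    have h3 := Nat.eq_of_mul_eq_mul_right (by omega) h2
    omega
  · -- A₄
    rw [Nat.card_congr e.toEquiv, card_alternatingGroup_four]
    rcases borel_trichotomy hF hq with ⟨-, h, -⟩ | ⟨-, h, -⟩ | ⟨-, h⟩ <;> omega
  · -- S₄
    rw [Nat.card_congr e.toEquiv, card_perm_four] at hdvd ⊢
    rcases borel_trichotomy hF hq with ⟨-, -, h⟩ | ⟨-, h, -⟩ | ⟨-, h⟩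
    · rw [h] at hdvd; omega
    · omega
    · omega
  · -- A₅
    rw [Nat.card_congr e.toEquiv, card_alternatingGroup_five] at hdvd hne ⊢
    rcases borel_trichotomy hF hq with ⟨-, -, h⟩ | ⟨-, -, h⟩ | ⟨-, h⟩
    · exact absurd h.symm hne
    · rw [h] at hdvd; omega
    · omega
  · -- subfield subgroups
    have hk2 : 2 ≤ Fintype.card K := Fintype.one_lt_card
    have hcard : Nat.card H ≤ Nat.card (ProjGenLinGroup (Fin 2) K) := by
      rcases hHK with ⟨⟨e⟩⟩ | ⟨⟨e⟩⟩
      · rw [Nat.card_congr e.toEquiv]; exact card_psl2_le_card_pgl2 K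
      · rw [Nat.card_congr e.toEquiv]
    rw [card_pgl2_eq K] at hcard
    rcases Nat.lt_or_ge m 2 with hm | hm
    · -- `m = 0` or `m = 1`
      have hm' : m = 0 ∨ m = 1 := by omega
      rcases hm' with rfl | rfl
      · rw [pow_zero] at hKm; omega
      · rw [pow_one] at hKm
        exfalso
        apply hne
        apply le_antisymm hcardle
        -- `|PSL₂(K)| = |PSL₂(F)|`
        have hpsl : Nat.card (ProjectiveSpecialLinearGroup (Fin 2) K) =
            Nat.card (ProjectiveSpecialLinearGroup (Fin 2) F) := by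
          rcases Nat.even_or_odd q with he | ho
          · rw [Cfsg.Agent.Helper98.PSL2Card.card_psl2_even hKm he,
              Cfsg.Agent.Helper98.PSL2Card.card_psl2_even hF he]
          · have h1 := Cfsg.Agent.Helper98.PSL2Card.card_psl2_odd hKm ho
            have h2 := Cfsg.Agent.Helper98.PSL2Card.card_psl2_odd hF ho
            omega
        rcases hHK with ⟨⟨e⟩⟩ | ⟨⟨e⟩⟩
        · rw [Nat.card_congr e.toEquiv, hpsl]
        · rw [Nat.card_congr e.toEquiv, ← hpsl]; exact card_psl2_le_card_pgl2 K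
    · -- `m ≥ 2`
      obtain ⟨k, hk⟩ : ∃ k : ℕ, k = Fintype.card K := ⟨_, rfl⟩
      rw [← hk] at hcard hKm hk2
      have hkk : k * k ≤ q := by
        rw [← hKm, ← pow_two]
        exact Nat.pow_le_pow_right (by omega) hm
      have h1 : (k - 1) * k * (k + 1) ≤ k * (q - 1) := by
        have : (k - 1) * (k + 1) ≤ q - 1 := by
          have e : (k - 1) * (k + 1) = k * k - 1 := by
            obtain ⟨r, rfl⟩ := Nat.exists_eq_add_of_le (show 1 ≤ k by omega)
            rw [Nat.add_sub_cancel_left]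
            have : (1 + r) * (1 + r) = r * (1 + r + 1) + 1 := by ring
            rw [this, Nat.add_sub_cancel]
          rw [e]; omega
        calc (k - 1) * k * (k + 1) = k * ((k - 1) * (k + 1)) := by ring
          _ ≤ k * (q - 1) := Nat.mul_le_mul_left k this
      have h2 : d * Nat.card H ≤ d * Nat.card (borelP F) := by
        rw [hdM]
        calc d * Nat.card H ≤ d * (k * (q - 1)) := Nat.mul_le_mul_left d (hcard.trans h1)
          _ = (d * k) * (q - 1) := by ring
          _ ≤ q * (q - 1) := by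
              apply Nat.mul_le_mul_right
              calc d * k ≤ 2 * k := Nat.mul_le_mul_right k hd2
                _ ≤ k * k := Nat.mul_le_mul_right k hk2
                _ ≤ q := hkk
      exact Nat.le_of_mul_le_mul_left h2 (by omega)

/-- every proper subgroup has index at least `q + 1` -/
theorem index_ge_of_dickson {q : ℕ} (hF : Fintype.card F = q) (p : ℕ) [Fact p.Prime]
    [CharP F p] (hq : q ∉ ({2, 3, 5, 7, 9, 11} : Finset ℕ))
    (H : Subgroup (ProjectiveSpecialLinearGroup (Fin 2) F)) (hH : H ≠ ⊤)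
    (hD : DicksonConcl q p H) : q + 1 ≤ H.index := by
  have h1 := card_le_borelP_of_dickson hF p hq H hH hD
  have h2 := Subgroup.card_mul_index H
  have h3 := card_borelP_mul (F := F)
  rw [hF] at h3
  by_contra hlt
  push Not at hlt
  have hpos : 0 < Nat.card H := Nat.card_pos
  have : Nat.card H * H.index < Nat.card (borelP F) * (q + 1) := by
    calc Nat.card H * H.index < Nat.card H * (q + 1) := Nat.mul_lt_mul_of_pos_left hlt hpos
      _ ≤ Nat.card (borelP F) * (q + 1) := Nat.mul_le_mul_right _ h1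
  rw [h2, h3] at this
  exact lt_irrefl _ this

end galois

end Cfsg.Agent.Helper41
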