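import Cfsg.Agent.Lib.Helper41.DicksonUse3
import Cfsg.Agent.S0144

/-!
# Using Dickson's theorem, IV: solvability tools

* `isSolvable_dihedral`, `isSolvable_of_card_two_three` (Burnside), `not_isSolvable_alt5`,
  `not_isSolvable_psl2`;
* `exists_nonsolvable_of_subfield`: a proper non-solvable subfield subgroup of `PSL₂(F)`;
* `exists_ringHom_galoisField`: subfields of finite fields.
-/

set_option autoImplicit false

namespace Cfsg.Agent.Helper41

open Matrix

section basic

/-- dihedral groups are solvable -/
theorem isSolvable_dihedral (k : ℕ) : Group.IsSolvable (DihedralGroup k) := by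
  let g : DihedralGroup k →* ℤˣ :=
    { toFun := fun x => match x with
        | DihedralGroup.r _ => 1
        | DihedralGroup.sr _ => -1
      map_one' := rfl
      map_mul' := by
        rintro (i | i) (j | j) <;> simp }
  let f : Multiplicative (ZMod k) →* DihedralGroup k :=
    { toFun := fun i => DihedralGroup.r (Multiplicative.toAdd i)
      map_one' := rfl
      map_mul' := by
        intro i j
        simp }
  refine Group.isSolvable_of_ker_le_range f g ?_
  rintro (i | i) hx
  · exact ⟨Multiplicative.ofAdd i, rfl⟩
  · rw [MonoidHom.mem_ker] at hx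
    have : (-1 : ℤˣ) = 1 := hx
    exact absurd this (by decide)

/-- groups of order `2^a 3^b` are solvable (Burnside) -/
theorem isSolvable_of_card_two_three {G : Type*} [Group G] [Finite G] (a b : ℕ)
    (h : Nat.card G = 2 ^ a * 3 ^ b) : Group.IsSolvable G :=
  Cfsg.Agent.S0144.result 2 3 a b Nat.prime_two Nat.prime_three h

theorem isSolvable_alt4 : Group.IsSolvable (alternatingGroup (Fin 4)) :=
  isSolvable_of_card_two_three 2 1 (by rw [card_alternatingGroup_four]; norm_num)

theorem isSolvable_perm4 : Group.IsSolvable (Equiv.Perm (Fin 4)) :=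
  isSolvable_of_card_two_three 3 1 (by rw [card_perm_four]; norm_num)

/-- `A₅` is not solvable -/
theorem not_isSolvable_alt5 : ¬ Group.IsSolvable (alternatingGroup (Fin 5)) := by
  intro h
  haveI := h
  have hS : Group.IsSolvable (Equiv.Perm (Fin 5)) :=
    Group.isSolvable_of_ker_le_range (alternatingGroup (Fin 5)).subtype
      (Equiv.Perm.sign (α := Fin 5)) (by rw [Subgroup.range_subtype]; exact le_of_eq rfl)
  exact Equiv.Perm.not_isSolvable_fin_5 hS

/-- solvability is invariant under isomorphism -/
theorem isSolvable_of_mulEquiv {G G' : Type*} [Group G] [Group G'] (e : G ≃* G')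
    (h : Group.IsSolvable G') : Group.IsSolvable G :=
  Group.isSolvable_of_isSolvable_injective (f := e.toMonoidHom) e.injective

end basic

section psl

variable {K : Type*} [Field K] [Fintype K]

/-- `PSL₂(K)` is not solvable for `|K| ≥ 4` -/
theorem not_isSolvable_psl2 (h : 4 ≤ Fintype.card K) :
    ¬ Group.IsSolvable (ProjectiveSpecialLinearGroup (Fin 2) K) := by
  intro hs
  haveI : IsSimpleGroup (ProjectiveSpecialLinearGroup (Fin 2) K) :=
    Matrix.ProjectiveSpecialLinearGroup.rank_two_simple
      (by rw [Nat.card_eq_fintype_card]; exact h)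
  have hc := (IsSimpleGroup.comm_iff_isSolvable
    (G := ProjectiveSpecialLinearGroup (Fin 2) K)).mpr hs
  exact not_commute_lG_uG (F := K) (hc _ _)

variable {F : Type*} [Field F] [Fintype F]

/-- a proper non-solvable subfield subgroup -/
theorem exists_nonsolvable_of_subfield (ι : K →+* F) (hK : 4 ≤ Fintype.card K)
    (hKF : Fintype.card K ^ 2 ≤ Fintype.card F) :
    ∃ R : Subgroup (ProjectiveSpecialLinearGroup (Fin 2) F), R ≠ ⊤ ∧ ¬ Group.IsSolvable R := by
  classical
  obtain ⟨φ, hφ⟩ : ∃ φ : SpecialLinearGroup (Fin 2) K →* ProjectiveSpecialLinearGroup (Fin 2) F,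
      φ = (QuotientGroup.mk' (Subgroup.center (SpecialLinearGroup (Fin 2) F))).comp
        (SpecialLinearGroup.map ι) := ⟨_, rfl⟩
  refine ⟨φ.range, ?_, ?_⟩
  · -- cardinality
    intro htop
    have h1 : Nat.card φ.range ≤ Nat.card (SpecialLinearGroup (Fin 2) K) :=
      Nat.card_le_card_of_surjective φ.rangeRestrict φ.rangeRestrict_surjective
    rw [htop, Nat.card_congr Subgroup.topEquiv.toEquiv, Cfsg.Agent.Helper40.card_SL2] at h1
    obtain ⟨k, hk⟩ : ∃ k : ℕ, k = Fintype.card K := ⟨_, rfl⟩
    obtain ⟨q, hq⟩ : ∃ q : ℕ, q = Fintype.card F := ⟨_, rfl⟩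
    rw [← hk] at h1 hK hKF
    rw [← hq] at hKF
    have hq16 : 16 ≤ q := by
      calc 16 = 4 ^ 2 := by norm_num
        _ ≤ k ^ 2 := Nat.pow_le_pow_left hK 2
        _ ≤ q := hKF
    have hG : (q ^ 2 - 1) * q ≤
        Nat.card (ProjectiveSpecialLinearGroup (Fin 2) F) * 2 := by
      rcases Nat.even_or_odd q with he | ho
      · rw [Cfsg.Agent.Helper98.PSL2Card.card_psl2_even hq.symm he]; omega
      · rw [Cfsg.Agent.Helper98.PSL2Card.card_psl2_odd hq.symm ho]
    have hb1 : k * (k - 1) * (k + 1) ≤ q * (q - 1) := by
      have h2 : k * (k - 1) ≤ q := by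
        calc k * (k - 1) ≤ k * k := Nat.mul_le_mul_left k (by omega)
          _ = k ^ 2 := (pow_two k).symm
          _ ≤ q := hKF
      have h3 : k + 1 ≤ q - 1 := by
        have : k * 4 ≤ k * k := Nat.mul_le_mul_left k hK
        have : k * k ≤ q := by rw [← pow_two]; exact hKF
        omega
      exact Nat.mul_le_mul h2 h3
    have hb2 : q * (q - 1) * 4 ≤ (q ^ 2 - 1) * q := by
      have e : q ^ 2 - 1 = (q - 1) * (q + 1) := by
        obtain ⟨r, rfl⟩ := Nat.exists_eq_add_of_le (show 1 ≤ q by omega)
        rw [Nat.add_sub_cancel_left]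
        have : (1 + r) ^ 2 = r * (1 + r + 1) + 1 := by ring
        rw [this, Nat.add_sub_cancel]
      rw [e]
      calc q * (q - 1) * 4 ≤ q * (q - 1) * (q + 1) := Nat.mul_le_mul_left _ (by omega)
        _ = (q - 1) * (q + 1) * q := by ring
    have hpos : 0 < q * (q - 1) := Nat.mul_pos (by omega) (by omega)
    omega
  · -- non-solvability
    intro hs
    -- the kernel is central
    have hker : φ.rangeRestrict.ker ≤
        (Subgroup.center (SpecialLinearGroup (Fin 2) K)).subtype.range := by
      intro x hx
      rw [MonoidHom.mem_ker] at hx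
      have hx' : φ x = 1 := by
        have := congrArg Subtype.val hx
        simpa using this
      rw [hφ] at hx'
      simp only [MonoidHom.coe_comp, Function.comp_apply, QuotientGroup.mk'_apply] at hx'
      have hx2 := (psl2_mk_eq_one_iff _).mp hx'
      rw [Subgroup.range_subtype, sl2_mem_center_iff]
      have hinj := ι.injective
      rcases hx2 with h | h
      · left
        ext i j
        have := congrFun (congrFun h i) j
        simp only [SpecialLinearGroup.map_apply_coe, RingHom.mapMatrix_apply, Matrix.map_apply]
          at this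
        apply hinj
        rw [this]
        fin_cases i <;> fin_cases j <;> simp
      · right
        ext i j
        have := congrFun (congrFun h i) j
        simp only [SpecialLinearGroup.map_apply_coe, RingHom.mapMatrix_apply, Matrix.map_apply]
          at this
        apply hinj
        rw [this]
        fin_cases i <;> fin_cases j <;> simp
    haveI : Group.IsSolvable φ.range := hs
    haveI : Group.IsSolvable (Subgroup.center (SpecialLinearGroup (Fin 2) K)) :=
      Group.isSolvable_of_comm (fun a b => Subtype.ext
        (Subgroup.mem_center_iff.mp a.2 b.1).symm)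
    have hsl : Group.IsSolvable (SpecialLinearGroup (Fin 2) K) :=
      Group.isSolvable_of_ker_le_range
        (Subgroup.center (SpecialLinearGroup (Fin 2) K)).subtype φ.rangeRestrict hker
    haveI := hsl
    have hpsl : Group.IsSolvable (ProjectiveSpecialLinearGroup (Fin 2) K) :=
      Group.isSolvable_of_surjective
        (f := QuotientGroup.mk' (Subgroup.center (SpecialLinearGroup (Fin 2) K)))
        (QuotientGroup.mk'_surjective _)
    exact not_isSolvable_psl2 hK hpsl

end psl

section subfield

variable {F : Type*} [Field F] [Fintype F]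

/-- subfields of finite fields: `GF(p^a)` embeds in `GF(p^n)` when `a ∣ n` -/
theorem exists_ringHom_galoisField (p : ℕ) [Fact p.Prime] [CharP F p] (a n : ℕ) (ha0 : a ≠ 0)
    (ha : a ∣ n) (hF : Fintype.card F = p ^ n) : Nonempty (GaloisField p a →+* F) := by
  letI : Algebra (ZMod p) F := ZMod.algebra F p
  have h1 : Module.finrank (ZMod p) F = n := by
    have := FiniteField.pow_finrank_eq_card p F
    rw [hF] at this
    exact Nat.pow_right_injective (Fact.out : p.Prime).two_le this
  have h2 : Module.finrank (ZMod p) (GaloisField p a) = a := GaloisField.finrank p ha0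
  obtain ⟨f⟩ := FiniteField.nonempty_algHom_of_finrank_dvd (F := ZMod p)
    (K := GaloisField p a) (L := F) (by rw [h1, h2]; exact ha)
  exact ⟨f.toRingHom⟩

end subfield

end Cfsg.Agent.Helper41
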