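import Cfsg.Agent.Lib.Helper41.DicksonUse4

/-!
# Using Dickson's theorem, V: the minimal simple groups `PSL₂(q)`
-/

set_option autoImplicit false

namespace Cfsg.Agent.Helper41

open Matrix

/-- the list of `q` for which `PSL₂(q)` is minimal simple -/
def MinSimpleList (q : ℕ) : Prop :=
  (∃ r : ℕ, r.Prime ∧ q = 2 ^ r) ∨ (∃ r : ℕ, r.Prime ∧ r ≠ 2 ∧ q = 3 ^ r) ∨
    (q.Prime ∧ 5 < q ∧ (q % 5 = 2 ∨ q % 5 = 3)) ∨ q = 5

section arith

theorem pow_odd_mod_five (b : ℕ) (hb : b % 5 = 2 ∨ b % 5 = 3) (s : ℕ) :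
    b ^ (2 * s + 1) % 5 = 2 ∨ b ^ (2 * s + 1) % 5 = 3 := by
  induction s with
  | zero => simpa using hb
  | succ s ih =>
    have e : b ^ (2 * (s + 1) + 1) = b ^ (2 * s + 1) * (b * b) := by ring
    rw [e, Nat.mul_mod]
    have hbb : b * b % 5 = 4 := by
      rw [Nat.mul_mod]
      rcases hb with h | h <;> rw [h]
    rw [hbb]
    rcases ih with h | h <;> rw [h] <;> simp

theorem mod_five_of_list {q : ℕ} (hL : MinSimpleList q) (h4 : q ≠ 4) (h5 : q ≠ 5) :
    q % 5 = 2 ∨ q % 5 = 3 := by
  rcases hL with ⟨r, hr, rfl⟩ | ⟨r, hr, hr2, rfl⟩ | ⟨-, -, h⟩ | h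
  · rcases hr.eq_two_or_odd' with h2 | ⟨s, hs⟩
    · rw [h2] at h4; norm_num at h4
    · rw [hs]; exact pow_odd_mod_five 2 (Or.inl rfl) s
  · rcases hr.eq_two_or_odd' with h2 | ⟨s, hs⟩
    · exact absurd h2 hr2
    · rw [hs]; exact pow_odd_mod_five 3 (Or.inr rfl) s
  · exact h
  · exact absurd h h5

theorem five_not_dvd_of_mod {q : ℕ} (h : q % 5 = 2 ∨ q % 5 = 3) : ¬ 5 ∣ (q ^ 2 - 1) * q := by
  intro hd
  have h5 : Nat.Prime 5 := by norm_num
  rcases (h5.dvd_mul).mp hd with hd | hd
  · have hq : 1 ≤ q ^ 2 := Nat.one_le_pow _ _ (by omega)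
    have h1 : q ^ 2 % 5 = 1 := by
      have := (Nat.modEq_iff_dvd' hq).mpr hd
      exact this.symm
    rw [pow_two, Nat.mul_mod] at h1
    rcases h with h | h <;> rw [h] at h1 <;> simp at h1
  · have := Nat.mod_eq_zero_of_dvd hd
    omega

theorem four_le_of_list {q : ℕ} (hL : MinSimpleList q) : 4 ≤ q := by
  rcases hL with ⟨r, hr, rfl⟩ | ⟨r, hr, -, rfl⟩ | ⟨-, h, -⟩ | h
  · calc 4 = 2 ^ 2 := by norm_num
      _ ≤ 2 ^ r := Nat.pow_le_pow_right (by norm_num) hr.two_le
  · calc 4 ≤ 3 ^ 2 := by norm_num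
      _ ≤ 3 ^ r := Nat.pow_le_pow_right (by norm_num) hr.two_le
  · omega
  · omega

/-- in the listed cases, a proper subfield has `2` or `3` elements -/
theorem subfield_card_of_list {q k m : ℕ} (hL : MinSimpleList q) (hk : 2 ≤ k) (hm : 2 ≤ m)
    (hkm : k ^ m = q) : k = 2 ∨ k = 3 := by
  have hnp : ¬ q.Prime := by
    rw [← hkm]
    obtain ⟨m', rfl⟩ := Nat.exists_eq_add_of_le hm
    have e : k ^ (2 + m') = k * k ^ (1 + m') := by ring
    rw [e]
    apply Nat.not_prime_mul (by omega)
    have : k ^ 1 ≤ k ^ (1 + m') := Nat.pow_le_pow_right (by omega) (by omega)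
    rw [pow_one] at this
    omega
  have key : ∀ p0 r : ℕ, p0.Prime → r.Prime → q = p0 ^ r → k = p0 := by
    intro p0 r hp0 hr hq
    have hkd : k ∣ p0 ^ r := by rw [← hq, ← hkm]; exact dvd_pow_self k (by omega)
    obtain ⟨s, -, hs⟩ := (Nat.dvd_prime_pow hp0).mp hkd
    rw [hs, ← pow_mul, hq] at hkm
    have hsm : s * m = r := Nat.pow_right_injective hp0.two_le hkm
    have hmr : m ∣ r := ⟨s, by rw [← hsm, mul_comm]⟩
    rcases (Nat.dvd_prime hr).mp hmr with h | h
    · omega
    · rw [h] at hsm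
      have hs1 : s = 1 := by
        have hr0 : 0 < r := hr.pos
        exact Nat.eq_of_mul_eq_mul_right hr0 (by rw [hsm, one_mul])
      rw [hs, hs1, pow_one]
  rcases hL with ⟨r, hr, hq⟩ | ⟨r, hr, -, hq⟩ | ⟨h, -, -⟩ | h
  · exact Or.inl (key 2 r Nat.prime_two hr hq)
  · exact Or.inr (key 3 r Nat.prime_three hr hq)
  · exact absurd h hnp
  · rw [h] at hnp; exact absurd (by norm_num : Nat.Prime 5) hnp

end arith

section backward

variable {F : Type*} [Field F] [Fintype F]

/-- in the listed cases, every proper subgroup in Dickson's list is solvable -/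
theorem isSolvable_of_dickson_of_list {q : ℕ} (hF : Fintype.card F = q) (p : ℕ) [Fact p.Prime]
    [CharP F p] (hL : MinSimpleList q)
    (H : Subgroup (ProjectiveSpecialLinearGroup (Fin 2) F)) (hH : H ≠ ⊤)
    (hD : DicksonConcl q p H) : Group.IsSolvable H := by
  classical
  have hq4 : 4 ≤ q := four_le_of_list hL
  have hcardle : Nat.card H ≤ Nat.card (ProjectiveSpecialLinearGroup (Fin 2) F) :=
    Subgroup.card_le_card_group H
  have hne : Nat.card H ≠ Nat.card (ProjectiveSpecialLinearGroup (Fin 2) F) := by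
    intro h
    exact hH (Subgroup.card_eq_iff_eq_top H |>.mp h)
  have hdvd : Nat.card H ∣ Nat.card (ProjectiveSpecialLinearGroup (Fin 2) F) :=
    Subgroup.card_subgroup_dvd_card H
  have hG2 : Nat.card (ProjectiveSpecialLinearGroup (Fin 2) F) ∣ (q ^ 2 - 1) * q := by
    rcases Nat.even_or_odd q with he | ho
    · rw [Cfsg.Agent.Helper98.PSL2Card.card_psl2_even hF he]
    · exact ⟨2, (Cfsg.Agent.Helper98.PSL2Card.card_psl2_odd hF ho).symm⟩
  rcases hD with ⟨k, -, hHk⟩ | ⟨P, K, hK, ⟨e⟩⟩ | ⟨⟨e⟩⟩ | ⟨⟨e⟩⟩ | ⟨⟨e⟩⟩ | ⟨K, _, _, m, hKm, hHK⟩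
  · rcases hHk with ⟨hc, -⟩ | ⟨⟨e⟩⟩
    · haveI := hc
      exact Group.isSolvable_of_comm (fun a b => by
        obtain ⟨g, hg⟩ := IsCyclic.exists_generator (α := H)
        obtain ⟨i, rfl⟩ := Subgroup.mem_zpowers_iff.mp (hg a)
        obtain ⟨j, rfl⟩ := Subgroup.mem_zpowers_iff.mp (hg b)
        rw [← _root_.zpow_add, ← _root_.zpow_add, add_comm])
    · exact isSolvable_of_mulEquiv e (isSolvable_dihedral k)
  · haveI := isSolvable_normalizer_sylow p P
    have : Group.IsSolvable K :=
      Group.isSolvable_of_isSolvable_injective (f := Subgroup.inclusion hK)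
        (Subgroup.inclusion_injective hK)
    exact isSolvable_of_mulEquiv e this
  · exact isSolvable_of_mulEquiv e isSolvable_alt4
  · exact isSolvable_of_mulEquiv e isSolvable_perm4
  · -- `A₅` is impossible
    exfalso
    rw [Nat.card_congr e.toEquiv, card_alternatingGroup_five] at hdvd hne
    by_cases h4 : q = 4
    · apply hne
      rw [Cfsg.Agent.Helper98.PSL2Card.card_psl2_even hF (by rw [h4]; decide), h4]
      norm_num
    by_cases h5 : q = 5
    · apply hne
      have := Cfsg.Agent.Helper98.PSL2Card.card_psl2_odd hF (by rw [h5]; decide)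
      rw [h5] at this
      omega
    · have hmod := mod_five_of_list hL h4 h5
      exact five_not_dvd_of_mod hmod (Dvd.dvd.trans (by norm_num) (hdvd.trans hG2))
  · -- subfield subgroups
    have hk2 : 2 ≤ Fintype.card K := Fintype.one_lt_card
    rcases Nat.lt_or_ge m 2 with hm | hm
    · exfalso
      have hm' : m = 0 ∨ m = 1 := by omega
      rcases hm' with rfl | rfl
      · rw [pow_zero] at hKm; omega
      · rw [pow_one] at hKm
        apply hne
        apply le_antisymm hcardle
        have hpsl : Nat.card (ProjectiveSpecialLinearGroup (Fin 2) K) =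
            Nat.card (ProjectiveSpecialLinearGroup (Fin 2) F) := by
          rcases Nat.even_or_odd q with he | ho
          · rw [Cfsg.Agent.Helper98.PSL2Card.card_psl2_even hKm he,
              Cfsg.Agent.Helper98.PSL2Card.card_psl2_even hF he]
          · have h1 := Cfsg.Agent.Helper98.PSL2Card.card_psl2_odd hKm ho
            have h2 := Cfsg.Agent.Helper98.PSL2Card.card_psl2_odd hF ho
            omega
        rcases hHK with ⟨⟨e⟩⟩ | ⟨⟨e⟩⟩
        · rw [Nat.card_congr e.toEquiv, hpsl]
        · rw [Nat.card_congr e.toEquiv, ← hpsl]; exact card_psl2_le_card_pgl2 K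
    · haveI : Finite H := inferInstance
      rcases subfield_card_of_list hL hk2 hm hKm with hk | hk
      · -- `|K| = 2`
        rcases hHK with ⟨⟨e⟩⟩ | ⟨⟨e⟩⟩
        · apply isSolvable_of_card_two_three 1 1
          rw [Nat.card_congr e.toEquiv,
            Cfsg.Agent.Helper98.PSL2Card.card_psl2_even hk (by decide)]
          norm_num
        · apply isSolvable_of_card_two_three 1 1
          rw [Nat.card_congr e.toEquiv, card_pgl2_eq K, hk]
          norm_num
      · -- `|K| = 3`
        rcases hHK with ⟨⟨e⟩⟩ | ⟨⟨e⟩⟩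
        · apply isSolvable_of_card_two_three 2 1
          rw [Nat.card_congr e.toEquiv]
          have := Cfsg.Agent.Helper98.PSL2Card.card_psl2_odd hk (by decide)
          omega
        · apply isSolvable_of_card_two_three 3 1
          rw [Nat.card_congr e.toEquiv, card_pgl2_eq K, hk]
          norm_num

end backward

section forward

variable {F : Type*} [Field F] [Fintype F]

/-- a copy of `A₅` is a proper non-solvable subgroup as soon as `5 ∣ q (q² - 1)`, `q ≥ 9` -/
theorem exists_nonsolvable_of_five_dvd {q : ℕ} (hF : Fintype.card F = q) (h9 : 9 ≤ q)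
    (h5 : 5 ∣ q * (q ^ 2 - 1)) :
    ∃ R : Subgroup (ProjectiveSpecialLinearGroup (Fin 2) F), R ≠ ⊤ ∧ ¬ Group.IsSolvable R := by
  obtain ⟨R, ⟨e⟩⟩ := (alt5_le_psl2_iff hF).mpr h5
  refine ⟨R, ?_, ?_⟩
  · intro htop
    have h60 : Nat.card R = 60 := by rw [Nat.card_congr e.toEquiv, card_alternatingGroup_five]
    rw [htop, Nat.card_congr Subgroup.topEquiv.toEquiv] at h60
    have hG : (q ^ 2 - 1) * q ≤
        Nat.card (ProjectiveSpecialLinearGroup (Fin 2) F) * 2 := by
      rcases Nat.even_or_odd q with he | ho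
      · rw [Cfsg.Agent.Helper98.PSL2Card.card_psl2_even hF he]; omega
      · rw [Cfsg.Agent.Helper98.PSL2Card.card_psl2_odd hF ho]
    have h1 : 80 ≤ q ^ 2 - 1 := by
      have : 9 ^ 2 ≤ q ^ 2 := Nat.pow_le_pow_left h9 2
      omega
    have h2 : 80 * 9 ≤ (q ^ 2 - 1) * q := Nat.mul_le_mul h1 h9
    omega
  · intro hs
    exact not_isSolvable_alt5 (isSolvable_of_mulEquiv e.symm hs)

/-- **forward direction**: if all proper subgroups of `PSL₂(q)` are solvable (and `PSL₂(q)` is
simple non-abelian), then `q` is in the list -/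
theorem list_of_minimalSimple {q : ℕ} (hF : Fintype.card F = q)
    (hsimple : IsSimpleGroup (ProjectiveSpecialLinearGroup (Fin 2) F))
    (hnc : ¬ IsMulCommutative (ProjectiveSpecialLinearGroup (Fin 2) F))
    (hsol : ∀ H : Subgroup (ProjectiveSpecialLinearGroup (Fin 2) F), H ≠ ⊤ →
      Group.IsSolvable H) : MinSimpleList q := by
  classical
  have hno : ¬ ∃ R : Subgroup (ProjectiveSpecialLinearGroup (Fin 2) F),
      R ≠ ⊤ ∧ ¬ Group.IsSolvable R := by
    rintro ⟨R, hR, hRs⟩
    exact hRs (hsol R hR)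
  have hq2 : 2 ≤ q := by rw [← hF]; exact Fintype.one_lt_card
  -- `q ≥ 4`
  have hnotsol : ¬ Group.IsSolvable (ProjectiveSpecialLinearGroup (Fin 2) F) := by
    intro hs
    have hc := (IsSimpleGroup.comm_iff_isSolvable
      (G := ProjectiveSpecialLinearGroup (Fin 2) F)).mpr hs
    exact hnc ⟨⟨hc⟩⟩
  have hq4 : 4 ≤ q := by
    by_contra hlt
    have hq' : q = 2 ∨ q = 3 := by omega
    apply hnotsol
    rcases hq' with h | h
    · apply isSolvable_of_card_two_three 1 1
      rw [Cfsg.Agent.Helper98.PSL2Card.card_psl2_even hF (by rw [h]; decide), h]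
      norm_num
    · apply isSolvable_of_card_two_three 2 1
      have := Cfsg.Agent.Helper98.PSL2Card.card_psl2_odd hF (by rw [h]; decide)
      rw [h] at this
      omega
  obtain ⟨p, hpc⟩ := CharP.exists F
  haveI := hpc
  haveI : Fact p.Prime := ⟨CharP.char_is_prime F p⟩
  have hp : p.Prime := Fact.out
  obtain ⟨n, -, hn⟩ := FiniteField.card F p
  rw [hF] at hn
  have hn1 : 1 ≤ (n : ℕ) := n.pos
  -- subfield subgroups
  have hsub : ∀ a : ℕ, a ≠ 0 → a ∣ (n : ℕ) → 2 * a ≤ (n : ℕ) → 4 ≤ p ^ a → False := by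
    intro a ha0 hadvd h2a h4
    obtain ⟨ι⟩ := exists_ringHom_galoisField (F := F) p a n ha0 hadvd (by rw [hF, hn])
    haveI : Fintype (GaloisField p a) := Fintype.ofFinite _
    have hcK : Fintype.card (GaloisField p a) = p ^ a := by
      rw [← Nat.card_eq_fintype_card, GaloisField.card p a ha0]
    apply hno
    apply exists_nonsolvable_of_subfield ι
    · rw [hcK]; exact h4
    · rw [hcK, hF, hn, ← pow_mul]
      exact Nat.pow_le_pow_right hp.pos (by omega)
  rcases Nat.lt_or_ge (n : ℕ) 2 with hlt | hge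
  · -- `q = p`
    have hn' : (n : ℕ) = 1 := by omega
    rw [hn', pow_one] at hn
    rw [hn]
    rw [hn] at hq4
    by_cases h5 : p = 5
    · right; right; right; exact h5
    have hp5 : 5 < p := by
      rcases Nat.lt_or_ge p 5 with h | h
      · have : p = 4 := by omega
        rw [this] at hp; exact absurd hp (by norm_num)
      · omega
    right; right; left
    refine ⟨hp, hp5, ?_⟩
    by_contra hmod
    have hp0 : p % 5 ≠ 0 := by
      intro h0
      have := (Nat.prime_dvd_prime_iff_eq (by norm_num : Nat.Prime 5) hp).mp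
        (Nat.dvd_of_mod_eq_zero h0)
      omega
    have h14 : p % 5 = 1 ∨ p % 5 = 4 := by omega
    have hp6 : p ≠ 6 := by
      intro h; rw [h] at hp; exact absurd hp (by norm_num)
    have h9 : 9 ≤ q := by rw [hn]; omega
    apply hno
    apply exists_nonsolvable_of_five_dvd hF h9
    rw [hn]
    apply Dvd.dvd.mul_left
    have hp1 : 1 ≤ p ^ 2 := Nat.one_le_pow _ _ hp.pos
    apply (Nat.modEq_iff_dvd' hp1).mp
    show 1 % 5 = p ^ 2 % 5
    rw [pow_two, Nat.mul_mod]
    rcases h14 with h | h <;> rw [h]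
  · by_cases hnp : (n : ℕ).Prime
    · -- `n` prime
      by_cases hp2 : p = 2
      · left; exact ⟨n, hnp, by rw [hn, hp2]⟩
      by_cases hp3 : p = 3
      · by_cases hn2 : (n : ℕ) = 2
        · exfalso
          apply hno
          have hq9 : q = 9 := by rw [hn, hp3, hn2]; norm_num
          apply exists_nonsolvable_of_five_dvd hF (by omega)
          rw [hq9]; decide
        · right; left; exact ⟨n, hnp, hn2, by rw [hn, hp3]⟩
      · exfalso
        have hp5 : 5 ≤ p := by
          have := hp.two_le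
          rcases Nat.lt_or_ge p 5 with h | h
          · have : p = 4 := by omega
            rw [this] at hp; exact absurd hp (by norm_num)
          · exact h
        exact hsub 1 one_ne_zero (one_dvd _) (by omega) (by rw [pow_one]; omega)
    · exfalso
      obtain ⟨a, hadvd, ha2, han⟩ := Nat.exists_dvd_of_not_prime2 hge hnp
      obtain ⟨b, hb⟩ := hadvd
      have hb2 : 2 ≤ b := by
        rcases Nat.lt_or_ge b 2 with h | h
        · have : b = 0 ∨ b = 1 := by omega
          rcases this with rfl | rfl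
          · omega
          · omega
        · exact h
      apply hsub a (by omega) ⟨b, hb⟩
      · rw [hb]
        calc 2 * a = a * 2 := by ring
          _ ≤ a * b := Nat.mul_le_mul_left a hb2
      · calc 4 = 2 ^ 2 := by norm_num
          _ ≤ p ^ 2 := Nat.pow_le_pow_left hp.two_le 2
          _ ≤ p ^ a := Nat.pow_le_pow_right hp.pos ha2

end forward

end Cfsg.Agent.Helper41
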