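import Mathlib
import Cfsg.Agent.Lib.Helper52.FCDefs
import Cfsg.Agent.Lib.Helper52.Coprime
import Cfsg.Agent.Lib.Helper52.CoprimeSylow

/-!
# FC (D2) (helper41, for helper52 server, S3816): `L = [L,P]`, `L₂ ≠ L` ⇒ `L` is an `s`-group.

Route (no maximal normal subgroup needed): if `L` is not a prime-power group, every `a`-invariant Sylow
subgroup `Q` of `L` is proper, so `[Q,P] ≤ L₂` and `Q = [Q,P] C_Q(a) ≤ L₂ ⊔ C_L(a)`; the Sylow subgroups
generate `L`, `C_L(a)` normalises `L₂`, so every `y ∈ L` is `c z` with `c ∈ C_L(a)`, `z ∈ L₂`, and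
`y⁻¹ aⁱ y a⁻ⁱ = z⁻¹ aⁱ z a⁻ⁱ ∈ L₂`: `L = [L,P] ≤ L₂`.
-/

set_option autoImplicit false

namespace Cfsg.Agent.Helper41.FC

open Subgroup Cfsg.Agent.Helper52.FC
open scoped commutatorElement

universe u

variable {G : Type u} [Group G]

theorem h41_pow_conj_mem (a : G) (X : Subgroup G) (hX : Inv a X) (x : G) (hx : x ∈ X) (i : ℕ) :
    a ^ i * x * (a ^ i)⁻¹ ∈ X := by
  induction i with
  | zero => simpa using hx
  | succ i ih =>
    have := hX _ ih
    have e : a ^ (i + 1) * x * (a ^ (i + 1))⁻¹ = a * (a ^ i * x * (a ^ i)⁻¹) * a⁻¹ := by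
      rw [pow_succ']; group
    rw [e]; exact this

theorem h41_Lh_le (a : G) (X : Subgroup G) (hX : Inv a X) (h : G) (hh : h ∈ X) : Lh a h ≤ X := by
  unfold Lh
  rw [Subgroup.closure_le]
  rintro c ⟨i, rfl⟩
  exact X.mul_mem (X.inv_mem hh) (h41_pow_conj_mem a X hX h hh i)

theorem h41_Lh_inv (a h : G) : Inv a (Lh a h) := by
  intro x hx
  unfold Lh at hx ⊢
  induction hx using Subgroup.closure_induction with
  | mem c hc =>
    obtain ⟨i, rfl⟩ := hc
    have e : a * (h⁻¹ * (a ^ i * h * (a ^ i)⁻¹)) * a⁻¹ =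
        (h⁻¹ * (a ^ 1 * h * (a ^ 1)⁻¹))⁻¹ * (h⁻¹ * (a ^ (i + 1) * h * (a ^ (i + 1))⁻¹)) := by
      rw [pow_succ' a i, pow_one]; group
    rw [e]
    exact Subgroup.mul_mem _ (Subgroup.inv_mem _ (Subgroup.subset_closure ⟨1, rfl⟩))
      (Subgroup.subset_closure ⟨i + 1, rfl⟩)
  | one => simp
  | mul x y _ _ hx hy =>
    have e : a * (x * y) * a⁻¹ = (a * x * a⁻¹) * (a * y * a⁻¹) := by group
    rw [e]; exact Subgroup.mul_mem _ hx hy
  | inv x _ hx =>
    have e : a * x⁻¹ * a⁻¹ = (a * x * a⁻¹)⁻¹ := by group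
    rw [e]; exact Subgroup.inv_mem _ hx

theorem h41_Lh_conj (a c l : G) (hc : c ∈ Fix a) (y : G) (hy : y ∈ Lh a l) :
    c * y * c⁻¹ ∈ Lh a (c * l * c⁻¹) := by
  have hca : ∀ i : ℕ, c * a ^ i = a ^ i * c := by
    intro i
    have h1 : a * c = c * a := (Subgroup.mem_centralizer_iff.mp hc) a rfl
    have : Commute c a := h1.symm
    exact (this.pow_right i).eq
  unfold Lh at hy ⊢
  induction hy using Subgroup.closure_induction with
  | mem x hx =>
    obtain ⟨i, rfl⟩ := hx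
    apply Subgroup.subset_closure
    refine ⟨i, ?_⟩
    have h2 : (a ^ i)⁻¹ * c⁻¹ = c⁻¹ * (a ^ i)⁻¹ := by
      rw [← mul_inv_rev, ← mul_inv_rev, hca i]
    calc c * (l⁻¹ * (a ^ i * l * (a ^ i)⁻¹)) * c⁻¹
        = c * l⁻¹ * a ^ i * l * ((a ^ i)⁻¹ * c⁻¹) := by group
      _ = c * l⁻¹ * a ^ i * l * (c⁻¹ * (a ^ i)⁻¹) := by rw [h2]
      _ = c * l⁻¹ * c⁻¹ * (c * a ^ i) * l * c⁻¹ * (a ^ i)⁻¹ := by group
      _ = c * l⁻¹ * c⁻¹ * (a ^ i * c) * l * c⁻¹ * (a ^ i)⁻¹ := by rw [hca i]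
      _ = (c * l * c⁻¹)⁻¹ * (a ^ i * (c * l * c⁻¹) * (a ^ i)⁻¹) := by group
  | one => simp
  | mul x y _ _ hx hy =>
    have e : c * (x * y) * c⁻¹ = (c * x * c⁻¹) * (c * y * c⁻¹) := by group
    rw [e]; exact Subgroup.mul_mem _ hx hy
  | inv x _ hx =>
    have e : c * x⁻¹ * c⁻¹ = (c * x * c⁻¹)⁻¹ := by group
    rw [e]; exact Subgroup.inv_mem _ hx


theorem h41_mem_normalizer {p : ℕ} (hp : 0 < p) (a : G) (hpow : a ^ p = 1) (X : Subgroup G)
    (hX : Inv a X) : a ∈ normalizer (X : Set G) := by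
  rw [Subgroup.mem_normalizer_iff]
  intro x
  constructor
  · intro hx; exact hX x hx
  · intro hx
    have h1 := h41_pow_conj_mem a X hX _ hx (p - 1)
    have h2 : a ^ (p - 1) * a = 1 := by
      rw [← pow_succ, Nat.sub_add_cancel hp, hpow]
    have h3 : a ^ (p - 1) = a⁻¹ := eq_inv_of_mul_eq_one_left h2
    rw [h3] at h1
    have e : a⁻¹ * (a * x * a⁻¹) * a⁻¹⁻¹ = x := by group
    rw [e] at h1
    exact h1

theorem h41_zpowers_le_normalizer {p : ℕ} (hp : 0 < p) (a : G) (hpow : a ^ p = 1) (X : Subgroup G)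
    (hX : Inv a X) : zpowers a ≤ normalizer (X : Set G) := by
  rw [Subgroup.zpowers_le]
  exact h41_mem_normalizer hp a hpow X hX

theorem h41_inv_of_normalizer (a : G) (X : Subgroup G) (h : zpowers a ≤ normalizer (X : Set G)) :
    Inv a X := by
  intro x hx
  have ha : a ∈ normalizer (X : Set G) := h (Subgroup.mem_zpowers a)
  exact (Subgroup.mem_normalizer_iff.mp ha x).mp hx

theorem h41_mem_zpowers_nat {p : ℕ} (hp : 0 < p) (a : G) (hpow : a ^ p = 1) (g : G)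
    (hg : g ∈ zpowers a) : ∃ i : ℕ, g = a ^ i := by
  obtain ⟨k, rfl⟩ := Subgroup.mem_zpowers_iff.mp hg
  have h1 : a ^ k = a ^ (k % (p : ℤ)) := zpow_eq_zpow_emod' k hpow
  have hp' : (0 : ℤ) < p := by exact_mod_cast hp
  have h2 : 0 ≤ k % (p : ℤ) := Int.emod_nonneg _ hp'.ne'
  refine ⟨(k % (p : ℤ)).toNat, ?_⟩
  rw [h1, ← zpow_natCast, Int.toNat_of_nonneg h2]

theorem L2_sgroup [Finite G] {p : ℕ} (hp : p.Prime) (a : G) (L : Subgroup G) (hyp : Hyp p a L) (hL : comm a L = L)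
    (h2 : (⨆ l : {l : G // l ∈ L ∧ Lh a l ≠ L}, Lh a (l : G)) ≠ L) : ∃ s : ℕ, s.Prime ∧ IsPGroup s L := by
  classical
  by_contra hne
  push Not at hne
  apply h2
  set L₂ : Subgroup G := ⨆ l : {l : G // l ∈ L ∧ Lh a l ≠ L}, Lh a (l : G) with hL₂
  have hL₂L : L₂ ≤ L := iSup_le (fun l => h41_Lh_le a L hyp.inv l.1 l.2.1)
  apply le_antisymm hL₂L
  -- `L₂` is `a`-invariant
  have hL₂inv : Inv a L₂ := by
    intro x hx
    refine Subgroup.iSup_induction (fun l : {l : G // l ∈ L ∧ Lh a l ≠ L} => Lh a (l : G))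
      (C := fun x => a * x * a⁻¹ ∈ L₂) hx ?_ ?_ ?_
    · intro l y hy
      exact (le_iSup (fun l : {l : G // l ∈ L ∧ Lh a l ≠ L} => Lh a (l : G)) l)
        (h41_Lh_inv a l.1 y hy)
    · simp
    · intro y z hy hz
      have e : a * (y * z) * a⁻¹ = (a * y * a⁻¹) * (a * z * a⁻¹) := by group
      rw [e]; exact L₂.mul_mem hy hz
  -- proper invariant subgroups feed `L₂`
  have hkey : ∀ X : Subgroup G, X ≤ L → X ≠ L → Inv a X → ∀ x ∈ X, Lh a x ≤ L₂ := by
    intro X hXL hXne hXinv x hx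
    have h1 : Lh a x ≤ X := h41_Lh_le a X hXinv x hx
    have h3 : Lh a x ≠ L := by
      intro h
      apply hXne
      exact le_antisymm hXL (h ▸ h1)
    exact le_iSup (fun l : {l : G // l ∈ L ∧ Lh a l ≠ L} => Lh a (l : G)) ⟨x, hXL hx, h3⟩
  -- `C_L(a)` normalises `L₂`
  have hCnorm : ∀ c ∈ L ⊓ Fix a, ∀ z ∈ L₂, c * z * c⁻¹ ∈ L₂ := by
    intro c hc z hz
    have hcinv : c⁻¹ ∈ Fix a := (Fix a).inv_mem hc.2
    refine Subgroup.iSup_induction (fun l : {l : G // l ∈ L ∧ Lh a l ≠ L} => Lh a (l : G))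
      (C := fun z => c * z * c⁻¹ ∈ L₂) hz ?_ ?_ ?_
    · intro l y hy
      have h1 := h41_Lh_conj a c l.1 hc.2 y hy
      have hmem : c * l.1 * c⁻¹ ∈ L := L.mul_mem (L.mul_mem hc.1 l.2.1) (L.inv_mem hc.1)
      have hne' : Lh a (c * l.1 * c⁻¹) ≠ L := by
        intro h
        apply l.2.2
        apply le_antisymm (h41_Lh_le a L hyp.inv l.1 l.2.1)
        intro y' hy'
        have h4 : c * y' * c⁻¹ ∈ Lh a (c * l.1 * c⁻¹) := by
          rw [h]; exact L.mul_mem (L.mul_mem hc.1 hy') (L.inv_mem hc.1)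
        have h5 := h41_Lh_conj a c⁻¹ (c * l.1 * c⁻¹) hcinv _ h4
        have e1 : c⁻¹ * (c * y' * c⁻¹) * c⁻¹⁻¹ = y' := by group
        have e2 : c⁻¹ * (c * l.1 * c⁻¹) * c⁻¹⁻¹ = l.1 := by group
        rw [e1, e2] at h5
        exact h5
      exact (le_iSup (fun l : {l : G // l ∈ L ∧ Lh a l ≠ L} => Lh a (l : G))
        ⟨c * l.1 * c⁻¹, hmem, hne'⟩) h1
    · simp
    · intro y z' hy hz'
      have e : c * (y * z') * c⁻¹ = (c * y * c⁻¹) * (c * z' * c⁻¹) := by group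
      rw [e]; exact L₂.mul_mem hy hz'
  -- the product `C_L(a) L₂`
  let T : Subgroup G :=
    { carrier := {y | ∃ c ∈ L ⊓ Fix a, ∃ z ∈ L₂, y = c * z}
      one_mem' := ⟨1, Subgroup.one_mem _, 1, Subgroup.one_mem _, by simp⟩
      mul_mem' := by
        rintro _ _ ⟨c, hc, z, hz, rfl⟩ ⟨c', hc', z', hz', rfl⟩
        refine ⟨c * c', Subgroup.mul_mem _ hc hc', (c'⁻¹ * z * c'⁻¹⁻¹) * z', ?_, by group⟩
        exact L₂.mul_mem (hCnorm c'⁻¹ (Subgroup.inv_mem _ hc') z hz) hz'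
      inv_mem' := by
        rintro _ ⟨c, hc, z, hz, rfl⟩
        refine ⟨c⁻¹, Subgroup.inv_mem _ hc, c * z⁻¹ * c⁻¹, hCnorm c hc _ (L₂.inv_mem hz), by group⟩ }
  have hTmem : ∀ y, y ∈ T ↔ ∃ c ∈ L ⊓ Fix a, ∃ z ∈ L₂, y = c * z := fun y => Iff.rfl
  have hTL : T ≤ L := by
    rintro y ⟨c, hc, z, hz, rfl⟩
    exact L.mul_mem hc.1 (hL₂L hz)
  have hL₂T : L₂ ≤ T := fun z hz => ⟨1, Subgroup.one_mem _, z, hz, by simp⟩
  have hCT : L ⊓ Fix a ≤ T := fun c hc => ⟨c, hc, 1, Subgroup.one_mem _, by simp⟩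
  have hAL : zpowers a ≤ normalizer (L : Set G) :=
    h41_zpowers_le_normalizer hp.pos a hyp.pow L hyp.inv
  have hcardA : Nat.card (zpowers a) ∣ p := by
    rw [Nat.card_zpowers]
    exact orderOf_dvd_of_pow_eq_one hyp.pow
  have hcop : (Nat.card (zpowers a)).Coprime (Nat.card L) :=
    Nat.Coprime.coprime_dvd_left hcardA hyp.cop.symm
  -- every invariant Sylow subgroup lies in `T`
  have hsyl : ∀ q : ℕ, q.Prime → Cfsg.Agent.Helper52.sylCard q L ∣ Nat.card T := by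
    intro q hq
    haveI : Fact q.Prime := ⟨hq⟩
    obtain ⟨Q, hQL, hQcard, hAQ⟩ :=
      Cfsg.Agent.Helper52.exists_invariant_sylow (zpowers a) L hAL hcop (Or.inr hyp.sol) q
    have hQne : Q ≠ L := by
      intro h
      apply hne q hq
      rw [h] at hQcard
      exact IsPGroup.of_card hQcard
    have hQinv : Inv a Q := h41_inv_of_normalizer a Q hAQ
    have hcopQ : (Nat.card (zpowers a)).Coprime (Nat.card Q) :=
      Nat.Coprime.coprime_dvd_right (Subgroup.card_dvd_of_le hQL) hcop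
    have hdec := Cfsg.Agent.Helper52.eq_commutator_sup_centralizer Q (zpowers a) hAQ hcopQ
      (Or.inr (Cfsg.Agent.Helper24.isSolvable_of_le Q L hQL hyp.sol))
    have hQT : Q ≤ T := by
      rw [hdec]
      apply sup_le
      · apply le_trans _ hL₂T
        rw [Subgroup.commutator_le]
        intro x hx g hg
        obtain ⟨i, rfl⟩ := h41_mem_zpowers_nat hp.pos a hyp.pow g hg
        have h1 : Lh a x⁻¹ ≤ L₂ := hkey Q hQL hQne hQinv x⁻¹ (Q.inv_mem hx)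
        apply h1
        unfold Lh
        apply Subgroup.subset_closure
        refine ⟨i, ?_⟩
        rw [commutatorElement_def]
        group
      · apply le_trans _ hCT
        intro x hx
        refine ⟨hQL hx.1, ?_⟩
        show x ∈ Subgroup.centralizer ({a} : Set G)
        rw [Subgroup.mem_centralizer_iff]
        intro g hg
        rw [Set.mem_singleton_iff] at hg
        subst hg
        exact (Subgroup.mem_centralizer_iff.mp hx.2) g (Subgroup.mem_zpowers g)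
    rw [← hQcard]
    exact Subgroup.card_dvd_of_le hQT
  -- so `T = L`
  have hTeq : T = L := by
    apply Subgroup.eq_of_le_of_card_ge hTL
    apply Nat.le_of_dvd Nat.card_pos
    rw [← Nat.factorization_prime_le_iff_dvd Nat.card_pos.ne' Nat.card_pos.ne']
    intro q hq
    have := hsyl q hq
    unfold Cfsg.Agent.Helper52.sylCard at this
    exact (hq.pow_dvd_iff_le_factorization Nat.card_pos.ne').mp this
  -- `[L,P] ≤ L₂`
  rw [← hL]
  unfold Cfsg.Agent.Helper52.FC.comm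
  rw [Subgroup.closure_le]
  rintro x ⟨h, hh, i, rfl⟩
  have hhT : h ∈ T := by rw [hTeq]; exact hh
  obtain ⟨c, hc, z, hz, rfl⟩ := hhT
  have hca : c * a ^ i = a ^ i * c := by
    have h1 : a * c = c * a := (Subgroup.mem_centralizer_iff.mp hc.2) a rfl
    have : Commute c a := h1.symm
    exact (this.pow_right i).eq
  have e : (c * z)⁻¹ * (a ^ i * (c * z) * (a ^ i)⁻¹) = z⁻¹ * (a ^ i * z * (a ^ i)⁻¹) := by
    calc (c * z)⁻¹ * (a ^ i * (c * z) * (a ^ i)⁻¹)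
        = z⁻¹ * c⁻¹ * (a ^ i * c) * z * (a ^ i)⁻¹ := by group
      _ = z⁻¹ * c⁻¹ * (c * a ^ i) * z * (a ^ i)⁻¹ := by rw [hca]
      _ = z⁻¹ * (a ^ i * z * (a ^ i)⁻¹) := by group
  rw [e]
  exact L₂.mul_mem (L₂.inv_mem hz) (h41_pow_conj_mem a L₂ hL₂inv z hz i)

end Cfsg.Agent.Helper41.FC
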