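import Mathlib
import Cfsg.Agent.Lib.Helper52.FLDefs

set_option autoImplicit false

/-!
FL (CNT) for helper52's server (S3822): the fibres of `(w₁, w₂) ↦ w₁ * w₂` on `S × T` contain
`{(w₁ d, d⁻¹ w₂)}`, so `S * T` cannot cover `V` when `|S| |T| < |V| |D|`.
-/

namespace Cfsg.Agent.Helper41.FL

open Cfsg.Agent.Helper52.FL

variable {G : Type*} [Group G] [Finite G]

/-- **(CNT) [M]** Mathlib only: the fibres of `(w₁, w₂) ↦ w₁ * w₂` on `S × T` contain `{(w₁ d, d⁻¹ w₂)}`. -/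
theorem exists_not_mul (V D : Subgroup G) (S T : Set G) (hS : S ⊆ V) (hT : T ⊆ V)
    (hSD : ∀ d ∈ D, ∀ w ∈ S, w * d ∈ S) (hTD : ∀ d ∈ D, ∀ w ∈ T, d⁻¹ * w ∈ T)
    (hcard : Nat.card S * Nat.card T < Nat.card V * Nat.card D) :
    ∃ v ∈ V, ¬ ∃ w₁ ∈ S, ∃ w₂ ∈ T, v = w₁ * w₂ := by
  by_contra hcon
  push_neg at hcon
  have h' : ∀ v : V, ∃ w₁ : S, ∃ w₂ : T, (v : G) = (w₁ : G) * (w₂ : G) := by
    intro v
    obtain ⟨w₁, h1, w₂, h2, e⟩ := hcon v.1 v.2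
    exact ⟨⟨w₁, h1⟩, ⟨w₂, h2⟩, e⟩
  choose f1 f2 hf using h'
  let g : V × D → S × T := fun x =>
    (⟨(f1 x.1 : G) * (x.2 : G), hSD _ x.2.2 _ (f1 x.1).2⟩,
      ⟨(x.2 : G)⁻¹ * (f2 x.1 : G), hTD _ x.2.2 _ (f2 x.1).2⟩)
  have hg : Function.Injective g := by
    rintro ⟨v, d⟩ ⟨v', d'⟩ hgg
    have e1 : (f1 v : G) * (d : G) = (f1 v' : G) * (d' : G) :=
      congrArg (fun z : S × T => (z.1 : G)) hgg
    have e2 : (d : G)⁻¹ * (f2 v : G) = (d' : G)⁻¹ * (f2 v' : G) :=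
      congrArg (fun z : S × T => (z.2 : G)) hgg
    have e3 : (v : G) = (v' : G) := by
      rw [hf v, hf v']
      calc (f1 v : G) * (f2 v : G) = ((f1 v : G) * (d : G)) * ((d : G)⁻¹ * (f2 v : G)) := by group
        _ = ((f1 v' : G) * (d' : G)) * ((d' : G)⁻¹ * (f2 v' : G)) := by rw [e1, e2]
        _ = (f1 v' : G) * (f2 v' : G) := by group
    have e4 : v = v' := Subtype.ext e3
    subst e4
    have e5 : (d : G) = (d' : G) := mul_left_cancel e1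
    have e6 : d = d' := Subtype.ext e5
    rw [e6]
  have hle := Nat.card_le_card_of_injective g hg
  rw [Nat.card_prod, Nat.card_prod] at hle
  exact absurd hcard (not_lt.mpr hle)

end Cfsg.Agent.Helper41.FL
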