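import Mathlib

set_option autoImplicit false
set_option linter.style.haveILetI false

/-!
GS4 (P4) for helper87's server (S2608): `V ⋊ S₃ ≅ S₄`.
-/

namespace Cfsg.Agent.Helper41.GS4

/-- the `S`-core of `U`, as a subgroup of the ambient group -/
def coreIn {G : Type*} [Group G] (S U : Subgroup G) : Subgroup G where
  carrier := {x | ∀ b ∈ S, b * x * b⁻¹ ∈ U}
  one_mem' := by
    intro b _
    rw [mul_one, mul_inv_cancel]
    exact U.one_mem
  mul_mem' := by
    intro x y hx hy b hb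
    have h := U.mul_mem (hx b hb) (hy b hb)
    have e : b * x * b⁻¹ * (b * y * b⁻¹) = b * (x * y) * b⁻¹ := by group
    rw [e] at h
    exact h
  inv_mem' := by
    intro x hx b hb
    have h := U.inv_mem (hx b hb)
    have e : (b * x * b⁻¹)⁻¹ = b * x⁻¹ * b⁻¹ := by group
    rw [e] at h
    exact h

theorem mem_coreIn {G : Type*} [Group G] (S U : Subgroup G) (x : G) :
    x ∈ coreIn S U ↔ ∀ b ∈ S, b * x * b⁻¹ ∈ U := Iff.rfl

theorem coreIn_conj {G : Type*} [Group G] (S U : Subgroup G) {x : G} (hx : x ∈ coreIn S U)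
    {s : G} (hs : s ∈ S) : s * x * s⁻¹ ∈ coreIn S U := by
  intro b hb
  have h := hx (b * s) (S.mul_mem hb hs)
  have e : b * s * x * (b * s)⁻¹ = b * (s * x * s⁻¹) * b⁻¹ := by group
  rw [e] at h
  exact h

/-- the core of `U` in `V ⊔ U` is trivial -/
theorem coreIn_eq_one {G : Type*} [Group G] [Finite G] (V U : Subgroup G) [hVn : V.Normal]
    (hV : Nat.card V = 4) (t r : G) (htU : t ∈ U)
    (hrr : r * r = 1) (ht3 : t ^ 3 = 1) (hrt : r * t * r = t⁻¹)
    (hUV : ∀ u ∈ U, u ∈ V → u = 1) (hUform : ∀ u ∈ U, ∃ i : ℕ, u = t ^ i ∨ u = t ^ i * r)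
    (hfree : ∀ v ∈ V, t * v = v * t → v = 1) :
    ∀ x ∈ coreIn (V ⊔ U) U, x = 1 := by
  have hVS : V ≤ V ⊔ U := le_sup_left
  have hUS : U ≤ V ⊔ U := le_sup_right
  -- the core lies in `U`
  have hcU : ∀ x ∈ coreIn (V ⊔ U) U, x ∈ U := by
    intro x hx
    have h := hx 1 (Subgroup.one_mem _)
    rwa [one_mul, inv_one, mul_one] at h
  -- the core centralises `V`
  have hcent : ∀ x ∈ coreIn (V ⊔ U) U, ∀ v ∈ V, x * v = v * x := by
    intro x hx v hv
    have h1 : v * x * v⁻¹ ∈ U := hx v (hVS hv)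
    have h2 : v * x * v⁻¹ * x⁻¹ ∈ U := U.mul_mem h1 (U.inv_mem (hcU x hx))
    have h3 : v * x * v⁻¹ * x⁻¹ ∈ V := by
      have e : v * x * v⁻¹ * x⁻¹ = v * (x * v⁻¹ * x⁻¹) := by group
      rw [e]
      exact V.mul_mem hv (hVn.conj_mem _ (V.inv_mem hv) x)
    have h4 := hUV _ h2 h3
    have e2 : v * x = (v * x * v⁻¹ * x⁻¹) * (x * v) := by group
    rw [e2, h4, one_mul]
  -- `t` is not in the core
  have htnot : t ∉ coreIn (V ⊔ U) U := by
    intro ht
    have hall : ∀ v ∈ V, v = 1 := fun v hv => hfree v hv (hcent t ht v hv)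
    have hbot : V = ⊥ := by
      rw [eq_bot_iff]
      intro v hv
      exact Subgroup.mem_bot.mpr (hall v hv)
    rw [hbot, Subgroup.card_bot] at hV
    exact absurd hV (by norm_num)
  have ht4 : t⁻¹ * t⁻¹ = t := by
    have e : t * (t⁻¹ * t⁻¹) = t * t := by
      have h3 : t * t * t = 1 := by
        rw [← ht3, pow_succ, pow_succ, pow_one]
      calc t * (t⁻¹ * t⁻¹) = t⁻¹ := by group
        _ = t⁻¹ * (t * t * t) := by rw [h3, mul_one]
        _ = t * t := by group
    exact mul_left_cancel e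
  intro x hx
  obtain ⟨i, hi | hi⟩ := hUform x (hcU x hx)
  · -- `x = t ^ i`
    by_contra hx1
    apply htnot
    have hmod : t ^ i = t ^ (i % 3) := by
      conv_lhs => rw [← Nat.div_add_mod i 3, pow_add, pow_mul, ht3, one_pow, one_mul]
    have hlt : i % 3 < 3 := Nat.mod_lt _ (by norm_num)
    interval_cases h : i % 3
    · exfalso
      apply hx1
      rw [hi, hmod, pow_zero]
    · rw [hi, hmod, pow_one] at hx
      exact hx
    · rw [hi, hmod] at hx
      have h2 := (coreIn (V ⊔ U) U).mul_mem hx hx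
      have e : t ^ 2 * t ^ 2 = t := by
        calc t ^ 2 * t ^ 2 = t ^ 3 * t := by
              rw [← pow_add, pow_succ]
          _ = t := by rw [ht3, one_mul]
      rw [e] at h2
      exact h2
  · -- `x = t ^ i * r`
    exfalso
    apply htnot
    have h1 : t * x * t⁻¹ ∈ coreIn (V ⊔ U) U := coreIn_conj _ _ hx (hUS htU)
    have h2 := (coreIn (V ⊔ U) U).mul_mem ((coreIn (V ⊔ U) U).inv_mem hx) h1
    have hrinv : r⁻¹ = r := inv_eq_of_mul_eq_one_right hrr
    have hcomm : (t ^ i)⁻¹ * t * t ^ i = t := by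
      have : Commute (t ^ i) t := (Commute.refl t).pow_left i
      calc (t ^ i)⁻¹ * t * t ^ i = (t ^ i)⁻¹ * (t * t ^ i) := by group
        _ = (t ^ i)⁻¹ * (t ^ i * t) := by rw [this.eq]
        _ = t := by group
    have e : x⁻¹ * (t * x * t⁻¹) = t := by
      rw [hi]
      calc (t ^ i * r)⁻¹ * (t * (t ^ i * r) * t⁻¹)
          = r⁻¹ * ((t ^ i)⁻¹ * t * t ^ i) * r * t⁻¹ := by group
        _ = r * t * r * t⁻¹ := by rw [hcomm, hrinv]
        _ = t⁻¹ * t⁻¹ := by rw [hrt]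
        _ = t := ht4
    rw [e] at h2
    exact h2

/-- (P4) `V ⋊ S₃ ≅ S₄`. -/
theorem perm4_of_semidirect {G : Type*} [Group G] [Finite G] (V U : Subgroup G) [V.Normal]
    (hV : Nat.card V = 4) (hU : Nat.card U = 6) (t r : G) (htU : t ∈ U) (hrU : r ∈ U)
    (hrr : r * r = 1) (ht3 : t ^ 3 = 1) (hrt : r * t * r = t⁻¹)
    (hUV : ∀ u ∈ U, u ∈ V → u = 1) (hUform : ∀ u ∈ U, ∃ i : ℕ, u = t ^ i ∨ u = t ^ i * r)
    (hfree : ∀ v ∈ V, t * v = v * t → v = 1) :
    Nonempty (↥(V ⊔ U) ≃* Equiv.Perm (Fin 4)) := by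
  classical
  have hVS : V ≤ V ⊔ U := le_sup_left
  have hUS : U ≤ V ⊔ U := le_sup_right
  -- the order of `S`
  have hS : Nat.card ↥(V ⊔ U) = 24 := by
    have h1 : (⊥ : Subgroup G).relIndex V * V.relIndex (V ⊔ U) = (⊥ : Subgroup G).relIndex (V ⊔ U) :=
      Subgroup.relIndex_mul_relIndex _ _ _ bot_le hVS
    rw [Subgroup.relIndex_bot_left, Subgroup.relIndex_bot_left, Subgroup.relIndex_sup_left,
      ← Subgroup.inf_relIndex_right] at h1
    have h2 : V ⊓ U = ⊥ := by
      rw [eq_bot_iff]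
      intro x hx
      exact Subgroup.mem_bot.mpr (hUV x (Subgroup.mem_inf.mp hx).2 (Subgroup.mem_inf.mp hx).1)
    rw [h2, Subgroup.relIndex_bot_left, hV, hU] at h1
    omega
  -- the action on the cosets of `U`
  set U' : Subgroup ↥(V ⊔ U) := U.subgroupOf (V ⊔ U) with hU'
  have hU'card : Nat.card ↥U' = 6 := by
    rw [Nat.card_congr (Subgroup.subgroupOfEquivOfLe hUS).toEquiv, hU]
  have hidx : Nat.card (↥(V ⊔ U) ⧸ U') = 4 := by
    have h1 := Subgroup.card_mul_index U'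
    rw [hU'card, hS, Subgroup.index_eq_card] at h1
    omega
  let φ : ↥(V ⊔ U) →* Equiv.Perm (↥(V ⊔ U) ⧸ U') := MulAction.toPermHom _ _
  have hker : φ.ker = ⊥ := by
    rw [eq_bot_iff]
    intro x hx
    have hx' : x ∈ U'.normalCore := by
      rw [Subgroup.normalCore_eq_ker]
      exact hx
    have hx2 : (x : G) ∈ coreIn (V ⊔ U) U := by
      intro b hb
      have := hx' ⟨b, hb⟩
      exact this
    have hx3 := coreIn_eq_one V U hV t r htU hrr ht3 hrt hUV hUform hfree _ hx2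
    exact Subgroup.mem_bot.mpr (Subtype.ext hx3)
  have hinj : Function.Injective φ := (MonoidHom.ker_eq_bot_iff φ).mp hker
  let e4 : (↥(V ⊔ U) ⧸ U') ≃ Fin 4 := Finite.equivFinOfCardEq hidx
  let ψ : ↥(V ⊔ U) →* Equiv.Perm (Fin 4) := (e4.permCongrHom.toMonoidHom).comp φ
  have hψinj : Function.Injective ψ := by
    intro a b hab
    exact hinj (e4.permCongrHom.injective hab)
  have hψbij : Function.Bijective ψ := by
    refine (Nat.bijective_iff_injective_and_card ψ).mpr ⟨hψinj, ?_⟩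
    rw [hS, Nat.card_eq_fintype_card, Fintype.card_perm, Fintype.card_fin]
    rfl
  exact ⟨MulEquiv.ofBijective ψ hψbij⟩

end Cfsg.Agent.Helper41.GS4
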