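import Mathlib

set_option autoImplicit false

namespace Cfsg.Agent.Helper41

/-- A graph in which any two vertices are equal, adjacent, or have a common neighbour, and which
has two distinct non-adjacent vertices, is connected of diameter two. -/
theorem connected_diam_two {V : Type*} (G : SimpleGraph V) [Nonempty V]
    (h1 : ∀ u v : V, u = v ∨ G.Adj u v ∨ ∃ w, G.Adj u w ∧ G.Adj w v)
    (h2 : ∃ u v : V, u ≠ v ∧ ¬ G.Adj u v) : G.Connected ∧ G.diam = 2 := by
  have hle : ∀ u v : V, G.edist u v ≤ 2 := by
    intro u v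
    rcases h1 u v with rfl | h | ⟨w, huw, hwv⟩
    · rw [SimpleGraph.edist_self]
      exact zero_le
    · have := SimpleGraph.edist_le (SimpleGraph.Walk.cons h SimpleGraph.Walk.nil)
      refine this.trans ?_
      simp
    · have := SimpleGraph.edist_le
        (SimpleGraph.Walk.cons huw (SimpleGraph.Walk.cons hwv SimpleGraph.Walk.nil))
      refine this.trans ?_
      simp
  have hed : G.ediam ≤ 2 := SimpleGraph.ediam_le_of_edist_le hle
  have hne : G.ediam ≠ ⊤ := by
    intro h
    rw [h] at hed
    simp at hed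
  have hconn : G.Connected := SimpleGraph.connected_of_ediam_ne_top hne
  refine ⟨hconn, ?_⟩
  obtain ⟨u, v, huv, hadj⟩ := h2
  have h2le : 2 ≤ G.edist u v := by
    have hfin : G.edist u v ≠ ⊤ := ne_top_of_le_ne_top (by simp) (hle u v)
    obtain ⟨n, hn⟩ := ENat.ne_top_iff_exists.mp hfin
    have h0 : G.edist u v ≠ 0 := by
      rw [ne_eq, SimpleGraph.edist_eq_zero_iff]
      exact huv
    have h1' : G.edist u v ≠ 1 := by
      rw [ne_eq, SimpleGraph.edist_eq_one_iff_adj]
      exact hadj
    rw [← hn] at h0 h1' ⊢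
    have h0' : n ≠ 0 := by
      intro h; apply h0; rw [h]; rfl
    have h1'' : n ≠ 1 := by
      intro h; apply h1'; rw [h]; rfl
    have : 2 ≤ n := by omega
    exact_mod_cast this
  have hediam : G.ediam = 2 := le_antisymm hed (h2le.trans SimpleGraph.edist_le_ediam)
  rw [SimpleGraph.diam, hediam]
  rfl

end Cfsg.Agent.Helper41
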