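import Mathlib
import Cfsg.Prelude.Def_OddOrderLocal

/-!
# Hall `{2,3}`-subgroups: arithmetic and a cardinality criterion
-/

set_option autoImplicit false

namespace Cfsg.Agent.Helper41

theorem prime_dvd_two_pow_mul_three_pow {a b r : ℕ} (hr : r.Prime) (h : r ∣ 2 ^ a * 3 ^ b) :
    r = 2 ∨ r = 3 := by
  rcases (Nat.Prime.dvd_mul hr).mp h with h | h
  · left
    exact (Nat.prime_dvd_prime_iff_eq hr Nat.prime_two).mp (hr.dvd_of_dvd_pow h)
  · right
    exact (Nat.prime_dvd_prime_iff_eq hr Nat.prime_three).mp (hr.dvd_of_dvd_pow h)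

theorem coprime_two_pow_mul_three_pow (a b x : ℕ) (h2 : ¬ 2 ∣ x) (h3 : ¬ 3 ∣ x) :
    Nat.Coprime (2 ^ a * 3 ^ b) x := by
  apply Nat.Coprime.mul_left
  · exact Nat.Coprime.pow_left a ((Nat.Prime.coprime_iff_not_dvd Nat.prime_two).mpr h2)
  · exact Nat.Coprime.pow_left b ((Nat.Prime.coprime_iff_not_dvd Nat.prime_three).mpr h3)

/-- splitting off the `{2,3}`-part -/
theorem exists_two_three_decomp (A : ℕ) (hA : A ≠ 0) :
    ∃ k, A = 2 ^ A.factorization 2 * 3 ^ A.factorization 3 * k ∧ ¬ 2 ∣ k ∧ ¬ 3 ∣ k := by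
  have h2 : 2 ^ A.factorization 2 ∣ A := Nat.ordProj_dvd A 2
  have h3 : 3 ^ A.factorization 3 ∣ A := Nat.ordProj_dvd A 3
  have hcop : Nat.Coprime (2 ^ A.factorization 2) (3 ^ A.factorization 3) :=
    Nat.Coprime.pow _ _ (by norm_num)
  obtain ⟨k, hk⟩ := Nat.Coprime.mul_dvd_of_dvd_of_dvd hcop h2 h3
  refine ⟨k, hk, ?_, ?_⟩
  · rintro ⟨j, rfl⟩
    apply Nat.pow_succ_factorization_not_dvd hA Nat.prime_two
    refine ⟨3 ^ A.factorization 3 * j, ?_⟩
    conv_lhs => rw [hk]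
    ring
  · rintro ⟨j, rfl⟩
    apply Nat.pow_succ_factorization_not_dvd hA Nat.prime_three
    refine ⟨2 ^ A.factorization 2 * j, ?_⟩
    conv_lhs => rw [hk]
    ring

/-- Hall `{2,3}`-subgroups are those of order the `{2,3}`-part -/
theorem isPiHall_two_three_iff {G : Type*} [Group G] [Finite G] (a b k : ℕ)
    (hG : Nat.card G = 2 ^ a * 3 ^ b * k) (h2 : ¬ 2 ∣ k) (h3 : ¬ 3 ∣ k) (H : Subgroup G) :
    Cfsg.IsPiHall ({2, 3} : Set ℕ) H ↔ Nat.card H = 2 ^ a * 3 ^ b := by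
  have hci := Subgroup.card_mul_index H
  rw [hG] at hci
  have hhpos : 0 < 2 ^ a * 3 ^ b := by positivity
  constructor
  · rintro ⟨hH1, hH2⟩
    have hi2 : ¬ 2 ∣ H.index := hH2 2 Nat.prime_two (by simp)
    have hi3 : ¬ 3 ∣ H.index := hH2 3 Nat.prime_three (by simp)
    have hcop1 : Nat.Coprime (Nat.card H) k := by
      apply Nat.coprime_of_dvd
      intro r hr hrc hrk
      have := hH1 r hr hrc
      simp only [Set.mem_insert_iff, Set.mem_singleton_iff] at this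
      rcases this with rfl | rfl
      · exact h2 hrk
      · exact h3 hrk
    have hcop2 : Nat.Coprime (2 ^ a * 3 ^ b) H.index :=
      coprime_two_pow_mul_three_pow a b _ hi2 hi3
    have hd1 : Nat.card H ∣ 2 ^ a * 3 ^ b :=
      hcop1.dvd_of_dvd_mul_right ⟨H.index, hci.symm⟩
    have hd2 : 2 ^ a * 3 ^ b ∣ Nat.card H :=
      hcop2.dvd_of_dvd_mul_right ⟨k, hci⟩
    exact Nat.dvd_antisymm hd1 hd2
  · intro hc
    rw [hc] at hci
    have hik : H.index = k := Nat.eq_of_mul_eq_mul_left hhpos hci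
    constructor
    · intro r hr hrc
      rw [hc] at hrc
      rcases prime_dvd_two_pow_mul_three_pow hr hrc with rfl | rfl <;> simp
    · intro r hr hrm
      simp only [Set.mem_insert_iff, Set.mem_singleton_iff] at hrm
      rw [hik]
      rcases hrm with rfl | rfl
      · exact h2
      · exact h3

/-- the `{2,3}`-part of `q - ε` when `q + ε` is twice a number prime to `6` -/
theorem exists_hall_factor (x y u v2 v3 k : ℕ) (hv2 : 1 ≤ v2)
    (hxy : x * y = 2 ^ v2 * 3 ^ v3 * k)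
    (h2 : ¬ 2 ∣ k) (h3 : ¬ 3 ∣ k) (hy : y = 2 * u) (hu2 : ¬ 2 ∣ u) (hu3 : ¬ 3 ∣ u) :
    ∃ n, x = 2 ^ (v2 - 1) * 3 ^ v3 * n ∧ Nat.Coprime (2 ^ (v2 - 1) * 3 ^ v3) n := by
  obtain ⟨w, rfl⟩ : ∃ w, v2 = w + 1 := ⟨v2 - 1, by omega⟩
  simp only [Nat.add_sub_cancel]
  have h1 : x * u = 2 ^ w * 3 ^ v3 * k := by
    have : 2 * (x * u) = 2 * (2 ^ w * 3 ^ v3 * k) := by
      calc 2 * (x * u) = x * (2 * u) := by ring
        _ = 2 ^ (w + 1) * 3 ^ v3 * k := by rw [← hy, hxy]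
        _ = 2 * (2 ^ w * 3 ^ v3 * k) := by ring
    exact Nat.eq_of_mul_eq_mul_left (by norm_num) this
  have hcop : Nat.Coprime (2 ^ w * 3 ^ v3) u := coprime_two_pow_mul_three_pow w v3 u hu2 hu3
  have hd : 2 ^ w * 3 ^ v3 ∣ x := hcop.dvd_of_dvd_mul_right ⟨k, h1⟩
  obtain ⟨n, rfl⟩ := hd
  refine ⟨n, rfl, ?_⟩
  have hpos : 0 < 2 ^ w * 3 ^ v3 := by positivity
  have h4 : n * u = k := by
    apply Nat.eq_of_mul_eq_mul_left hpos
    rw [← h1]; ring
  apply coprime_two_pow_mul_three_pow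
  · intro h
    exact h2 (h4 ▸ Dvd.dvd.mul_right h u)
  · intro h
    exact h3 (h4 ▸ Dvd.dvd.mul_right h u)

end Cfsg.Agent.Helper41
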