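import Cfsg.Agent.Lib.Helper53.IPDefs
import Cfsg.Agent.Lib.Helper81.IPCore
import Cfsg.Agent.Lib.Helper79.CharBasic

/-!
# IP (G5) (helper41, for helper53 server, S4463): Lemma A', a character of `H` of the maximal possible
degree vanishes off the normal core of `H`.  Wrapper of `Cfsg.Agent.Helper81.IP.vanish_off_core`.
-/

set_option autoImplicit false

namespace Cfsg.Agent.Helper41.IP

open Cfsg Cfsg.Agent.Helper53.IP
open scoped ComplexConjugate commutatorElement

universe u

theorem vanish_off_core {G : Type u} [Group G] [Finite G] (b : ℕ) (h : DegLe G b)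
    (H : Subgroup G) (ψ : IrrCharacter H) (hψ : charDegree (ψ : H → ℂ) = b) :
    ∀ x : H, (x : G) ∉ H.normalCore → (ψ : H → ℂ) x = 0 := by
  classical
  intro x hx
  haveI : Fintype G := Fintype.ofFinite G
  haveI : Fintype H := Fintype.ofFinite H
  have hb : ∀ χ : G → ℂ, IsIrrCharacter G χ → ∀ d : ℕ, χ 1 = d → d ≤ b := by
    intro χ hχ d hd
    have h1 := h ⟨χ, hχ⟩
    have h2 := (Cfsg.Agent.Helper79.irr_one_eq (⟨χ, hχ⟩ : IrrCharacter G)).1
    have h3 : (d : ℂ) = (charDegree χ : ℂ) := by rw [← hd]; exact h2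
    have h4 : d = charDegree χ := by exact_mod_cast h3
    rw [h4]; exact h1
  have hψ1 : (ψ : H → ℂ) 1 = b := by
    rw [(Cfsg.Agent.Helper79.irr_one_eq ψ).1, hψ]
  exact Cfsg.Agent.Helper81.IP.vanish_off_core H hb ψ.2 hψ1 x hx

end Cfsg.Agent.Helper41.IP
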