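import Mathlib
import Cfsg.Agent.Lib.Helper41.SL2OddOrd
import Cfsg.Agent.Lib.Helper41.ConicCount
import Cfsg.Agent.Lib.Helper41.GraphDiam

set_option autoImplicit false

namespace Cfsg.Agent.Helper41

open Matrix

variable {F : Type*} [Field F]

/-- traces and determinant of the general element of the span of `A`, `B`, `[A,B]`, for traceless
`A`, `B` of determinant one -/
theorem pencil_props (A B : Matrix (Fin 2) (Fin 2) F) (hA : A.det = 1) (hA0 : A.trace = 0)
    (hB : B.det = 1) (hB0 : B.trace = 0) (α β γ : F) :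
    (α • A + β • B + γ • (A * B - B * A)).trace = 0 ∧
    (A * (α • A + β • B + γ • (A * B - B * A))).trace = -2 * α + (A * B).trace * β ∧
    ((α • A + β • B + γ • (A * B - B * A)) * B).trace = (A * B).trace * α - 2 * β ∧
    (α • A + β • B + γ • (A * B - B * A)).det =
      α ^ 2 + β ^ 2 - (A * B).trace * α * β + γ ^ 2 * (4 - (A * B).trace ^ 2) := by
  rw [Matrix.trace_fin_two] at hA0 hB0
  rw [Matrix.det_fin_two] at hA hB
  have hd : A 1 1 = -A 0 0 := by linear_combination hA0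
  have hw : B 1 1 = -B 0 0 := by linear_combination hB0
  rw [hd] at hA
  rw [hw] at hB
  refine ⟨?_, ?_, ?_, ?_⟩
  · simp only [Matrix.trace_fin_two, Matrix.add_apply, Matrix.smul_apply, Matrix.sub_apply,
      Matrix.mul_apply, Fin.sum_univ_two, smul_eq_mul, hd, hw]
    ring
  · simp only [Matrix.trace_fin_two, Matrix.add_apply, Matrix.smul_apply, Matrix.sub_apply,
      Matrix.mul_apply, Fin.sum_univ_two, smul_eq_mul, hd, hw]
    linear_combination (-2 * α) * hA
  · simp only [Matrix.trace_fin_two, Matrix.add_apply, Matrix.smul_apply, Matrix.sub_apply,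
      Matrix.mul_apply, Fin.sum_univ_two, smul_eq_mul, hd, hw]
    linear_combination (-2 * β) * hB
  · simp only [Matrix.det_fin_two, Matrix.trace_fin_two, Matrix.add_apply, Matrix.smul_apply,
      Matrix.sub_apply, Matrix.mul_apply, Fin.sum_univ_two, smul_eq_mul, hd, hw]
    linear_combination (α ^ 2 + 4 * γ ^ 2) * hA +
      (β ^ 2 + 4 * γ ^ 2 * (A 0 0 * -A 0 0 - A 0 1 * A 1 0)) * hB

theorem four_ne_zero_of_two_ne_zero' (h2 : (2 : F) ≠ 0) : (4 : F) ≠ 0 := by
  have : (4 : F) = 2 * 2 := by norm_num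
  rw [this]
  exact mul_ne_zero h2 h2

/-- consequences of `mk Z = mk A` on traces of products -/
theorem trace_mul_of_mk_eq (A Z C : SpecialLinearGroup (Fin 2) F)
    (h : (QuotientGroup.mk Z : ProjectiveSpecialLinearGroup (Fin 2) F) = QuotientGroup.mk A) :
    ((C : Matrix (Fin 2) (Fin 2) F) * Z).trace = ((C : Matrix (Fin 2) (Fin 2) F) * A).trace ∨
      ((C : Matrix (Fin 2) (Fin 2) F) * Z).trace = -((C : Matrix (Fin 2) (Fin 2) F) * A).trace := by
  rw [psl2_mk_eq_mk_iff] at h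
  rcases h with h | h
  · left; rw [h]
  · right
    have : (Z : Matrix (Fin 2) (Fin 2) F) = -(A : Matrix (Fin 2) (Fin 2) F) := by
      have h' : A = -Z := h
      rw [h', Matrix.SpecialLinearGroup.coe_neg, neg_neg]
    rw [this, Matrix.mul_neg, Matrix.trace_neg]

/-- when `-1` is a square: an involution `z` with `xz`, `zy` parabolic -/
theorem exists_common_nbr_of_isSquare_neg_one [Fintype F] (h2 : (2 : F) ≠ 0) (i : F)
    (hi : i ^ 2 = -1) (A B : SpecialLinearGroup (Fin 2) F)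
    (hA : (A : Matrix (Fin 2) (Fin 2) F).trace = 0) (hB : (B : Matrix (Fin 2) (Fin 2) F).trace = 0)
    (hs : ((A : Matrix (Fin 2) (Fin 2) F) * B).trace ^ 2 ≠ 4) :
    ∃ Z : SpecialLinearGroup (Fin 2) F, (Z : Matrix (Fin 2) (Fin 2) F).trace = 0 ∧
      (QuotientGroup.mk Z : ProjectiveSpecialLinearGroup (Fin 2) F) ≠ QuotientGroup.mk A ∧
      (QuotientGroup.mk Z : ProjectiveSpecialLinearGroup (Fin 2) F) ≠ QuotientGroup.mk B ∧
      OddOrd (A * Z) ∧ OddOrd (Z * B) := by
  set s := ((A : Matrix (Fin 2) (Fin 2) F) * B).trace with hsdef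
  have hs2 : (2 : F) - s ≠ 0 := by
    intro h
    apply hs
    have : s = 2 := by linear_combination -h
    rw [this]; norm_num
  have hsn2 : s ≠ -2 := by
    intro h
    apply hs
    rw [h]; norm_num
  obtain ⟨p1, p2, p3, p4⟩ := pencil_props (A : Matrix (Fin 2) (Fin 2) F) B A.2 hA B.2 hB
    (2 / (2 - s)) (2 / (2 - s)) (i / (2 - s))
  rw [← hsdef] at p2 p3 p4
  have hdet : ((2 / (2 - s)) • (A : Matrix (Fin 2) (Fin 2) F) + (2 / (2 - s)) • (B : Matrix (Fin 2) (Fin 2) F) +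
      (i / (2 - s)) • ((A : Matrix (Fin 2) (Fin 2) F) * B - B * A)).det = 1 := by
    rw [p4]
    field_simp
    linear_combination (4 - s ^ 2) * hi
  have hAZ : ((A : Matrix (Fin 2) (Fin 2) F) * ((2 / (2 - s)) • (A : Matrix (Fin 2) (Fin 2) F) +
      (2 / (2 - s)) • (B : Matrix (Fin 2) (Fin 2) F) +
      (i / (2 - s)) • ((A : Matrix (Fin 2) (Fin 2) F) * B - B * A))).trace = -2 := by
    rw [p2]
    field_simp
    ring
  have hZB : (((2 / (2 - s)) • (A : Matrix (Fin 2) (Fin 2) F) +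
      (2 / (2 - s)) • (B : Matrix (Fin 2) (Fin 2) F) +
      (i / (2 - s)) • ((A : Matrix (Fin 2) (Fin 2) F) * B - B * A)) * B).trace = -2 := by
    rw [p3]
    field_simp
    ring
  set Z : SpecialLinearGroup (Fin 2) F := ⟨_, hdet⟩ with hZ
  have hAZ' : ((A : Matrix (Fin 2) (Fin 2) F) * Z).trace = -2 := hAZ
  have hZB' : ((Z : Matrix (Fin 2) (Fin 2) F) * B).trace = -2 := hZB
  have hBZ' : ((B : Matrix (Fin 2) (Fin 2) F) * Z).trace = -2 := by
    rw [Matrix.trace_mul_comm]; exact hZB'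
  have hAA : ((A : Matrix (Fin 2) (Fin 2) F) * A).trace = -2 := by
    rw [mul_self_of_trace_zero _ A.2 hA, Matrix.trace_neg, Matrix.trace_one, Fintype.card_fin]
    norm_num
  have hBB : ((B : Matrix (Fin 2) (Fin 2) F) * B).trace = -2 := by
    rw [mul_self_of_trace_zero _ B.2 hB, Matrix.trace_neg, Matrix.trace_one, Fintype.card_fin]
    norm_num
  have hBA : ((B : Matrix (Fin 2) (Fin 2) F) * A).trace = s := by
    rw [Matrix.trace_mul_comm]
  refine ⟨Z, p1, ?_, ?_, ?_, ?_⟩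
  · intro h
    rcases trace_mul_of_mk_eq A Z B h with h' | h'
    · rw [hBZ', hBA] at h'
      exact hsn2 h'.symm
    · rw [hBZ', hBA] at h'
      apply hs2
      linear_combination -h'
  · intro h
    rcases trace_mul_of_mk_eq B Z A h with h' | h'
    · rw [hAZ', ← hsdef] at h'
      exact hsn2 h'.symm
    · rw [hAZ', ← hsdef] at h'
      apply hs2
      linear_combination -h'
  · apply oddOrd_of_trace_sq_eq_four h2
    rw [Matrix.SpecialLinearGroup.coe_mul, hAZ']
    norm_num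
  · apply oddOrd_of_trace_sq_eq_four h2
    rw [Matrix.SpecialLinearGroup.coe_mul, hZB']
    norm_num

/-- when `-1` is not a square and `xy` is elliptic: an involution `z` with `xz`, `zy` split -/
theorem exists_common_nbr_of_not_isSquare_neg_one [Fintype F] (h2 : (2 : F) ≠ 0)
    (hneg : ¬ IsSquare (-1 : F)) (hq4 : 4 ≤ Fintype.card F)
    (A B : SpecialLinearGroup (Fin 2) F)
    (hA : (A : Matrix (Fin 2) (Fin 2) F).trace = 0) (hB : (B : Matrix (Fin 2) (Fin 2) F).trace = 0)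
    (hδ : ¬ IsSquare (((A : Matrix (Fin 2) (Fin 2) F) * B).trace ^ 2 - 4)) :
    ∃ Z : SpecialLinearGroup (Fin 2) F, (Z : Matrix (Fin 2) (Fin 2) F).trace = 0 ∧
      (QuotientGroup.mk Z : ProjectiveSpecialLinearGroup (Fin 2) F) ≠ QuotientGroup.mk A ∧
      (QuotientGroup.mk Z : ProjectiveSpecialLinearGroup (Fin 2) F) ≠ QuotientGroup.mk B ∧
      OddOrd (A * Z) ∧ OddOrd (Z * B) := by
  classical
  obtain ⟨s, hsdef⟩ : ∃ s : F, s = ((A : Matrix (Fin 2) (Fin 2) F) * B).trace := ⟨_, rfl⟩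
  rw [← hsdef] at hδ
  have hq : Fintype.card F % 4 = 3 := by
    by_contra h
    exact hneg (FiniteField.isSquare_neg_one_iff.mpr h)
  have h4 := four_ne_zero_of_two_ne_zero' h2
  obtain ⟨μ, hμ0, hμ4⟩ := exists_pow_four_ne_one (F := F) (by omega)
  have hμ2 : μ ^ 2 ≠ 1 := by
    intro h
    apply hμ4
    have : μ ^ 4 = (μ ^ 2) ^ 2 := by ring
    rw [this, h]; ring
  obtain ⟨s1, hs1⟩ : ∃ s1 : F, s1 = μ + μ⁻¹ := ⟨_, rfl⟩
  have hs1sq : s1 ^ 2 - 4 = (μ - μ⁻¹) ^ 2 := by
    rw [hs1]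
    field_simp
    ring
  have hm0 : μ - μ⁻¹ ≠ 0 := by
    intro h
    apply hμ2
    field_simp at h
    linear_combination h
  have hδ0 : s ^ 2 - 4 ≠ 0 := by
    intro h
    apply hδ
    rw [h]
    exact ⟨0, by simp⟩
  obtain ⟨c, hc⟩ : ∃ c : F, c = (s ^ 2 - 4) * (s1 ^ 2 - 4) / 4 := ⟨_, rfl⟩
  have hc0 : c ≠ 0 := by
    rw [hc, hs1sq]
    exact div_ne_zero (mul_ne_zero hδ0 (pow_ne_zero 2 hm0)) h4
  have hT1 := card_circle_abscissae h2 hneg c (s * s1 / 2) hc0
  have hT2 := card_hyperbolic_traces (F := F) h2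
  have hinter := Finset.inter_nonempty_of_card_lt_card_add_card
    (Finset.subset_univ (Finset.univ.filter
      (fun σ : F => ∃ w : F, (σ + s * s1 / 2) ^ 2 + w ^ 2 = c)))
    (Finset.subset_univ (Finset.univ.filter (fun σ : F => ∃ ν : F, ν ≠ 0 ∧ σ = ν + ν⁻¹)))
    (by rw [Finset.card_univ]; omega)
  obtain ⟨s2, hs2mem⟩ := hinter
  rw [Finset.mem_inter, Finset.mem_filter, Finset.mem_filter] at hs2mem
  obtain ⟨⟨-, w, hw⟩, -, ν, hν0, hν⟩ := hs2mem
  have hΔ : (4 : F) - s ^ 2 ≠ 0 := by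
    intro h
    apply hδ0
    linear_combination -h
  obtain ⟨p1, p2, p3, p4⟩ := pencil_props (A : Matrix (Fin 2) (Fin 2) F) B A.2 hA B.2 hB
    (-(2 * s1 + s * s2) / (4 - s ^ 2)) (-(2 * s2 + s * s1) / (4 - s ^ 2)) (w / (4 - s ^ 2))
  rw [← hsdef] at p2 p3 p4
  have hdet : ((-(2 * s1 + s * s2) / (4 - s ^ 2)) • (A : Matrix (Fin 2) (Fin 2) F) +
      (-(2 * s2 + s * s1) / (4 - s ^ 2)) • (B : Matrix (Fin 2) (Fin 2) F) +
      (w / (4 - s ^ 2)) • ((A : Matrix (Fin 2) (Fin 2) F) * B - B * A)).det = 1 := by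
    have hw2 : w ^ 2 + s2 ^ 2 + s * s1 * s2 + s ^ 2 + s1 ^ 2 - 4 = 0 := by
      have h16 : (16 : F) ≠ 0 := by
        have : (16 : F) = 4 * 4 := by norm_num
        rw [this]
        exact mul_ne_zero h4 h4
      apply mul_left_cancel₀ h16
      rw [hc] at hw
      field_simp at hw
      linear_combination hw
    rw [p4]
    field_simp
    linear_combination (4 - s ^ 2) * hw2
  have hAZ : ((A : Matrix (Fin 2) (Fin 2) F) *
      ((-(2 * s1 + s * s2) / (4 - s ^ 2)) • (A : Matrix (Fin 2) (Fin 2) F) +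
      (-(2 * s2 + s * s1) / (4 - s ^ 2)) • (B : Matrix (Fin 2) (Fin 2) F) +
      (w / (4 - s ^ 2)) • ((A : Matrix (Fin 2) (Fin 2) F) * B - B * A))).trace = s1 := by
    rw [p2]
    field_simp
    ring
  have hZB : (((-(2 * s1 + s * s2) / (4 - s ^ 2)) • (A : Matrix (Fin 2) (Fin 2) F) +
      (-(2 * s2 + s * s1) / (4 - s ^ 2)) • (B : Matrix (Fin 2) (Fin 2) F) +
      (w / (4 - s ^ 2)) • ((A : Matrix (Fin 2) (Fin 2) F) * B - B * A)) * B).trace = s2 := by
    rw [p3]
    field_simp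
    ring
  set Z : SpecialLinearGroup (Fin 2) F := ⟨_, hdet⟩ with hZ
  have hAZ' : ((A : Matrix (Fin 2) (Fin 2) F) * Z).trace = s1 := hAZ
  have hZB' : ((Z : Matrix (Fin 2) (Fin 2) F) * B).trace = s2 := hZB
  have hAA : ((A : Matrix (Fin 2) (Fin 2) F) * A).trace = -2 := by
    rw [mul_self_of_trace_zero _ A.2 hA, Matrix.trace_neg, Matrix.trace_one, Fintype.card_fin]
    norm_num
  have hs1ne : s1 ^ 2 ≠ 4 := by
    intro h
    apply hm0
    have : (μ - μ⁻¹) ^ 2 = 0 := by rw [← hs1sq, h]; ring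
    exact pow_eq_zero_iff (two_ne_zero) |>.mp this
  refine ⟨Z, p1, ?_, ?_, ?_, ?_⟩
  · intro h
    apply hs1ne
    rcases trace_mul_of_mk_eq A Z A h with h' | h'
    · rw [hAZ', hAA] at h'
      rw [h']; norm_num
    · rw [hAZ', hAA] at h'
      rw [h']; norm_num
  · intro h
    apply hδ
    have hsq : s ^ 2 - 4 = (μ - μ⁻¹) ^ 2 := by
      rw [← hs1sq]
      rcases trace_mul_of_mk_eq B Z A h with h' | h'
      · rw [hAZ', ← hsdef] at h'
        rw [h']
      · rw [hAZ', ← hsdef] at h'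
        rw [h']; ring
    rw [hsq]
    exact ⟨μ - μ⁻¹, by ring⟩
  · apply oddOrd_of_hyperbolic h2 hq (A * Z) μ hμ0 hμ2
    rw [Matrix.SpecialLinearGroup.coe_mul, hAZ']
    exact hs1
  · by_cases hν2 : ν ^ 2 = 1
    · apply oddOrd_of_trace_sq_eq_four h2
      rw [Matrix.SpecialLinearGroup.coe_mul, hZB', hν]
      field_simp
      linear_combination (ν ^ 2 - 1) * hν2
    · apply oddOrd_of_hyperbolic h2 hq (Z * B) ν hν0 hν2
      rw [Matrix.SpecialLinearGroup.coe_mul, hZB', hν]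

/-- odd `q ≥ 5`: two involutions of `PSL₂(q)` have a product of odd order or a common neighbour -/
theorem key_odd [Fintype F] (h2 : (2 : F) ≠ 0) (hq4 : 4 ≤ Fintype.card F)
    (A B : SpecialLinearGroup (Fin 2) F)
    (hA : (A : Matrix (Fin 2) (Fin 2) F).trace = 0) (hB : (B : Matrix (Fin 2) (Fin 2) F).trace = 0) :
    OddOrd (A * B) ∨ ∃ Z : SpecialLinearGroup (Fin 2) F, (Z : Matrix (Fin 2) (Fin 2) F).trace = 0 ∧
      (QuotientGroup.mk Z : ProjectiveSpecialLinearGroup (Fin 2) F) ≠ QuotientGroup.mk A ∧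
      (QuotientGroup.mk Z : ProjectiveSpecialLinearGroup (Fin 2) F) ≠ QuotientGroup.mk B ∧
      OddOrd (A * Z) ∧ OddOrd (Z * B) := by
  by_cases hs : ((A : Matrix (Fin 2) (Fin 2) F) * B).trace ^ 2 = 4
  · left
    apply oddOrd_of_trace_sq_eq_four h2
    rw [Matrix.SpecialLinearGroup.coe_mul]
    exact hs
  by_cases hneg : IsSquare (-1 : F)
  · right
    obtain ⟨i, hi⟩ := hneg
    exact exists_common_nbr_of_isSquare_neg_one h2 i (by rw [pow_two, ← hi]) A B hA hB hs
  by_cases hδ : IsSquare (((A : Matrix (Fin 2) (Fin 2) F) * B).trace ^ 2 - 4)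
  · left
    obtain ⟨r, hr⟩ := hδ
    have hq : Fintype.card F % 4 = 3 := by
      by_contra h
      exact hneg (FiniteField.isSquare_neg_one_iff.mpr h)
    have h4 := four_ne_zero_of_two_ne_zero' h2
    obtain ⟨s, hsdef⟩ : ∃ s : F, s = ((A : Matrix (Fin 2) (Fin 2) F) * B).trace := ⟨_, rfl⟩
    rw [← hsdef] at hr hs
    have hprod : ((s + r) / 2) * ((s - r) / 2) = 1 := by
      field_simp
      linear_combination hr
    have hμ0 : (s + r) / 2 ≠ 0 := by
      intro h
      rw [h, zero_mul] at hprod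
      exact zero_ne_one hprod
    have hinv : ((s + r) / 2)⁻¹ = (s - r) / 2 := by
      exact inv_eq_of_mul_eq_one_right hprod
    have hr0 : r ≠ 0 := by
      rintro rfl
      apply hs
      linear_combination hr
    apply oddOrd_of_hyperbolic h2 hq (A * B) ((s + r) / 2) hμ0
    · intro h
      apply hr0
      have h5 : (s + r) / 2 = (s - r) / 2 := by
        have : ((s + r) / 2) * ((s + r) / 2) = ((s + r) / 2) * ((s - r) / 2) := by
          rw [hprod, ← pow_two, h]
        exact mul_left_cancel₀ hμ0 this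
      field_simp at h5
      have : (2 : F) * r = 0 := by linear_combination h5
      exact (mul_eq_zero.mp this).resolve_left h2
    · rw [Matrix.SpecialLinearGroup.coe_mul, ← hsdef, hinv]
      field_simp
      ring
  · right
    exact exists_common_nbr_of_not_isSquare_neg_one h2 hneg hq4 A B hA hB hδ

theorem lin_two_roots {b c l l' : F} (h1 : b * l + c = 0) (h2 : b * l' + c = 0) (hne : l ≠ l') :
    b = 0 ∧ c = 0 := by
  have hb : b * (l - l') = 0 := by linear_combination h1 - h2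
  have hb0 : b = 0 := (mul_eq_zero.mp hb).resolve_right (sub_ne_zero.mpr hne)
  refine ⟨hb0, ?_⟩
  rw [hb0] at h1
  linear_combination h1

/-- even `q ≥ 4`: two involutions of `PSL₂(q)` have a product of odd order or a common neighbour -/
theorem key_even [Fintype F] (h2 : (2 : F) = 0) (hq4 : 4 ≤ Fintype.card F)
    (A B : SpecialLinearGroup (Fin 2) F) (hA1 : A ≠ 1) (hB1 : B ≠ 1)
    (hA : (A : Matrix (Fin 2) (Fin 2) F).trace = 0) (hB : (B : Matrix (Fin 2) (Fin 2) F).trace = 0) :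
    OddOrd (A * B) ∨ ∃ Z : SpecialLinearGroup (Fin 2) F, (Z : Matrix (Fin 2) (Fin 2) F).trace = 0 ∧
      (QuotientGroup.mk Z : ProjectiveSpecialLinearGroup (Fin 2) F) ≠ 1 ∧
      (QuotientGroup.mk Z : ProjectiveSpecialLinearGroup (Fin 2) F) ≠ QuotientGroup.mk A ∧
      (QuotientGroup.mk Z : ProjectiveSpecialLinearGroup (Fin 2) F) ≠ QuotientGroup.mk B ∧
      OddOrd (A * Z) ∧ OddOrd (Z * B) := by
  classical
  by_cases hs : ((A : Matrix (Fin 2) (Fin 2) F) * B).trace ≠ 0
  · left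
    apply oddOrd_char_two h2
    rw [Matrix.SpecialLinearGroup.coe_mul]
    exact hs
  right
  have hchar : ringChar F = 2 :=
    CharP.ringChar_of_prime_eq_zero Nat.prime_two (by exact_mod_cast h2)
  -- a third element of the field
  obtain ⟨e, he⟩ : ∃ e : F, e ∉ ({0, 1} : Finset F) := by
    by_contra hcon
    push Not at hcon
    have hsub : (Finset.univ : Finset F) ⊆ {0, 1} := fun x _ => hcon x
    have := Finset.card_le_card hsub
    rw [Finset.card_univ] at this
    have h3 : ({0, 1} : Finset F).card ≤ 2 := Finset.card_le_two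
    omega
  rw [Finset.mem_insert, Finset.mem_singleton, not_or] at he
  obtain ⟨he0, he1⟩ := he
  rw [Matrix.trace_fin_two] at hA hB
  have hAd : (A : Matrix (Fin 2) (Fin 2) F) 1 1 = (A : Matrix (Fin 2) (Fin 2) F) 0 0 := by
    linear_combination hA - (A : Matrix (Fin 2) (Fin 2) F) 0 0 * h2
  have hBd : (B : Matrix (Fin 2) (Fin 2) F) 1 1 = (B : Matrix (Fin 2) (Fin 2) F) 0 0 := by
    linear_combination hB - (B : Matrix (Fin 2) (Fin 2) F) 0 0 * h2
  have hAns : ¬ ((A : Matrix (Fin 2) (Fin 2) F) 0 1 = 0 ∧ (A : Matrix (Fin 2) (Fin 2) F) 1 0 = 0) := by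
    rintro ⟨h01, h10⟩
    exact hA1 (sl2_eq_one_of_scalar_char_two h2 A ⟨h01, h10, hAd.symm⟩)
  have hBns : ¬ ((B : Matrix (Fin 2) (Fin 2) F) 0 1 = 0 ∧ (B : Matrix (Fin 2) (Fin 2) F) 1 0 = 0) := by
    rintro ⟨h01, h10⟩
    exact hB1 (sl2_eq_one_of_scalar_char_two h2 B ⟨h01, h10, hBd.symm⟩)
  -- choose `l` with both linear forms non-zero
  obtain ⟨l, hlA, hlB⟩ : ∃ l : F,
      (A : Matrix (Fin 2) (Fin 2) F) 0 1 * l + (A : Matrix (Fin 2) (Fin 2) F) 1 0 ≠ 0 ∧
      (B : Matrix (Fin 2) (Fin 2) F) 0 1 * l + (B : Matrix (Fin 2) (Fin 2) F) 1 0 ≠ 0 := by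
    by_contra hcon
    push Not at hcon
    have hbad : ∀ l : F,
        (A : Matrix (Fin 2) (Fin 2) F) 0 1 * l + (A : Matrix (Fin 2) (Fin 2) F) 1 0 = 0 ∨
        (B : Matrix (Fin 2) (Fin 2) F) 0 1 * l + (B : Matrix (Fin 2) (Fin 2) F) 1 0 = 0 := by
      intro l
      by_cases h : (A : Matrix (Fin 2) (Fin 2) F) 0 1 * l + (A : Matrix (Fin 2) (Fin 2) F) 1 0 = 0
      · exact Or.inl h
      · exact Or.inr (hcon l h)
    have h01 : (0 : F) ≠ 1 := zero_ne_one
    rcases hbad 0 with a0 | b0 <;> rcases hbad 1 with a1 | b1 <;> rcases hbad e with ae | be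
    · exact hAns (lin_two_roots a0 a1 h01)
    · exact hAns (lin_two_roots a0 a1 h01)
    · exact hAns (lin_two_roots a0 ae (Ne.symm he0))
    · exact hBns (lin_two_roots b1 be (Ne.symm he1))
    · exact hAns (lin_two_roots a1 ae (Ne.symm he1))
    · exact hBns (lin_two_roots b0 be (Ne.symm he0))
    · exact hBns (lin_two_roots b0 b1 h01)
    · exact hBns (lin_two_roots b0 b1 h01)
  obtain ⟨z1, hz1⟩ := FiniteField.isSquare_of_char_two hchar (1 + l)
  let Z : SpecialLinearGroup (Fin 2) F := ⟨!![z1, 1; l, z1], by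
    rw [Matrix.det_fin_two_of]
    linear_combination -hz1⟩
  have hZtr : (Z : Matrix (Fin 2) (Fin 2) F).trace = 0 := by
    show (!![z1, 1; l, z1] : Matrix (Fin 2) (Fin 2) F).trace = 0
    rw [Matrix.trace_fin_two_of]
    linear_combination z1 * h2
  have hAZ : ((A : Matrix (Fin 2) (Fin 2) F) * Z).trace =
      (A : Matrix (Fin 2) (Fin 2) F) 0 1 * l + (A : Matrix (Fin 2) (Fin 2) F) 1 0 := by
    show ((A : Matrix (Fin 2) (Fin 2) F) * !![z1, 1; l, z1]).trace = _
    simp only [Matrix.trace_fin_two, Matrix.mul_apply, Fin.sum_univ_two, Matrix.of_apply,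
      Matrix.cons_val', Matrix.cons_val_zero, Matrix.cons_val_one, Matrix.empty_val',
      Matrix.cons_val_fin_one, hAd]
    linear_combination (A : Matrix (Fin 2) (Fin 2) F) 0 0 * z1 * h2
  have hZB : ((Z : Matrix (Fin 2) (Fin 2) F) * B).trace =
      (B : Matrix (Fin 2) (Fin 2) F) 0 1 * l + (B : Matrix (Fin 2) (Fin 2) F) 1 0 := by
    show ((!![z1, 1; l, z1] : Matrix (Fin 2) (Fin 2) F) * B).trace = _
    simp only [Matrix.trace_fin_two, Matrix.mul_apply, Fin.sum_univ_two, Matrix.of_apply,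
      Matrix.cons_val', Matrix.cons_val_zero, Matrix.cons_val_one, Matrix.empty_val',
      Matrix.cons_val_fin_one, hBd]
    linear_combination (B : Matrix (Fin 2) (Fin 2) F) 0 0 * z1 * h2
  have hsq : ∀ C : SpecialLinearGroup (Fin 2) F,
      (C : Matrix (Fin 2) (Fin 2) F) 0 0 + (C : Matrix (Fin 2) (Fin 2) F) 1 1 = 0 →
      ((C : Matrix (Fin 2) (Fin 2) F) * C).trace = 0 := by
    intro C hC
    rw [mul_self_of_trace_zero _ C.2 (by rw [Matrix.trace_fin_two]; exact hC), Matrix.trace_neg,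
      Matrix.trace_one, Fintype.card_fin]
    push_cast
    linear_combination -h2
  refine ⟨Z, hZtr, ?_, ?_, ?_, ?_, ?_⟩
  · rw [ne_eq, psl2_mk_eq_one_iff]
    rintro (h | h)
    · have := congrFun (congrFun h 0) 1
      simp [Z] at this
    · have := congrFun (congrFun h 0) 1
      simp [Z] at this
  · intro h
    apply hlA
    rw [← hAZ]
    rcases trace_mul_of_mk_eq A Z A h with h' | h'
    · rw [h', hsq A hA]
    · rw [h', hsq A hA, neg_zero]
  · intro h
    apply hlB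
    rw [← hZB, Matrix.trace_mul_comm]
    rcases trace_mul_of_mk_eq B Z B h with h' | h'
    · rw [h', hsq B hB]
    · rw [h', hsq B hB, neg_zero]
  · apply oddOrd_char_two h2
    rw [Matrix.SpecialLinearGroup.coe_mul, hAZ]
    exact hlA
  · apply oddOrd_char_two h2
    rw [Matrix.SpecialLinearGroup.coe_mul, hZB]
    exact hlB

end Cfsg.Agent.Helper41
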