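import Mathlib
import Cfsg.Agent.Lib.Helper41.SL2Quat

set_option autoImplicit false

namespace Cfsg.Agent.Helper41

open Matrix Cfsg.Agent.Helper19

variable {F : Type*} [Field F]

/-- quaternion pairs in `SL₂` -/
def IsQuatPair (A B : SpecialLinearGroup (Fin 2) F) : Prop :=
  (A : Matrix (Fin 2) (Fin 2) F).trace = 0 ∧ (B : Matrix (Fin 2) (Fin 2) F).trace = 0 ∧
    ((A : Matrix (Fin 2) (Fin 2) F) * B).trace = 0

theorem IsQuatPair.sqA {A B : SpecialLinearGroup (Fin 2) F} (h : IsQuatPair A B) :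
    (A : Matrix (Fin 2) (Fin 2) F) * A = -1 := mul_self_of_trace_zero _ A.2 h.1

theorem IsQuatPair.sqB {A B : SpecialLinearGroup (Fin 2) F} (h : IsQuatPair A B) :
    (B : Matrix (Fin 2) (Fin 2) F) * B = -1 := mul_self_of_trace_zero _ B.2 h.2.1

theorem IsQuatPair.anti {A B : SpecialLinearGroup (Fin 2) F} (h : IsQuatPair A B)
    (h2 : (2 : F) ≠ 0) :
    (B : Matrix (Fin 2) (Fin 2) F) * A = -((A : Matrix (Fin 2) (Fin 2) F) * B) :=
  (anticomm_iff_trace_mul_zero h2 _ _ h.1 h.2.1).mpr h.2.2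

theorem IsQuatPair.swap {A B : SpecialLinearGroup (Fin 2) F} (h : IsQuatPair A B) :
    IsQuatPair B A := ⟨h.2.1, h.1, by rw [Matrix.trace_mul_comm]; exact h.2.2⟩

theorem IsQuatPair.conj {A B : SpecialLinearGroup (Fin 2) F} (h : IsQuatPair A B)
    (x : SpecialLinearGroup (Fin 2) F) : IsQuatPair (x * A * x⁻¹) (x * B * x⁻¹) := by
  refine ⟨by rw [sl2_trace_conj]; exact h.1, by rw [sl2_trace_conj]; exact h.2.1, ?_⟩
  have h1 : x * A * x⁻¹ * (x * B * x⁻¹) = x * (A * B) * x⁻¹ := by group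
  rw [← Matrix.SpecialLinearGroup.coe_mul, h1, sl2_trace_conj, Matrix.SpecialLinearGroup.coe_mul]
  exact h.2.2

/-- the Klein four subgroup of `PSL₂` attached to a quaternion pair -/
def quatKlein (h2 : (2 : F) ≠ 0) (A B : SpecialLinearGroup (Fin 2) F) (h : IsQuatPair A B) :
    Subgroup (ProjectiveSpecialLinearGroup (Fin 2) F) :=
  kleinFour (QuotientGroup.mk A) (QuotientGroup.mk B) ((quat_pair_iff h2 A B).mp h).2.2.1
    ((quat_pair_iff h2 A B).mp h).2.2.2.1 ((quat_pair_iff h2 A B).mp h).2.2.2.2.1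

theorem mem_quatKlein (h2 : (2 : F) ≠ 0) (A B : SpecialLinearGroup (Fin 2) F)
    (h : IsQuatPair A B) (g : ProjectiveSpecialLinearGroup (Fin 2) F) :
    g ∈ quatKlein h2 A B h ↔ (g = 1 ∨ g = QuotientGroup.mk A ∨ g = QuotientGroup.mk B ∨
      g = QuotientGroup.mk A * QuotientGroup.mk B) := Iff.rfl

theorem quatKlein_isKleinFour [Finite F] (h2 : (2 : F) ≠ 0) (A B : SpecialLinearGroup (Fin 2) F)
    (h : IsQuatPair A B) : IsKleinFour (quatKlein h2 A B h) := by
  have h' := (quat_pair_iff h2 A B).mp h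
  haveI : Fintype F := Fintype.ofFinite F
  exact kleinFour_isKleinFour _ _ _ h'.1 h'.2.1 h'.2.2.2.2.2

theorem quatKlein_congr (h2 : (2 : F) ≠ 0) {A B A' B' : SpecialLinearGroup (Fin 2) F}
    (h : IsQuatPair A B) (h' : IsQuatPair A' B') (hA : A = A') (hB : B = B') :
    quatKlein h2 A B h = quatKlein h2 A' B' h' := by
  subst hA
  subst hB
  rfl

theorem quatKlein_swap (h2 : (2 : F) ≠ 0) (A B : SpecialLinearGroup (Fin 2) F)
    (h : IsQuatPair A B) : quatKlein h2 B A h.swap = quatKlein h2 A B h :=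
  kleinFour_swap _ _ _

theorem exists_quatKlein_eq [Fintype F] (h2 : (2 : F) ≠ 0)
    (W : Subgroup (ProjectiveSpecialLinearGroup (Fin 2) F)) (hW : IsKleinFour W) :
    ∃ (A B : SpecialLinearGroup (Fin 2) F) (h : IsQuatPair A B), W = quatKlein h2 A B h := by
  obtain ⟨a, b, ha, hb, ha1, hb1, hab⟩ := exists_pair_of_isKleinFour W hW
  obtain ⟨A, rfl⟩ := psl2_exists_rep a
  obtain ⟨B, rfl⟩ := psl2_exists_rep b
  have h : IsQuatPair A B := (quat_pair_iff h2 A B).mpr
    ⟨ha1, hb1, mul_self_of_mem_isKleinFour W hW ha, mul_self_of_mem_isKleinFour W hW hb,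
      mul_comm_of_mem_isKleinFour W hW ha hb, hab⟩
  exact ⟨A, B, h, (kleinFour_eq_of_mem W hW ha hb ha1 hb1 hab).symm⟩

theorem quatKlein_map_conj (h2 : (2 : F) ≠ 0) (A B : SpecialLinearGroup (Fin 2) F)
    (h : IsQuatPair A B) (x : SpecialLinearGroup (Fin 2) F) :
    (quatKlein h2 A B h).map (MulAut.conj
      (QuotientGroup.mk x : ProjectiveSpecialLinearGroup (Fin 2) F)).toMonoidHom =
      quatKlein h2 (x * A * x⁻¹) (x * B * x⁻¹) (h.conj x) := by
  unfold quatKlein
  rw [map_kleinFour]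
  rfl

theorem det_add_fin_two (A B : Matrix (Fin 2) (Fin 2) F) :
    (A + B).det = A.det + B.det + A.trace * B.trace - (A * B).trace := by
  simp only [Matrix.det_fin_two, Matrix.trace_fin_two, Matrix.add_apply, Matrix.mul_apply,
    Fin.sum_univ_two]
  ring

theorem det_one_add_fin_two (X : Matrix (Fin 2) (Fin 2) F) :
    (1 + X).det = 1 + X.trace + X.det := by
  rw [det_add_fin_two, Matrix.det_one, Matrix.trace_one, Matrix.one_mul, Fintype.card_fin]
  push_cast
  ring

theorem det_one_sub_fin_two (X : Matrix (Fin 2) (Fin 2) F) :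
    (1 - X).det = 1 - X.trace + X.det := by
  rw [sub_eq_add_neg, det_one_add_fin_two, Matrix.trace_neg, Matrix.det_neg, Fintype.card_fin]
  ring

/-- `det (α + β A) = α² + β²` for traceless `A` of determinant one -/
theorem det_smul_one_add_smul (A : Matrix (Fin 2) (Fin 2) F) (hdet : A.det = 1)
    (htr : A.trace = 0) (α β : F) :
    (α • (1 : Matrix (Fin 2) (Fin 2) F) + β • A).det = α ^ 2 + β ^ 2 := by
  rw [Matrix.det_fin_two] at hdet ⊢
  rw [Matrix.trace_fin_two] at htr
  have hd : A 1 1 = -A 0 0 := by linear_combination htr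
  simp only [Matrix.add_apply, Matrix.smul_apply, Matrix.one_apply_eq, smul_eq_mul,
    Matrix.one_apply_ne (show (0 : Fin 2) ≠ 1 by decide),
    Matrix.one_apply_ne (show (1 : Fin 2) ≠ 0 by decide)]
  rw [hd] at hdet ⊢
  linear_combination β ^ 2 * hdet

/-- a matrix commuting with both members of a quaternion pair is scalar -/
theorem scalar_of_commute_quatPair (h2 : (2 : F) ≠ 0) {A B : SpecialLinearGroup (Fin 2) F}
    (h : IsQuatPair A B) (M : Matrix (Fin 2) (Fin 2) F)
    (hA : (A : Matrix (Fin 2) (Fin 2) F) * M = M * A)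
    (hB : (B : Matrix (Fin 2) (Fin 2) F) * M = M * B) :
    ∃ α : F, M = α • (1 : Matrix (Fin 2) (Fin 2) F) := by
  obtain ⟨α, β, hM⟩ := exists_eq_smul_add_smul_of_commute _ M
    (not_scalar_of_trace_zero h2 _ A.2 h.1) hA
  refine ⟨α, ?_⟩
  have hβ : β = 0 := by
    by_contra hβ
    have hanti := h.anti h2
    rw [hM] at hB
    simp only [Matrix.mul_add, Matrix.add_mul, Matrix.mul_smul, Matrix.smul_mul, Matrix.mul_one,
      Matrix.one_mul, hanti] at hB
    have h4 := add_left_cancel hB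
    rw [smul_neg, neg_eq_iff_add_eq_zero, ← two_smul F] at h4
    have h5 : ((A : Matrix (Fin 2) (Fin 2) F) * B) = 0 := by
      rcases smul_eq_zero.mp h4 with h6 | h6
      · exact absurd h6 h2
      · rcases smul_eq_zero.mp h6 with h7 | h7
        · exact absurd h7 hβ
        · exact h7
    have h6 := congrArg Matrix.det h5
    rw [Matrix.det_mul, A.2, B.2, Matrix.det_zero] at h6
    simp at h6
  rw [hM, hβ, zero_smul, add_zero]

/-- two invertible intertwiners out of a quaternion pair differ by a scalar -/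
theorem intertwiner_unique (h2 : (2 : F) ≠ 0) {A B : SpecialLinearGroup (Fin 2) F}
    (h : IsQuatPair A B) (X Y g g0 : Matrix (Fin 2) (Fin 2) F) (hg0 : g0.det ≠ 0)
    (hgA : g * A = X * g) (hgB : g * B = Y * g) (h0A : g0 * A = X * g0) (h0B : g0 * B = Y * g0) :
    ∃ α : F, g = α • g0 := by
  have hu : IsUnit g0.det := isUnit_iff_ne_zero.mpr hg0
  have hinv1 : g0⁻¹ * g0 = 1 := Matrix.nonsing_inv_mul g0 hu
  have hinv2 : g0 * g0⁻¹ = 1 := Matrix.mul_nonsing_inv g0 hu
  have hA' : (A : Matrix (Fin 2) (Fin 2) F) * g0⁻¹ = g0⁻¹ * X := by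
    calc (A : Matrix (Fin 2) (Fin 2) F) * g0⁻¹ = g0⁻¹ * (g0 * A) * g0⁻¹ := by
          rw [← Matrix.mul_assoc, hinv1, Matrix.one_mul]
      _ = g0⁻¹ * X := by rw [h0A, Matrix.mul_assoc, Matrix.mul_assoc, hinv2, Matrix.mul_one]
  have hB' : (B : Matrix (Fin 2) (Fin 2) F) * g0⁻¹ = g0⁻¹ * Y := by
    calc (B : Matrix (Fin 2) (Fin 2) F) * g0⁻¹ = g0⁻¹ * (g0 * B) * g0⁻¹ := by
          rw [← Matrix.mul_assoc, hinv1, Matrix.one_mul]
      _ = g0⁻¹ * Y := by rw [h0B, Matrix.mul_assoc, Matrix.mul_assoc, hinv2, Matrix.mul_one]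
  obtain ⟨α, hα⟩ := scalar_of_commute_quatPair h2 h (g0⁻¹ * g)
    (by rw [← Matrix.mul_assoc, hA', Matrix.mul_assoc, ← hgA, Matrix.mul_assoc])
    (by rw [← Matrix.mul_assoc, hB', Matrix.mul_assoc, ← hgB, Matrix.mul_assoc])
  refine ⟨α, ?_⟩
  calc g = g0 * (g0⁻¹ * g) := by rw [← Matrix.mul_assoc, hinv2, Matrix.one_mul]
    _ = α • g0 := by rw [hα, Matrix.mul_smul, Matrix.mul_one]

theorem ring_sq_assoc {R : Type*} [Ring R] {a : R} (h : a * a = -1) (z : R) :
    a * (a * z) = -z := by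
  rw [← mul_assoc, h, neg_mul, one_mul]

theorem ring_anti_assoc {R : Type*} [Ring R] {a b : R} (h : b * a = -(a * b)) (z : R) :
    b * (a * z) = -(a * (b * z)) := by
  rw [← mul_assoc, h, neg_mul, mul_assoc]

theorem four_ne_zero_of_two_ne_zero (h2 : (2 : F) ≠ 0) : (4 : F) ≠ 0 := by
  have : (4 : F) = 2 * 2 := by norm_num
  rw [this]
  exact mul_ne_zero h2 h2

/-- `GL₂(q)` is transitive on quaternion pairs (explicit Hilbert 90) -/
theorem exists_intertwiner [Fintype F] (h2 : (2 : F) ≠ 0) {A B A' B' : SpecialLinearGroup (Fin 2) F}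
    (h : IsQuatPair A B) (h' : IsQuatPair A' B') :
    ∃ g : Matrix (Fin 2) (Fin 2) F, g.det ≠ 0 ∧ g * A = A' * g ∧ g * B = B' * g := by
  have h4 : (A : Matrix (Fin 2) (Fin 2) F).trace ^ 2 ≠ 4 := by
    rw [h.1]
    intro h0
    exact four_ne_zero_of_two_ne_zero h2 (by linear_combination -h0)
  obtain ⟨U, hU⟩ := sl2_exists_conj_of_trace_eq A A' (by rw [h.1, h'.1]) h4
  have hq := h.conj U
  rw [hU] at hq
  have hUA : (U : Matrix (Fin 2) (Fin 2) F) * A = A' * U := by
    have h1 : U * A = A' * U := by rw [← hU]; group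
    have h3 := congrArg (fun X : SpecialLinearGroup (Fin 2) F => (X : Matrix (Fin 2) (Fin 2) F)) h1
    simpa only [Matrix.SpecialLinearGroup.coe_mul] using h3
  have hUB : (U : Matrix (Fin 2) (Fin 2) F) * B =
      ((U * B * U⁻¹ : SpecialLinearGroup (Fin 2) F) : Matrix (Fin 2) (Fin 2) F) * U := by
    have h1 : U * B = (U * B * U⁻¹) * U := by group
    have h3 := congrArg (fun X : SpecialLinearGroup (Fin 2) F => (X : Matrix (Fin 2) (Fin 2) F)) h1
    simp only [Matrix.SpecialLinearGroup.coe_mul] at h3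
    simp only [Matrix.SpecialLinearGroup.coe_mul]
    exact h3
  generalize (U * B * U⁻¹ : SpecialLinearGroup (Fin 2) F) = B'' at hq hUB
  have a1 := h'.sqA
  have b1 := h'.sqB
  have b2 := hq.sqB
  have ab1 := h'.anti h2
  have ab2 := hq.anti h2
  by_cases hX : ((B' : Matrix (Fin 2) (Fin 2) F) * B'').trace = 2
  · -- then `B' * B'' = 1`
    have hXc : (A' : Matrix (Fin 2) (Fin 2) F) * ((B' : Matrix (Fin 2) (Fin 2) F) * B'') =
        ((B' : Matrix (Fin 2) (Fin 2) F) * B'') * A' := by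
      simp only [mul_assoc, ab2, mul_neg, ring_anti_assoc ab1, neg_neg]
    obtain ⟨α, β, hαβ⟩ := exists_eq_smul_add_smul_of_commute _ _
      (not_scalar_of_trace_zero h2 _ A'.2 h'.1) hXc
    have hα : α = 1 := by
      have h3 := hX
      rw [hαβ, Matrix.trace_add, Matrix.trace_smul, Matrix.trace_smul, h'.1, Matrix.trace_one,
        Fintype.card_fin] at h3
      simp only [smul_eq_mul, mul_zero, add_zero] at h3
      have h5 : (2 : F) * (α - 1) = 0 := by
        have : ((2 : ℕ) : F) = 2 := by norm_num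
        rw [this] at h3
        linear_combination h3
      have := (mul_eq_zero.mp h5).resolve_left h2
      linear_combination this
    have hβ : β = 0 := by
      have h3 : ((B' : Matrix (Fin 2) (Fin 2) F) * B'').det = 1 := by
        rw [Matrix.det_mul, B'.2, B''.2, mul_one]
      rw [hαβ, det_smul_one_add_smul _ A'.2 h'.1, hα] at h3
      have : β ^ 2 = 0 := by linear_combination h3
      exact pow_eq_zero_iff (two_ne_zero) |>.mp this
    rw [hα, hβ, one_smul, zero_smul, add_zero] at hαβ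
    have hR : (B'' : Matrix (Fin 2) (Fin 2) F) = -B' := by
      have h3 := congrArg (fun Z => (B' : Matrix (Fin 2) (Fin 2) F) * Z) hαβ
      simp only [ring_sq_assoc b1, mul_one] at h3
      rw [← h3, neg_neg]
    refine ⟨(A' : Matrix (Fin 2) (Fin 2) F) * U, ?_, ?_, ?_⟩
    · rw [Matrix.det_mul, A'.2, U.2, mul_one]
      exact one_ne_zero
    · rw [mul_assoc, hUA]
    · rw [mul_assoc, hUB, hR]
      simp only [mul_assoc, neg_mul, mul_neg, ring_anti_assoc ab1, neg_neg]
  · have hcP : (1 - (B' : Matrix (Fin 2) (Fin 2) F) * B'') * A' =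
        A' * (1 - (B' : Matrix (Fin 2) (Fin 2) F) * B'') := by
      simp only [sub_mul, mul_sub, one_mul, mul_one, mul_assoc, ab2, mul_neg,
        ring_anti_assoc ab1, neg_neg]
    have hcR : (1 - (B' : Matrix (Fin 2) (Fin 2) F) * B'') * B'' =
        B' * (1 - (B' : Matrix (Fin 2) (Fin 2) F) * B'') := by
      simp only [sub_mul, mul_sub, one_mul, mul_one, mul_assoc, b2, ring_sq_assoc b1, mul_neg,
        sub_neg_eq_add]
      abel
    refine ⟨(1 - (B' : Matrix (Fin 2) (Fin 2) F) * B'') * U, ?_, ?_, ?_⟩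
    · rw [Matrix.det_mul, U.2, mul_one, det_one_sub_fin_two, Matrix.det_mul, B'.2, B''.2]
      intro h0
      apply hX
      linear_combination -h0
    · rw [mul_assoc, hUA, ← mul_assoc, hcP, mul_assoc]
    · rw [mul_assoc, hUB, ← mul_assoc, hcR, mul_assoc]

theorem det_of_intertwiner (h2 : (2 : F) ≠ 0) {A B : SpecialLinearGroup (Fin 2) F}
    (h : IsQuatPair A B) (X Y g g0 : Matrix (Fin 2) (Fin 2) F) (hg0 : g0.det ≠ 0)
    (h0A : g0 * A = X * g0) (h0B : g0 * B = Y * g0)
    (hgA : g * A = X * g) (hgB : g * B = Y * g) :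
    ∃ α : F, g.det = α ^ 2 * g0.det := by
  obtain ⟨α, rfl⟩ := intertwiner_unique h2 h X Y g g0 hg0 hgA hgB h0A h0B
  exact ⟨α, by rw [Matrix.det_smul, Fintype.card_fin]⟩

theorem det_of_signed_intertwiner (h2 : (2 : F) ≠ 0) {A B : SpecialLinearGroup (Fin 2) F}
    (h : IsQuatPair A B) (X Y : Matrix (Fin 2) (Fin 2) F) (d : F)
    (hcore : ∀ g : Matrix (Fin 2) (Fin 2) F, g * A = X * g → g * B = Y * g →
      ∃ α : F, g.det = α ^ 2 * d)
    (g : Matrix (Fin 2) (Fin 2) F) (hgA : g * A = X * g ∨ g * A = -(X * g))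
    (hgB : g * B = Y * g ∨ g * B = -(Y * g)) : ∃ α : F, g.det = α ^ 2 * d := by
  have a1 := h.sqA
  have b1 := h.sqB
  have ab := h.anti h2
  have ab' : (A : Matrix (Fin 2) (Fin 2) F) * B = -((B : Matrix (Fin 2) (Fin 2) F) * A) := by
    rw [ab, neg_neg]
  rcases hgA with hgA | hgA <;> rcases hgB with hgB | hgB
  · exact hcore g hgA hgB
  · have h1 := hcore (g * A) (by rw [hgA, mul_assoc, hgA])
      (by
        calc g * A * B = g * (A * B) := by rw [mul_assoc]
          _ = -(g * B * A) := by rw [ab', mul_neg, mul_assoc]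
          _ = Y * (g * A) := by rw [hgB, neg_mul, neg_neg, mul_assoc])
    rw [Matrix.det_mul, A.2, mul_one] at h1
    exact h1
  · have h1 := hcore (g * B)
      (by
        calc g * B * A = g * (B * A) := by rw [mul_assoc]
          _ = -(g * A * B) := by rw [ab, mul_neg, mul_assoc]
          _ = X * (g * B) := by rw [hgA, neg_mul, neg_neg, mul_assoc])
      (by rw [hgB, mul_assoc, hgB])
    rw [Matrix.det_mul, B.2, mul_one] at h1
    exact h1
  · have h1 := hcore (g * (A * B))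
      (by
        calc g * (A * B) * A = (g * A) * (B * A) := by simp only [mul_assoc]
          _ = X * (g * (A * B)) := by rw [hgA, ab, neg_mul_neg, mul_assoc])
      (by
        calc g * (A * B) * B = -(g * A) := by
              simp only [mul_assoc, b1, mul_neg, mul_one]
          _ = -(g * B) * (A * B) := by
              rw [neg_mul, mul_assoc, ← mul_assoc (B : Matrix (Fin 2) (Fin 2) F), ab, neg_mul,
                mul_assoc, b1]
              simp only [mul_neg, mul_one, neg_neg]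
          _ = Y * (g * (A * B)) := by rw [hgB, neg_neg, mul_assoc])
    rw [Matrix.det_mul, Matrix.det_mul, A.2, B.2, mul_one, mul_one] at h1
    exact h1

/-- the determinant (mod squares) of a matrix normalizing the frame `{±A, ±B, ±AB}` of a
quaternion pair is `1`, `2` or `4` -/
theorem det_of_frame_normalizer (h2 : (2 : F) ≠ 0) {A B : SpecialLinearGroup (Fin 2) F}
    (h : IsQuatPair A B) (g X Y : Matrix (Fin 2) (Fin 2) F)
    (hX : X = A ∨ X = B ∨ X = (A : Matrix (Fin 2) (Fin 2) F) * B)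
    (hY : Y = A ∨ Y = B ∨ Y = (A : Matrix (Fin 2) (Fin 2) F) * B) (hXY : X ≠ Y)
    (hgA : g * A = X * g ∨ g * A = -(X * g)) (hgB : g * B = Y * g ∨ g * B = -(Y * g)) :
    ∃ α d : F, (d = 1 ∨ d = 2 ∨ d = 4) ∧ g.det = α ^ 2 * d := by
  have a1 := h.sqA
  have b1 := h.sqB
  have ab := h.anti h2
  have h4 := four_ne_zero_of_two_ne_zero h2
  have dA : (1 + (A : Matrix (Fin 2) (Fin 2) F)).det = 2 := by
    rw [det_one_add_fin_two, h.1, A.2]; ring
  have dB : (1 + (B : Matrix (Fin 2) (Fin 2) F)).det = 2 := by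
    rw [det_one_add_fin_two, h.2.1, B.2]; ring
  have dA' : (1 - (A : Matrix (Fin 2) (Fin 2) F)).det = 2 := by
    rw [det_one_sub_fin_two, h.1, A.2]; ring
  have dB' : (1 - (B : Matrix (Fin 2) (Fin 2) F)).det = 2 := by
    rw [det_one_sub_fin_two, h.2.1, B.2]; ring
  rcases hX with rfl | rfl | rfl <;> rcases hY with rfl | rfl | rfl
  · exact absurd rfl hXY
  · -- (A, B)
    obtain ⟨α, hα⟩ := det_of_signed_intertwiner h2 h _ _ 1
      (fun g' hA' hB' => by
        have := det_of_intertwiner h2 h _ _ g' 1 (by rw [Matrix.det_one]; exact one_ne_zero)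
          (by rw [one_mul, mul_one]) (by rw [one_mul, mul_one]) hA' hB'
        rwa [Matrix.det_one] at this) g hgA hgB
    exact ⟨α, 1, Or.inl rfl, hα⟩
  · -- (A, AB)
    obtain ⟨α, hα⟩ := det_of_signed_intertwiner h2 h _ _ 2
      (fun g' hA' hB' => by
        have := det_of_intertwiner h2 h _ _ g' (1 + (A : Matrix (Fin 2) (Fin 2) F))
          (by rw [dA]; exact h2)
          (by simp only [sub_eq_add_neg, add_mul, mul_add, neg_mul, mul_neg, neg_neg, one_mul, mul_one,
                mul_assoc, a1, b1, ab, ring_sq_assoc a1, ring_sq_assoc b1, ring_anti_assoc ab]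
              try abel)
          (by simp only [sub_eq_add_neg, add_mul, mul_add, neg_mul, mul_neg, neg_neg, one_mul, mul_one,
                mul_assoc, a1, b1, ab, ring_sq_assoc a1, ring_sq_assoc b1, ring_anti_assoc ab]
              try abel) hA' hB'
        rwa [dA] at this) g hgA hgB
    exact ⟨α, 2, Or.inr (Or.inl rfl), hα⟩
  · -- (B, A)
    obtain ⟨α, hα⟩ := det_of_signed_intertwiner h2 h _ _ 2
      (fun g' hA' hB' => by
        have hd : ((A : Matrix (Fin 2) (Fin 2) F) + B).det = 2 := by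
          rw [det_add_fin_two, A.2, B.2, h.1, h.2.1, h.2.2]; ring
        have := det_of_intertwiner h2 h _ _ g' ((A : Matrix (Fin 2) (Fin 2) F) + B)
          (by rw [hd]; exact h2)
          (by simp only [sub_eq_add_neg, add_mul, mul_add, neg_mul, mul_neg, neg_neg, one_mul, mul_one,
                mul_assoc, a1, b1, ab, ring_sq_assoc a1, ring_sq_assoc b1, ring_anti_assoc ab]
              try abel)
          (by simp only [sub_eq_add_neg, add_mul, mul_add, neg_mul, mul_neg, neg_neg, one_mul, mul_one,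
                mul_assoc, a1, b1, ab, ring_sq_assoc a1, ring_sq_assoc b1, ring_anti_assoc ab]
              try abel) hA' hB'
        rwa [hd] at this) g hgA hgB
    exact ⟨α, 2, Or.inr (Or.inl rfl), hα⟩
  · exact absurd rfl hXY
  · -- (B, AB)
    obtain ⟨α, hα⟩ := det_of_signed_intertwiner h2 h _ _ 4
      (fun g' hA' hB' => by
        have hd : ((1 + (A : Matrix (Fin 2) (Fin 2) F)) * (1 + B)).det = 4 := by
          rw [Matrix.det_mul, dA, dB]; ring
        have := det_of_intertwiner h2 h _ _ g' ((1 + (A : Matrix (Fin 2) (Fin 2) F)) * (1 + B))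
          (by rw [hd]; exact h4)
          (by simp only [sub_eq_add_neg, add_mul, mul_add, neg_mul, mul_neg, neg_neg, one_mul, mul_one,
                mul_assoc, a1, b1, ab, ring_sq_assoc a1, ring_sq_assoc b1, ring_anti_assoc ab]
              try abel)
          (by simp only [sub_eq_add_neg, add_mul, mul_add, neg_mul, mul_neg, neg_neg, one_mul, mul_one,
                mul_assoc, a1, b1, ab, ring_sq_assoc a1, ring_sq_assoc b1, ring_anti_assoc ab]
              try abel) hA' hB'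
        rwa [hd] at this) g hgA hgB
    exact ⟨α, 4, Or.inr (Or.inr rfl), hα⟩
  · -- (AB, A)
    obtain ⟨α, hα⟩ := det_of_signed_intertwiner h2 h _ _ 4
      (fun g' hA' hB' => by
        have hd : ((1 - (B : Matrix (Fin 2) (Fin 2) F)) * (1 - A)).det = 4 := by
          rw [Matrix.det_mul, dA', dB']; ring
        have := det_of_intertwiner h2 h _ _ g' ((1 - (B : Matrix (Fin 2) (Fin 2) F)) * (1 - A))
          (by rw [hd]; exact h4)
          (by simp only [sub_eq_add_neg, add_mul, mul_add, neg_mul, mul_neg, neg_neg, one_mul, mul_one,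
                mul_assoc, a1, b1, ab, ring_sq_assoc a1, ring_sq_assoc b1, ring_anti_assoc ab]
              try abel)
          (by simp only [sub_eq_add_neg, add_mul, mul_add, neg_mul, mul_neg, neg_neg, one_mul, mul_one,
                mul_assoc, a1, b1, ab, ring_sq_assoc a1, ring_sq_assoc b1, ring_anti_assoc ab]
              try abel) hA' hB'
        rwa [hd] at this) g hgA hgB
    exact ⟨α, 4, Or.inr (Or.inr rfl), hα⟩
  · -- (AB, B)
    obtain ⟨α, hα⟩ := det_of_signed_intertwiner h2 h _ _ 2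
      (fun g' hA' hB' => by
        have := det_of_intertwiner h2 h _ _ g' (1 - (B : Matrix (Fin 2) (Fin 2) F))
          (by rw [dB']; exact h2)
          (by simp only [sub_eq_add_neg, add_mul, mul_add, neg_mul, mul_neg, neg_neg, one_mul, mul_one,
                mul_assoc, a1, b1, ab, ring_sq_assoc a1, ring_sq_assoc b1, ring_anti_assoc ab]
              try abel)
          (by simp only [sub_eq_add_neg, add_mul, mul_add, neg_mul, mul_neg, neg_neg, one_mul, mul_one,
                mul_assoc, a1, b1, ab, ring_sq_assoc a1, ring_sq_assoc b1, ring_anti_assoc ab]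
              try abel) hA' hB'
        rwa [dB'] at this) g hgA hgB
    exact ⟨α, 2, Or.inr (Or.inl rfl), hα⟩
  · exact absurd rfl hXY

theorem ringChar_ne_two_of_two_ne_zero (h2 : (2 : F) ≠ 0) : ringChar F ≠ 2 := by
  intro h
  apply h2
  have := ringChar.Nat.cast_ringChar (R := F)
  rw [h] at this
  exact_mod_cast this

/-- in a finite field of odd characteristic the product of two nonsquares is a square -/
theorem isSquare_mul_of_not_isSquare_odd [Fintype F] (h2 : (2 : F) ≠ 0) {a b : F}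
    (ha : ¬ IsSquare a) (hb : ¬ IsSquare b) : IsSquare (a * b) := by
  classical
  have ha0 : a ≠ 0 := by rintro rfl; exact ha ⟨0, by simp⟩
  have hb0 : b ≠ 0 := by rintro rfl; exact hb ⟨0, by simp⟩
  rw [← quadraticChar_one_iff_isSquare (mul_ne_zero ha0 hb0), map_mul,
    quadraticChar_neg_one_iff_not_isSquare.mpr ha, quadraticChar_neg_one_iff_not_isSquare.mpr hb]
  norm_num

theorem not_isSquare_inv {a : F} (ha : ¬ IsSquare a) : ¬ IsSquare a⁻¹ := by
  rintro ⟨c, hc⟩
  apply ha
  refine ⟨c⁻¹, ?_⟩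
  rw [← mul_inv, ← hc, inv_inv]

/-- an intertwiner of square determinant gives a conjugating element of `PSL₂` -/
theorem quatKlein_conj_of_intertwiner (h2 : (2 : F) ≠ 0) {A B A' B' : SpecialLinearGroup (Fin 2) F}
    (h : IsQuatPair A B) (h' : IsQuatPair A' B') (g : Matrix (Fin 2) (Fin 2) F)
    (hdet : IsSquare g.det) (hg0 : g.det ≠ 0) (hgA : g * A = A' * g) (hgB : g * B = B' * g) :
    ∃ x : ProjectiveSpecialLinearGroup (Fin 2) F,
      quatKlein h2 A' B' h' = (quatKlein h2 A B h).map (MulAut.conj x).toMonoidHom := by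
  obtain ⟨c, hc⟩ := hdet
  have hc0 : c ≠ 0 := by
    rintro rfl
    apply hg0
    rw [hc, mul_zero]
  let x : SpecialLinearGroup (Fin 2) F := ⟨c⁻¹ • g, by
    rw [Matrix.det_smul, Fintype.card_fin, hc]
    field_simp⟩
  have hxA : x * A * x⁻¹ = A' := by
    rw [mul_inv_eq_iff_eq_mul]
    apply Subtype.ext
    show (c⁻¹ • g) * (A : Matrix (Fin 2) (Fin 2) F) = (A' : Matrix (Fin 2) (Fin 2) F) * (c⁻¹ • g)
    rw [Matrix.smul_mul, Matrix.mul_smul, hgA]
  have hxB : x * B * x⁻¹ = B' := by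
    rw [mul_inv_eq_iff_eq_mul]
    apply Subtype.ext
    show (c⁻¹ • g) * (B : Matrix (Fin 2) (Fin 2) F) = (B' : Matrix (Fin 2) (Fin 2) F) * (c⁻¹ • g)
    rw [Matrix.smul_mul, Matrix.mul_smul, hgB]
  refine ⟨QuotientGroup.mk x, ?_⟩
  rw [quatKlein_map_conj]
  exact quatKlein_congr h2 h' (h.conj x) hxA.symm hxB.symm

/-- if `2` is not a square in `F_q`, all Klein four subgroups of `PSL₂(q)` are conjugate -/
theorem kleinFour_conj_of_not_isSquare_two [Fintype F] (h2 : (2 : F) ≠ 0)
    (hns : ¬ IsSquare (2 : F))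
    (V W : Subgroup (ProjectiveSpecialLinearGroup (Fin 2) F)) (hV : IsKleinFour V)
    (hW : IsKleinFour W) :
    ∃ g : ProjectiveSpecialLinearGroup (Fin 2) F, W = V.map (MulAut.conj g).toMonoidHom := by
  obtain ⟨A, B, h, rfl⟩ := exists_quatKlein_eq h2 V hV
  obtain ⟨A', B', h', rfl⟩ := exists_quatKlein_eq h2 W hW
  obtain ⟨g, hg0, hgA, hgB⟩ := exists_intertwiner h2 h h'
  by_cases hsq : IsSquare g.det
  · exact quatKlein_conj_of_intertwiner h2 h h' g hsq hg0 hgA hgB
  · have a1 := h.sqA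
    have b1 := h.sqB
    have ab := h.anti h2
    have hd : ((A : Matrix (Fin 2) (Fin 2) F) + B).det = 2 := by
      rw [det_add_fin_two, A.2, B.2, h.1, h.2.1, h.2.2]; ring
    obtain ⟨x, hx⟩ := quatKlein_conj_of_intertwiner h2 h h'.swap
      (g * ((A : Matrix (Fin 2) (Fin 2) F) + B))
      (by rw [Matrix.det_mul, hd]; exact isSquare_mul_of_not_isSquare_odd h2 hsq hns)
      (by rw [Matrix.det_mul, hd]; exact mul_ne_zero hg0 h2)
      (by
        rw [← mul_assoc, ← hgB]
        simp only [mul_assoc, add_mul, mul_add, a1, b1, ab]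
        rw [add_comm])
      (by
        rw [← mul_assoc, ← hgA]
        simp only [mul_assoc, add_mul, mul_add, a1, b1, ab]
        rw [add_comm])
    refine ⟨x, ?_⟩
    rw [← hx, quatKlein_swap]

theorem quatJ_trace (x y : F) (h : x ^ 2 + y ^ 2 = -1) :
    ((quatJ x y h : SpecialLinearGroup (Fin 2) F) : Matrix (Fin 2) (Fin 2) F).trace = 0 := by
  simp [quatJ, Matrix.trace_fin_two]

theorem isQuatPair_quatI_quatJ (x y : F) (h : x ^ 2 + y ^ 2 = -1) :
    IsQuatPair (quatI : SpecialLinearGroup (Fin 2) F) (quatJ x y h) := by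
  refine ⟨quatI_trace, quatJ_trace x y h, ?_⟩
  simp [quatI, quatJ, Matrix.trace_fin_two, Matrix.mul_apply, Fin.sum_univ_two]

/-- conjugating an element of `SL₂` by an invertible matrix -/
noncomputable def conjSL (hm : Matrix (Fin 2) (Fin 2) F) (hdet : hm.det ≠ 0) (A : SpecialLinearGroup (Fin 2) F) :
    SpecialLinearGroup (Fin 2) F :=
  ⟨hm * A * hm⁻¹, by
    rw [Matrix.det_mul, Matrix.det_mul, A.2, mul_one, ← Matrix.det_mul,
      Matrix.mul_nonsing_inv hm (isUnit_iff_ne_zero.mpr hdet), Matrix.det_one]⟩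

theorem conjSL_mul (hm : Matrix (Fin 2) (Fin 2) F) (hdet : hm.det ≠ 0)
    (A : SpecialLinearGroup (Fin 2) F) :
    (conjSL hm hdet A : Matrix (Fin 2) (Fin 2) F) * hm = hm * A := by
  show hm * A * hm⁻¹ * hm = hm * A
  rw [Matrix.mul_assoc, Matrix.nonsing_inv_mul hm (isUnit_iff_ne_zero.mpr hdet), Matrix.mul_one]

theorem conjSL_trace (hm : Matrix (Fin 2) (Fin 2) F) (hdet : hm.det ≠ 0)
    (A : SpecialLinearGroup (Fin 2) F) :
    (conjSL hm hdet A : Matrix (Fin 2) (Fin 2) F).trace = (A : Matrix (Fin 2) (Fin 2) F).trace := by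
  show (hm * A * hm⁻¹).trace = _
  rw [Matrix.trace_mul_cycle, Matrix.nonsing_inv_mul hm (isUnit_iff_ne_zero.mpr hdet),
    Matrix.one_mul]

theorem conjSL_mul_conjSL (hm : Matrix (Fin 2) (Fin 2) F) (hdet : hm.det ≠ 0)
    (A B : SpecialLinearGroup (Fin 2) F) :
    conjSL hm hdet A * conjSL hm hdet B = conjSL hm hdet (A * B) := by
  apply Subtype.ext
  show (hm * A * hm⁻¹) * (hm * B * hm⁻¹) = hm * ((A * B : SpecialLinearGroup (Fin 2) F) :
    Matrix (Fin 2) (Fin 2) F) * hm⁻¹
  rw [Matrix.SpecialLinearGroup.coe_mul]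
  have hinv := Matrix.nonsing_inv_mul hm (isUnit_iff_ne_zero.mpr hdet)
  calc hm * A * hm⁻¹ * (hm * B * hm⁻¹) = hm * A * (hm⁻¹ * hm) * B * hm⁻¹ := by
        simp only [Matrix.mul_assoc]
    _ = hm * ((A : Matrix (Fin 2) (Fin 2) F) * B) * hm⁻¹ := by
        rw [hinv, Matrix.mul_one]
        simp only [Matrix.mul_assoc]

theorem IsQuatPair.conjSL {A B : SpecialLinearGroup (Fin 2) F} (h : IsQuatPair A B)
    (hm : Matrix (Fin 2) (Fin 2) F) (hdet : hm.det ≠ 0) :
    IsQuatPair (conjSL hm hdet A) (conjSL hm hdet B) := by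
  refine ⟨by rw [conjSL_trace]; exact h.1, by rw [conjSL_trace]; exact h.2.1, ?_⟩
  rw [← Matrix.SpecialLinearGroup.coe_mul, conjSL_mul_conjSL, conjSL_trace,
    Matrix.SpecialLinearGroup.coe_mul]
  exact h.2.2

/-- membership of `mk A₁` in a `quatKlein`, at the level of matrices -/
theorem frame_of_mem_quatKlein (h2 : (2 : F) ≠ 0) {A B A1 : SpecialLinearGroup (Fin 2) F}
    (h : IsQuatPair A B) (hA1 : (A1 : Matrix (Fin 2) (Fin 2) F).trace = 0)
    (hmem : (QuotientGroup.mk A1 : ProjectiveSpecialLinearGroup (Fin 2) F) ∈ quatKlein h2 A B h) :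
    ∃ X : SpecialLinearGroup (Fin 2) F, (X = A ∨ X = B ∨ X = A * B) ∧
      (QuotientGroup.mk A1 : ProjectiveSpecialLinearGroup (Fin 2) F) = QuotientGroup.mk X ∧
      ((A1 : Matrix (Fin 2) (Fin 2) F) = X ∨ (A1 : Matrix (Fin 2) (Fin 2) F) = -X) := by
  rw [mem_quatKlein] at hmem
  have key : ∀ X : SpecialLinearGroup (Fin 2) F,
      (QuotientGroup.mk A1 : ProjectiveSpecialLinearGroup (Fin 2) F) = QuotientGroup.mk X →
      ((A1 : Matrix (Fin 2) (Fin 2) F) = X ∨ (A1 : Matrix (Fin 2) (Fin 2) F) = -X) := by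
    intro X hX
    rw [eq_comm, psl2_mk_eq_mk_iff] at hX
    rcases hX with hX | hX
    · left; rw [hX]
    · right; rw [hX, Matrix.SpecialLinearGroup.coe_neg]
  rcases hmem with hm | hm | hm | hm
  · exact absurd hm (psl2_mk_ne_one_of_trace_zero h2 A1 hA1)
  · exact ⟨A, Or.inl rfl, hm, key A hm⟩
  · exact ⟨B, Or.inr (Or.inl rfl), hm, key B hm⟩
  · rw [← QuotientGroup.mk_mul] at hm
    exact ⟨A * B, Or.inr (Or.inr rfl), hm, key (A * B) hm⟩

/-- if `2` is a square in `F_q`, `q` odd, the Klein four subgroups of `PSL₂(q)` form exactly two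
conjugacy classes -/
theorem kleinFour_two_classes_of_isSquare_two [Fintype F] (h2 : (2 : F) ≠ 0)
    (hs : IsSquare (2 : F)) :
    ∃ V₁ V₂ : Subgroup (ProjectiveSpecialLinearGroup (Fin 2) F), IsKleinFour V₁ ∧ IsKleinFour V₂ ∧
      (¬ ∃ g : ProjectiveSpecialLinearGroup (Fin 2) F, V₂ = V₁.map (MulAut.conj g).toMonoidHom) ∧
      ∀ W : Subgroup (ProjectiveSpecialLinearGroup (Fin 2) F), IsKleinFour W →
        (∃ g : ProjectiveSpecialLinearGroup (Fin 2) F, W = V₁.map (MulAut.conj g).toMonoidHom) ∨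
        (∃ g : ProjectiveSpecialLinearGroup (Fin 2) F, W = V₂.map (MulAut.conj g).toMonoidHom) := by
  obtain ⟨x0, y0, hxy⟩ := exists_sq_add_sq_eq_neg_one h2
  obtain ⟨ν, hν⟩ := FiniteField.exists_nonsquare (ringChar_ne_two_of_two_ne_zero h2)
  have hν0 : ν ≠ 0 := by rintro rfl; exact hν ⟨0, by simp⟩
  set A : SpecialLinearGroup (Fin 2) F := quatI with hAdef
  set B : SpecialLinearGroup (Fin 2) F := quatJ x0 y0 hxy with hBdef
  have h : IsQuatPair A B := isQuatPair_quatI_quatJ x0 y0 hxy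
  set hm : Matrix (Fin 2) (Fin 2) F := !![1, 0; 0, ν] with hhm
  have hmdet : hm.det = ν := by simp [hhm, Matrix.det_fin_two]
  have hmdet0 : hm.det ≠ 0 := by rw [hmdet]; exact hν0
  have hmu : IsUnit hm.det := isUnit_iff_ne_zero.mpr hmdet0
  have hq2 : IsQuatPair (conjSL hm hmdet0 A) (conjSL hm hmdet0 B) := h.conjSL hm hmdet0
  refine ⟨quatKlein h2 A B h, quatKlein h2 _ _ hq2, quatKlein_isKleinFour h2 A B h,
    quatKlein_isKleinFour h2 _ _ hq2, ?_, ?_⟩
  · -- non-conjugacy
    rintro ⟨gbar, hg⟩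
    obtain ⟨x, rfl⟩ := psl2_exists_rep gbar
    rw [quatKlein_map_conj] at hg
    have h1 := h.conj x
    have hm1 : (QuotientGroup.mk (x * A * x⁻¹) : ProjectiveSpecialLinearGroup (Fin 2) F) ∈
        quatKlein h2 _ _ hq2 := by
      rw [hg, mem_quatKlein]; exact Or.inr (Or.inl rfl)
    have hm2 : (QuotientGroup.mk (x * B * x⁻¹) : ProjectiveSpecialLinearGroup (Fin 2) F) ∈
        quatKlein h2 _ _ hq2 := by
      rw [hg, mem_quatKlein]; exact Or.inr (Or.inr (Or.inl rfl))
    obtain ⟨X, hX, hXmk, hXm⟩ := frame_of_mem_quatKlein h2 hq2 h1.1 hm1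
    obtain ⟨Y, hY, hYmk, hYm⟩ := frame_of_mem_quatKlein h2 hq2 h1.2.1 hm2
    have hXY : (X : Matrix (Fin 2) (Fin 2) F) ≠ Y := by
      intro hXY
      have : X = Y := Subtype.ext hXY
      apply ((quat_pair_iff h2 _ _).mp h1).2.2.2.2.2
      rw [hXmk, hYmk, this]
    -- the intertwiner
    have hxA : (x : Matrix (Fin 2) (Fin 2) F) * A =
        ((x * A * x⁻¹ : SpecialLinearGroup (Fin 2) F) : Matrix (Fin 2) (Fin 2) F) * x := by
      have e : x * A = (x * A * x⁻¹) * x := by group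
      have e3 := congrArg (fun Z : SpecialLinearGroup (Fin 2) F =>
        (Z : Matrix (Fin 2) (Fin 2) F)) e
      simp only [Matrix.SpecialLinearGroup.coe_mul] at e3
      simp only [Matrix.SpecialLinearGroup.coe_mul]
      exact e3
    have hxB : (x : Matrix (Fin 2) (Fin 2) F) * B =
        ((x * B * x⁻¹ : SpecialLinearGroup (Fin 2) F) : Matrix (Fin 2) (Fin 2) F) * x := by
      have e : x * B = (x * B * x⁻¹) * x := by group
      have e3 := congrArg (fun Z : SpecialLinearGroup (Fin 2) F =>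
        (Z : Matrix (Fin 2) (Fin 2) F)) e
      simp only [Matrix.SpecialLinearGroup.coe_mul] at e3
      simp only [Matrix.SpecialLinearGroup.coe_mul]
      exact e3
    have hinv1 : hm⁻¹ * hm = 1 := Matrix.nonsing_inv_mul hm hmu
    have hgA : ((x : Matrix (Fin 2) (Fin 2) F) * hm⁻¹) * (conjSL hm hmdet0 A) =
        ((x * A * x⁻¹ : SpecialLinearGroup (Fin 2) F) : Matrix (Fin 2) (Fin 2) F) *
          ((x : Matrix (Fin 2) (Fin 2) F) * hm⁻¹) := by
      show ((x : Matrix (Fin 2) (Fin 2) F) * hm⁻¹) * (hm * A * hm⁻¹) = _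
      calc ((x : Matrix (Fin 2) (Fin 2) F) * hm⁻¹) * (hm * A * hm⁻¹)
          = (x : Matrix (Fin 2) (Fin 2) F) * (hm⁻¹ * hm) * A * hm⁻¹ := by
            simp only [Matrix.mul_assoc]
        _ = ((x : Matrix (Fin 2) (Fin 2) F) * A) * hm⁻¹ := by rw [hinv1, Matrix.mul_one]
        _ = _ := by rw [hxA, Matrix.mul_assoc]
    have hgB : ((x : Matrix (Fin 2) (Fin 2) F) * hm⁻¹) * (conjSL hm hmdet0 B) =
        ((x * B * x⁻¹ : SpecialLinearGroup (Fin 2) F) : Matrix (Fin 2) (Fin 2) F) *
          ((x : Matrix (Fin 2) (Fin 2) F) * hm⁻¹) := by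
      show ((x : Matrix (Fin 2) (Fin 2) F) * hm⁻¹) * (hm * B * hm⁻¹) = _
      calc ((x : Matrix (Fin 2) (Fin 2) F) * hm⁻¹) * (hm * B * hm⁻¹)
          = (x : Matrix (Fin 2) (Fin 2) F) * (hm⁻¹ * hm) * B * hm⁻¹ := by
            simp only [Matrix.mul_assoc]
        _ = ((x : Matrix (Fin 2) (Fin 2) F) * B) * hm⁻¹ := by rw [hinv1, Matrix.mul_one]
        _ = _ := by rw [hxB, Matrix.mul_assoc]
    obtain ⟨α, d, hd, hdet⟩ := det_of_frame_normalizer h2 hq2
      ((x : Matrix (Fin 2) (Fin 2) F) * hm⁻¹) X Y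
      (by
        rcases hX with rfl | rfl | rfl
        · exact Or.inl rfl
        · exact Or.inr (Or.inl rfl)
        · exact Or.inr (Or.inr (Matrix.SpecialLinearGroup.coe_mul _ _)))
      (by
        rcases hY with rfl | rfl | rfl
        · exact Or.inl rfl
        · exact Or.inr (Or.inl rfl)
        · exact Or.inr (Or.inr (Matrix.SpecialLinearGroup.coe_mul _ _)))
      hXY
      (by
        rw [hgA]
        rcases hXm with e | e
        · left; rw [e]
        · right; rw [e, neg_mul])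
      (by
        rw [hgB]
        rcases hYm with e | e
        · left; rw [e]
        · right; rw [e, neg_mul])
    rw [Matrix.det_mul, x.2, one_mul, Matrix.det_nonsing_inv, hmdet, Ring.inverse_eq_inv'] at hdet
    apply not_isSquare_inv hν
    rw [hdet]
    obtain ⟨τ, hτ⟩ := hs
    rcases hd with rfl | rfl | rfl
    · exact ⟨α, by ring⟩
    · exact ⟨α * τ, by rw [hτ]; ring⟩
    · exact ⟨α * 2, by ring⟩
  · -- covering
    intro W hW
    obtain ⟨A', B', h', rfl⟩ := exists_quatKlein_eq h2 W hW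
    obtain ⟨g, hg0, hgA, hgB⟩ := exists_intertwiner h2 h h'
    by_cases hsq : IsSquare g.det
    · left
      exact quatKlein_conj_of_intertwiner h2 h h' g hsq hg0 hgA hgB
    · right
      have hinv1 : hm⁻¹ * hm = 1 := Matrix.nonsing_inv_mul hm hmu
      refine quatKlein_conj_of_intertwiner h2 hq2 h' (g * hm⁻¹) ?_ ?_ ?_ ?_
      · rw [Matrix.det_mul, Matrix.det_nonsing_inv, hmdet, Ring.inverse_eq_inv']
        exact isSquare_mul_of_not_isSquare_odd h2 hsq (not_isSquare_inv hν)
      · rw [Matrix.det_mul, Matrix.det_nonsing_inv, hmdet, Ring.inverse_eq_inv']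
        exact mul_ne_zero hg0 (inv_ne_zero hν0)
      · show (g * hm⁻¹) * (hm * A * hm⁻¹) = _
        calc (g * hm⁻¹) * (hm * A * hm⁻¹) = g * (hm⁻¹ * hm) * A * hm⁻¹ := by
              simp only [Matrix.mul_assoc]
          _ = (g * A) * hm⁻¹ := by rw [hinv1, Matrix.mul_one]
          _ = _ := by rw [hgA, Matrix.mul_assoc]
      · show (g * hm⁻¹) * (hm * B * hm⁻¹) = _
        calc (g * hm⁻¹) * (hm * B * hm⁻¹) = g * (hm⁻¹ * hm) * B * hm⁻¹ := by
              simp only [Matrix.mul_assoc]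
          _ = (g * B) * hm⁻¹ := by rw [hinv1, Matrix.mul_one]
          _ = _ := by rw [hgB, Matrix.mul_assoc]

end Cfsg.Agent.Helper41
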