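import Mathlib
import Cfsg.Agent.Lib.Helper41.InvGraph
import Cfsg.Agent.Lib.Helper41.SL2ABA
import Cfsg.Agent.Lib.Helper41.SL2QuatConj

set_option autoImplicit false

namespace Cfsg.Agent.Helper41

open Matrix

variable {F : Type*} [Field F]

/-- characteristic-free version: a non-trivial element of `PSL₂` with trivial square has traceless
representatives -/
theorem trace_zero_of_psl2_sq_eq_one (A : SpecialLinearGroup (Fin 2) F)
    (h1 : (QuotientGroup.mk A : ProjectiveSpecialLinearGroup (Fin 2) F) ≠ 1)
    (hsq : (QuotientGroup.mk A : ProjectiveSpecialLinearGroup (Fin 2) F) ^ 2 = 1) :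
    (A : Matrix (Fin 2) (Fin 2) F).trace = 0 := by
  replace hsq := (psl2_mk_pow_eq_one_iff A 2).mp hsq
  have hsq' := sq_eq_of_det_one (A : Matrix (Fin 2) (Fin 2) F) A.2
  by_contra htr
  rcases hsq with h | h
  · apply h1
    rw [psl2_mk_eq_one_iff]
    apply sl2_scalar_eq
    rw [h] at hsq'
    have e01 := congrFun (congrFun hsq' 0) 1
    have e10 := congrFun (congrFun hsq' 1) 0
    have e00 := congrFun (congrFun hsq' 0) 0
    have e11 := congrFun (congrFun hsq' 1) 1
    simp only [Matrix.sub_apply, Matrix.smul_apply, Matrix.one_apply_eq, smul_eq_mul,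
      Matrix.one_apply_ne (show (0 : Fin 2) ≠ 1 by decide),
      Matrix.one_apply_ne (show (1 : Fin 2) ≠ 0 by decide), sub_zero] at e01 e10 e00 e11
    refine ⟨?_, ?_, ?_⟩
    · exact (mul_eq_zero.mp e01.symm).resolve_left htr
    · exact (mul_eq_zero.mp e10.symm).resolve_left htr
    · apply mul_left_cancel₀ htr
      linear_combination e11 - e00
  · rw [h] at hsq'
    have e01 := congrFun (congrFun hsq' 0) 1
    have e10 := congrFun (congrFun hsq' 1) 0
    have e00 := congrFun (congrFun hsq' 0) 0
    simp only [Matrix.sub_apply, Matrix.smul_apply, Matrix.one_apply_eq, smul_eq_mul,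
      Matrix.neg_apply, Matrix.one_apply_ne (show (0 : Fin 2) ≠ 1 by decide),
      Matrix.one_apply_ne (show (1 : Fin 2) ≠ 0 by decide), sub_zero, neg_zero] at e01 e10 e00
    have z01 := (mul_eq_zero.mp e01.symm).resolve_left htr
    have z10 := (mul_eq_zero.mp e10.symm).resolve_left htr
    have z00 : (A : Matrix (Fin 2) (Fin 2) F) 0 0 = 0 := by
      apply (mul_eq_zero.mp _).resolve_left htr
      linear_combination -e00
    have hdet := A.2
    rw [Matrix.det_fin_two, z01, z00] at hdet
    simp at hdet

theorem orderOf_mk_eq_two_iff (A : SpecialLinearGroup (Fin 2) F) :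
    orderOf (QuotientGroup.mk A : ProjectiveSpecialLinearGroup (Fin 2) F) = 2 ↔
      ((A : Matrix (Fin 2) (Fin 2) F).trace = 0 ∧
        (QuotientGroup.mk A : ProjectiveSpecialLinearGroup (Fin 2) F) ≠ 1) := by
  constructor
  · intro h
    have h1 : (QuotientGroup.mk A : ProjectiveSpecialLinearGroup (Fin 2) F) ≠ 1 := by
      intro h1
      rw [h1, orderOf_one] at h
      omega
    have hsq : (QuotientGroup.mk A : ProjectiveSpecialLinearGroup (Fin 2) F) ^ 2 = 1 := by
      have := pow_orderOf_eq_one (QuotientGroup.mk A : ProjectiveSpecialLinearGroup (Fin 2) F)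
      rwa [h] at this
    exact ⟨trace_zero_of_psl2_sq_eq_one A h1 hsq, h1⟩
  · rintro ⟨htr, h1⟩
    haveI : Fact (Nat.Prime 2) := ⟨Nat.prime_two⟩
    apply orderOf_eq_prime _ h1
    rw [pow_two]
    exact psl2_mk_mul_self_of_trace_zero A htr

/-- all involutions of `PSL₂(q)` are conjugate -/
theorem isConj_of_orderOf_two [Fintype F] (x y : ProjectiveSpecialLinearGroup (Fin 2) F)
    (hx : orderOf x = 2) (hy : orderOf y = 2) : IsConj x y := by
  obtain ⟨A, rfl⟩ := psl2_exists_rep x
  obtain ⟨B, rfl⟩ := psl2_exists_rep y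
  obtain ⟨hA, hA1⟩ := (orderOf_mk_eq_two_iff A).mp hx
  obtain ⟨hB, hB1⟩ := (orderOf_mk_eq_two_iff B).mp hy
  have hconj : ∃ U : SpecialLinearGroup (Fin 2) F, U * A * U⁻¹ = B := by
    by_cases h2 : (2 : F) = 0
    · apply sl2_exists_conj_char_two h2 A B
      · rintro rfl
        exact hA1 rfl
      · rintro rfl
        exact hB1 rfl
      · rw [hA, hB]
    · apply sl2_exists_conj_of_trace_eq A B (by rw [hA, hB])
      rw [hA]
      intro h
      apply h2
      have : (2 : F) * 2 = 0 := by linear_combination -h
      exact (mul_eq_zero.mp this).elim id id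
  obtain ⟨U, hU⟩ := hconj
  rw [isConj_iff]
  refine ⟨QuotientGroup.mk U, ?_⟩
  rw [← hU]
  rfl

theorem orderOf_of_isConj {G : Type*} [Group G] {t x : G} (h : IsConj t x) :
    orderOf x = orderOf t := by
  rw [isConj_iff] at h
  obtain ⟨c, rfl⟩ := h
  have := MulEquiv.orderOf_eq (MulAut.conj c) t
  rwa [MulAut.conj_apply] at this

theorem upperSL_apply_zero_one (u : F) :
    ((upperSL u : SpecialLinearGroup (Fin 2) F) : Matrix (Fin 2) (Fin 2) F) 0 1 = u := by
  simp [upperSL]

theorem upperSL_trace (u : F) :
    ((upperSL u : SpecialLinearGroup (Fin 2) F) : Matrix (Fin 2) (Fin 2) F).trace = 2 := by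
  simp [upperSL, Matrix.trace_fin_two]
  norm_num

theorem psl2_mk_upperSL_ne_one {u : F} (hu : u ≠ 0) :
    (QuotientGroup.mk (upperSL u) : ProjectiveSpecialLinearGroup (Fin 2) F) ≠ 1 := by
  intro h
  rw [psl2_mk_eq_one_iff] at h
  rcases h with h | h
  · have := congrFun (congrFun h 0) 1
    rw [upperSL_apply_zero_one] at this
    simp at this
    exact hu this
  · have := congrFun (congrFun h 0) 1
    rw [upperSL_apply_zero_one] at this
    simp at this
    exact hu this

theorem orderOf_mk_upperSL_char_two (h2 : (2 : F) = 0) {u : F} (hu : u ≠ 0) :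
    orderOf (QuotientGroup.mk (upperSL u) : ProjectiveSpecialLinearGroup (Fin 2) F) = 2 := by
  rw [orderOf_mk_eq_two_iff]
  exact ⟨by rw [upperSL_trace, h2], psl2_mk_upperSL_ne_one hu⟩

theorem not_odd_two : ¬ Odd 2 := by decide

/-- the graph on the involutions of `PSL₂(q)`, `q ≥ 4`, joining two involutions when their product
has odd order, is connected of diameter two -/
theorem invGraph_main [Fintype F] (hF : 4 ≤ Fintype.card F)
    (t : ProjectiveSpecialLinearGroup (Fin 2) F) (ht : orderOf t = 2) :
    (SimpleGraph.fromRel fun x y : {x : ProjectiveSpecialLinearGroup (Fin 2) F // IsConj t x} =>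
        Odd (orderOf (x.1 * y.1))).Connected ∧
      (SimpleGraph.fromRel fun x y : {x : ProjectiveSpecialLinearGroup (Fin 2) F // IsConj t x} =>
        Odd (orderOf (x.1 * y.1))).diam = 2 := by
  haveI : Nonempty {x : ProjectiveSpecialLinearGroup (Fin 2) F // IsConj t x} :=
    ⟨⟨t, IsConj.refl t⟩⟩
  apply connected_diam_two
  · rintro ⟨x, hx⟩ ⟨y, hy⟩
    have hxo : orderOf x = 2 := (orderOf_of_isConj hx).trans ht
    have hyo : orderOf y = 2 := (orderOf_of_isConj hy).trans ht
    obtain ⟨A, rfl⟩ := psl2_exists_rep x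
    obtain ⟨B, rfl⟩ := psl2_exists_rep y
    obtain ⟨hA, hA1⟩ := (orderOf_mk_eq_two_iff A).mp hxo
    obtain ⟨hB, hB1⟩ := (orderOf_mk_eq_two_iff B).mp hyo
    by_cases hxy : (QuotientGroup.mk A : ProjectiveSpecialLinearGroup (Fin 2) F) = QuotientGroup.mk B
    · left
      exact Subtype.ext hxy
    right
    have hkey : OddOrd (A * B) ∨ ∃ Z : SpecialLinearGroup (Fin 2) F,
        (Z : Matrix (Fin 2) (Fin 2) F).trace = 0 ∧
        (QuotientGroup.mk Z : ProjectiveSpecialLinearGroup (Fin 2) F) ≠ 1 ∧
        (QuotientGroup.mk Z : ProjectiveSpecialLinearGroup (Fin 2) F) ≠ QuotientGroup.mk A ∧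
        (QuotientGroup.mk Z : ProjectiveSpecialLinearGroup (Fin 2) F) ≠ QuotientGroup.mk B ∧
        OddOrd (A * Z) ∧ OddOrd (Z * B) := by
      by_cases h2 : (2 : F) = 0
      · have hA1' : A ≠ 1 := by
          rintro rfl
          exact hA1 rfl
        have hB1' : B ≠ 1 := by
          rintro rfl
          exact hB1 rfl
        exact key_even h2 hF A B hA1' hB1' hA hB
      · rcases key_odd h2 hF A B hA hB with h | ⟨Z, hZ, h3, h4, h5, h6⟩
        · exact Or.inl h
        · exact Or.inr ⟨Z, hZ, psl2_mk_ne_one_of_trace_zero h2 Z hZ, h3, h4, h5, h6⟩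
    rcases hkey with h | ⟨Z, hZ, hZ1, hZA, hZB, hAZ, hZB'⟩
    · left
      rw [SimpleGraph.fromRel_adj]
      refine ⟨fun h => hxy (congrArg Subtype.val h), Or.inl ?_⟩
      show Odd (orderOf ((QuotientGroup.mk A : ProjectiveSpecialLinearGroup (Fin 2) F) *
        QuotientGroup.mk B))
      rw [← QuotientGroup.mk_mul]
      exact h.odd_orderOf
    · right
      refine ⟨⟨QuotientGroup.mk Z, isConj_of_orderOf_two t _ ht
        ((orderOf_mk_eq_two_iff Z).mpr ⟨hZ, hZ1⟩)⟩, ?_, ?_⟩
      · rw [SimpleGraph.fromRel_adj]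
        refine ⟨fun h => hZA (congrArg Subtype.val h).symm, Or.inl ?_⟩
        show Odd (orderOf ((QuotientGroup.mk A : ProjectiveSpecialLinearGroup (Fin 2) F) *
          QuotientGroup.mk Z))
        rw [← QuotientGroup.mk_mul]
        exact hAZ.odd_orderOf
      · rw [SimpleGraph.fromRel_adj]
        refine ⟨fun h => hZB (congrArg Subtype.val h), Or.inl ?_⟩
        show Odd (orderOf ((QuotientGroup.mk Z : ProjectiveSpecialLinearGroup (Fin 2) F) *
          QuotientGroup.mk B))
        rw [← QuotientGroup.mk_mul]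
        exact hZB'.odd_orderOf
  · -- two distinct commuting involutions
    have hpair : ∃ A B : SpecialLinearGroup (Fin 2) F,
        orderOf (QuotientGroup.mk A : ProjectiveSpecialLinearGroup (Fin 2) F) = 2 ∧
        orderOf (QuotientGroup.mk B : ProjectiveSpecialLinearGroup (Fin 2) F) = 2 ∧
        (QuotientGroup.mk A : ProjectiveSpecialLinearGroup (Fin 2) F) ≠ QuotientGroup.mk B ∧
        orderOf (QuotientGroup.mk (A * B) : ProjectiveSpecialLinearGroup (Fin 2) F) = 2 ∧
        orderOf (QuotientGroup.mk (B * A) : ProjectiveSpecialLinearGroup (Fin 2) F) = 2 := by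
      by_cases h2 : (2 : F) = 0
      · -- an element outside {0, 1}
        have hex : ∃ e : F, e ≠ 0 ∧ e ≠ 1 := by
          classical
          by_contra hne
          push Not at hne
          have hsub : (Finset.univ : Finset F) ⊆ {0, 1} := by
            intro e _
            by_cases he : e = 0
            · simp [he]
            · simp [hne e he]
          have := Finset.card_le_card hsub
          rw [Finset.card_univ] at this
          have h3 : ({0, 1} : Finset F).card ≤ 2 := Finset.card_le_two
          omega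
        obtain ⟨e, he0, he1⟩ := hex
        have h1e : (1 : F) + e ≠ 0 := by
          intro h
          apply he1
          have : e = -1 := by linear_combination h
          rw [this]
          linear_combination -h2
        have he1' : e + 1 ≠ 0 := by rwa [add_comm]
        refine ⟨upperSL 1, upperSL e, orderOf_mk_upperSL_char_two h2 one_ne_zero,
          orderOf_mk_upperSL_char_two h2 he0, ?_, ?_, ?_⟩
        · intro h
          rw [psl2_mk_eq_mk_iff] at h
          rcases h with h | h
          · have := congrArg (fun X : SpecialLinearGroup (Fin 2) F =>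
              (X : Matrix (Fin 2) (Fin 2) F) 0 1) h
            simp only [upperSL_apply_zero_one] at this
            exact he1 this
          · have := congrArg (fun X : SpecialLinearGroup (Fin 2) F =>
              (X : Matrix (Fin 2) (Fin 2) F) 0 1) h
            simp only [upperSL_apply_zero_one, Matrix.SpecialLinearGroup.coe_neg,
              Matrix.neg_apply] at this
            apply he1
            rw [this]
            linear_combination -h2
        · rw [upperSL_mul]
          exact orderOf_mk_upperSL_char_two h2 h1e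
        · rw [upperSL_mul]
          exact orderOf_mk_upperSL_char_two h2 he1'
      · obtain ⟨x, y, hxy⟩ := exists_sq_add_sq_eq_neg_one (F := F) h2
        have hq := isQuatPair_quatI_quatJ x y hxy
        have hq' := (quat_pair_iff h2 _ _).mp hq
        refine ⟨quatI, quatJ x y hxy, ?_, ?_, hq'.2.2.2.2.2, ?_, ?_⟩
        · exact (orderOf_mk_eq_two_iff _).mpr ⟨hq.1, hq'.1⟩
        · exact (orderOf_mk_eq_two_iff _).mpr ⟨hq.2.1, hq'.2.1⟩
        · have htr : ((quatI * quatJ x y hxy : SpecialLinearGroup (Fin 2) F) :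
              Matrix (Fin 2) (Fin 2) F).trace = 0 := by
            rw [Matrix.SpecialLinearGroup.coe_mul]
            exact hq.2.2
          exact (orderOf_mk_eq_two_iff _).mpr ⟨htr, psl2_mk_ne_one_of_trace_zero h2 _ htr⟩
        · have htr : ((quatJ x y hxy * quatI : SpecialLinearGroup (Fin 2) F) :
              Matrix (Fin 2) (Fin 2) F).trace = 0 := by
            rw [Matrix.SpecialLinearGroup.coe_mul, Matrix.trace_mul_comm]
            exact hq.2.2
          exact (orderOf_mk_eq_two_iff _).mpr ⟨htr, psl2_mk_ne_one_of_trace_zero h2 _ htr⟩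
    obtain ⟨A, B, hA, hB, hAB, hAB2, hBA2⟩ := hpair
    refine ⟨⟨QuotientGroup.mk A, isConj_of_orderOf_two t _ ht hA⟩,
      ⟨QuotientGroup.mk B, isConj_of_orderOf_two t _ ht hB⟩, ?_, ?_⟩
    · intro h
      exact hAB (congrArg Subtype.val h)
    · rw [SimpleGraph.fromRel_adj]
      rintro ⟨_, h | h⟩
      · have h' : Odd (orderOf ((QuotientGroup.mk A : ProjectiveSpecialLinearGroup (Fin 2) F) *
          QuotientGroup.mk B)) := h
        rw [← QuotientGroup.mk_mul, hAB2] at h'
        exact not_odd_two h'
      · have h' : Odd (orderOf ((QuotientGroup.mk B : ProjectiveSpecialLinearGroup (Fin 2) F) *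
          QuotientGroup.mk A)) := h
        rw [← QuotientGroup.mk_mul, hBA2] at h'
        exact not_odd_two h'

end Cfsg.Agent.Helper41
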