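import Cfsg.Agent.Lib.Helper41.PMaxA4

/-!
# Groups in which every non-normal subgroup has a maximal normalizer: reductions

* transfer along isomorphisms;
* direct products with an abelian group of coprime order.
-/

set_option autoImplicit false
set_option linter.unusedSectionVars false
set_option linter.unusedVariables false
set_option linter.style.haveILetI false

namespace Cfsg.Agent.Helper41.NormMax

open Cfsg.Agent.Helper41.PMax

/-- every non-normal subgroup has a maximal normalizer -/
def NormMax (K : Type*) [Group K] : Prop :=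
  ∀ A : Subgroup K, ¬ A.Normal → IsCoatom (Subgroup.normalizer (A : Set K))

section general

variable {K : Type*} [Group K]

/-- a coatom inside the normalizer of a non-normal subgroup is that normalizer -/
theorem isCoatom_normalizer_of_le (A : Subgroup K) (hA : ¬ A.Normal) (M : Subgroup K)
    (hM : IsCoatom M) (hle : M ≤ Subgroup.normalizer (A : Set K)) :
    IsCoatom (Subgroup.normalizer (A : Set K)) := by
  have hne : Subgroup.normalizer (A : Set K) ≠ ⊤ := by
    intro h
    exact hA (Subgroup.normalizer_eq_top_iff.mp h)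
  rw [← eq_of_coatom_le hM hle hne]
  exact hM

theorem normMax_of_equiv {K₀ : Type*} [Group K₀] (e : K ≃* K₀) (h : NormMax K₀) : NormMax K := by
  intro A hA
  have hA' : ¬ (A.map e.toMonoidHom).Normal := by
    intro hn
    apply hA
    have h1 : Subgroup.normalizer ((A.map e.toMonoidHom : Subgroup K₀) : Set K₀) = ⊤ :=
      Subgroup.normalizer_eq_top_iff.mpr hn
    rw [← Subgroup.map_equiv_normalizer_eq] at h1
    apply Subgroup.normalizer_eq_top_iff.mp
    rw [eq_top_iff]
    intro x _
    have h2 : e x ∈ (Subgroup.normalizer (A : Set K)).map e.toMonoidHom := by rw [h1]; trivial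
    obtain ⟨y, hy, hyx⟩ := h2
    have : y = x := e.injective hyx
    rw [← this]
    exact hy
  have h1 := h _ hA'
  rw [← Subgroup.map_equiv_normalizer_eq] at h1
  exact (e.mapSubgroup.isCoatom_iff _).mp h1

end general

section prod

variable {K S : Type*} [Group K] [CommGroup S] [Finite K] [Finite S]

theorem split_fst (hKS : (Nat.card K).Coprime (Nat.card S)) (H : Subgroup (K × S)) (a : K) (b : S)
    (h : (a, b) ∈ H) : (a, 1) ∈ H := by
  have hb : b ^ (Nat.card S) = 1 := pow_card_eq_one'
  by_cases hm : Nat.card K = 1
  · have ha : a = 1 := by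
      haveI : Subsingleton K := (Nat.card_eq_one_iff_unique.mp hm).1
      exact Subsingleton.elim _ _
    rw [ha]
    exact H.one_mem
  · have hm1 : 1 < Nat.card K := by
      have : 0 < Nat.card K := Nat.card_pos
      omega
    obtain ⟨w, -, hw⟩ := Nat.exists_mul_mod_eq_one_of_coprime hKS.symm hm1
    have h1 : (a, b) ^ (Nat.card S * w) ∈ H := H.pow_mem h _
    have h2 : (a, b) ^ (Nat.card S * w) = (a, 1) := by
      rw [Prod.pow_mk]
      congr 1
      · rw [← pow_mod_natCard, hw, pow_one]
      · rw [pow_mul, hb, one_pow]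
    rw [← h2]
    exact h1

theorem split_snd (hKS : (Nat.card K).Coprime (Nat.card S)) (H : Subgroup (K × S)) (a : K) (b : S)
    (h : (a, b) ∈ H) : (1, b) ∈ H := by
  have h1 := split_fst hKS H a b h
  have h2 : ((1 : K), b) = (a, 1)⁻¹ * (a, b) := by
    rw [Prod.inv_mk, Prod.mk_mul_mk, inv_mul_cancel, inv_one, one_mul]
  rw [h2]
  exact H.mul_mem (H.inv_mem h1) h

/-- the normalizer of a subgroup of `K × S` is the preimage of the normalizer of its projection -/
theorem normalizer_prod (hKS : (Nat.card K).Coprime (Nat.card S)) (H : Subgroup (K × S)) :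
    Subgroup.normalizer (H : Set (K × S)) =
      (Subgroup.normalizer ((H.map (MonoidHom.fst K S) : Subgroup K) : Set K)).comap
        (MonoidHom.fst K S) := by
  apply le_antisymm
  · intro g hg
    rw [Subgroup.mem_comap]
    apply mem_normalizer_of_conj_mem
    rintro _ ⟨x, hx, rfl⟩
    have h1 := (Subgroup.mem_normalizer_iff.mp hg x).mp hx
    exact ⟨g * x * g⁻¹, h1, by simp⟩
  · intro g hg
    rw [Subgroup.mem_comap] at hg
    apply mem_normalizer_of_conj_mem
    rintro ⟨a, b⟩ hab
    have ha : a ∈ H.map (MonoidHom.fst K S) := ⟨(a, b), hab, rfl⟩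
    have h1 := (Subgroup.mem_normalizer_iff.mp hg a).mp ha
    obtain ⟨⟨a', b'⟩, hab', he⟩ := h1
    have he' : a' = g.1 * a * g.1⁻¹ := he
    have h2 := split_fst hKS H a' b' hab'
    have h3 := split_snd hKS H a b hab
    have h4 : g * (a, b) * g⁻¹ = (a', 1) * (1, b) := by
      rw [he']
      ext
      · simp
      · simp
    rw [h4]
    exact H.mul_mem h2 h3

/-- the reduction to the first factor -/
theorem normMax_prod (hKS : (Nat.card K).Coprime (Nat.card S)) (h : NormMax K)
    (H : Subgroup (K × S)) (hH : ¬ H.Normal) :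
    IsCoatom (Subgroup.normalizer (H : Set (K × S))) := by
  rw [normalizer_prod hKS H]
  apply Subgroup.isCoatom_comap_of_surjective
  · intro k
    exact ⟨(k, 1), rfl⟩
  · apply h
    intro hn
    apply hH
    apply Subgroup.normalizer_eq_top_iff.mp
    rw [normalizer_prod hKS H, Subgroup.normalizer_eq_top_iff.mpr hn, Subgroup.comap_top]

end prod

end Cfsg.Agent.Helper41.NormMax
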