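import Cfsg.Agent.Lib.Helper41.SL2Red3
import Cfsg.Agent.Lib.Helper98.SL2CT

/-!
# Torus normalizers in `SL₂(q)` and `PSL₂(q)`

For `m = q ∓ 1 ≥ 3` (`q` odd) we construct a solvable subgroup of `PSL₂(q)` of order `m`
(the image of the normalizer of a cyclic torus of order `m`).
-/

set_option autoImplicit false
set_option linter.unusedSectionVars false

namespace Cfsg.Agent.Helper41

open Matrix

section general

variable {G : Type*} [Group G]

/-- a finite group with a commutative subgroup of index two is solvable -/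
theorem isSolvable_of_comm_index_two (C : Subgroup G)
    (hC : ∀ x ∈ C, ∀ y ∈ C, x * y = y * x)
    (hidx : C.index = 2) : Group.IsSolvable G := by
  have : C.Normal := Subgroup.normal_of_index_eq_two hidx
  have : Group.IsSolvable C := by
    apply Group.isSolvable_of_comm
    intro a b
    apply Subtype.ext
    exact hC a a.2 b b.2
  have : Group.IsSolvable (G ⧸ C) := by
    have hcard : Nat.card (G ⧸ C) = 2 := by rw [← Subgroup.index_eq_card]; exact hidx
    have : Fact (Nat.Prime 2) := ⟨Nat.prime_two⟩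
    have : IsCyclic (G ⧸ C) := isCyclic_of_prime_card hcard
    apply Group.isSolvable_of_comm
    intro a b
    obtain ⟨g, hg⟩ := IsCyclic.exists_generator (α := G ⧸ C)
    obtain ⟨i, rfl⟩ := hg a
    obtain ⟨j, rfl⟩ := hg b
    rw [← _root_.zpow_add, ← _root_.zpow_add, add_comm]
  refine Group.isSolvable_of_ker_le_range C.subtype (QuotientGroup.mk' C) ?_
  rw [QuotientGroup.ker_mk', Subgroup.range_subtype]

theorem conj_zpow' (g t : G) (k : ℤ) : g * t ^ k * g⁻¹ = (g * t * g⁻¹) ^ k := by
  have := map_zpow (MulAut.conj g) t k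
  simpa [MulAut.conj_apply] using this

end general

section torus

variable {F : Type*} [Field F] [Fintype F] (p : ℕ) [Fact p.Prime] [CharP F p]

theorem sl2_trace_inv (x : SpecialLinearGroup (Fin 2) F) :
    ((x⁻¹ : SpecialLinearGroup (Fin 2) F) : Matrix (Fin 2) (Fin 2) F).trace =
      (x : Matrix (Fin 2) (Fin 2) F).trace := by
  rw [Matrix.SpecialLinearGroup.coe_inv, Matrix.adjugate_fin_two]
  simp [Matrix.trace_fin_two, add_comm]

include p in
/-- the centralizer of an element of order `q ∓ 1 ≥ 3` is the cyclic group it generates -/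
theorem centralizer_eq_zpowers (t : SpecialLinearGroup (Fin 2) F) (m : ℕ) (hm3 : 3 ≤ m)
    (hm : m = Fintype.card F - 1 ∨ m = Fintype.card F + 1) (ht : orderOf t = m) :
    Subgroup.centralizer ({t} : Set (SpecialLinearGroup (Fin 2) F)) = Subgroup.zpowers t := by
  have ht2 : t * t ≠ 1 := by
    intro h
    have := orderOf_dvd_of_pow_eq_one (show t ^ 2 = 1 by rw [pow_two]; exact h)
    rw [ht] at this
    have := Nat.le_of_dvd (by norm_num) this
    omega
  have htr : (t : Matrix (Fin 2) (Fin 2) F).trace ^ 2 ≠ 4 :=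
    trace_sq_ne_four_of_mem_zpowers p t (by rw [ht]; exact hm) t (Subgroup.mem_zpowers t) ht2
  have hKC : Subgroup.zpowers t ≤ Subgroup.centralizer ({t} : Set (SpecialLinearGroup (Fin 2) F)) := by
    rw [Subgroup.zpowers_le, Subgroup.mem_centralizer_singleton_iff]
  symm
  apply Subgroup.eq_of_le_of_card_ge hKC
  have hdvd := Subgroup.card_dvd_of_le hKC
  rw [Nat.card_zpowers, ht] at hdvd ⊢
  have hq2 : 2 ≤ Fintype.card F := Fintype.one_lt_card
  rcases sl2_card_centralizer t htr with hc | hc <;> rcases hm with hm | hm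
  · rw [hc, hm]
  · rw [hc, hm]; omega
  · exfalso
    rw [hc] at hdvd
    have e : Fintype.card F + 1 = m + 2 := by omega
    rw [e] at hdvd
    have h3 : m ∣ 2 := (Nat.dvd_add_right (dvd_refl _)).mp hdvd
    have := Nat.le_of_dvd (by norm_num) h3
    omega
  · rw [hc, hm]

include p in
/-- the normalizer of a cyclic torus of order `m = q ∓ 1 ≥ 3` has order `2m` and is solvable -/
theorem torus_normalizer (t : SpecialLinearGroup (Fin 2) F) (m : ℕ) (hm3 : 3 ≤ m)
    (hm : m = Fintype.card F - 1 ∨ m = Fintype.card F + 1) (ht : orderOf t = m) :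
    Nat.card (Subgroup.normalizer ((Subgroup.zpowers t : Subgroup (SpecialLinearGroup (Fin 2) F)) :
      Set (SpecialLinearGroup (Fin 2) F))) = 2 * m ∧
    Group.IsSolvable (Subgroup.normalizer
      ((Subgroup.zpowers t : Subgroup (SpecialLinearGroup (Fin 2) F)) :
        Set (SpecialLinearGroup (Fin 2) F))) := by
  have ht2 : t * t ≠ 1 := by
    intro h
    have := orderOf_dvd_of_pow_eq_one (show t ^ 2 = 1 by rw [pow_two]; exact h)
    rw [ht] at this
    have := Nat.le_of_dvd (by norm_num) this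
    omega
  have htr : (t : Matrix (Fin 2) (Fin 2) F).trace ^ 2 ≠ 4 :=
    trace_sq_ne_four_of_mem_zpowers p t (by rw [ht]; exact hm) t (Subgroup.mem_zpowers t) ht2
  have hC := centralizer_eq_zpowers p t m hm3 hm ht
  obtain ⟨K, hK⟩ : ∃ K : Subgroup (SpecialLinearGroup (Fin 2) F), K = Subgroup.zpowers t :=
    ⟨_, rfl⟩
  rw [← hK]
  have hcardK : Nat.card K = m := by rw [hK, Nat.card_zpowers, ht]
  have hmemK : ∀ y : SpecialLinearGroup (Fin 2) F, y * t = t * y ↔ y ∈ K := by
    intro y
    rw [hK, ← hC, Subgroup.mem_centralizer_singleton_iff]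
  have htK : t ∈ K := by rw [hK]; exact Subgroup.mem_zpowers t
  have hKcomm : ∀ x ∈ K, ∀ y ∈ K, x * y = y * x := by
    intro x hx y hy
    rw [hK] at hx hy
    obtain ⟨i, rfl⟩ := hx
    obtain ⟨j, rfl⟩ := hy
    rw [← _root_.zpow_add, ← _root_.zpow_add, add_comm]
  obtain ⟨N, hN⟩ : ∃ N : Subgroup (SpecialLinearGroup (Fin 2) F),
      N = Subgroup.normalizer (K : Set (SpecialLinearGroup (Fin 2) F)) := ⟨_, rfl⟩
  rw [← hN]
  have hKN : K ≤ N := by rw [hN]; exact Subgroup.le_normalizer
  -- the inverting element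
  obtain ⟨U, hU⟩ := sl2_exists_conj_of_trace_eq t t⁻¹ (sl2_trace_inv t).symm htr
  have hU' : U⁻¹ * t * U = t⁻¹ := by
    have h1 : t = U⁻¹ * t⁻¹ * U := by rw [← hU]; group
    have h2 : t⁻¹ = (U⁻¹ * t⁻¹ * U)⁻¹ := by rw [← h1]
    rw [h2]; group
  have hUK : U ∉ K := by
    intro h
    have h1 := (hmemK U).mpr h
    have h2 : U * t * U⁻¹ = t := by rw [h1, mul_assoc, mul_inv_cancel, mul_one]
    rw [hU] at h2
    apply ht2
    have h3 : t * t = t⁻¹ * t := by rw [h2]
    rw [h3, inv_mul_cancel]
  have hUN : U ∈ N := by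
    rw [hN, Subgroup.mem_normalizer_iff]
    intro h
    rw [hK]
    constructor
    · rintro ⟨k, rfl⟩
      rw [conj_zpow', hU]
      exact ⟨-k, by simp⟩
    · intro hh
      obtain ⟨k, hk⟩ := hh
      have e : h = U⁻¹ * (U * h * U⁻¹) * U := by group
      rw [e, ← hk]
      have := conj_zpow' U⁻¹ t k
      rw [inv_inv] at this
      rw [this, hU']
      exact ⟨-k, by simp⟩
  -- every element of `N` conjugates `t` to `t` or `t⁻¹`
  have hNt : ∀ g ∈ N, g * t * g⁻¹ = t ∨ g * t * g⁻¹ = t⁻¹ := by
    intro g hg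
    rw [hN, Subgroup.mem_normalizer_iff] at hg
    have h1 : g * t * g⁻¹ ∈ K := (hg t).mp htK
    have h2 := (hmemK _).mpr h1
    have h3 : ((g * t * g⁻¹ : SpecialLinearGroup (Fin 2) F) : Matrix (Fin 2) (Fin 2) F).trace =
        (t : Matrix (Fin 2) (Fin 2) F).trace := sl2_trace_conj g t
    exact Cfsg.Agent.Helper98.SL2CT.eq_or_eq_inv_of_commute_trace' t _ h2 h3 htr
  have hrel : K.relIndex N = 2 := by
    rw [Subgroup.relIndex_eq_two_iff]
    refine ⟨U, hUN, ?_⟩
    intro b hb
    rcases hNt b hb with h | h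
    · have hbK : b ∈ K := by
        rw [← hmemK]
        calc b * t = (b * t * b⁻¹) * b := by group
          _ = t * b := by rw [h]
      refine Or.inr ⟨hbK, ?_⟩
      intro hbU
      apply hUK
      have := K.mul_mem (K.inv_mem hbK) hbU
      simpa [mul_assoc] using this
    · have hbUK : b * U ∈ K := by
        rw [← hmemK]
        have e1 : U * t = t⁻¹ * U := by
          calc U * t = (U * t * U⁻¹) * U := by group
            _ = t⁻¹ * U := by rw [hU]
        have e2 : b * t⁻¹ = t * b := by
          have : b * t⁻¹ * b⁻¹ = t := by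
            have h4 : b * t⁻¹ * b⁻¹ = (b * t * b⁻¹)⁻¹ := by group
            rw [h4, h, inv_inv]
          calc b * t⁻¹ = (b * t⁻¹ * b⁻¹) * b := by group
            _ = t * b := by rw [this]
        calc b * U * t = b * (U * t) := mul_assoc _ _ _
          _ = b * (t⁻¹ * U) := by rw [e1]
          _ = (b * t⁻¹) * U := (mul_assoc _ _ _).symm
          _ = t * b * U := by rw [e2]
          _ = t * (b * U) := mul_assoc _ _ _
      refine Or.inl ⟨hbUK, ?_⟩
      intro hbK
      apply hUK
      have := K.mul_mem (K.inv_mem hbK) hbUK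
      simpa [mul_assoc] using this
  constructor
  · have h1 := Subgroup.relIndex_mul_relIndex ⊥ K N bot_le hKN
    rw [Subgroup.relIndex_bot_left, Subgroup.relIndex_bot_left, hrel, hcardK] at h1
    rw [← h1, mul_comm]
  · apply isSolvable_of_comm_index_two (K.subgroupOf N)
    · intro x hx y hy
      rw [Subgroup.mem_subgroupOf] at hx hy
      apply Subtype.ext
      exact hKcomm _ hx _ hy
    · exact hrel

include p in
/-- `PSL₂(q)`, `q` odd, has a solvable subgroup of order `m` for `m = q ∓ 1 ≥ 3` -/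
theorem psl2_exists_solvable_torus_normalizer (h2 : (2 : F) ≠ 0) (m : ℕ) (hm3 : 3 ≤ m)
    (hm : m = Fintype.card F - 1 ∨ m = Fintype.card F + 1) :
    ∃ K : Subgroup (ProjectiveSpecialLinearGroup (Fin 2) F),
      Nat.card K = m ∧ Group.IsSolvable K := by
  obtain ⟨t, ht⟩ : ∃ t : SpecialLinearGroup (Fin 2) F, orderOf t = m := by
    rcases hm with hm | hm
    · obtain ⟨A, hA⟩ := sl2_exists_orderOf_sub_one (F := F)
      exact ⟨A, by rw [hA, hm]⟩
    · obtain ⟨A, hA⟩ := sl2_exists_orderOf_add_one (F := F)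
      exact ⟨A, by rw [hA, hm]⟩
  obtain ⟨hcard, hsolv⟩ := torus_normalizer p t m hm3 hm ht
  obtain ⟨N, hN⟩ : ∃ N : Subgroup (SpecialLinearGroup (Fin 2) F),
      N = Subgroup.normalizer ((Subgroup.zpowers t : Subgroup (SpecialLinearGroup (Fin 2) F)) :
        Set (SpecialLinearGroup (Fin 2) F)) := ⟨_, rfl⟩
  rw [← hN] at hcard hsolv
  have hZN : Subgroup.center (SpecialLinearGroup (Fin 2) F) ≤ N := by
    intro z hz
    rw [hN, Subgroup.mem_normalizer_iff]
    intro h
    have : z * h * z⁻¹ = h := by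
      rw [Subgroup.mem_center_iff] at hz
      rw [← hz h, mul_assoc, mul_inv_cancel, mul_one]
    rw [this]
  refine ⟨N.map (QuotientGroup.mk' (Subgroup.center (SpecialLinearGroup (Fin 2) F))), ?_, ?_⟩
  · have h1 : Nat.card (N.map (QuotientGroup.mk' (Subgroup.center (SpecialLinearGroup (Fin 2) F)))) *
        Nat.card (Subgroup.center (SpecialLinearGroup (Fin 2) F)) = Nat.card N := by
      have hk : (QuotientGroup.mk' (Subgroup.center (SpecialLinearGroup (Fin 2) F))).ker ≤ N := by
        rw [QuotientGroup.ker_mk']; exact hZN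
      have := Subgroup.relIndex_ker (K := N) (QuotientGroup.mk' (Subgroup.center (SpecialLinearGroup (Fin 2) F)))
      rw [← this, QuotientGroup.ker_mk']
      have h3 := Subgroup.relIndex_mul_relIndex ⊥ (Subgroup.center (SpecialLinearGroup (Fin 2) F)) N
        bot_le hZN
      rw [Subgroup.relIndex_bot_left, Subgroup.relIndex_bot_left] at h3
      rw [← h3, mul_comm]
    rw [card_center_sl2_odd h2, hcard] at h1
    exact Nat.eq_of_mul_eq_mul_right (by norm_num : 0 < 2) (by rw [h1, mul_comm])
  · have := hsolv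
    exact Group.isSolvable_of_surjective
      (f := ((QuotientGroup.mk' (Subgroup.center (SpecialLinearGroup (Fin 2) F))).subgroupMap N))
      (MonoidHom.subgroupMap_surjective _ _)

end torus

end Cfsg.Agent.Helper41
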