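import Cfsg.Agent.Lib.Helper41.PMaxSub
import Cfsg.Agent.Lib.Helper41.SL2Torus
import Cfsg.Agent.Lib.Helper98.KleinNorm
import Cfsg.Agent.Lib.Helper98.PSL2Klein
import Cfsg.Agent.Lib.Helper98.Transport

/-!
# Maximal subgroups of `PSL₂(F)`, `|F|` odd, of order prime to `p`: the cyclic and dihedral cases
-/

set_option autoImplicit false
set_option linter.unusedSectionVars false
set_option linter.unusedVariables false
set_option linter.style.haveILetI false

namespace Cfsg.Agent.Helper41.PMax

open Matrix Cfsg.Agent.Helper98.Ident Cfsg.Agent.Helper98.Dickson Cfsg.Agent.Helper41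
  Cfsg.Agent.Helper98.Torus

variable {F : Type*} [Field F] [Fintype F] (p : ℕ) [Fact p.Prime] [CharP F p]

theorem finite_S2 : Finite (S2 F) :=
  inferInstanceAs (Finite {A : Matrix (Fin 2) (Fin 2) F // A.det = 1})

theorem finite_PG : Finite (PG F) := by
  haveI := finite_S2 (F := F)
  exact inferInstanceAs (Finite (S2 F ⧸ _))

/-- the extended centralizer of a regular semisimple element has order `2 (q ∓ 1)` -/
theorem card_NX_odd (h2 : (2 : F) ≠ 0) (X : S2 F) (ht : X.1.trace ^ 2 ≠ 4) :
    Nat.card (NX X) = 2 * (Fintype.card F - 1) ∨ Nat.card (NX X) = 2 * (Fintype.card F + 1) := by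
  haveI := finite_S2 (F := F)
  obtain ⟨U, hU⟩ := sl2_exists_conj_of_trace_eq X X⁻¹ (sl2_trace_inv X).symm ht
  have hne : X ≠ X⁻¹ := by
    intro h
    apply ht
    have h1 : X * X = 1 := by
      calc X * X = X * X⁻¹ := by rw [← h]
        _ = 1 := mul_inv_cancel X
    have h1' : (X : Matrix (Fin 2) (Fin 2) F) * X = 1 := by
      rw [← Matrix.SpecialLinearGroup.coe_mul, h1]; rfl
    rcases sl2_eq_one_or_neg_one_of_sq h2 X h1' with e | e
    · rw [e, Matrix.trace_one]; simp; norm_num
    · rw [e, Matrix.trace_neg, Matrix.trace_one]; simp; norm_num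
  rw [card_NX X U hU hne]
  rcases sl2_card_centralizer X ht with h | h
  · left; rw [h]
  · right; rw [h]

theorem NX_ne_top (h2 : (2 : F) ≠ 0) (h5 : 5 ≤ Fintype.card F) (X : S2 F)
    (ht : X.1.trace ^ 2 ≠ 4) : NX X ≠ ⊤ := by
  classical
  intro h
  have hc := card_NX_odd h2 X ht
  rw [h, Subgroup.card_top, card_sl2] at hc
  obtain ⟨m, hm⟩ := Nat.exists_eq_add_of_le h5
  rw [hm] at hc
  have e1 : 5 + m - 1 = m + 4 := by omega
  rw [e1] at hc
  rcases hc with hc | hc
  · have a1 : 2 * (m + 4) < (5 + m) * (m + 4) := Nat.mul_lt_mul_of_pos_right (by omega) (by omega)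
    have a2 : (5 + m) * (m + 4) ≤ (5 + m) * (m + 4) * (5 + m + 1) :=
      Nat.le_mul_of_pos_right _ (by omega)
    omega
  · have a1 : 2 * (5 + m + 1) < (5 + m) * (m + 4) * (5 + m + 1) := by
      apply Nat.mul_lt_mul_of_pos_right _ (by omega)
      have : 5 * 4 ≤ (5 + m) * (m + 4) := Nat.mul_le_mul (by omega) (by omega)
      omega
    omega

/-- a coatom of `SL₂(F)` inside an extended centralizer has order `2 (q ∓ 1)` -/
theorem coatom_le_NX_odd (h2 : (2 : F) ≠ 0) (h5 : 5 ≤ Fintype.card F) (K : Subgroup (S2 F))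
    (hK : IsCoatom K) (X : S2 F) (ht : X.1.trace ^ 2 ≠ 4) (hle : K ≤ NX X) :
    Nat.card K = 2 * (Fintype.card F - 1) ∨ Nat.card K = 2 * (Fintype.card F + 1) := by
  rw [eq_of_coatom_le hK hle (NX_ne_top h2 h5 X ht)]
  exact card_NX_odd h2 X ht

/-- an element of order prime to `p` of `PSL₂(F)` lifts to a regular semisimple element -/
theorem trace_sq_ne_four_of_order (X : S2 F) (hne : (QuotientGroup.mk X : PG F) ≠ 1)
    (hord : ¬ p ∣ orderOf (QuotientGroup.mk X : PG F)) : X.1.trace ^ 2 ≠ 4 := by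
  intro h4
  have h1 := unipotent_pow p X.1 X.2 h4
  have h2 : (QuotientGroup.mk X : PG F) ^ p = 1 := (psl2_mk_pow_eq_one_iff X p).mpr h1
  have h3 : orderOf (QuotientGroup.mk X : PG F) = p := orderOf_eq_prime h2 hne
  exact hord (by rw [h3])

/-- conjugating `X` to `± X^{±1}` lands in the extended centralizer -/
theorem mem_NX_of_mk (h2 : (2 : F) ≠ 0) (X g : S2 F)
    (h : (QuotientGroup.mk g : PG F) * QuotientGroup.mk X * (QuotientGroup.mk g)⁻¹ = QuotientGroup.mk X ∨
      (QuotientGroup.mk g : PG F) * QuotientGroup.mk X * (QuotientGroup.mk g)⁻¹ =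
        (QuotientGroup.mk X)⁻¹) : g ∈ NX X := by
  have hmk : (QuotientGroup.mk g : PG F) * QuotientGroup.mk X * (QuotientGroup.mk g)⁻¹ =
      QuotientGroup.mk (g * X * g⁻¹) := rfl
  have htr : (g * X * g⁻¹).1.trace = X.1.trace := sl2_trace_conj g X
  rw [hmk] at h
  have key : g * X * g⁻¹ = -X → X.1.trace = 0 := by
    intro hconj
    have h' : (g * X * g⁻¹).1.trace = -(X.1.trace) := by
      rw [hconj, Matrix.SpecialLinearGroup.coe_neg, Matrix.trace_neg]
    rw [htr] at h'
    have : 2 * X.1.trace = 0 := by linear_combination h'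
    rcases mul_eq_zero.mp this with e | e
    · exact absurd e h2
    · exact e
  have hinv : X.1.trace = 0 → X⁻¹ = -X := by
    intro h0
    have hX2 : X * X = -1 := sl2_mul_self_of_trace_zero X h0
    rw [inv_eq_iff_mul_eq_one, mul_neg, hX2, neg_neg]
  rcases h with h | h
  · rw [psl2_mk_eq_mk_iff] at h
    rcases h with h | h
    · exact Or.inl h.symm
    · have hconj : g * X * g⁻¹ = -X := by
        have := congrArg Neg.neg h
        rw [neg_neg] at this
        exact this.symm
      right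
      rw [hinv (key hconj), hconj]
  · have hmk2 : ((QuotientGroup.mk X : PG F))⁻¹ = QuotientGroup.mk X⁻¹ := rfl
    rw [hmk2, psl2_mk_eq_mk_iff] at h
    rcases h with h | h
    · exact Or.inr h.symm
    · have hconj : g * X * g⁻¹ = -X⁻¹ := by
        have := congrArg Neg.neg h
        rw [neg_neg] at this
        exact this.symm
      have h' : (g * X * g⁻¹).1.trace = -(X.1.trace) := by
        rw [hconj, Matrix.SpecialLinearGroup.coe_neg, Matrix.trace_neg, sl2_trace_inv]
      rw [htr] at h'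
      have h0 : X.1.trace = 0 := by
        have : 2 * X.1.trace = 0 := by linear_combination h'
        rcases mul_eq_zero.mp this with e | e
        · exact absurd e h2
        · exact e
      left
      rw [hconj, hinv h0, neg_neg]

theorem dih_conj (n : ℕ) (d : DihedralGroup n) :
    d * DihedralGroup.r 1 * d⁻¹ = DihedralGroup.r 1 ∨
      d * DihedralGroup.r 1 * d⁻¹ = (DihedralGroup.r 1)⁻¹ := by
  rcases d with i | i
  · left
    simp [DihedralGroup.r_mul_r]
  · right
    simp [DihedralGroup.sr_mul_r, DihedralGroup.sr_mul_sr]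

/-- the generic step: a coatom `M` with an element `c ≠ 1` of order prime to `p` all of whose
`M`-conjugates are `c^{±1}` has order `q ∓ 1` -/
theorem card_of_conj_pm (hp2 : p ≠ 2) (h5 : 5 ≤ Fintype.card F) (M : Subgroup (PG F))
    (hM : IsCoatom M) (c : PG F) (hc1 : c ≠ 1) (hcp : ¬ p ∣ orderOf c)
    (hconj : ∀ m ∈ M, m * c * m⁻¹ = c ∨ m * c * m⁻¹ = c⁻¹) :
    Nat.card M = Fintype.card F - 1 ∨ Nat.card M = Fintype.card F + 1 := by
  have h2 : (2 : F) ≠ 0 := two_ne_zero_of_char p hp2
  obtain ⟨X, rfl⟩ := QuotientGroup.mk_surjective c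
  have ht := trace_sq_ne_four_of_order p X hc1 hcp
  have hle : pre M ≤ NX X := by
    intro g hg
    exact mem_NX_of_mk h2 X g (hconj _ hg)
  have hcard := coatom_le_NX_odd h2 h5 (pre M) (pre_isCoatom M hM) X ht hle
  rw [card_pre h2 M] at hcard
  rcases hcard with h | h
  · left; exact Nat.eq_of_mul_eq_mul_left (by norm_num : 0 < 2) h
  · right; exact Nat.eq_of_mul_eq_mul_left (by norm_num : 0 < 2) h

end Cfsg.Agent.Helper41.PMax
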