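import Cfsg.Agent.Lib.Helper41.NormMaxA
import Cfsg.Agent.Lib.Helper41.PMaxDih

/-!
# Maximal normalizers: from `PSL₂(F)` to `SL₂(F)` (odd characteristic)
-/

set_option autoImplicit false
set_option linter.unusedSectionVars false
set_option linter.unusedVariables false
set_option linter.style.haveILetI false

namespace Cfsg.Agent.Helper41.NormMax

open Matrix Cfsg.Agent.Helper98.Ident Cfsg.Agent.Helper98.Dickson Cfsg.Agent.Helper41
  Cfsg.Agent.Helper41.PMax

variable {F : Type*} [Field F]

/-- the only involution of `SL₂(F)` in odd characteristic is `-1` -/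
theorem sl2_involution (h2 : (2 : F) ≠ 0) (x : S2 F) (hx : x * x = 1) (hx1 : x ≠ 1) : x = -1 := by
  have hdet := det_eq x
  have e00 := congrArg (fun g : S2 F => g.1 0 0) hx
  have e01 := congrArg (fun g : S2 F => g.1 0 1) hx
  have e10 := congrArg (fun g : S2 F => g.1 1 0) hx
  have e11 := congrArg (fun g : S2 F => g.1 1 1) hx
  simp only [mul_ent, one_ent00, one_ent01, one_ent10, one_ent11] at e00 e01 e10 e11
  set a := x.1 0 0 with ha
  set b := x.1 0 1 with hb
  set c := x.1 1 0 with hc
  set d := x.1 1 1 with hd
  have hs : a + d ≠ 0 := by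
    intro h
    apply h2
    have hd' : d = -a := by linear_combination h
    rw [hd'] at hdet
    linear_combination (-1 : F) * hdet - e00
  have hb0 : b = 0 := by
    have : b * (a + d) = 0 := by linear_combination e01
    exact (mul_eq_zero.mp this).resolve_right hs
  have hc0 : c = 0 := by
    have : c * (a + d) = 0 := by linear_combination e10
    exact (mul_eq_zero.mp this).resolve_right hs
  rw [hb0, hc0] at hdet e00 e11
  have had : a = d := by
    have h1 : (a - d) * (a + d) = 0 := by linear_combination e00 - e11
    exact sub_eq_zero.mp ((mul_eq_zero.mp h1).resolve_right hs)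
  have ha2 : (a - 1) * (a + 1) = 0 := by linear_combination e00
  rcases mul_eq_zero.mp ha2 with h | h
  · exfalso
    apply hx1
    have ha1 : a = 1 := sub_eq_zero.mp h
    apply ext2
    · rw [one_ent00, ← ha, ha1]
    · rw [one_ent01, ← hb, hb0]
    · rw [one_ent10, ← hc, hc0]
    · rw [one_ent11, ← hd, ← had, ha1]
  · have ha1 : a = -1 := eq_neg_of_add_eq_zero_left h
    apply ext2
    · rw [← ha, ha1]; simp
    · rw [← hb, hb0]; simp
    · rw [← hc, hc0]; simp
    · rw [← hd, ← had, ha1]; simp

theorem neg_pow_odd (a : S2 F) (m : ℕ) (hm : Odd m) : (-a) ^ m = -(a ^ m) := by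
  apply Subtype.ext
  rw [Matrix.SpecialLinearGroup.coe_pow, Matrix.SpecialLinearGroup.coe_neg,
    Matrix.SpecialLinearGroup.coe_neg, Matrix.SpecialLinearGroup.coe_pow, Odd.neg_pow hm]

theorem neg_eq_neg_one_mul (a : S2 F) : -a = (-1) * a := by
  apply Subtype.ext
  simp

variable [Fintype F]

/-- the normalizer of a subgroup of `SL₂(F)` is the preimage of the normalizer of its image in
`PSL₂(F)` -/
theorem normalizer_sl2 (h2 : (2 : F) ≠ 0) (A : Subgroup (S2 F)) :
    Subgroup.normalizer (A : Set (S2 F)) =
      (Subgroup.normalizer ((A.map (QuotientGroup.mk' (Subgroup.center (S2 F))) :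
        Subgroup (PG F)) : Set (PG F))).comap (QuotientGroup.mk' (Subgroup.center (S2 F))) := by
  haveI := finite_S2 (F := F)
  haveI := finite_PG (F := F)
  apply le_antisymm
  · intro g hg
    rw [Subgroup.mem_comap]
    apply mem_normalizer_of_conj_mem
    rintro _ ⟨x, hx, rfl⟩
    have h1 := (Subgroup.mem_normalizer_iff.mp hg x).mp hx
    exact ⟨g * x * g⁻¹, h1, by simp⟩
  · intro g hg
    rw [Subgroup.mem_comap] at hg
    apply mem_normalizer_of_conj_mem
    intro a ha
    have ha' : (QuotientGroup.mk a : PG F) ∈
        A.map (QuotientGroup.mk' (Subgroup.center (S2 F))) := ⟨a, ha, rfl⟩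
    have h1 := (Subgroup.mem_normalizer_iff.mp hg _).mp ha'
    obtain ⟨a', ha'A, he⟩ := h1
    have he' : (QuotientGroup.mk a' : PG F) = QuotientGroup.mk (g * a * g⁻¹) := he
    rcases (psl2_mk_eq_mk_iff a' (g * a * g⁻¹)).mp he' with h | h
    · rw [h]; exact ha'A
    · by_cases hneg : (-1 : S2 F) ∈ A
      · rw [h, neg_eq_neg_one_mul]
        exact A.mul_mem hneg ha'A
      · exfalso
        have hm0 : 0 < orderOf a := orderOf_pos a
        have hodd : Odd (orderOf a) := by
          by_contra hne
          rw [Nat.not_odd_iff_even] at hne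
          obtain ⟨t, ht⟩ := hne
          have ht0 : 0 < t := by omega
          have hy : a ^ t * a ^ t = 1 := by
            rw [← pow_add, ← ht, pow_orderOf_eq_one]
          have hy1 : a ^ t ≠ 1 := by
            intro h1
            have := orderOf_le_of_pow_eq_one ht0 h1
            omega
          apply hneg
          rw [← sl2_involution h2 _ hy hy1]
          exact A.pow_mem ha _
        have h3 : (g * a * g⁻¹) ^ orderOf a = 1 := by
          rw [conj_pow, pow_orderOf_eq_one, mul_one, mul_inv_cancel]
        rw [h, neg_pow_odd _ _ hodd] at h3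
        apply hneg
        have h4 : a' ^ orderOf a = -1 := by
          have := congrArg (fun z : S2 F => -z) h3
          simpa using this
        rw [← h4]
        exact A.pow_mem ha'A _

/-- the reduction from `SL₂(F)` to `PSL₂(F)` -/
theorem normMax_sl2 (h2 : (2 : F) ≠ 0) (h : NormMax (PG F)) : NormMax (S2 F) := by
  intro A hA
  rw [normalizer_sl2 h2 A]
  apply Subgroup.isCoatom_comap_of_surjective (QuotientGroup.mk'_surjective _)
  apply h
  intro hn
  apply hA
  apply Subgroup.normalizer_eq_top_iff.mp
  rw [normalizer_sl2 h2 A, Subgroup.normalizer_eq_top_iff.mpr hn, Subgroup.comap_top]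

end Cfsg.Agent.Helper41.NormMax
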