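import Cfsg.Agent.Lib.Helper41.PGLMeet1
import Cfsg.Agent.S0799
import Cfsg.Agent.Lib.Helper42.PSL2Max

/-!
# `M ∩ PSL₂(F)` for a maximal subgroup `M ≅ S₄` of `PGL₂(F)` is a maximal `A₄`

The maximality argument is the one of `Cfsg.Agent.S5940` (helper42), stated for an arbitrary subgroup
isomorphic to `A₄`.
-/

set_option autoImplicit false
set_option linter.unusedSectionVars false
set_option linter.unusedVariables false
set_option linter.style.haveILetI false

namespace Cfsg.Agent.Helper41.PGLMax

open Matrix Cfsg.Agent.Helper98.Ident Cfsg.Agent.Helper98.Dickson Cfsg.Agent.Helper41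
  Cfsg.Agent.Helper41.PMax

section general

variable {G T : Type*} [Group G] [Group T]

/-- a product of two elements of order dividing three lies in every subgroup of index two -/
theorem mem_of_cubes (L : Subgroup G) (hL : L.index = 2) (M : Subgroup G) (e : M ≃* T) (m : M)
    (h : ∃ a : T, a ^ 3 = 1 ∧ (a⁻¹ * e m) ^ 3 = 1) : (m : G) ∈ L := by
  have hcube : ∀ x : G, x ^ 3 = 1 → x ∈ L := by
    intro x hx
    have : x = (x * x) * (x * x) := by
      calc x = x ^ 3 * x := by rw [hx, one_mul]
        _ = (x * x) * (x * x) := by rw [pow_succ, pow_two]; group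
    rw [this]
    exact sq_mem_of_index_two' L hL _
  obtain ⟨a, ha, hb⟩ := h
  have h1 : ((e.symm a : M) : G) ^ 3 = 1 := by
    rw [← Subgroup.coe_pow, ← map_pow, ha, map_one, Subgroup.coe_one]
  have h2 : ((e.symm (a⁻¹ * e m) : M) : G) ^ 3 = 1 := by
    rw [← Subgroup.coe_pow, ← map_pow, hb, map_one, Subgroup.coe_one]
  have h3 : (m : G) = ((e.symm a : M) : G) * ((e.symm (a⁻¹ * e m) : M) : G) := by
    rw [← Subgroup.coe_mul, ← map_mul, mul_inv_cancel_left, e.symm_apply_apply]
  rw [h3]
  exact L.mul_mem (hcube _ h1) (hcube _ h2)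

end general

section meet

variable {F : Type*} [Field F] [Fintype F]

/-- the intersection with `PSL₂(F)` of a subgroup `S₄` of `PGL₂(F)` not inside `PSL₂(F)` is an
`A₄` -/
theorem alt4_meet (hodd : Odd (Fintype.card F)) (M : Subgroup (GG F))
    (hML : ¬ M ≤ (tau (F := F)).range) (e : M ≃* Equiv.Perm (Fin 4)) :
    Nonempty (M.comap (tau (F := F)) ≃* alternatingGroup (Fin 4)) := by
  haveI := finite_GG (F := F)
  haveI := finite_PG (F := F)
  have hL2 := index_range_tau hodd
  have hcardM : Nat.card M = 24 := by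
    rw [Nat.card_congr e.toEquiv, card_perm_four]
  have hcardH : Nat.card (M.comap (tau (F := F))) = 12 := by
    have := card_eq_two_mul_comap hodd M hML
    omega
  set f : M.comap (tau (F := F)) →* Equiv.Perm (Fin 4) :=
    e.toMonoidHom.comp ((tau (F := F)).subgroupComap M) with hf
  have hfinj : Function.Injective f := by
    intro x y hxy
    have h1 : (tau (F := F)).subgroupComap M x = (tau (F := F)).subgroupComap M y :=
      e.injective hxy
    have h2 : tau (x : PG F) = tau (y : PG F) := congrArg Subtype.val h1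
    exact Subtype.ext (tau_injective h2)
  have hle : alternatingGroup (Fin 4) ≤ f.range := by
    intro σ hσ
    have hmem : ((e.symm σ : M) : GG F) ∈ (tau (F := F)).range := by
      apply mem_of_cubes _ hL2 M e
      rw [e.apply_symm_apply]
      obtain ⟨a, ha, h1, h2⟩ := perm4_cubes σ (Equiv.Perm.mem_alternatingGroup.mp hσ)
      exact ⟨a, h1, h2⟩
    obtain ⟨x, hx⟩ := hmem
    have hxM : x ∈ M.comap (tau (F := F)) := by
      rw [Subgroup.mem_comap, hx]
      exact (e.symm σ).2
    refine ⟨⟨x, hxM⟩, ?_⟩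
    have h1 : (tau (F := F)).subgroupComap M ⟨x, hxM⟩ = e.symm σ := Subtype.ext hx
    rw [hf, MonoidHom.comp_apply, h1]
    exact e.apply_symm_apply σ
  have hcard : Nat.card f.range = 12 := by
    rw [← hcardH]
    exact (Nat.card_congr (MonoidHom.ofInjective hfinj).toEquiv).symm
  have heq : alternatingGroup (Fin 4) = f.range := by
    apply Subgroup.eq_of_le_of_card_ge hle
    rw [hcard, card_alternatingGroup_four]
  exact ⟨(MonoidHom.ofInjective hfinj).trans (MulEquiv.subgroupCongr heq.symm)⟩

end meet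

section coatom

open Cfsg.Agent.Helper42.PSL2Max

/-- every subgroup `A₄` of `PSL₂(p)`, `p ≡ ±3 (mod 8)`, `p ≢ ±1 (mod 10)`, is maximal
(the proof of `Cfsg.Agent.S5940.result`, helper42) -/
theorem alt4_isCoatom {F : Type*} [Field F] [Fintype F] (p : ℕ) [Fact p.Prime]
    (hF : Fintype.card F = p) (h5 : 5 ≤ p) (h8 : p % 8 = 3 ∨ p % 8 = 5)
    (h10 : p % 10 ≠ 1 ∧ p % 10 ≠ 9)
    (H : Subgroup (Matrix.ProjectiveSpecialLinearGroup (Fin 2) F))
    (e : H ≃* alternatingGroup (Fin 4)) : IsCoatom H := by
  classical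
  have hp : p.Prime := Fact.out
  haveI : CharP F p := charP_of_card_eq_prime hF
  have hodd : Odd p := by rw [Nat.odd_iff]; omega
  have hH12 : Nat.card H = 12 := by
    rw [Nat.card_congr e.toEquiv, card_alternatingGroup_four]
  have hG := Cfsg.Agent.Helper98.PSL2Card.card_psl2_odd hF hodd
  obtain ⟨r, rfl⟩ := Nat.exists_eq_add_of_le h5
  have e1 : (5 + r) ^ 2 - 1 = (r + 4) * (r + 6) := by
    rw [show (5 + r) ^ 2 = (r + 4) * (r + 6) + 1 by ring]
    simp
  rw [e1] at hG
  have hGbig : 60 ≤ Nat.card (ProjectiveSpecialLinearGroup (Fin 2) F) := by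
    have : 4 * 6 * 5 ≤ (r + 4) * (r + 6) * (5 + r) :=
      Nat.mul_le_mul (Nat.mul_le_mul (by omega) (by omega)) (by omega)
    omega
  have hemb : ∀ M : Subgroup (ProjectiveSpecialLinearGroup (Fin 2) F), H ≤ M →
      ∃ f : alternatingGroup (Fin 4) →* M, Function.Injective f := by
    intro M hHM
    exact ⟨(Subgroup.inclusion hHM).comp e.symm.toMonoidHom,
      (Subgroup.inclusion_injective hHM).comp e.symm.injective⟩
  refine ⟨?_, ?_⟩
  · intro hH
    rw [hH, Subgroup.card_top] at hH12
    omega
  · intro M hHM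
    have hHd : 12 ∣ Nat.card M := by
      rw [← hH12]
      exact Subgroup.card_dvd_of_le hHM.le
    have hMd : Nat.card M ∣ Nat.card (ProjectiveSpecialLinearGroup (Fin 2) F) :=
      Subgroup.card_subgroup_dvd_card M
    obtain ⟨f, hf⟩ := hemb M hHM.le
    have hD := Cfsg.Agent.S0799.result (F := F) hF (5 + r) M
    rcases hD with ⟨k, -, hMk⟩ | ⟨P, K, hK, ⟨e'⟩⟩ | ⟨⟨e'⟩⟩ | ⟨⟨e'⟩⟩ | ⟨⟨e'⟩⟩ |
      ⟨K, _, _, m, hKm, hHK⟩
    · exfalso
      rcases hMk with ⟨hc, -⟩ | ⟨⟨e'⟩⟩
      · haveI := hc
        refine alt4_not_embed_comm (A := M) (fun a b => ?_) f hf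
        obtain ⟨g, hg⟩ := IsCyclic.exists_generator (α := M)
        obtain ⟨i, rfl⟩ := Subgroup.mem_zpowers_iff.mp (hg a)
        obtain ⟨j, rfl⟩ := Subgroup.mem_zpowers_iff.mp (hg b)
        rw [← _root_.zpow_add, ← _root_.zpow_add, add_comm]
      · exact alt4_not_embed_dihedral (e'.toMonoidHom.comp f) (e'.injective.comp hf)
    · exfalso
      have hN := card_normalizer_sylow_mul (F := F) (5 + r) P
      rw [hF] at hN
      have hKd : Nat.card K ∣ Nat.card (Subgroup.normalizer
          ((P : Subgroup (ProjectiveSpecialLinearGroup (Fin 2) F)) :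
            Set (ProjectiveSpecialLinearGroup (Fin 2) F))) := Subgroup.card_dvd_of_le hK
      rw [← Nat.card_congr e'.toEquiv] at hKd
      have h12 := hHd.trans hKd
      have hN2 : Nat.card (Subgroup.normalizer
          ((P : Subgroup (ProjectiveSpecialLinearGroup (Fin 2) F)) :
            Set (ProjectiveSpecialLinearGroup (Fin 2) F))) * 2 = (r + 4) * (5 + r) := by
        have h3 : (Nat.card (Subgroup.normalizer
          ((P : Subgroup (ProjectiveSpecialLinearGroup (Fin 2) F)) :
            Set (ProjectiveSpecialLinearGroup (Fin 2) F))) * 2) * (r + 6) =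
            ((r + 4) * (5 + r)) * (r + 6) := by
          rw [← hN] at hG
          rw [show 5 + r + 1 = r + 6 by ring] at hG
          linarith
        exact Nat.eq_of_mul_eq_mul_right (by omega) h3
      have h8' : 8 ∣ (r + 4) * (5 + r) := by
        rw [← hN2]
        exact Dvd.dvd.trans (by norm_num) (Nat.mul_dvd_mul_right h12 2)
      have hcop : Nat.Coprime 8 (5 + r) := by
        rw [show (8 : ℕ) = 2 ^ 3 by norm_num]
        apply Nat.Coprime.pow_left
        rw [Nat.coprime_two_left]
        exact hodd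
      have := hcop.dvd_of_dvd_mul_right h8'
      omega
    · exfalso
      have hM12 : Nat.card M = 12 := by
        rw [Nat.card_congr e'.toEquiv, card_alternatingGroup_four]
      exact hHM.ne (Subgroup.eq_of_le_of_card_ge hHM.le (by rw [hM12, hH12]))
    · exfalso
      have hM24 : Nat.card M = 24 := by
        rw [Nat.card_congr e'.toEquiv, card_perm_four]
      rw [hM24] at hMd
      have h48 : 16 ∣ (r + 4) * (r + 6) * (5 + r) := by
        rw [← hG]
        exact Dvd.dvd.trans (by norm_num) (Nat.mul_dvd_mul_right hMd 2)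
      have hcop : Nat.Coprime 16 (5 + r) := by
        rw [show (16 : ℕ) = 2 ^ 4 by norm_num]
        apply Nat.Coprime.pow_left
        rw [Nat.coprime_two_left]
        exact hodd
      have h16 := hcop.dvd_of_dvd_mul_right h48
      rw [← e1] at h16
      have hsq : (5 + r) ^ 2 % 16 = 9 := by
        rw [Nat.pow_mod]
        have : (5 + r) % 16 = 3 ∨ (5 + r) % 16 = 5 ∨ (5 + r) % 16 = 11 ∨ (5 + r) % 16 = 13 := by
          omega
        rcases this with h | h | h | h <;> rw [h]
      omega
    · have hM60 : Nat.card M = 60 := by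
        rw [Nat.card_congr e'.toEquiv, card_alternatingGroup_five]
      rw [hM60] at hMd
      have h5' : 5 ∣ ((5 + r) ^ 2 - 1) * (5 + r) := by
        rw [e1, ← hG]
        exact Dvd.dvd.trans (by norm_num) (Dvd.dvd.mul_right hMd 2)
      have hcases : (5 + r) % 5 = 0 ∨ ((5 + r) % 5 = 1 ∨ (5 + r) % 5 = 4) ∨
          ((5 + r) % 5 = 2 ∨ (5 + r) % 5 = 3) := by omega
      rcases hcases with h0 | h14 | h23
      · have h5p : 5 ∣ 5 + r := Nat.dvd_of_mod_eq_zero h0
        have h5eq : 5 = 5 + r := ((Nat.dvd_prime hp).mp h5p).resolve_left (by norm_num)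
        have hr : r = 0 := by omega
        subst hr
        apply Subgroup.eq_top_of_le_card
        rw [hM60]
        have hG' : Nat.card (ProjectiveSpecialLinearGroup (Fin 2) F) * 2 = 120 := by
          rw [hG]
        omega
      · exfalso
        have := hodd
        rw [Nat.odd_iff] at this
        omega
      · exact absurd h5' (five_not_dvd_of_mod h23)
    · rw [← hF] at hKm
      have hp' : (Fintype.card F).Prime := by rw [hF]; exact hp
      have hK := card_eq_of_pow_eq_prime hp' hKm
      exact eq_top_of_full hK M hHK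

end coatom

end Cfsg.Agent.Helper41.PGLMax
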