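import Cfsg.Agent.Lib.Helper41.PGLMeet1
import Cfsg.Agent.Lib.Helper98.DicksonMax

/-!
# `M ∩ PSL₂(F)` for a maximal subfield subgroup `M ≅ PGL₂(F₀)` of `PGL₂(F)` is a maximal `PSL₂(F₀)`

The maximality argument is the one of `Cfsg.Agent.S5942` (helper98), stated for the image of an
arbitrary field embedding.
-/

set_option autoImplicit false
set_option linter.unusedSectionVars false
set_option linter.unusedVariables false
set_option linter.style.haveILetI false

namespace Cfsg.Agent.Helper41.PGLMax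

open Matrix Cfsg.Agent.Helper98.Ident Cfsg.Agent.Helper98.Dickson Cfsg.Agent.Helper41
  Cfsg.Agent.Helper41.PMax Cfsg.Agent.S0805

section nat

variable {F : Type*} [Field F] {K1 : Type*} [Field K1] (φ : K1 →+* F)

/-- naturality of `PSL₂ → PGL₂` in the field -/
theorem tau_pslMap (y : PG K1) : tau (pslMap φ y) = pglMap φ (tau y) := by
  obtain ⟨g, rfl⟩ := QuotientGroup.mk_surjective y
  change tau (QuotientGroup.mk (Matrix.SpecialLinearGroup.map φ g) : PG F) = _
  rw [tau_mk, tau_mk, pglMap_mk]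
  congr 1
  apply Units.ext
  rfl

theorem range_pslMap_le : (pslMap φ).range ≤ ((pglMap φ).range).comap (tau (F := F)) := by
  rintro _ ⟨y, rfl⟩
  rw [Subgroup.mem_comap, tau_pslMap]
  exact ⟨_, rfl⟩

end nat

section sub

variable {F : Type*} [Field F]

/-- the subfield case, with the subgroup identified -/
theorem subfield_case_range [Fintype F] (hodd : Odd (Fintype.card F)) (M : Subgroup (GG F))
    (hM : IsCoatom M) (hML : ¬ M ≤ (tau (F := F)).range) (hLM : ¬ (tau (F := F)).range ≤ M)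
    (k : Subfield F) (hk : SLK k ≤ pre (M.comap (tau (F := F))))
    (hdec : ∀ g ∈ pre (M.comap (tau (F := F))), ∃ t : Fˣ, dd t ∈ pre (M.comap (tau (F := F))) ∧
      (t : F) ^ 2 ∈ k ∧ g * (dd t)⁻¹ ∈ SLK k) :
    ∃ (F₀ : Type) (_ : Field F₀) (_ : Fintype F₀) (φ : F₀ →+* F) (r : ℕ), r.Prime ∧ Odd r ∧
      Fintype.card F₀ ^ r = Fintype.card F ∧ M = (pglMap φ).range := by
  classical
  have h2 := two_ne_zero_of_odd_card hodd
  have hLr : pre (M.comap (tau (F := F))) ≤ ratForm k := by
    intro g hg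
    obtain ⟨t, ht, ht2, hg0⟩ := hdec g hg
    have : g = g * (dd t)⁻¹ * dd t := by group
    rw [this]
    exact mul_mem (SLK_le_ratForm k hg0) (dd_mem_ratForm k t ht2)
  have hMle : M ≤ RG k := by
    intro m hm
    induction m using Matrix.ProjGenLinGroup.induction_on with | mk g =>
    rw [mk_mem_RG_iff]
    apply mem_ratGL_of_conj
    · apply mem_SLK_of_ratForm_of_trace h2 k _
        (hLr (conj_mem_pre hodd M g hm (uu 1) (hk (uu_one_mem_SLK k))))
      rw [trace_conjGL, trace_uu]
    · apply mem_SLK_of_ratForm_of_trace h2 k _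
        (hLr (conj_mem_pre hodd M g hm (ll 1) (hk (ll_one_mem_SLK k))))
      rw [trace_conjGL, trace_ll]
  have hk_ne : k ≠ ⊤ := by
    intro h
    apply hLM
    rintro _ ⟨y, rfl⟩
    obtain ⟨g, rfl⟩ := QuotientGroup.mk_surjective y
    have : g ∈ pre (M.comap (tau (F := F))) := by
      apply hk
      rw [h]
      intro i j
      trivial
    exact this
  have hMeq : M = RG k := eq_of_coatom_le hM hMle (RG_ne_top hk_ne)
  have hmax : ∀ k₁ : Subfield F, k ≤ k₁ → k₁ = k ∨ k₁ = ⊤ := by
    intro k₁ hle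
    by_cases htop : k₁ = ⊤
    · exact Or.inr htop
    · left
      have h1 : M = RG k₁ := eq_of_coatom_le hM (hMle.trans (RG_mono hle)) (RG_ne_top htop)
      apply le_antisymm _ hle
      apply eq_top_of_RG_le
      rw [← h1, ← hMeq]
  have hprime := Cfsg.Agent.Helper98.Torus.prime_finrank k hk_ne hmax
  obtain ⟨F₀, _, _, φ, hφ, hm⟩ := exists_model' k
  subst hφ
  have hrange : M = (pglMap φ).range := by rw [hMeq, RG_fieldRange]
  refine ⟨F₀, inferInstance, inferInstance, φ, _, hprime, ?_, hm, hrange⟩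
  rcases hprime.eq_two_or_odd' with hr2 | hrodd
  · exfalso
    apply hML
    rw [hrange]
    rw [hr2] at hm
    exact range_pglMap_le φ (fun x hx => isSquare_of_even φ 2 even_two hm hodd x hx)
  · exact hrodd

/-- `PGL₂(F₀) ∩ PSL₂(F) = PSL₂(F₀)` when `PGL₂(F₀)` is not inside `PSL₂(F)` -/
theorem comap_range_pglMap [Fintype F] (hodd : Odd (Fintype.card F)) {F₀ : Type*} [Field F₀]
    [Fintype F₀] (φ : F₀ →+* F) (hML : ¬ (pglMap φ).range ≤ (tau (F := F)).range) :
    ((pglMap φ).range).comap (tau (F := F)) = (pslMap φ).range := by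
  haveI := finite_PG (F := F)
  have hodd0 : Odd (Fintype.card F₀) := by
    obtain ⟨p, hp⟩ := CharP.exists F
    haveI := hp
    haveI : Fact p.Prime := ⟨CharP.char_is_prime F p⟩
    haveI : CharP F₀ p := φ.charP φ.injective p
    have hp2 : p ≠ 2 := by
      rintro rfl
      obtain ⟨n, -, hn⟩ := FiniteField.card F 2
      have : Even (Fintype.card F) := by
        rw [hn]
        exact Nat.even_pow.mpr ⟨even_two, n.pos.ne'⟩
      exact (Nat.not_even_iff_odd.mpr hodd) this
    exact odd_card_of_char_ne_two p hp2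
  symm
  apply Subgroup.eq_of_le_of_card_ge (range_pslMap_le φ)
  have h1 := card_eq_two_mul_comap hodd _ hML
  have h2 : Nat.card (pglMap φ).range = Nat.card (Matrix.ProjGenLinGroup (Fin 2) F₀) :=
    (Nat.card_congr (MonoidHom.ofInjective (pglMap_injective φ)).toEquiv).symm
  have h3 : Nat.card (pslMap φ).range = Nat.card (PG F₀) :=
    (Nat.card_congr (MonoidHom.ofInjective (pslMap_injective φ)).toEquiv).symm
  have h4 := card_GG hodd0
  have h5 : Nat.card (Matrix.ProjGenLinGroup (Fin 2) F₀) = Nat.card (GG F₀) := rfl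
  rw [h3]
  have h6 : 2 * Nat.card (((pglMap φ).range).comap (tau (F := F))) = 2 * Nat.card (PG F₀) := by
    rw [← h1, h2, h5, h4]
  exact le_of_eq (Nat.eq_of_mul_eq_mul_left two_pos h6)

end sub


section coatomsub

open Cfsg.Agent.Helper98.DMax Cfsg.Agent.Helper98

theorem nine_pow_mod (j : ℕ) : (9 ^ j % 16 = 1 ∨ 9 ^ j % 16 = 9) ∧ (9 ^ j % 5 = 1 ∨ 9 ^ j % 5 = 4) := by
  induction j with
  | zero => simp
  | succ j ih =>
    rw [pow_succ]
    obtain ⟨h1, h2⟩ := ih
    constructor
    · rcases h1 with h | h <;> omega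
    · rcases h2 with h | h <;> omega

theorem three_pow_odd (r : ℕ) (hr : Odd r) :
    (3 ^ r % 16 = 3 ∨ 3 ^ r % 16 = 11) ∧ (3 ^ r % 5 = 3 ∨ 3 ^ r % 5 = 2) := by
  obtain ⟨j, rfl⟩ := hr
  have e : 3 ^ (2 * j + 1) = 9 ^ j * 3 := by
    rw [pow_succ, pow_mul]
    norm_num
  rw [e]
  obtain ⟨h1, h2⟩ := nine_pow_mod j
  constructor
  · rcases h1 with h | h <;> omega
  · rcases h2 with h | h <;> omega

theorem not_dvd_three_pow (r : ℕ) (hr : Odd r) :
    ¬ 16 ∣ ((3 ^ r) ^ 2 - 1) * 3 ^ r ∧ ¬ 5 ∣ ((3 ^ r) ^ 2 - 1) * 3 ^ r := by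
  obtain ⟨h16, h5⟩ := three_pow_odd r hr
  set Q := 3 ^ r with hQ
  have hQ1 : 1 ≤ Q ^ 2 := Nat.one_le_pow _ _ (by positivity)
  constructor
  · intro h
    have hm : Q ^ 2 % 16 = 9 := by
      rw [sq, Nat.mul_mod]
      rcases h16 with h | h <;> rw [h]
    have hm1 : (Q ^ 2 - 1) % 16 = 8 := by omega
    have := Nat.mod_eq_zero_of_dvd h
    rw [Nat.mul_mod, hm1] at this
    rcases h16 with h | h <;> rw [h] at this <;> omega
  · intro h
    have hm : Q ^ 2 % 5 = 4 := by
      rw [sq, Nat.mul_mod]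
      rcases h5 with h | h <;> rw [h]
    have hm1 : (Q ^ 2 - 1) % 5 = 3 := by omega
    have := Nat.mod_eq_zero_of_dvd h
    rw [Nat.mul_mod, hm1] at this
    rcases h5 with h | h <;> rw [h] at this <;> omega

/-- the image of `PSL₂(K)` in `PSL₂(F)`, `|F| = |K|^r` with `r` an odd prime, is maximal
(the proof of `Cfsg.Agent.S5942.result`, helper98) -/
theorem pslMap_range_isCoatom {F K : Type*} [Field F] [Fintype F] [Field K] [Fintype K] (q r : ℕ)
    (hK : Fintype.card K = q) (hF : Fintype.card F = q ^ r) (hq : Odd q) (hr : r.Prime)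
    (hr2 : r ≠ 2) (φ : K →+* F) : IsCoatom (pslMap φ).range := by
  classical
  have hKF : Fintype.card K ^ r = Fintype.card F := by rw [hK, hF]
  obtain ⟨p, hp⟩ := CharP.exists F
  haveI := hp
  haveI : Fact p.Prime := ⟨CharP.char_is_prime F p⟩
  haveI : CharP K p := φ.charP φ.injective p
  haveI := finite_psl (F := F)
  obtain ⟨b, -, hb⟩ := FiniteField.card K p
  rw [hK] at hb
  have hpq : p ∣ q := by
    rw [hb]
    exact dvd_pow_self p b.ne_zero
  have hp2 : p ≠ 2 := by
    rintro rfl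
    obtain ⟨t, ht⟩ := hq
    omega
  have hpodd : ¬ p ∣ 2 := by
    intro h
    exact hp2 ((Nat.prime_dvd_prime_iff_eq (Fact.out : p.Prime) Nat.prime_two).mp h)
  have hq3 : 3 ≤ q := by
    have h2 : 2 ≤ q := by rw [← hK]; exact Fintype.one_lt_card
    obtain ⟨t, ht⟩ := hq
    omega
  have hrodd : Odd r := hr.odd_of_ne_two hr2
  have hr2' : 2 ≤ r := hr.two_le
  have hoddF : Odd (q ^ r) := hq.pow
  set H0 := (pslMap φ).range with hH0
  have e0 : H0 ≃* Matrix.ProjectiveSpecialLinearGroup (Fin 2) K :=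
    (MonoidHom.ofInjective (pslMap_injective φ)).symm
  have hN0 : Nat.card H0 * 2 = (q ^ 2 - 1) * q := by
    rw [Nat.card_congr e0.toEquiv]
    exact PSL2Card.card_psl2_odd hK hq
  have hNG := PSL2Card.card_psl2_odd hF hoddF
  have hA : 8 ≤ q ^ 2 - 1 := by
    have : 9 ≤ q ^ 2 := by nlinarith
    omega
  have h12 : 12 ≤ Nat.card H0 := by
    have : 24 ≤ (q ^ 2 - 1) * q := by nlinarith
    omega
  have hq5 : 5 ≤ q → 60 ≤ Nat.card H0 := by
    intro h5
    have : 24 ≤ q ^ 2 - 1 := by
      have : 25 ≤ q ^ 2 := by nlinarith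
      omega
    have : 120 ≤ (q ^ 2 - 1) * q := by nlinarith
    omega
  have hq3' : Nat.card H0 < 60 → q = 3 := by
    intro h
    by_contra hne
    have : 5 ≤ q := by
      obtain ⟨t, ht⟩ := hq
      omega
    have := hq5 this
    omega
  have hqQ : q + 1 ≤ q ^ r := by
    have : q ^ 2 ≤ q ^ r := Nat.pow_le_pow_right (by omega) hr2'
    nlinarith
  have hpN0 : p ∣ Nat.card H0 := by
    have h1 : p ∣ Nat.card H0 * 2 := by rw [hN0]; exact Dvd.dvd.mul_left hpq _
    rcases (Fact.out : p.Prime).dvd_mul.mp h1 with h | h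
    · exact h
    · exact absurd h hpodd
  apply coatom_skeleton p H0
  · obtain ⟨x, y, hx, hy, hxy⟩ := exists_noncomm_psl K p
    refine ⟨e0.symm x, e0.symm y, ?_, ?_, ?_⟩
    · rw [← map_pow, hx, map_one]
    · rw [← map_pow, hy, map_one]
    · intro h
      rw [← map_mul, ← map_mul] at h
      exact hxy (e0.symm.injective h)
  · have h1 := card_mono hqQ
    have h2 : (q ^ 2 - 1) * q < ((q + 1) ^ 2 - 1) * (q + 1) := by
      have : q ^ 2 - 1 ≤ (q + 1) ^ 2 - 1 :=
        Nat.sub_le_sub_right (Nat.pow_le_pow_left (by omega) 2) 1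
      have hpos : 0 < (q + 1) ^ 2 - 1 := by
        have : 1 < (q + 1) ^ 2 := by nlinarith
        omega
      calc (q ^ 2 - 1) * q ≤ ((q + 1) ^ 2 - 1) * q := Nat.mul_le_mul_right q this
        _ < ((q + 1) ^ 2 - 1) * (q + 1) := Nat.mul_lt_mul_of_pos_left (by omega) hpos
    omega
  · exact hpN0
  · intro n hpn hdvd
    apply hpn
    have h1 : p ∣ 2 * n := hpN0.trans hdvd
    rcases (Fact.out : p.Prime).dvd_mul.mp h1 with h | h
    · exact absurd h hpodd
    · exact h
  · rintro ⟨-, h⟩; omega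
  · rintro ⟨-, h, h24⟩
    have hq3'' := hq3' (by omega)
    subst hq3''
    have : 48 ∣ ((3 ^ r) ^ 2 - 1) * 3 ^ r := by
      rw [← hNG]
      exact Nat.mul_dvd_mul h24 (dvd_refl 2)
    exact (not_dvd_three_pow r hrodd).1 ((by norm_num : 16 ∣ 48).trans this)
  · rintro ⟨-, h, h60⟩
    have hq3'' := hq3' h
    subst hq3''
    have : 120 ∣ ((3 ^ r) ^ 2 - 1) * 3 ^ r := by
      rw [← hNG]
      exact Nat.mul_dvd_mul h60 (dvd_refl 2)
    exact (not_dvd_three_pow r hrodd).2 ((by norm_num : 5 ∣ 120).trans this)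
  · intro K' _ _ m hcard M hM hiso
    have hle : H0 ≤ M := hM.le
    have hdvd : Nat.card H0 ∣ Nat.card M := Subgroup.card_dvd_of_le hle
    have hlt' : Nat.card H0 < Nat.card M := by
      by_contra hcon
      push Not at hcon
      exact hM.ne (Subgroup.eq_of_le_of_card_ge hle hcon)
    have hMG : Nat.card M ≤ Nat.card (Matrix.ProjectiveSpecialLinearGroup (Fin 2) F) :=
      Subgroup.card_le_card_group M
    set q' := Fintype.card K' with hq'
    have hoddq' : Odd q' := by
      have hodd : Odd (q' ^ m) := by rw [hcard, hF]; exact hoddF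
      have hm0 : m ≠ 0 := by
        rintro rfl
        rw [pow_zero, hF] at hcard
        have : 2 ≤ q ^ r := by omega
        omega
      exact (Nat.odd_pow_iff hm0).mp hodd
    have hNM : Nat.card M * 2 = (q' ^ 2 - 1) * q' ∨ Nat.card M = (q' ^ 2 - 1) * q' := by
      rcases hiso with ⟨⟨e⟩⟩ | ⟨⟨e⟩⟩
      · left
        rw [Nat.card_congr e.toEquiv]
        exact PSL2Card.card_psl2_odd rfl hoddq'
      · right
        rw [Nat.card_congr e.toEquiv]
        exact card_pgl2 K'
    have hd2 : (Fintype.card K ^ 2 - 1) * Fintype.card K ∣ 2 * ((q' ^ 2 - 1) * q') := by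
      rw [hK, ← hN0]
      rcases hNM with h | h
      · rw [← h]
        have : Nat.card H0 * 2 ∣ Nat.card M * 2 := Nat.mul_dvd_mul hdvd (dvd_refl 2)
        exact this.trans (Dvd.intro_left 2 rfl)
      · rw [← h, mul_comm 2]
        exact Nat.mul_dvd_mul hdvd (dvd_refl 2)
    rcases subfield_cases r m hr hKF hcard hd2 with h | ⟨h, hm1⟩
    · exfalso
      rw [← hq', hK] at h
      rcases hNM with hNM | hNM
      · rw [h, ← hN0] at hNM
        omega
      · -- `PGL₂(K')` with `m = r` odd: impossible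
        have hmr : m = r := by
          rw [h, hF] at hcard
          exact Nat.pow_right_injective (by omega : 2 ≤ q) hcard
        rcases hiso with ⟨⟨e⟩⟩ | ⟨⟨e⟩⟩
        · have h1 := PSL2Card.card_psl2_odd (F := K') rfl hoddq'
          rw [← Nat.card_congr e.toEquiv, ← hq', h, ← hN0] at h1
          omega
        · have h1 := (Cfsg.Agent.S0805.result (K := K') hF hoddF m (by omega) (by rw [← hF]; exact hcard)).2
          have h2 : Even m := h1.mp ⟨M, ⟨e⟩⟩
          rw [hmr] at h2
          exact (Nat.not_even_iff_odd.mpr hrodd) h2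
    · rw [← hq', hF] at h
      rcases hNM with hNM | hNM
      · rw [← Subgroup.card_eq_iff_eq_top]
        rw [h, ← hNG] at hNM
        omega
      · exfalso
        rw [h, ← hNG] at hNM
        have : 0 < Nat.card (Matrix.ProjectiveSpecialLinearGroup (Fin 2) F) := Nat.card_pos
        omega


end coatomsub

end Cfsg.Agent.Helper41.PGLMax
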