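import Mathlib
import Cfsg.Agent.Lib.Helper41.SL2Spec

set_option autoImplicit false

namespace Cfsg.Agent.Helper41

open Matrix Polynomial
open scoped MatrixGroups

/-- an element of order `p` in `PSL(2,F)` -/
theorem psl2_exists_orderOf_char {F : Type*} [Field F] (p : ℕ) [Fact p.Prime] [CharP F p] :
    ∃ g : Matrix.ProjectiveSpecialLinearGroup (Fin 2) F, orderOf g = p := by
  let A : Matrix.SpecialLinearGroup (Fin 2) F := ⟨!![1, 1; 0, 1], by simp [Matrix.det_fin_two]⟩
  refine ⟨QuotientGroup.mk A, ?_⟩
  apply orderOf_eq_prime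
  · rw [psl2_mk_pow_eq_one_iff]
    apply unipotent_pow p _ A.2
    simp [A, Matrix.trace_fin_two]
    norm_num
  · rw [Ne, psl2_mk_eq_one_iff]
    rintro (h | h)
    · have := congrFun (congrFun h 0) 1
      simp [A] at this
    · have := congrFun (congrFun h 0) 1
      simp [A] at this

/-- an element of order `(q-1)/d` in `PSL(2,F)` -/
theorem psl2_exists_orderOf_split {F : Type*} [Field F] [Fintype F] (p : ℕ) [Fact p.Prime] [CharP F p] :
    ∃ g : Matrix.ProjectiveSpecialLinearGroup (Fin 2) F,
      orderOf g = (Fintype.card F - 1) / Nat.gcd 2 (Fintype.card F - 1) := by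
  classical
  obtain ⟨z, hz⟩ := IsCyclic.exists_generator (α := Fˣ)
  have hzord : orderOf z = Fintype.card F - 1 := by
    rw [orderOf_eq_card_of_forall_mem_zpowers hz, Nat.card_eq_fintype_card, Fintype.card_units]
  let A : Matrix.SpecialLinearGroup (Fin 2) F :=
    ⟨Matrix.diagonal ![(z : F), ((z⁻¹ : Fˣ) : F)], by simp [Matrix.det_diagonal, Fin.prod_univ_two]⟩
  refine ⟨QuotientGroup.mk A, ?_⟩
  obtain ⟨-, hdm, -⟩ := gcd_two_cases (Fintype.card F) Fintype.card_pos
  apply orderOf_psl2_mk_eq p A (z : F) (Fintype.card F - 1) (by rw [orderOf_units, hzord]) hdm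
  intro k
  have hA : (A : Matrix (Fin 2) (Fin 2) F) ^ k = Matrix.diagonal ![(z : F) ^ k, ((z⁻¹ : Fˣ) : F) ^ k] := by
    show (Matrix.diagonal ![(z : F), ((z⁻¹ : Fˣ) : F)]) ^ k = _
    rw [Matrix.diagonal_pow]
    congr 1
    ext i
    fin_cases i <;> simp
  rw [hA]
  have hinv : ((z⁻¹ : Fˣ) : F) ^ k = ((z : F) ^ k)⁻¹ := by simp
  constructor
  · rintro (h | h)
    · left
      have := congrFun (congrFun h 0) 0
      simpa using this
    · right
      have := congrFun (congrFun h 0) 0
      simpa using this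
  · rintro (h | h)
    · left
      rw [hinv, h]
      ext i j
      fin_cases i <;> fin_cases j <;> simp
    · right
      rw [hinv, h]
      ext i j
      fin_cases i <;> fin_cases j <;> simp

/-- an element of order `(q+1)/d` in `PSL(2,F)` -/
theorem psl2_exists_orderOf_nonsplit {F : Type*} [Field F] [Fintype F] (p : ℕ) [Fact p.Prime] [CharP F p] :
    ∃ g : Matrix.ProjectiveSpecialLinearGroup (Fin 2) F,
      orderOf g = (Fintype.card F + 1) / Nat.gcd 2 (Fintype.card F - 1) := by
  classical
  set q := Fintype.card F with hq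
  have hq2 : 2 ≤ q := Fintype.one_lt_card
  let L := FiniteField.Extension F p 2
  haveI : Fintype L := Fintype.ofFinite L
  have hcardL : Fintype.card L = q ^ 2 := by
    rw [Fintype.card_eq_nat_card, FiniteField.natCard_extension, Nat.card_eq_fintype_card]
  haveI : CharP L p := charP_of_injective_algebraMap (algebraMap F L).injective p
  obtain ⟨z, hz⟩ := IsCyclic.exists_generator (α := Lˣ)
  have hzord : orderOf z = q ^ 2 - 1 := by
    rw [orderOf_eq_card_of_forall_mem_zpowers hz, Nat.card_eq_fintype_card, Fintype.card_units, hcardL]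
  have hfac : q ^ 2 - 1 = (q - 1) * (q + 1) := by
    obtain ⟨r, hr⟩ := Nat.exists_eq_add_of_le hq2
    rw [hr]
    have : (2 + r) ^ 2 = (2 + r - 1) * (2 + r + 1) + 1 := by
      have : 2 + r - 1 = r + 1 := by omega
      rw [this]; ring
    omega
  -- the element of order q + 1
  let w : Lˣ := z ^ (q - 1)
  have hword : orderOf w = q + 1 := by
    show orderOf (z ^ (q - 1)) = q + 1
    rw [orderOf_pow_of_dvd (by omega) (by rw [hzord, hfac]; exact dvd_mul_right _ _), hzord, hfac]
    exact Nat.mul_div_cancel_left _ (by omega)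
  let b : Module.Basis (Fin 2) F L := Module.finBasisOfFinrankEq F L (FiniteField.finrank_extension F p 2)
  have hdet : (Algebra.leftMulMatrix b (w : L)).det = 1 := by
    rw [← Algebra.norm_eq_matrix_det]
    show Algebra.norm F ((z ^ (q - 1) : Lˣ) : L) = 1
    rw [Units.val_pow_eq_pow_val, map_pow]
    apply FiniteField.pow_card_sub_one_eq_one
    rw [Algebra.norm_ne_zero_iff]
    exact z.ne_zero
  let A : Matrix.SpecialLinearGroup (Fin 2) F := ⟨Algebra.leftMulMatrix b (w : L), hdet⟩
  refine ⟨QuotientGroup.mk A, ?_⟩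
  obtain ⟨-, -, hdp⟩ := gcd_two_cases q Fintype.card_pos
  apply orderOf_psl2_mk_eq p A (w : L) (q + 1) (by rw [orderOf_units, hword]) hdp
  intro k
  have hA : (A : Matrix (Fin 2) (Fin 2) F) ^ k = Algebra.leftMulMatrix b ((w : L) ^ k) := by
    show (Algebra.leftMulMatrix b (w : L)) ^ k = _
    rw [map_pow]
  rw [hA]
  have hinj := Algebra.leftMulMatrix_injective b
  constructor
  · rintro (h | h)
    · left
      apply hinj
      rw [h, map_one]
    · right
      apply hinj
      rw [h, map_neg, map_one]
  · rintro (h | h)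
    · left
      rw [h, map_one]
    · right
      rw [h, map_neg, map_one]

end Cfsg.Agent.Helper41
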