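import Cfsg.Agent.Lib.Helper41.PGLMeet2
import Cfsg.Agent.Lib.Helper41.PGLMeet3
import Cfsg.Agent.Lib.Helper41.PGLMeet4
import Cfsg.Agent.Lib.Helper51.PSLDihFinal

/-!
# A maximal subgroup of `PGL₂(q)`, `q` odd, meets `PSL₂(q)` in a maximal subgroup
-/

set_option autoImplicit false
set_option linter.unusedSectionVars false
set_option linter.unusedVariables false
set_option linter.style.haveILetI false

namespace Cfsg.Agent.Helper41.PGLMax

open Matrix Cfsg.Agent.Helper98.Ident Cfsg.Agent.Helper98.Dickson Cfsg.Agent.Helper41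
  Cfsg.Agent.Helper41.PMax Cfsg.Agent.S0805

variable {F : Type*} [Field F] [Fintype F] (p : ℕ) [Fact p.Prime] [CharP F p]

/-- the Borel case, with the subgroup identified -/
theorem borel_case_eq (hp2 : p ≠ 2) (M : Subgroup (GG F)) (hM : IsCoatom M)
    (hpH : p ∣ Nat.card (M.comap (tau (F := F))))
    (hB : ∀ g ∈ pre (M.comap (tau (F := F))), g.1 1 0 = 0) : M = BG (F := F) := by
  have hodd : Odd (Fintype.card F) := odd_card_of_char_ne_two p hp2
  obtain ⟨b, hb0, hb⟩ := exists_uu_mem p hp2 _ hpH hB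
  have hle : M ≤ BG (F := F) := by
    intro m hm
    induction m using Matrix.ProjGenLinGroup.induction_on with | mk g =>
    rw [mk_mem_BG_iff]
    have h1 := hB _ (conj_mem_pre hodd M g hm (uu b) hb)
    rw [conjGL_uu] at h1
    simp only [Matrix.of_apply, Matrix.cons_val_zero, Matrix.cons_val_one, Matrix.cons_val',
      Matrix.cons_val_fin_one] at h1
    have hd := gl_det_ne_zero g
    have h2 : b * g.1 1 0 ^ 2 = 0 := by
      have h3 : b * g.1 1 0 ^ 2 / g.1.det = 0 := neg_eq_zero.mp h1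
      rcases div_eq_zero_iff.mp h3 with h4 | h4
      · exact h4
      · exact absurd h4 hd
    rcases mul_eq_zero.mp h2 with h3 | h3
    · exact absurd h3 hb0
    · exact pow_eq_zero_iff (two_ne_zero) |>.mp h3
  exact eq_of_coatom_le hM hle BG_ne_top

/-- the case `p ∣ |M|` -/
theorem comap_isCoatom_p_dvd (hp2 : p ≠ 2) (M : Subgroup (GG F)) (hM : IsCoatom M)
    (hML : ¬ M ≤ (tau (F := F)).range) (hLM : ¬ (tau (F := F)).range ≤ M)
    (hpM : p ∣ Nat.card M) : IsCoatom (M.comap (tau (F := F))) := by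
  have hpp : p.Prime := Fact.out
  have hodd : Odd (Fintype.card F) := odd_card_of_char_ne_two p hp2
  have hcard := card_eq_two_mul_comap hodd M hML
  have hpH : p ∣ Nat.card (M.comap (tau (F := F))) := by
    rw [hcard] at hpM
    rcases (Nat.Prime.dvd_mul hpp).mp hpM with h | h
    · exact absurd ((Nat.prime_dvd_prime_iff_eq hpp Nat.prime_two).mp h) hp2
    · exact h
  rcases dickson_raw_gl p (M.comap (tau (F := F))) with h | ⟨γ, hB⟩ | ⟨hp, -⟩ | ⟨hp3, ⟨e'⟩⟩ |
    ⟨γ, k, hk, hu, hdec⟩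
  · exact absurd hpH h
  · obtain ⟨hco, h1, h2, ⟨e⟩⟩ := conj_transport hodd M hM hML hLM (Matrix.ProjGenLinGroup.mk γ)
    apply isCoatom_of_map_bar _ γ
    rw [← comap_map_conj]
    have heq := borel_case_eq p hp2 _ hco (by
      rw [comap_map_conj]
      have h3 : Nat.card (M.comap (tau (F := F))) =
          Nat.card ((M.comap (tau (F := F))).map (bar (conjGL γ)).toMonoidHom) :=
        Nat.card_congr ((bar (conjGL γ)).subgroupMap (M.comap (tau (F := F)))).toEquiv
      rw [← h3]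
      exact hpH) (by rw [comap_map_conj]; exact hB)
    rw [heq, comap_BG]
    exact isCoatom_borelP
  · exact absurd hp hp2
  · exfalso
    subst hp3
    exact alt5_char3_gl hodd M hML e'
  · obtain ⟨hco, h1, h2, ⟨e⟩⟩ := conj_transport hodd M hM hML hLM (Matrix.ProjGenLinGroup.mk γ)
    apply isCoatom_of_map_bar _ γ
    rw [← comap_map_conj]
    obtain ⟨F₀, i1, i2, φ, r, hr, hro, hq, hrange⟩ := subfield_case_range hodd _ hco h1 h2 k
      (by rw [comap_map_conj]; exact hk) (by rw [comap_map_conj]; exact hdec)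
    rw [hrange] at h1 ⊢
    rw [comap_range_pglMap hodd φ h1]
    have hodd0 : Odd (Fintype.card F₀) := by
      have h3 : Odd (Fintype.card F₀ ^ r) := by rw [hq]; exact hodd
      exact (Nat.odd_pow_iff hr.ne_zero).mp h3
    have hr2 : r ≠ 2 := by
      rintro rfl
      exact absurd hro (by decide)
    exact pslMap_range_isCoatom (Fintype.card F₀) r rfl hq.symm hodd0 hr hr2 φ

/-- the case `p ∤ |M|` -/
theorem comap_isCoatom_p_ndvd (hp2 : p ≠ 2) (h5 : 5 ≤ Fintype.card F)
    (h7 : Fintype.card F ≠ 7) (h9 : Fintype.card F ≠ 9) (h11 : Fintype.card F ≠ 11)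
    (h40 : (Fintype.card F).Prime → Fintype.card F % 40 ∉ ({11, 19, 21, 29} : Finset ℕ))
    (M : Subgroup (GG F)) (hM : IsCoatom M)
    (hML : ¬ M ≤ (tau (F := F)).range) (hpM : ¬ p ∣ Nat.card M) :
    IsCoatom (M.comap (tau (F := F))) := by
  have hodd : Odd (Fintype.card F) := odd_card_of_char_ne_two p hp2
  have hgcd : Nat.gcd 2 (Fintype.card F - 1) = 2 := by
    apply Nat.gcd_eq_left
    obtain ⟨j, hj⟩ := hodd
    exact ⟨j, by omega⟩
  rcases type_of_pprime p hodd M hpM with hcyc | ⟨n, hn, ⟨e⟩⟩ | ⟨⟨e⟩⟩ | ⟨⟨e⟩⟩ | ⟨⟨e⟩⟩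
  · exact (cyclic_case_gl p hp2 h5 M hM hML hpM hcyc).elim
  · rcases dihedral_case_gl p hp2 h5 M hM hML hpM n hn e with ⟨hn1, hq5⟩ | hn1
    · obtain ⟨e'⟩ := dihedral_meet p hp2 h5 M hML hpM n (Or.inl hn1) e
      have hn2 : n / 2 = (Fintype.card F - 1) / Nat.gcd 2 (Fintype.card F - 1) := by
        rw [hgcd, hn1]
      rw [hn2] at e'
      apply Cfsg.Agent.Helper51.PSLDih.coatom_sub_one rfl p _
        (fun K => Cfsg.Agent.S0799.result rfl p K) _ e'
      simp only [Finset.mem_insert, Finset.mem_singleton, not_or]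
      obtain ⟨j, hj⟩ := hodd
      refine ⟨by omega, by omega, hq5, h7, h9, h11⟩
    · obtain ⟨e'⟩ := dihedral_meet p hp2 h5 M hML hpM n (Or.inr hn1) e
      have hn2 : n / 2 = (Fintype.card F + 1) / Nat.gcd 2 (Fintype.card F - 1) := by
        rw [hgcd, hn1]
      rw [hn2] at e'
      exact Cfsg.Agent.Helper51.PSLDih.coatom_add_one rfl p (by omega) h7 h9
        (fun K => Cfsg.Agent.S0799.result rfl p K) _ e'
  · exact absurd (alt4_le_range hodd M e) hML
  · obtain ⟨hpr, h8⟩ := perm4_case_gl p hp2 h5 M hM hML hpM e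
    obtain ⟨e'⟩ := alt4_meet hodd M hML e
    haveI : Fact (Fintype.card F).Prime := ⟨hpr⟩
    have h40' := h40 hpr
    simp only [Finset.mem_insert, Finset.mem_singleton, not_or] at h40'
    exact alt4_isCoatom (Fintype.card F) rfl h5 h8 (by omega) _ e'
  · exact absurd (alt5_le_range hodd M e) hML

end Cfsg.Agent.Helper41.PGLMax
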