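import Cfsg.Agent.Lib.Helper41.NormMaxB
import Cfsg.Agent.Lib.Helper41.PGLMeet5

/-!
# Maximal normalizers in `PSL₂(13)`: extended centralizers of semisimple elements are maximal
-/

set_option autoImplicit false
set_option linter.unusedSectionVars false
set_option linter.unusedVariables false
set_option linter.style.haveILetI false

namespace Cfsg.Agent.Helper41.NormMax

open Matrix Cfsg.Agent.Helper98.Ident Cfsg.Agent.Helper98.Dickson Cfsg.Agent.Helper41
  Cfsg.Agent.Helper41.PMax Cfsg.Agent.Helper41.PGLMax Cfsg.Agent.Helper98.Torus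

section perms

/-- in `A₄` no nontrivial element is mapped to itself or its inverse by every conjugation -/
theorem alt4_no_NX : ∀ x : Equiv.Perm (Fin 4), Equiv.Perm.sign x = 1 → x ≠ 1 →
    ∃ y : Equiv.Perm (Fin 4), Equiv.Perm.sign y = 1 ∧ y * x * y⁻¹ ≠ x ∧ y * x * y⁻¹ ≠ x⁻¹ := by
  decide

end perms

variable {F : Type*} [Field F] [Fintype F] [CharP F 13]

instance fact13 : Fact (Nat.Prime 13) := ⟨by norm_num⟩

theorem card_PG13 (hF : Fintype.card F = 13) : Nat.card (PG F) = 1092 := by
  have h := Cfsg.Agent.Helper98.PSL2Card.card_psl2_odd (F := F) hF (by decide)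
  have h' : Nat.card (PG F) * 2 = 1092 * 2 := by
    rw [h]; norm_num
  exact Nat.eq_of_mul_eq_mul_right (by norm_num) h'

theorem two_ne_zero13 (hF : Fintype.card F = 13) : (2 : F) ≠ 0 :=
  two_ne_zero_of_odd_card (by rw [hF]; decide)

/-- element orders in `PSL₂(13)` -/
theorem orderOf_dvd13 (hF : Fintype.card F = 13) (g : PG F) :
    orderOf g ∣ 13 ∨ orderOf g ∣ 6 ∨ orderOf g ∣ 7 := by
  have h := psl2_orderOf_dvd 13 g
  rw [hF] at h
  exact h

/-- the extended centralizer of a nontrivial semisimple element of `PSL₂(13)` is maximal -/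
theorem NX_isCoatom (hF : Fintype.card F = 13) (c : PG F) (hc1 : c ≠ 1)
    (hcp : ¬ 13 ∣ orderOf c) :
    IsCoatom (NX c) ∧ (Nat.card (NX c) = 12 ∨ Nat.card (NX c) = 14) := by
  haveI := finite_PG (F := F)
  have h2 := two_ne_zero13 hF
  obtain ⟨X, rfl⟩ := QuotientGroup.mk_surjective c
  have ht := trace_sq_ne_four_of_order 13 X hc1 hcp
  have hcard : Nat.card (NX (QuotientGroup.mk X : PG F)) = 12 ∨
      Nat.card (NX (QuotientGroup.mk X : PG F)) = 14 := by
    have := card_NX_psl h2 X ht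
    rw [hF] at this
    exact this
  refine ⟨?_, hcard⟩
  have hp' : ¬ 13 ∣ Nat.card (NX (QuotientGroup.mk X : PG F)) := by
    rcases hcard with h | h <;> rw [h] <;> decide
  have hcmem : (QuotientGroup.mk X : PG F) ∈ NX (QuotientGroup.mk X : PG F) := by
    left; group
  rcases dickson_pprime 13 (NX (QuotientGroup.mk X : PG F)) hp' with hcyc | ⟨m, hm, ⟨e⟩⟩ | ⟨⟨e⟩⟩ |
    ⟨⟨e⟩⟩ | ⟨⟨e⟩⟩
  · exfalso
    obtain ⟨g, hg⟩ := IsCyclic.exists_generator (α := NX (QuotientGroup.mk X : PG F))
    have hord : orderOf (g : PG F) = Nat.card (NX (QuotientGroup.mk X : PG F)) := by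
      rw [Subgroup.orderOf_coe, orderOf_eq_card_of_forall_mem_zpowers hg]
    rcases orderOf_dvd13 hF (g : PG F) with h | h | h <;> rw [hord] at h <;>
      rcases hcard with h' | h' <;> rw [h'] at h <;> omega
  · have h1 : Nat.card (NX (QuotientGroup.mk X : PG F)) = 2 * m := by
      rw [Nat.card_congr e.toEquiv, DihedralGroup.nat_card]
    rcases hcard with h | h
    · have hm6 : m = (13 - 1) / Nat.gcd 2 (13 - 1) := by
        have : m = 6 := by omega
        rw [this]
        norm_num
      rw [hm6] at e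
      exact Cfsg.Agent.Helper51.PSLDih.coatom_sub_one hF 13 (by decide)
        (fun K => Cfsg.Agent.S0799.result hF 13 K) _ e
    · have hm7 : m = (13 + 1) / Nat.gcd 2 (13 - 1) := by
        have : m = 7 := by omega
        rw [this]
        norm_num
      rw [hm7] at e
      exact Cfsg.Agent.Helper51.PSLDih.coatom_add_one hF 13 (by norm_num) (by norm_num)
        (by norm_num) (fun K => Cfsg.Agent.S0799.result hF 13 K) _ e
  · exfalso
    obtain ⟨x, hx⟩ : ∃ x : alternatingGroup (Fin 4), x = e ⟨_, hcmem⟩ := ⟨_, rfl⟩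
    have hx1 : x ≠ 1 := by
      intro h
      apply hc1
      rw [hx] at h
      have h3 : (⟨_, hcmem⟩ : NX (QuotientGroup.mk X : PG F)) = 1 := by
        apply e.injective
        rw [h, map_one]
      exact congrArg Subtype.val h3
    obtain ⟨y, hy, hy1, hy2⟩ := alt4_no_NX x.1 (Equiv.Perm.mem_alternatingGroup.mp x.2)
      (by intro h; exact hx1 (Subtype.ext h))
    obtain ⟨g, hg⟩ : ∃ g : NX (QuotientGroup.mk X : PG F),
      g = e.symm ⟨y, Equiv.Perm.mem_alternatingGroup.mpr hy⟩ := ⟨_, rfl⟩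
    have hge : e g = ⟨y, Equiv.Perm.mem_alternatingGroup.mpr hy⟩ := by
      rw [hg, e.apply_symm_apply]
    have key : ∀ w : NX (QuotientGroup.mk X : PG F),
        g * ⟨_, hcmem⟩ * g⁻¹ = w → ((e w : alternatingGroup (Fin 4)) : Equiv.Perm (Fin 4)) =
          y * x.1 * y⁻¹ := by
      intro w hw
      rw [← hw, map_mul, map_mul, map_inv, hge, ← hx]
      rfl
    rcases g.2 with h | h
    · apply hy1
      have h3 : g * ⟨_, hcmem⟩ * g⁻¹ = (⟨_, hcmem⟩ : NX (QuotientGroup.mk X : PG F)) :=
        Subtype.ext h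
      rw [← key _ h3, ← hx]
    · apply hy2
      have h3 : g * ⟨_, hcmem⟩ * g⁻¹ = (⟨_, hcmem⟩ : NX (QuotientGroup.mk X : PG F))⁻¹ :=
        Subtype.ext h
      rw [← key _ h3, map_inv, ← hx]
      rfl
  · exfalso
    have h1 : Nat.card (NX (QuotientGroup.mk X : PG F)) = 24 := by
      rw [Nat.card_congr e.toEquiv, card_perm_four]
    omega
  · exfalso
    have h1 : Nat.card (NX (QuotientGroup.mk X : PG F)) = 60 := by
      rw [Nat.card_congr e.toEquiv, card_alternatingGroup_five]
    omega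

end Cfsg.Agent.Helper41.NormMax
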