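import Cfsg.Agent.Lib.Helper41.NormMaxC
import Cfsg.Agent.S0228

/-!
# Maximal normalizers in `PSL₂(13)`: subgroups of order prime to `13`
-/

set_option autoImplicit false
set_option linter.unusedSectionVars false
set_option linter.unusedVariables false
set_option linter.style.haveILetI false

namespace Cfsg.Agent.Helper41.NormMax

open Matrix Cfsg.Agent.Helper98.Ident Cfsg.Agent.Helper98.Dickson Cfsg.Agent.Helper41
  Cfsg.Agent.Helper41.PMax Cfsg.Agent.Helper41.PGLMax Cfsg.Agent.Helper98.Torus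

variable {F : Type*} [Field F] [Fintype F] [CharP F 13]

theorem dih2_sq : ∀ d : DihedralGroup 2, d * d = 1 := by
  decide

/-- a coatom which is not normal is the normalizer of itself -/
theorem isCoatom_normalizer_self (A : Subgroup (PG F)) (hA : ¬ A.Normal) (hco : IsCoatom A) :
    IsCoatom (Subgroup.normalizer (A : Set (PG F))) :=
  isCoatom_normalizer_of_le A hA A hco Subgroup.le_normalizer

theorem cyclic_case13 (hF : Fintype.card F = 13) (A : Subgroup (PG F)) (hA : ¬ A.Normal)
    (hp : ¬ 13 ∣ Nat.card A) (hcyc : IsCyclic A) :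
    IsCoatom (Subgroup.normalizer (A : Set (PG F))) := by
  haveI := finite_PG (F := F)
  obtain ⟨g, hg⟩ := IsCyclic.exists_generator (α := A)
  obtain ⟨c, hc⟩ : ∃ c : PG F, c = (g : PG F) := ⟨_, rfl⟩
  have hcA : c ∈ A := by rw [hc]; exact g.2
  have hAeq : A = Subgroup.zpowers c := by
    ext x
    constructor
    · intro hx
      obtain ⟨i, hi⟩ := Subgroup.mem_zpowers_iff.mp (hg ⟨x, hx⟩)
      refine Subgroup.mem_zpowers_iff.mpr ⟨i, ?_⟩
      have := congrArg Subtype.val hi
      rw [hc]
      simpa using this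
    · intro hx
      obtain ⟨i, hi⟩ := Subgroup.mem_zpowers_iff.mp hx
      rw [← hi]
      exact A.zpow_mem hcA i
  have hc1 : c ≠ 1 := by
    intro h
    apply hA
    rw [hAeq, h, Subgroup.zpowers_one_eq_bot]
    infer_instance
  have hcp : ¬ 13 ∣ orderOf c := fun h =>
    hp (h.trans (Subgroup.orderOf_dvd_natCard A hcA))
  obtain ⟨hco, -⟩ := NX_isCoatom hF _ hc1 hcp
  apply isCoatom_normalizer_of_le A hA _ hco
  have hle : NX c ≤ Subgroup.normalizer ((Subgroup.zpowers c : Subgroup (PG F)) : Set (PG F)) :=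
    fun m hm => mem_normalizer_zpowers_of_pm _ m hm
  rw [hAeq]
  exact hle

theorem klein_case13 (hF : Fintype.card F = 13) (A : Subgroup (PG F)) (hV : IsKleinFour A) :
    IsCoatom (Subgroup.normalizer (A : Set (PG F))) := by
  haveI := finite_PG (F := F)
  have h2 := two_ne_zero13 hF
  have hC := Cfsg.Agent.Helper98.PSL2Klein.centralizer_eq h2 A hV
  have hdvd := Cfsg.Agent.Helper98.KleinNorm.card_normalizer_dvd A hV hC
  have h12 := Cfsg.Agent.Helper98.KleinNorm.twelve_le_card_normalizer A hV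
    (twelve_mul_card_kleinFour_psl2 h2)
  have hG : Nat.card (Subgroup.normalizer (A : Set (PG F))) ∣ 1092 := by
    rw [← card_PG13 hF]
    exact Subgroup.card_subgroup_dvd_card _
  have hcard : Nat.card (Subgroup.normalizer (A : Set (PG F))) = 12 := by
    have hle : Nat.card (Subgroup.normalizer (A : Set (PG F))) ≤ 24 :=
      Nat.le_of_dvd (by norm_num) hdvd
    generalize Nat.card (Subgroup.normalizer (A : Set (PG F))) = m at *
    interval_cases m <;> omega
  obtain ⟨e'⟩ := Cfsg.Agent.S0228.result hcard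
    (Cfsg.Agent.Helper98.KleinNorm.no_central_involution A hV hC hcard)
  exact alt4_isCoatom 13 hF (by norm_num) (Or.inr (by norm_num))
    ⟨by norm_num, by norm_num⟩ _ e'

theorem dihedral_case13 (hF : Fintype.card F = 13) (A : Subgroup (PG F)) (hA : ¬ A.Normal)
    (hp : ¬ 13 ∣ Nat.card A) (n : ℕ) (hn : 0 < n) (e : A ≃* DihedralGroup n) :
    IsCoatom (Subgroup.normalizer (A : Set (PG F))) := by
  haveI := finite_PG (F := F)
  haveI : NeZero n := ⟨hn.ne'⟩
  have hcardA : Nat.card A = 2 * n := by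
    rw [Nat.card_congr e.toEquiv, DihedralGroup.nat_card]
  obtain ⟨ρ, hρ⟩ : ∃ ρ : A, ρ = e.symm (DihedralGroup.r 1) := ⟨_, rfl⟩
  have hordρ : orderOf (ρ : PG F) = n := by
    rw [Subgroup.orderOf_coe, hρ, MulEquiv.orderOf_eq, DihedralGroup.orderOf_r_one]
  have hconjρ : ∀ m ∈ A, m * (ρ : PG F) * m⁻¹ = ρ ∨ m * (ρ : PG F) * m⁻¹ = (ρ : PG F)⁻¹ := by
    intro m hm
    rcases Cfsg.Agent.Helper41.PMax.dih_conj n (e ⟨m, hm⟩) with h | h
    · left
      have : (⟨m, hm⟩ : A) * ρ * (⟨m, hm⟩ : A)⁻¹ = ρ := by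
        apply e.injective
        rw [map_mul, map_mul, map_inv, hρ, e.apply_symm_apply, h]
      exact congrArg Subtype.val this
    · right
      have : (⟨m, hm⟩ : A) * ρ * (⟨m, hm⟩ : A)⁻¹ = ρ⁻¹ := by
        apply e.injective
        rw [map_mul, map_mul, map_inv, map_inv, hρ, e.apply_symm_apply, h]
      exact congrArg Subtype.val this
  have hn7 : n = 1 ∨ n = 2 ∨ n = 3 ∨ n = 6 ∨ n = 7 := by
    rcases orderOf_dvd13 hF (ρ : PG F) with h | h | h <;> rw [hordρ] at h
    · rcases (Nat.dvd_prime (by norm_num : Nat.Prime 13)).mp h with h1 | h1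
      · exact Or.inl h1
      · exfalso
        apply hp
        rw [hcardA, h1]
        norm_num
    · have hle := Nat.le_of_dvd (by norm_num) h
      interval_cases n <;> omega
    · have hle := Nat.le_of_dvd (by norm_num) h
      interval_cases n <;> omega
  rcases hn7 with rfl | rfl | rfl | rfl | rfl
  · -- cyclic of order two
    haveI : Fact (Nat.Prime 2) := ⟨Nat.prime_two⟩
    exact cyclic_case13 hF A hA hp (isCyclic_of_prime_card (p := 2) (by rw [hcardA]))
  · -- four-group
    apply klein_case13 hF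
    apply isKleinFour_of_card_of_sq A (by rw [hcardA])
    intro x hx
    have h1 : (⟨x, hx⟩ : A) * ⟨x, hx⟩ = 1 := by
      apply e.injective
      rw [map_mul, map_one]
      exact dih2_sq _
    exact congrArg Subtype.val h1
  · -- `S₃`
    have hc1 : (ρ : PG F) ≠ 1 := by
      intro h
      rw [h, orderOf_one] at hordρ
      omega
    have hcp : ¬ 13 ∣ orderOf (ρ : PG F) := by rw [hordρ]; decide
    obtain ⟨hco, hcard⟩ := NX_isCoatom hF _ hc1 hcp
    have hle : A ≤ NX (ρ : PG F) := fun m hm => hconjρ m hm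
    have hmem : (ρ : PG F) ∈ NX (ρ : PG F) := hle ρ.2
    have h3 : 3 ∣ Nat.card (NX (ρ : PG F)) := by
      rw [← hordρ]
      exact Subgroup.orderOf_dvd_natCard _ hmem
    have hcard12 : Nat.card (NX (ρ : PG F)) = 12 := by
      rcases hcard with h | h
      · exact h
      · rw [h] at h3; omega
    have hidx : (A.subgroupOf (NX (ρ : PG F))).index = 2 := by
      have h4 := Subgroup.card_mul_index (A.subgroupOf (NX (ρ : PG F)))
      rw [Nat.card_congr (Subgroup.subgroupOfEquivOfLe hle).toEquiv, hcardA, hcard12] at h4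
      omega
    haveI : (A.subgroupOf (NX (ρ : PG F))).Normal := Subgroup.normal_of_index_eq_two hidx
    apply isCoatom_normalizer_of_le A hA _ hco
    exact (Subgroup.normal_subgroupOf_iff_le_normalizer hle).mp inferInstance
  · -- `D₆`
    have h6 : (6 : ℕ) = (13 - 1) / Nat.gcd 2 (13 - 1) := by norm_num
    rw [h6] at e
    exact isCoatom_normalizer_self A hA
      (Cfsg.Agent.Helper51.PSLDih.coatom_sub_one hF 13 (by decide)
        (fun K => Cfsg.Agent.S0799.result hF 13 K) _ e)
  · -- `D₇`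
    have h7 : (7 : ℕ) = (13 + 1) / Nat.gcd 2 (13 - 1) := by norm_num
    rw [h7] at e
    exact isCoatom_normalizer_self A hA
      (Cfsg.Agent.Helper51.PSLDih.coatom_add_one hF 13 (by norm_num) (by norm_num)
        (by norm_num) (fun K => Cfsg.Agent.S0799.result hF 13 K) _ e)

/-- subgroups of order prime to `13` -/
theorem normMax_pprime13 (hF : Fintype.card F = 13) (A : Subgroup (PG F)) (hA : ¬ A.Normal)
    (hp : ¬ 13 ∣ Nat.card A) : IsCoatom (Subgroup.normalizer (A : Set (PG F))) := by
  haveI := finite_PG (F := F)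
  have hdvd : Nat.card A ∣ 1092 := by
    rw [← card_PG13 hF]
    exact Subgroup.card_subgroup_dvd_card _
  rcases dickson_pprime 13 A hp with hcyc | ⟨n, hn, ⟨e⟩⟩ | ⟨⟨e⟩⟩ | ⟨⟨e⟩⟩ | ⟨⟨e⟩⟩
  · exact cyclic_case13 hF A hA hp hcyc
  · exact dihedral_case13 hF A hA hp n hn e
  · exact isCoatom_normalizer_self A hA (alt4_isCoatom 13 hF (by norm_num)
      (Or.inr (by norm_num)) ⟨by norm_num, by norm_num⟩ _ e)
  · exfalso
    rw [Nat.card_congr e.toEquiv, card_perm_four] at hdvd
    omega
  · exfalso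
    rw [Nat.card_congr e.toEquiv, card_alternatingGroup_five] at hdvd
    omega

end Cfsg.Agent.Helper41.NormMax
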