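import Cfsg.Agent.Lib.Helper41.NormMaxD

/-!
# Maximal normalizers in `PSL₂(13)`: subgroups of order divisible by `13`, and the main theorem
-/

set_option autoImplicit false
set_option linter.unusedSectionVars false
set_option linter.unusedVariables false
set_option linter.style.haveILetI false

namespace Cfsg.Agent.Helper41.NormMax

open Matrix Cfsg.Agent.Helper98.Ident Cfsg.Agent.Helper98.Dickson Cfsg.Agent.Helper41
  Cfsg.Agent.Helper41.PMax Cfsg.Agent.Helper41.PGLMax Cfsg.Agent.Helper98.Torus

section transfer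

variable {K : Type*} [Group K]

/-- the property of a single subgroup -/
def NMax (A : Subgroup K) : Prop :=
  A.Normal ∨ IsCoatom (Subgroup.normalizer (A : Set K))

theorem nMax_of_map (φ : K ≃* K) (A : Subgroup K) (h : NMax (A.map φ.toMonoidHom)) : NMax A := by
  have hnorm := Subgroup.map_equiv_normalizer_eq A φ
  rcases h with h | h
  · left
    have h1 : Subgroup.normalizer ((A.map φ.toMonoidHom : Subgroup K) : Set K) = ⊤ :=
      Subgroup.normalizer_eq_top_iff.mpr h
    rw [← hnorm] at h1
    apply Subgroup.normalizer_eq_top_iff.mp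
    rw [eq_top_iff]
    intro x _
    have h2 : φ x ∈ (Subgroup.normalizer (A : Set K)).map φ.toMonoidHom := by rw [h1]; trivial
    obtain ⟨y, hy, hyx⟩ := h2
    have : y = x := φ.injective hyx
    rw [← this]
    exact hy
  · right
    rw [← hnorm] at h
    exact (φ.mapSubgroup.isCoatom_iff _).mp h

end transfer

variable {F : Type*} [Field F] [Fintype F] [CharP F 13]

theorem exists_natCast_eq (hF : Fintype.card F = 13) (x : F) : ∃ n : ℕ, (n : F) = x := by
  let e := ZMod.ringEquivOfPrime F (by norm_num : Nat.Prime 13) hF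
  refine ⟨(e.symm x).val, ?_⟩
  have h1 : ((e.symm x).val : ZMod 13) = e.symm x := ZMod.natCast_zmod_val _
  have h2 := congrArg e h1
  rw [map_natCast, e.apply_symm_apply] at h2
  exact h2

/-- the Borel case -/
theorem borel_case13 (hF : Fintype.card F = 13) (A' : Subgroup (PG F))
    (hp : 13 ∣ Nat.card A') (hB : ∀ g ∈ pre A', g.1 1 0 = 0) : NMax A' := by
  haveI := finite_PG (F := F)
  by_cases hA : A'.Normal
  · exact Or.inl hA
  right
  obtain ⟨b, hb0, hb⟩ := exists_uu_mem 13 (by norm_num) A' hp hB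
  have hU : ∀ x : F, uu x ∈ pre A' := by
    intro x
    obtain ⟨n, hn⟩ := exists_natCast_eq hF (x / b)
    have h1 : uu x = (uu b) ^ n := by
      rw [Cfsg.Agent.Helper98.DMax.uu_pow, nsmul_eq_mul, hn]
      congr 1
      field_simp
    rw [h1]
    exact (pre A').pow_mem hb n
  apply isCoatom_normalizer_of_le A' hA _ isCoatom_borelP
  intro h hh
  apply mem_normalizer_of_conj_mem
  intro a ha
  obtain ⟨Hm, rfl⟩ := QuotientGroup.mk_surjective h
  obtain ⟨Am, rfl⟩ := QuotientGroup.mk_surjective a
  have h10 : Hm.1 1 0 = 0 := (mk_mem_borelP_iff Hm).mp hh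
  have hAm : Am ∈ pre A' := ha
  have a10 : Am.1 1 0 = 0 := hB Am hAm
  have hdH := det_eq Hm
  have hdA := det_eq Am
  rw [h10] at hdH
  rw [a10] at hdA
  have hy : Hm * Am * Hm⁻¹ * Am⁻¹ = uu ((Hm * Am * Hm⁻¹ * Am⁻¹).1 0 1) := by
    apply ext2
    · rw [uu_00]
      simp only [mul_ent, inv_ent00, inv_ent01, inv_ent10, inv_ent11, h10, a10]
      linear_combination (Hm.1 0 0 * Hm.1 1 1) * hdA + hdH
    · rw [uu_01]
    · rw [uu_10]
      simp only [mul_ent, inv_ent00, inv_ent01, inv_ent10, inv_ent11, h10, a10]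
      ring
    · rw [uu_11]
      simp only [mul_ent, inv_ent00, inv_ent01, inv_ent10, inv_ent11, h10, a10]
      linear_combination (Hm.1 0 0 * Hm.1 1 1) * hdA + hdH
  have hmem : Hm * Am * Hm⁻¹ ∈ pre A' := by
    have h1 : Hm * Am * Hm⁻¹ = (Hm * Am * Hm⁻¹ * Am⁻¹) * Am := by group
    rw [h1, hy]
    exact (pre A').mul_mem (hU _) hAm
  exact hmem

/-- subgroups of order divisible by `13` -/
theorem nMax_pdvd13 (hF : Fintype.card F = 13) (A : Subgroup (PG F))
    (hp : 13 ∣ Nat.card A) : NMax A := by
  haveI := finite_PG (F := F)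
  rcases dickson_raw_gl 13 A with h | ⟨γ, hB⟩ | ⟨hp2, -⟩ | ⟨hp3, -⟩ | ⟨γ, k, hk, hu, hdec⟩
  · exact absurd hp h
  · apply nMax_of_map (bar (conjGL γ)) A
    apply borel_case13 hF _ _ hB
    have h3 : Nat.card A = Nat.card (A.map (bar (conjGL γ)).toMonoidHom) :=
      Nat.card_congr ((bar (conjGL γ)).subgroupMap A).toEquiv
    rw [← h3]
    exact hp
  · exact absurd hp2 (by norm_num)
  · exact absurd hp3 (by norm_num)
  · apply nMax_of_map (bar (conjGL γ)) A
    left
    have htop : A.map (bar (conjGL γ)).toMonoidHom = ⊤ := by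
      rw [eq_top_iff]
      intro y _
      obtain ⟨g, rfl⟩ := QuotientGroup.mk_surjective y
      have : g ∈ pre (A.map (bar (conjGL γ)).toMonoidHom) := by
        apply hk
        intro i j
        obtain ⟨n, hn⟩ := exists_natCast_eq hF (g.1 i j)
        rw [← hn]
        exact natCast_mem k n
      exact this
    rw [htop]
    infer_instance

/-- **every non-normal subgroup of `PSL₂(13)` has a maximal normalizer** -/
theorem normMax_psl13 (hF : Fintype.card F = 13) : NormMax (PG F) := by
  intro A hA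
  by_cases hp : 13 ∣ Nat.card A
  · rcases nMax_pdvd13 hF A hp with h | h
    · exact absurd h hA
    · exact h
  · exact normMax_pprime13 hF A hA hp

end Cfsg.Agent.Helper41.NormMax
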