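import Mathlib
import Cfsg.Agent.Lib.Helper87.SVKit

/-!
# Counting elements of order `p * k` (helper41)

* `h41_exists_orderOf_mul`: if a prime `q ≠ p` divides `|C(P)|` (`P` a Sylow `p`-subgroup of order `p`) then `G` has an
  element of order `p * q`.
* `h41_card_orderOf_mul_ge`: if the Sylow `p`-subgroups have order `p` and `G` has an element of order `p * k`, then `G`
  has at least `n_p * φ(p * k)` elements of order `p * k`.
* `h41_fix_dead`: the fixed-point kill of `Helper75.FixKill.exists_fix` with a cheap certificate.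
-/

set_option autoImplicit false

namespace Cfsg.Agent.Helper41.OrderCount

open Cfsg.Agent.Helper17 Cfsg.Agent.Helper75.FixKill

open scoped Pointwise

theorem h41_exists_orderOf_mul {G : Type*} [Group G] [Finite G] {p q : ℕ} [hp : Fact p.Prime]
    [hq : Fact q.Prime] (hpq : p ≠ q) (P : Sylow p G) (hP : Nat.card (P : Subgroup G) = p)
    (h : q ∣ Nat.card (Subgroup.centralizer ((P : Subgroup G) : Set G))) :
    ∃ x : G, orderOf x = p * q := by
  obtain ⟨b', hb'⟩ := exists_prime_orderOf_dvd_card'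
    (G := ↥(Subgroup.centralizer ((P : Subgroup G) : Set G))) q h
  have hbo : orderOf (b' : G) = q := by rw [Subgroup.orderOf_coe, hb']
  have hbC : (b' : G) ∈ Subgroup.centralizer ((P : Subgroup G) : Set G) := b'.2
  obtain ⟨a', ha'⟩ := exists_prime_orderOf_dvd_card' (G := ↥(P : Subgroup G)) p (by rw [hP])
  have hao : orderOf (a' : G) = p := by rw [Subgroup.orderOf_coe, ha']
  have hcomm : Commute (a' : G) (b' : G) := by
    have := (Subgroup.mem_centralizer_iff.1 hbC) (a' : G) a'.2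
    exact this
  refine ⟨(a' : G) * (b' : G), ?_⟩
  rw [hcomm.orderOf_mul_eq_mul_orderOf_of_coprime (by
    rw [hao, hbo]; exact (Nat.coprime_primes hp.out hq.out).2 hpq), hao, hbo]

theorem h41_card_orderOf_mul_ge {G : Type*} [Group G] [Finite G] {p : ℕ} [hp : Fact p.Prime]
    (h : ∀ P : Sylow p G, Nat.card (P : Subgroup G) = p) (k : ℕ) (x : G)
    (hx : orderOf x = p * k) :
    Nat.card (Sylow p G) * Nat.totient (p * k) ≤ Nat.card {g : G // orderOf g = p * k} := by
  classical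
  have hk0 : k ≠ 0 := by
    rintro rfl
    rw [mul_zero] at hx
    exact (orderOf_pos x).ne' hx
  have hkpos : 0 < k := Nat.pos_of_ne_zero hk0
  have hxk : orderOf (x ^ k) = p := by
    rw [orderOf_pow_of_dvd hk0 ⟨p, by rw [hx, mul_comm]⟩, hx, Nat.mul_div_cancel _ hkpos]
  obtain ⟨P0, hP0⟩ := exists_sylow_mem_of_orderOf (x ^ k) hxk
  have hex : ∀ Q : Sylow p G, ∃ g : G, g • P0 = Q := fun Q => MulAction.exists_smul_eq G P0 Q
  choose g hg using hex
  have hmem : ∀ (Q : Sylow p G) (y : G), y ∈ (P0 : Subgroup G) →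
      g Q * y * (g Q)⁻¹ ∈ (Q : Subgroup G) := by
    intro Q y hy
    have h1 : MulAut.conj (g Q) • y ∈ MulAut.conj (g Q) • (P0 : Subgroup G) :=
      Subgroup.smul_mem_pointwise_smul _ _ _ hy
    rw [← Sylow.pointwise_smul_def, ← Sylow.smul_def, hg Q] at h1
    simpa [MulAut.smul_def, MulAut.conj_apply] using h1
  -- the exponents
  let T := {j : ℕ // j ∈ (Finset.range (p * k)).filter (fun j => (p * k).Coprime j)}
  have hT : Nat.card T = Nat.totient (p * k) := by
    rw [Nat.card_eq_fintype_card, Fintype.card_coe]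
    rfl
  have hjord : ∀ j : T, orderOf (x ^ j.1) = p * k := by
    intro j
    have hj := (Finset.mem_filter.1 j.2).2
    rw [Nat.Coprime.orderOf_pow (by rw [hx]; exact hj), hx]
  let ι : Sylow p G × T → {y : G // orderOf y = p * k} := fun Qj =>
    ⟨g Qj.1 * x ^ Qj.2.1 * (g Qj.1)⁻¹, by
      have h1 := (MulAut.conj (g Qj.1)).orderOf_eq (x ^ Qj.2.1)
      rw [MulAut.conj_apply] at h1
      rw [h1, hjord]⟩
  have hι : Function.Injective ι := by
    rintro ⟨Q, j⟩ ⟨Q', j'⟩ hEq
    have hEq' : g Q * x ^ j.1 * (g Q)⁻¹ = g Q' * x ^ j'.1 * (g Q')⁻¹ := congrArg Subtype.val hEq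
    -- the `k`-th powers
    have hpow : g Q * (x ^ k) ^ j.1 * (g Q)⁻¹ = g Q' * (x ^ k) ^ j'.1 * (g Q')⁻¹ := by
      have h1 := congrArg (fun t => t ^ k) hEq'
      simp only [conj_pow] at h1
      rw [← pow_mul, ← pow_mul, mul_comm j.1 k, mul_comm j'.1 k, pow_mul, pow_mul] at h1
      exact h1
    have hz1 : g Q * (x ^ k) ^ j.1 * (g Q)⁻¹ ∈ (Q : Subgroup G) :=
      hmem Q _ (Subgroup.pow_mem _ hP0 _)
    have hz2 : g Q * (x ^ k) ^ j.1 * (g Q)⁻¹ ∈ (Q' : Subgroup G) := by
      rw [hpow]; exact hmem Q' _ (Subgroup.pow_mem _ hP0 _)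
    have hzne : g Q * (x ^ k) ^ j.1 * (g Q)⁻¹ ≠ 1 := by
      intro h1
      have h2 : (x ^ k) ^ j.1 = 1 := by
        have h3 := congrArg (fun t => (g Q)⁻¹ * t * g Q) h1
        simpa [mul_assoc] using h3
      have h3 : p ∣ j.1 := by
        have h30 := orderOf_dvd_of_pow_eq_one h2
        rwa [hxk] at h30
      have hj := (Finset.mem_filter.1 j.2).2
      have h4 : p ∣ Nat.gcd (p * k) j.1 := Nat.dvd_gcd (Dvd.intro _ rfl) h3
      rw [hj.gcd_eq_one] at h4
      exact hp.out.one_lt.ne' (Nat.dvd_one.1 h4)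
    have hQQ : Q = Q' := by
      apply Sylow.ext
      rw [← (zpowers_eq_of_card_prime _ (h Q) _ hz1 hzne).1,
        ← (zpowers_eq_of_card_prime _ (h Q') _ hz2 hzne).1]
    subst hQQ
    have hxx : x ^ j.1 = x ^ j'.1 := by
      have h3 := congrArg (fun t => (g Q)⁻¹ * t * g Q) hEq'
      simpa [mul_assoc] using h3
    have hj1 : j.1 < orderOf x := by rw [hx]; exact Finset.mem_range.1 (Finset.mem_filter.1 j.2).1
    have hj2 : j'.1 < orderOf x := by
      rw [hx]; exact Finset.mem_range.1 (Finset.mem_filter.1 j'.2).1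
    have hjj : j.1 = j'.1 := pow_injOn_Iio_orderOf hj1 hj2 hxx
    have : j = j' := Subtype.ext hjj
    rw [this]
  have hle := Nat.card_le_card_of_injective ι hι
  rw [Nat.card_prod, hT] at hle
  exact hle

/-- arithmetic core of the fixed-point kill, with a cheap certificate -/
theorem h41_fix_absurd {n p d N r : ℕ} (hN : N ≠ 0)
    (cert : ∀ f ∈ List.range d, f % p = 1 → f % r = d % r → (r = 2 → f % 4 = d % 4) →
      d - 1 < p * (f - 1) ∧ ∀ m' ∈ Nat.divisors N, p * r ∣ m' → ¬ f * m' ∣ n)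
    {f m' : ℕ} (h : FixOK n p d N r f m') : False := by
  obtain ⟨-, h1, h2, h3, h4, h5⟩ := h
  obtain ⟨hbig, hall⟩ := cert f (List.mem_range.2 h4) h1 h2 h3
  obtain ⟨h6, h7, h8⟩ := h5 hbig
  exact hall m' (Nat.mem_divisors.2 ⟨h7, hN⟩) h6 h8

/-- the fixed-point kill for a known Sylow number `d` -/
theorem h41_fix_dead {G : Type*} [Group G] [Finite G] [IsSimpleGroup G] {n : ℕ}
    (hn0 : Nat.card G = n) (h2 : 2 < n) {p r : ℕ} [hp : Fact p.Prime] [hr : Fact r.Prime]
    (hpr : p ≠ r) (P : Sylow p G) (hP : Nat.card (P : Subgroup G) = p) {d : ℕ}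
    (hd : Nat.card (Sylow p G) = d) (hd1 : 1 < d)
    (hrC : r ∣ Nat.card (Subgroup.centralizer ((P : Subgroup G) : Set G)))
    (hN : n / d ≠ 0)
    (cert : ∀ f ∈ List.range d, f % p = 1 → f % r = d % r → (r = 2 → f % 4 = d % 4) →
      d - 1 < p * (f - 1) ∧ ∀ m' ∈ Nat.divisors (n / d), p * r ∣ m' → ¬ f * m' ∣ n) : False := by
  obtain ⟨f, m', hfix⟩ := exists_fix (G := G) (by rw [hn0]; exact h2) hpr P hP
    (by rw [hd]; exact hd1) hrC
  rw [Cfsg.Agent.Helper87.SV.h87_card_normalizer, hn0, hd] at hfix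
  exact h41_fix_absurd hN cert hfix

end Cfsg.Agent.Helper41.OrderCount
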