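import Mathlib
import Cfsg.Agent.Lib.Helper41.OrderCount
import Cfsg.Agent.Lib.Helper17.Simple

/-!
# O175560 server (helper24, S4274) / O19 server (helper46): no simple group of order
`87780 = 2^2 * 3 * 5 * 7 * 11 * 19` (helper41; paper proof from helper46's sigs header)

* fixed-point kills (`Helper75.FixKill.exists_fix`): `n_19 ≠ 77` (`r = 5`), `n_7 ∉ {22, 57, 190, 330}`
  (`r = 5, 11, 11, 19`), `n_5 ≠ 66` (`r = 7`), `(n_11, e) ≠ (133, 2)` (`r = 5`);
* links: `5 ∤ |C(P19)|`, `5 ∤ |C(P11)|`, `7 ∤ |C(P5)|` force `n_7 = 4180`, `n_5 = 2926`, `|C(P5)| = 15`;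
* count: `25080` elements of order `7`, `11704` of order `5`, at least `2926 * 8 = 23408` of order `15`, and either
  `27720` of order `19` (`n_19 = 1540`) or at least `210 * 180 = 37800` of order `209` (`n_19 = 210`,
  `|C(P19)| = 209`): more than `87780`.
-/

set_option autoImplicit false

namespace Cfsg.Agent.Helper41.O175560

open Nat MulAction Cfsg.Agent.Helper17 Cfsg.Agent.Helper17.Sieve Cfsg.Agent.Helper75.FixKill
  Cfsg.Agent.Helper87.SV Cfsg.Agent.Helper41.OrderCount

universe u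

theorem h41_87780_adm19 : ∀ d ∈ Nat.divisors 4620, d % 19 = 1 →
    (d = 77 ∨ d = 210 ∨ d = 1540) ∨ Bad (19 ^ 1 * 4620) 19 1 4620 d := by
  decide +kernel

theorem h41_87780_adm11 : ∀ d ∈ Nat.divisors 7980, d % 11 = 1 →
    (d = 133 ∨ d = 210 ∨ d = 1596) ∨ Bad (11 ^ 1 * 7980) 11 1 7980 d := by
  decide +kernel

theorem h41_87780_adm7 : ∀ d ∈ Nat.divisors 12540, d % 7 = 1 →
    (d = 22 ∨ d = 57 ∨ d = 190 ∨ d = 330 ∨ d = 1254 ∨ d = 4180) ∨
      Bad (7 ^ 1 * 12540) 7 1 12540 d := by
  decide +kernel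

theorem h41_87780_adm5 : ∀ d ∈ Nat.divisors 17556, d % 5 = 1 →
    (d = 66 ∨ d = 231 ∨ d = 266 ∨ d = 2926) ∨ Bad (5 ^ 1 * 17556) 5 1 17556 d := by
  decide +kernel

theorem h41_87780_fix_7_22_5 : ∀ f ∈ List.range 22, f % 7 = 1 → f % 5 = 22 % 5 →
    (5 = 2 → f % 4 = 22 % 4) → 22 - 1 < 7 * (f - 1) ∧
      ∀ m' ∈ Nat.divisors (87780 / 22), 7 * 5 ∣ m' → ¬ f * m' ∣ 87780 := by
  decide +kernel

theorem h41_87780_fix_7_57_11 : ∀ f ∈ List.range 57, f % 7 = 1 → f % 11 = 57 % 11 →
    (11 = 2 → f % 4 = 57 % 4) → 57 - 1 < 7 * (f - 1) ∧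
      ∀ m' ∈ Nat.divisors (87780 / 57), 7 * 11 ∣ m' → ¬ f * m' ∣ 87780 := by
  decide +kernel

theorem h41_87780_fix_7_190_11 : ∀ f ∈ List.range 190, f % 7 = 1 → f % 11 = 190 % 11 →
    (11 = 2 → f % 4 = 190 % 4) → 190 - 1 < 7 * (f - 1) ∧
      ∀ m' ∈ Nat.divisors (87780 / 190), 7 * 11 ∣ m' → ¬ f * m' ∣ 87780 := by
  decide +kernel

theorem h41_87780_fix_7_330_19 : ∀ f ∈ List.range 330, f % 7 = 1 → f % 19 = 330 % 19 →
    (19 = 2 → f % 4 = 330 % 4) → 330 - 1 < 7 * (f - 1) ∧
      ∀ m' ∈ Nat.divisors (87780 / 330), 7 * 19 ∣ m' → ¬ f * m' ∣ 87780 := by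
  decide +kernel

theorem h41_87780_fix_5_66_7 : ∀ f ∈ List.range 66, f % 5 = 1 → f % 7 = 66 % 7 →
    (7 = 2 → f % 4 = 66 % 4) → 66 - 1 < 5 * (f - 1) ∧
      ∀ m' ∈ Nat.divisors (87780 / 66), 5 * 7 ∣ m' → ¬ f * m' ∣ 87780 := by
  decide +kernel

theorem h41_87780_fix_19_77_5 : ∀ f ∈ List.range 77, f % 19 = 1 → f % 5 = 77 % 5 →
    (5 = 2 → f % 4 = 77 % 4) → 77 - 1 < 19 * (f - 1) ∧
      ∀ m' ∈ Nat.divisors (87780 / 77), 19 * 5 ∣ m' → ¬ f * m' ∣ 87780 := by
  decide +kernel

theorem h41_87780_fix_11_133_5 : ∀ f ∈ List.range 133, f % 11 = 1 → f % 5 = 133 % 5 →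
    (5 = 2 → f % 4 = 133 % 4) → 133 - 1 < 11 * (f - 1) ∧
      ∀ m' ∈ Nat.divisors (87780 / 133), 11 * 5 ∣ m' → ¬ f * m' ∣ 87780 := by
  decide +kernel

theorem h41_totient15 : Nat.totient (5 * 3) = 8 := by decide +kernel

theorem h41_totient209 : Nat.totient (19 * 11) = 180 := by decide +kernel

/-- no nonabelian simple group of order `87780` -/
theorem h41_87780_false {G : Type u} [Group G] [Finite G] [IsSimpleGroup G]
    (hna : ¬ IsMulCommutative G) (hn0 : Nat.card G = 87780) : False := by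
  have h19 : Fact (Nat.Prime 19) := ⟨by norm_num⟩
  have h11 : Fact (Nat.Prime 11) := ⟨by norm_num⟩
  have h7 : Fact (Nat.Prime 7) := ⟨by norm_num⟩
  have h5 : Fact (Nat.Prime 5) := ⟨by norm_num⟩
  have h3 : Fact (Nat.Prime 3) := ⟨by norm_num⟩
  have hn19 : Nat.card G = 19 ^ 1 * 4620 := by rw [hn0]; norm_num
  have hn11 : Nat.card G = 11 ^ 1 * 7980 := by rw [hn0]; norm_num
  have hn7 : Nat.card G = 7 ^ 1 * 12540 := by rw [hn0]; norm_num
  have hn5 : Nat.card G = 5 ^ 1 * 17556 := by rw [hn0]; norm_num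
  obtain ⟨hP19, -, hd19, hm19, hb19, -, he19⟩ :=
    h87_data hna 19 4620 (by norm_num) hn19 (by norm_num)
  obtain ⟨hP11, -, hd11, hm11, hb11, -, he11⟩ :=
    h87_data hna 11 7980 (by norm_num) hn11 (by norm_num)
  obtain ⟨hP7, -, hd7, hm7, hb7, -, he7⟩ :=
    h87_data hna 7 12540 (by norm_num) hn7 (by norm_num)
  obtain ⟨hP5, -, hd5, hm5, hb5, -, he5⟩ :=
    h87_data hna 5 17556 (by norm_num) hn5 (by norm_num)
  have ha19 := (h41_87780_adm19 _ (Nat.mem_divisors.2 ⟨hd19, by norm_num⟩) hm19).resolve_right hb19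
  have ha11 := (h41_87780_adm11 _ (Nat.mem_divisors.2 ⟨hd11, by norm_num⟩) hm11).resolve_right hb11
  have ha7 := (h41_87780_adm7 _ (Nat.mem_divisors.2 ⟨hd7, by norm_num⟩) hm7).resolve_right hb7
  have ha5 := (h41_87780_adm5 _ (Nat.mem_divisors.2 ⟨hd5, by norm_num⟩) hm5).resolve_right hb5
  -- `5 ∤ |C(Q)|` for every Sylow `19`-subgroup
  have key19 : ∀ Q : Sylow 19 G, ¬ 5 ∣ Nat.card (Subgroup.centralizer ((Q : Subgroup G) : Set G)) := by
    intro Q h5c
    obtain ⟨e, ha, hb, hc⟩ := he19 Q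
    have hle : e ≤ 18 := Nat.le_of_dvd (by norm_num) ha
    rcases ha19 with h | h | h
    · exact h41_fix_dead hn0 (by norm_num) (p := 19) (r := 5) (by norm_num) Q (hP19 Q) h
        (by norm_num) h5c (by norm_num) h41_87780_fix_19_77_5
    · rw [h] at hc
      generalize Nat.card (Subgroup.centralizer ((Q : Subgroup G) : Set G)) = c at hc h5c
      interval_cases e <;> omega
    · rw [h] at hc
      generalize Nat.card (Subgroup.centralizer ((Q : Subgroup G) : Set G)) = c at hc h5c
      interval_cases e <;> omega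
  -- `5 ∤ |C(Q)|` for every Sylow `11`-subgroup
  have key11 : ∀ Q : Sylow 11 G, ¬ 5 ∣ Nat.card (Subgroup.centralizer ((Q : Subgroup G) : Set G)) := by
    intro Q h5c
    obtain ⟨e, ha, hb, hc⟩ := he11 Q
    have hle : e ≤ 10 := Nat.le_of_dvd (by norm_num) ha
    rcases ha11 with h | h | h
    · exact h41_fix_dead hn0 (by norm_num) (p := 11) (r := 5) (by norm_num) Q (hP11 Q) h
        (by norm_num) h5c (by norm_num) h41_87780_fix_11_133_5
    · rw [h] at hc
      generalize Nat.card (Subgroup.centralizer ((Q : Subgroup G) : Set G)) = c at hc h5c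
      interval_cases e <;> omega
    · rw [h] at hc
      generalize Nat.card (Subgroup.centralizer ((Q : Subgroup G) : Set G)) = c at hc h5c
      interval_cases e <;> omega
  -- `7 ∤ |C(Q)|` for every Sylow `5`-subgroup
  have key5 : ∀ Q : Sylow 5 G, ¬ 7 ∣ Nat.card (Subgroup.centralizer ((Q : Subgroup G) : Set G)) := by
    intro Q h7c
    obtain ⟨e, ha, hb, hc⟩ := he5 Q
    have hle : e ≤ 4 := Nat.le_of_dvd (by norm_num) ha
    rcases ha5 with h | h | h | h
    · exact h41_fix_dead hn0 (by norm_num) (p := 5) (r := 7) (by norm_num) Q (hP5 Q) h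
        (by norm_num) h7c (by norm_num) h41_87780_fix_5_66_7
    · rw [h] at hc
      generalize Nat.card (Subgroup.centralizer ((Q : Subgroup G) : Set G)) = c at hc h7c
      interval_cases e <;> omega
    · rw [h] at hc
      generalize Nat.card (Subgroup.centralizer ((Q : Subgroup G) : Set G)) = c at hc h7c
      interval_cases e <;> omega
    · rw [h] at hc
      generalize Nat.card (Subgroup.centralizer ((Q : Subgroup G) : Set G)) = c at hc h7c
      interval_cases e <;> omega
  obtain ⟨P19⟩ : Nonempty (Sylow 19 G) := inferInstance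
  obtain ⟨P7⟩ : Nonempty (Sylow 7 G) := inferInstance
  obtain ⟨P5⟩ : Nonempty (Sylow 5 G) := inferInstance
  -- `n_7 = 4180`
  have hc7 : Nat.card (Sylow 7 G) = 4180 := by
    obtain ⟨e, ha, hb, hc⟩ := he7 P7
    have hle : e ≤ 6 := Nat.le_of_dvd (by norm_num) ha
    rcases ha7 with h | h | h | h | h | h
    · exfalso
      rw [h] at hc
      have hrc : 5 ∣ Nat.card (Subgroup.centralizer ((P7 : Subgroup G) : Set G)) := by
        generalize Nat.card (Subgroup.centralizer ((P7 : Subgroup G) : Set G)) = c at hc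
        interval_cases e <;> omega
      exact h41_fix_dead hn0 (by norm_num) (p := 7) (r := 5) (by norm_num) P7 (hP7 P7) h
        (by norm_num) hrc (by norm_num) h41_87780_fix_7_22_5
    · exfalso
      rw [h] at hc
      have hrc : 11 ∣ Nat.card (Subgroup.centralizer ((P7 : Subgroup G) : Set G)) := by
        generalize Nat.card (Subgroup.centralizer ((P7 : Subgroup G) : Set G)) = c at hc
        interval_cases e <;> omega
      exact h41_fix_dead hn0 (by norm_num) (p := 7) (r := 11) (by norm_num) P7 (hP7 P7) h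
        (by norm_num) hrc (by norm_num) h41_87780_fix_7_57_11
    · exfalso
      rw [h] at hc
      have hrc : 11 ∣ Nat.card (Subgroup.centralizer ((P7 : Subgroup G) : Set G)) := by
        generalize Nat.card (Subgroup.centralizer ((P7 : Subgroup G) : Set G)) = c at hc
        interval_cases e <;> omega
      exact h41_fix_dead hn0 (by norm_num) (p := 7) (r := 11) (by norm_num) P7 (hP7 P7) h
        (by norm_num) hrc (by norm_num) h41_87780_fix_7_190_11
    · exfalso
      rw [h] at hc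
      have hrc : 19 ∣ Nat.card (Subgroup.centralizer ((P7 : Subgroup G) : Set G)) := by
        generalize Nat.card (Subgroup.centralizer ((P7 : Subgroup G) : Set G)) = c at hc
        interval_cases e <;> omega
      exact h41_fix_dead hn0 (by norm_num) (p := 7) (r := 19) (by norm_num) P7 (hP7 P7) h
        (by norm_num) hrc (by norm_num) h41_87780_fix_7_330_19
    · exfalso
      rw [h] at hc
      have hrc : 5 ∣ Nat.card (Subgroup.centralizer ((P7 : Subgroup G) : Set G)) := by
        generalize Nat.card (Subgroup.centralizer ((P7 : Subgroup G) : Set G)) = c at hc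
        interval_cases e <;> omega
      obtain ⟨Q, hQ⟩ := sylow_link hP7 hP5 P7 hrc
      exact key5 Q hQ
    · exact h
  -- `n_5 = 2926`, `|C(P5)| = 15`
  have hc5 : Nat.card (Sylow 5 G) = 2926 ∧ Nat.card (Subgroup.centralizer ((P5 : Subgroup G) : Set G)) = 15 := by
    obtain ⟨e, ha, hb, hc⟩ := he5 P5
    have hle : e ≤ 4 := Nat.le_of_dvd (by norm_num) ha
    have k5 := key5 P5
    rcases ha5 with h | h | h | h
    · exfalso
      rw [h] at hc
      generalize Nat.card (Subgroup.centralizer ((P5 : Subgroup G) : Set G)) = c at hc k5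
      interval_cases e <;> omega
    · exfalso
      rw [h] at hc
      have hrc : 19 ∣ Nat.card (Subgroup.centralizer ((P5 : Subgroup G) : Set G)) := by
        generalize Nat.card (Subgroup.centralizer ((P5 : Subgroup G) : Set G)) = c at hc
        interval_cases e <;> omega
      obtain ⟨Q, hQ⟩ := sylow_link hP5 hP19 P5 hrc
      exact key19 Q hQ
    · exfalso
      rw [h] at hc
      have hrc : 11 ∣ Nat.card (Subgroup.centralizer ((P5 : Subgroup G) : Set G)) := by
        generalize Nat.card (Subgroup.centralizer ((P5 : Subgroup G) : Set G)) = c at hc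
        interval_cases e <;> omega
      obtain ⟨Q, hQ⟩ := sylow_link hP5 hP11 P5 hrc
      exact key11 Q hQ
    · refine ⟨h, ?_⟩
      rw [h] at hc
      have hpos : 0 < e := Nat.pos_of_dvd_of_pos ha (by norm_num)
      generalize Nat.card (Subgroup.centralizer ((P5 : Subgroup G) : Set G)) = c at hc
      interval_cases e <;> omega
  obtain ⟨hc5a, hc5b⟩ := hc5
  -- counting
  have c7 := card_orderOf_eq_prime (G := G) (p := 7) hP7
  have c5 := card_orderOf_eq_prime (G := G) (p := 5) hP5
  rw [hc7] at c7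
  rw [hc5a] at c5
  obtain ⟨x15, hx15⟩ := h41_exists_orderOf_mul (p := 5) (q := 3) (by norm_num) P5 (hP5 P5)
    (by rw [hc5b]; norm_num)
  have c15 := h41_card_orderOf_mul_ge hP5 3 x15 hx15
  rw [hc5a, h41_totient15] at c15
  rcases ha19 with h | h | h
  · -- `n_19 = 77`
    obtain ⟨e, ha, hb, hc⟩ := he19 P19
    have hle : e ≤ 18 := Nat.le_of_dvd (by norm_num) ha
    have k19 := key19 P19
    rw [h] at hc
    generalize Nat.card (Subgroup.centralizer ((P19 : Subgroup G) : Set G)) = c at hc k19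
    interval_cases e <;> omega
  · -- `n_19 = 210`, `|C(P19)| = 209`
    obtain ⟨e, ha, hb, hc⟩ := he19 P19
    have hle : e ≤ 18 := Nat.le_of_dvd (by norm_num) ha
    rw [h] at hc
    have hrc : 11 ∣ Nat.card (Subgroup.centralizer ((P19 : Subgroup G) : Set G)) := by
      generalize Nat.card (Subgroup.centralizer ((P19 : Subgroup G) : Set G)) = c at hc
      interval_cases e <;> omega
    obtain ⟨x209, hx209⟩ := h41_exists_orderOf_mul (p := 19) (q := 11) (by norm_num) P19
      (hP19 P19) hrc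
    have c209 := h41_card_orderOf_mul_ge hP19 11 x209 hx209
    rw [h, h41_totient209] at c209
    have hsum := sum_card_orderOf_le (G := G) ({5, 7, 5 * 3, 19 * 11} : Finset ℕ)
    rw [Finset.sum_insert (by decide), Finset.sum_insert (by decide),
      Finset.sum_insert (by decide), Finset.sum_singleton, c7, c5, hn0] at hsum
    omega
  · -- `n_19 = 1540`
    have c19 := card_orderOf_eq_prime (G := G) (p := 19) hP19
    rw [h] at c19
    have hsum := sum_card_orderOf_le (G := G) ({5, 7, 5 * 3, 19} : Finset ℕ)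
    rw [Finset.sum_insert (by decide), Finset.sum_insert (by decide),
      Finset.sum_insert (by decide), Finset.sum_singleton, c7, c5, c19, hn0] at hsum
    omega

/-- (N87780), helper24's shape -/
theorem no_87780 {G : Type u} [Group G] [Finite G] [IsSimpleGroup G] : Nat.card G ≠ 87780 := by
  intro hG
  exact h41_87780_false (not_comm_of_not_prime (by rw [hG]; norm_num)) hG

end Cfsg.Agent.Helper41.O175560
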