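import Mathlib
import Cfsg.Agent.Lib.Helper41.O175560N87780

/-!
# O19 server (helper46, S4274): piece (N87780), `NoSimple 87780` (helper41)
-/

set_option autoImplicit false

namespace Cfsg.Agent.Helper41.O19

open Cfsg.Agent.Helper17.Sieve

/-- (N87780) see the header. -/
theorem no_87780.{u} : NoSimple.{u} 87780 := by
  intro G _ _ _ hna hn0
  exact Cfsg.Agent.Helper41.O175560.h41_87780_false hna hn0

end Cfsg.Agent.Helper41.O19
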