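import Mathlib
import Cfsg.Prelude.Def_Blocks
import Cfsg.Agent.Lib.Helper55.O2520Defs
import Cfsg.Agent.Lib.Helper17.Simple
import Cfsg.Agent.Lib.Helper17.Burnside
import Cfsg.Agent.Lib.Helper17.EmbedNormalizer
import Cfsg.Agent.S0111

/-!
# O2520 lemma server (helper55, row S0984), wave 2, piece (S3B) `centralizer_sylow3` (helper41)

`|C(P)| ∈ {9, 18, 36}`; `36` is Burnside; `18`: the unique involution `t` of `C(P)` has `N(P) ≤ C(t)`, so `C(t)` has
order `360` (Done) or `C(t) = N(P)`; then a Sylow `2`-subgroup `S ∋ t` is nonabelian, has a cyclic subgroup `Q` of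
order `4` with central involution, `t ∉ Q`, and Thompson transfer makes `t` conjugate to the central involution:
`8 ∣ 36`, absurd.
-/

set_option autoImplicit false

namespace Cfsg.Agent.Helper41.O2520

open Cfsg Cfsg.Agent.Helper55.O2520
open scoped Classical

universe u

/-- the involutions of a cyclic group of order `4` -/
theorem h41_invol_zpowers {G : Type*} [Group G] (r x : G) (hr : orderOf r = 4)
    (hx : x ∈ Subgroup.zpowers r) (hx2 : orderOf x = 2) : x = r ^ 2 := by
  have hfin : IsOfFinOrder r := by
    rw [← orderOf_pos_iff, hr]; norm_num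
  rw [hfin.mem_zpowers_iff_mem_range_orderOf, hr] at hx
  obtain ⟨k, hk, rfl⟩ := Finset.mem_image.1 hx
  have hk4 : k < 4 := Finset.mem_range.1 hk
  have h1 : (r ^ k) ^ 2 = 1 := by rw [← hx2]; exact pow_orderOf_eq_one _
  rw [← pow_mul] at h1
  have h2 : 4 ∣ k * 2 := by rw [← hr]; exact orderOf_dvd_of_pow_eq_one h1
  have h3 : k = 0 ∨ k = 2 := by omega
  rcases h3 with rfl | rfl
  · simp at hx2
  · rfl

section grp
variable {G : Type u} [Group G] [Finite G] [IsSimpleGroup G] (hG : Nat.card G = 2520)
include hG

/-- the Sylow `2` part of the argument: an involution `t` with `|C(t)| = 36` does not exist -/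
theorem h41_no_invol_36 (t : G) (ht : orderOf t = 2)
    (hC : Nat.card (Subgroup.centralizer ({t} : Set G)) = 36) : False := by
  have h2 : Fact (Nat.Prime 2) := ⟨Nat.prime_two⟩
  have ht2 : t ^ 2 = 1 := by rw [← ht]; exact pow_orderOf_eq_one t
  have htinv : t⁻¹ = t := by rw [inv_eq_iff_mul_eq_one, ← pow_two]; exact ht2
  -- a Sylow 2-subgroup containing `t`
  have hpg : IsPGroup 2 (Subgroup.zpowers t) := by
    apply IsPGroup.of_card (n := 1)
    rw [Nat.card_zpowers, ht, pow_one]
  obtain ⟨S, hS⟩ := hpg.exists_le_sylow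
  have htS : t ∈ (S : Subgroup G) := hS (Subgroup.mem_zpowers t)
  have hScard : Nat.card (S : Subgroup G) = 2 ^ 3 :=
    Cfsg.Agent.Helper17.sylow_card_eq S (m := 315) (by rw [hG]; norm_num) (by norm_num)
  -- `S` does not centralise `t`
  have hnc : ∃ s ∈ (S : Subgroup G), s * t ≠ t * s := by
    by_contra hcon
    push Not at hcon
    have hle : (S : Subgroup G) ≤ Subgroup.centralizer ({t} : Set G) := by
      intro s hs
      rw [Subgroup.mem_centralizer_iff]
      intro y hy
      rw [Set.mem_singleton_iff] at hy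
      rw [hy]
      exact (hcon s hs).symm
    have := Subgroup.card_dvd_of_le hle
    rw [hScard, hC] at this
    omega
  obtain ⟨s, hsS, hst⟩ := hnc
  -- an element of order `4` in `S`
  have hr : ∃ r ∈ (S : Subgroup G), orderOf r = 4 := by
    by_contra hcon
    push Not at hcon
    have hsq : ∀ x ∈ (S : Subgroup G), x ^ 2 = 1 := by
      intro x hx
      have hd : orderOf x ∣ 2 ^ 3 := by
        rw [← hScard]
        exact Subgroup.orderOf_dvd_natCard _ hx
      obtain ⟨j, hj, hj'⟩ := (Nat.dvd_prime_pow Nat.prime_two).1 hd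
      have hj3 : j ≤ 3 := hj
      interval_cases j
      · rw [pow_zero, orderOf_eq_one_iff] at hj'
        rw [hj', one_pow]
      · rw [pow_one] at hj'
        rw [← hj']; exact pow_orderOf_eq_one x
      · exact absurd hj' (hcon x hx)
      · exfalso
        have h4 : orderOf (x ^ 2) = 4 := by
          rw [orderOf_pow_of_dvd (by norm_num) (by rw [hj']; norm_num), hj']; norm_num
        exact hcon (x ^ 2) (Subgroup.pow_mem _ hx 2) h4
    apply hst
    have h1 := hsq (s * t) (Subgroup.mul_mem _ hsS htS)
    have h2 := hsq s hsS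
    have hsinv : s⁻¹ = s := by rw [inv_eq_iff_mul_eq_one, ← pow_two]; exact h2
    have h3 : (s * t)⁻¹ = s * t := by rw [inv_eq_iff_mul_eq_one, ← pow_two]; exact h1
    rw [mul_inv_rev, htinv, hsinv] at h3
    exact h3.symm
  obtain ⟨r, hrS, hr4⟩ := hr
  set Q : Subgroup G := Subgroup.zpowers r with hQ
  have hQS : Q ≤ (S : Subgroup G) := (Subgroup.zpowers_le).2 hrS
  have hQcard : Nat.card Q = 4 := by rw [hQ, Nat.card_zpowers, hr4]
  have hidx : (Q.subgroupOf (S : Subgroup G)).index = 2 := by
    have h1 := Subgroup.card_mul_index (Q.subgroupOf (S : Subgroup G))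
    have h2 : Nat.card (Q.subgroupOf (S : Subgroup G)) = 4 := by
      rw [← hQcard]
      exact Nat.card_congr (Subgroup.subgroupOfEquivOfLe hQS).toEquiv
    rw [h2, hScard] at h1
    omega
  have hnorm : (Q.subgroupOf (S : Subgroup G)).Normal := Subgroup.normal_of_index_eq_two hidx
  have hz2 : orderOf (r ^ 2) = 2 := by
    rw [orderOf_pow_of_dvd (by norm_num) (by rw [hr4]; norm_num), hr4]
  -- `r ^ 2` is central in `S`
  have hzc : ∀ x ∈ (S : Subgroup G), x * r ^ 2 * x⁻¹ = r ^ 2 := by
    intro x hx
    have hzQ : r ^ 2 ∈ Q := Subgroup.pow_mem _ (Subgroup.mem_zpowers r) 2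
    have h4 := hnorm.conj_mem ⟨r ^ 2, hQS hzQ⟩ (by rw [Subgroup.mem_subgroupOf]; exact hzQ) ⟨x, hx⟩
    rw [Subgroup.mem_subgroupOf] at h4
    have h5 : x * r ^ 2 * x⁻¹ ∈ Q := by simpa using h4
    have h6 : orderOf (x * r ^ 2 * x⁻¹) = 2 := by
      have := (MulAut.conj x).orderOf_eq (r ^ 2)
      rw [MulAut.conj_apply] at this
      rw [this, hz2]
    exact h41_invol_zpowers r _ hr4 h5 h6
  -- `t ∉ Q`
  have htQ : t ∉ Q := by
    intro h
    have h1 := h41_invol_zpowers r t hr4 h ht
    apply hst
    have h2 := hzc s hsS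
    rw [← h1] at h2
    calc s * t = s * t * s⁻¹ * s := by group
      _ = t * s := by rw [h2]
  -- Thompson transfer
  rcases Cfsg.Agent.S0111.result S Q hQS hidx t ht htS htQ with ⟨M, hMn, hMi, -⟩ | ⟨g, hg⟩
  · rcases hMn.eq_bot_or_eq_top with h | h
    · rw [h, Subgroup.index_bot, hG] at hMi
      omega
    · rw [h, Subgroup.index_top] at hMi
      omega
  · have h6 : orderOf (g * t * g⁻¹) = 2 := by
      have := (MulAut.conj g).orderOf_eq t
      rw [MulAut.conj_apply] at this
      rw [this, ht]
    have h7 := h41_invol_zpowers r _ hr4 hg h6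
    -- `g⁻¹ S g ≤ C(t)`
    have hle : (S : Subgroup G).map (MulAut.conj g⁻¹).toMonoidHom ≤
        Subgroup.centralizer ({t} : Set G) := by
      rintro y ⟨x, hx, rfl⟩
      rw [Subgroup.mem_centralizer_iff]
      intro y hy
      rw [Set.mem_singleton_iff] at hy
      rw [hy]
      have h8 := hzc x hx
      rw [← h7] at h8
      show t * (MulAut.conj g⁻¹ x) = (MulAut.conj g⁻¹ x) * t
      rw [MulAut.conj_apply, inv_inv]
      have h9 : x * (g * t * g⁻¹) = (g * t * g⁻¹) * x := by
        calc x * (g * t * g⁻¹) = x * (g * t * g⁻¹) * x⁻¹ * x := by group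
          _ = (g * t * g⁻¹) * x := by rw [h8]
      calc t * (g⁻¹ * x * g) = g⁻¹ * ((g * t * g⁻¹) * x) * g := by group
        _ = g⁻¹ * (x * (g * t * g⁻¹)) * g := by rw [h9]
        _ = g⁻¹ * x * g * t := by group
    have hcard : Nat.card ((S : Subgroup G).map (MulAut.conj g⁻¹).toMonoidHom) = 2 ^ 3 := by
      rw [← hScard]
      exact Subgroup.card_map_of_injective (MulAut.conj g⁻¹).injective
    have := Subgroup.card_dvd_of_le hle
    rw [hcard, hC] at this
    omega

/-- (S3B) -/
theorem centralizer_sylow3 (h7 : Nat.card (Sylow 7 G) = 120) (h3 : Nat.card (Sylow 3 G) = 70)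
    (P : Sylow 3 G)
    (hovg : ∀ K : Subgroup G, Subgroup.normalizer ((P : Subgroup G) : Set G) < K → K ≠ ⊤ →
      Nat.card K = 360) :
    Done G ∨ Subgroup.centralizer ((P : Subgroup G) : Set G) = (P : Subgroup G) := by
  have hf3 : Fact (Nat.Prime 3) := ⟨Nat.prime_three⟩
  have hPcard : Nat.card (P : Subgroup G) = 3 ^ 2 :=
    Cfsg.Agent.Helper17.sylow_card_eq P (m := 280) (by rw [hG]; norm_num) (by norm_num)
  have hNcard : Nat.card (Subgroup.normalizer ((P : Subgroup G) : Set G)) = 36 := by
    have h1 := Cfsg.Agent.Helper17.card_normalizer_mul_sylow_count P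
    rw [h3, hG] at h1
    omega
  have hcomm : IsMulCommutative ↥(P : Subgroup G) :=
    IsPGroup.isMulCommutative_of_card_eq_prime_sq hPcard
  have hPC : (P : Subgroup G) ≤ Subgroup.centralizer ((P : Subgroup G) : Set G) :=
    Subgroup.le_centralizer_iff_isMulCommutative.2 hcomm
  have hCN : Subgroup.centralizer ((P : Subgroup G) : Set G) ≤
      Subgroup.normalizer ((P : Subgroup G) : Set G) := Subgroup.centralizer_le_normalizer _
  have hd1 := Subgroup.card_dvd_of_le hPC
  have hd2 := Subgroup.card_dvd_of_le hCN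
  rw [hPcard] at hd1
  rw [hNcard] at hd2
  have hcases : Nat.card (Subgroup.centralizer ((P : Subgroup G) : Set G)) = 9 ∨
      Nat.card (Subgroup.centralizer ((P : Subgroup G) : Set G)) = 18 ∨
      Nat.card (Subgroup.centralizer ((P : Subgroup G) : Set G)) = 36 := by
    generalize Nat.card (Subgroup.centralizer ((P : Subgroup G) : Set G)) = c at hd1 hd2
    have hle : c ≤ 36 := Nat.le_of_dvd (by norm_num) hd2
    have hd1' : 9 ∣ c := by simpa using hd1
    clear hd1
    interval_cases c <;> omega
  rcases hcases with h9 | h18 | h36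
  · right
    exact (Subgroup.eq_of_le_of_card_ge hPC (by rw [h9, hPcard]; norm_num)).symm
  · -- `|C(P)| = 18`
    have hdvd : 2 ∣ Nat.card (Subgroup.centralizer ((P : Subgroup G) : Set G)) := by
      rw [h18]; norm_num
    have h2 : Fact (Nat.Prime 2) := ⟨Nat.prime_two⟩
    obtain ⟨t', ht'⟩ := exists_prime_orderOf_dvd_card'
      (G := ↥(Subgroup.centralizer ((P : Subgroup G) : Set G))) 2 hdvd
    have hto : orderOf (t' : G) = 2 := by rw [Subgroup.orderOf_coe, ht']
    have htC : (t' : G) ∈ Subgroup.centralizer ((P : Subgroup G) : Set G) := t'.2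
    set t : G := (t' : G) with htdef
    have ht2 : t ^ 2 = 1 := by rw [← hto]; exact pow_orderOf_eq_one t
    have htinv : t⁻¹ = t := by rw [inv_eq_iff_mul_eq_one, ← pow_two]; exact ht2
    -- `P` has index `2` in `C(P)`
    have hidx : ((P : Subgroup G).subgroupOf
        (Subgroup.centralizer ((P : Subgroup G) : Set G))).index = 2 := by
      have h1 := Subgroup.card_mul_index ((P : Subgroup G).subgroupOf
        (Subgroup.centralizer ((P : Subgroup G) : Set G)))
      have h2' : Nat.card ((P : Subgroup G).subgroupOf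
          (Subgroup.centralizer ((P : Subgroup G) : Set G))) = 9 := by
        rw [show (9 : ℕ) = 3 ^ 2 by norm_num, ← hPcard]
        exact Nat.card_congr (Subgroup.subgroupOfEquivOfLe hPC).toEquiv
      rw [h2', h18] at h1
      omega
    -- an involution is not in `P`
    have hnotP : ∀ v : G, orderOf v = 2 → v ∉ (P : Subgroup G) := by
      intro v hv hvP
      have h1 : orderOf v ∣ 3 ^ 2 := by
        rw [← hPcard]; exact Subgroup.orderOf_dvd_natCard _ hvP
      rw [hv] at h1
      omega
    -- uniqueness of the involution of `C(P)`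
    have huniq : ∀ v : G, v ∈ Subgroup.centralizer ((P : Subgroup G) : Set G) → orderOf v = 2 →
        v = t := by
      intro v hvC hv
      have hv2 : v ^ 2 = 1 := by rw [← hv]; exact pow_orderOf_eq_one v
      have h1 := Subgroup.mul_mem_iff_of_index_two hidx
        (a := (⟨t, htC⟩ : ↥(Subgroup.centralizer ((P : Subgroup G) : Set G))))
        (b := ⟨v, hvC⟩)
      have h2' : (⟨t, htC⟩ : ↥(Subgroup.centralizer ((P : Subgroup G) : Set G))) * ⟨v, hvC⟩ ∈
          (P : Subgroup G).subgroupOf (Subgroup.centralizer ((P : Subgroup G) : Set G)) := by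
        rw [h1]
        simp only [Subgroup.mem_subgroupOf]
        exact ⟨fun h => absurd h (hnotP t hto), fun h => absurd h (hnotP v hv)⟩
      rw [Subgroup.mem_subgroupOf] at h2'
      have hy : t * v ∈ (P : Subgroup G) := h2'
      -- `t` commutes with `t * v`
      have hcomm1 : (t * v) * t = t * (t * v) := (Subgroup.mem_centralizer_iff.1 htC) (t * v) hy
      have hvt : v * t = t * v := by
        have : t * v * t = t * (t * v) := hcomm1
        calc v * t = t⁻¹ * (t * v * t) := by group
          _ = t⁻¹ * (t * (t * v)) := by rw [this]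
          _ = t * v := by group
      have hy2 : (t * v) ^ 2 = 1 := by
        rw [pow_two]
        calc t * v * (t * v) = t * (v * t) * v := by group
          _ = t * (t * v) * v := by rw [hvt]
          _ = t ^ 2 * v ^ 2 := by rw [pow_two, pow_two]; group
          _ = 1 := by rw [ht2, hv2, one_mul]
      have hy9 : (t * v) ^ 9 = 1 := by
        have h1' : orderOf (t * v) ∣ 3 ^ 2 := by
          rw [← hPcard]; exact Subgroup.orderOf_dvd_natCard _ hy
        exact orderOf_dvd_iff_pow_eq_one.1 (by simpa using h1')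
      have hy1 : t * v = 1 := by
        have : (t * v) ^ 9 = ((t * v) ^ 2) ^ 4 * (t * v) := by rw [← pow_mul, ← pow_succ]
        rw [hy9, hy2, one_pow, one_mul] at this
        exact this.symm
      calc v = t⁻¹ * (t * v) := by group
        _ = t := by rw [hy1, mul_one, htinv]
    -- `N(P) ≤ C(t)`
    have hNt : Subgroup.normalizer ((P : Subgroup G) : Set G) ≤
        Subgroup.centralizer ({t} : Set G) := by
      intro n hn
      rw [Subgroup.mem_centralizer_iff]
      intro y hy
      rw [Set.mem_singleton_iff] at hy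
      rw [hy]
      have hconjC : n * t * n⁻¹ ∈ Subgroup.centralizer ((P : Subgroup G) : Set G) := by
        rw [Subgroup.mem_centralizer_iff]
        intro x hx
        have hx' : n⁻¹ * x * n ∈ (P : Subgroup G) := by
          have := (Subgroup.mem_normalizer_iff''.1 hn x).1 hx
          exact this
        have h1 := (Subgroup.mem_centralizer_iff.1 htC) _ hx'
        calc x * (n * t * n⁻¹) = n * ((n⁻¹ * x * n) * t) * n⁻¹ := by group
          _ = n * (t * (n⁻¹ * x * n)) * n⁻¹ := by rw [h1]
          _ = n * t * n⁻¹ * x := by group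
      have hord : orderOf (n * t * n⁻¹) = 2 := by
        have := (MulAut.conj n).orderOf_eq t
        rw [MulAut.conj_apply] at this
        rw [this, hto]
      have h1 := huniq _ hconjC hord
      calc t * n = (n * t * n⁻¹) * n := by rw [h1]
        _ = n * t := by group
    -- `C(t) ≠ ⊤`
    have hne : Subgroup.centralizer ({t} : Set G) ≠ ⊤ := by
      intro htop
      have hcen : t ∈ Subgroup.center G := by
        rw [Subgroup.mem_center_iff]
        intro g
        have hg : g ∈ Subgroup.centralizer ({t} : Set G) := by rw [htop]; trivial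
        exact ((Subgroup.mem_centralizer_iff.1 hg) t rfl).symm
      have hna : ¬ IsMulCommutative G :=
        Cfsg.Agent.Helper17.not_comm_of_not_prime (by rw [hG]; norm_num)
      rcases (inferInstance : (Subgroup.center G).Normal).eq_bot_or_eq_top with h | h
      · rw [h, Subgroup.mem_bot] at hcen
        rw [hcen, orderOf_one] at hto
        omega
      · apply hna
        refine ⟨⟨fun x y => ?_⟩⟩
        have hx : x ∈ Subgroup.center G := by rw [h]; trivial
        exact ((Subgroup.mem_center_iff.1 hx) y).symm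
    by_cases heq : Subgroup.normalizer ((P : Subgroup G) : Set G) =
        Subgroup.centralizer ({t} : Set G)
    · exfalso
      exact h41_no_invol_36 hG t hto (by rw [← heq, hNcard])
    · left
      exact ⟨_, hovg _ (lt_of_le_of_ne hNt heq) hne⟩
  · -- `|C(P)| = 36`: Burnside
    exfalso
    have heq : Subgroup.centralizer ((P : Subgroup G) : Set G) =
        Subgroup.normalizer ((P : Subgroup G) : Set G) :=
      Subgroup.eq_of_le_of_card_ge hCN (by rw [h36, hNcard])
    exact Cfsg.Agent.Helper17.not_normalizer_le_centralizer P (by rw [hPcard]; norm_num)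
      (by rw [hPcard, hG]; norm_num) (by rw [heq])

end grp

end Cfsg.Agent.Helper41.O2520
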