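import Mathlib
import Cfsg.Agent.S1017

/-!
# O5760 (B2) (helper41, for helper7 server, S0980): `|N_G(⟨x⟩)| = 360`.
-/

set_option autoImplicit false

namespace Cfsg.Agent.Helper41.O5760

open Cfsg MulAction

universe u v

theorem h41_normalizer_le {G : Type u} [Group G] (N : Subgroup G) (x : G)
    (hxN : ∀ n ∈ N, n * x * n⁻¹ ∈ Subgroup.zpowers x) :
    N ≤ Subgroup.normalizer ((Subgroup.zpowers x : Subgroup G) : Set G) := by
  have key : ∀ n ∈ N, ∀ h ∈ Subgroup.zpowers x, n * h * n⁻¹ ∈ Subgroup.zpowers x := by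
    intro n hn h hh
    obtain ⟨k, rfl⟩ := Subgroup.mem_zpowers_iff.mp hh
    have e : n * x ^ k * n⁻¹ = (n * x * n⁻¹) ^ k := by
      rw [conj_zpow]
    rw [e]
    exact Subgroup.zpow_mem _ (hxN n hn) k
  intro n hn
  rw [Subgroup.mem_normalizer_iff]
  intro h
  constructor
  · intro hh; exact key n hn h hh
  · intro hh
    have := key n⁻¹ (N.inv_mem hn) _ hh
    have e : n⁻¹ * (n * h * n⁻¹) * n⁻¹⁻¹ = h := by group
    rw [e] at this
    exact this

theorem card_M {G : Type u} [Group G] [Finite G] [IsSimpleGroup G] (hG : Nat.card G = 5760)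
    (R : Sylow 5 G) (hR : Nat.card (R : Subgroup G) = 5)
    (hN : Nat.card (Subgroup.normalizer ((R : Subgroup G) : Set G)) = 60)
    (hidx : ∀ H : Subgroup G, H ≠ ⊤ → 10 ≤ H.index)
    (hover : ∀ Y : Subgroup G, Subgroup.normalizer ((R : Subgroup G) : Set G) ≤ Y →
      ∃ a : ℕ, a % 5 = 1 ∧ Nat.card Y = a * Nat.card (Subgroup.normalizer ((R : Subgroup G) : Set G)))
    (x : G) (hx : orderOf x = 3)
    (hxN : ∀ n ∈ Subgroup.normalizer ((R : Subgroup G) : Set G), n * x * n⁻¹ ∈ Subgroup.zpowers x) :
    Nat.card (Subgroup.normalizer ((Subgroup.zpowers x : Subgroup G) : Set G)) = 360 := by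
  set M : Subgroup G := Subgroup.normalizer ((Subgroup.zpowers x : Subgroup G) : Set G) with hM
  have hNM : Subgroup.normalizer ((R : Subgroup G) : Set G) ≤ M := h41_normalizer_le _ x hxN
  obtain ⟨a, ha5, hcard⟩ := hover M hNM
  rw [hN] at hcard
  have hdvd : Nat.card M ∣ 5760 := hG ▸ Subgroup.card_subgroup_dvd_card M
  have ha96 : a ∣ 96 := by
    rw [hcard] at hdvd
    have : a * 60 ∣ 96 * 60 := by simpa using hdvd
    exact Nat.dvd_of_mul_dvd_mul_right (by norm_num) this
  have hale : a ≤ 96 := Nat.le_of_dvd (by norm_num) ha96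
  have hzcard : Nat.card (Subgroup.zpowers x) = 3 := by rw [Nat.card_zpowers, hx]
  have hcases : a = 1 ∨ a = 6 ∨ a = 16 ∨ a = 96 := by
    interval_cases a <;> simp_all <;> omega
  rcases hcases with h | h | h | h
  · -- a = 1: a Sylow 3-subgroup centralises x
    exfalso
    haveI : Fact (Nat.Prime 3) := ⟨by norm_num⟩
    obtain ⟨P, hxP⟩ := Cfsg.Agent.S1017.exists_sylow_mem_of_orderOf x hx
    have hPcard : Nat.card (P : Subgroup G) = 3 ^ 2 :=
      Cfsg.Agent.S1017.sylow_card_eq P 2 640 (by rw [hG]; norm_num) (by norm_num)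
    have hPc := IsPGroup.commutative_of_card_eq_prime_sq hPcard
    have hPM : (P : Subgroup G) ≤ M := by
      intro y hy
      rw [hM, Subgroup.mem_normalizer_iff]
      have hcomm : y * x = x * y := by
        have := hPc ⟨y, hy⟩ ⟨x, hxP⟩
        have h2 := congrArg Subtype.val this
        exact h2
      have hconj : ∀ k : ℤ, y * x ^ k * y⁻¹ = x ^ k := by
        intro k
        have hc : Commute y (x ^ k) := (show Commute y x from hcomm).zpow_right k
        rw [hc.eq]; group
      intro h'
      constructor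
      · intro hh
        obtain ⟨k, rfl⟩ := Subgroup.mem_zpowers_iff.mp hh
        rw [hconj]; exact hh
      · intro hh
        obtain ⟨k, hk⟩ := Subgroup.mem_zpowers_iff.mp hh
        have : h' = x ^ k := by
          have h1 : h' = y⁻¹ * (y * h' * y⁻¹) * y := by group
          rw [h1, ← hk]
          have hc : Commute y (x ^ k) := (show Commute y x from hcomm).zpow_right k
          calc y⁻¹ * x ^ k * y = y⁻¹ * (x ^ k * y) := by group
            _ = y⁻¹ * (y * x ^ k) := by rw [hc.eq]
            _ = x ^ k := by group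
        rw [this]; exact Subgroup.zpow_mem _ (Subgroup.mem_zpowers x) k
    have h9 : 9 ∣ Nat.card M := by
      have := Subgroup.card_dvd_of_le hPM
      rw [hPcard] at this
      exact this
    rw [hcard, h] at h9
    omega
  · rw [hcard, h]
  · -- a = 16: index 6
    exfalso
    have hMne : M ≠ ⊤ := by
      intro htop
      have : Nat.card M = 5760 := by rw [htop, Subgroup.card_top, hG]
      rw [hcard, h] at this
      omega
    have h10 := hidx M hMne
    have h1 := Subgroup.card_mul_index M
    rw [hG, hcard, h] at h1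
    have : M.index = 6 := by omega
    omega
  · -- a = 96: `⟨x⟩` normal
    exfalso
    have hMtop : M = ⊤ := by
      apply Subgroup.eq_top_of_card_eq
      rw [hcard, h, hG]
    have hnorm : (Subgroup.zpowers x).Normal := by
      rw [← Subgroup.normalizer_eq_top_iff]
      exact hMtop
    exact Cfsg.Agent.S1017.normal_card_absurd (Subgroup.zpowers x) hnorm (by rw [hzcard]; norm_num)
      (by rw [hzcard, hG]; norm_num)

end Cfsg.Agent.Helper41.O5760
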