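import Mathlib
import Cfsg.Agent.Lib.Helper17.Simple
import Cfsg.Agent.Lib.Helper17.SylowLink
import Cfsg.Agent.Lib.Helper17.SelfCent
import Cfsg.Agent.Lib.Helper17.PrimeTIOrders
import Cfsg.Agent.Lib.Helper17.PrimeTIApp

/-!
# O6232 (N4760) (helper41, for helper17 server, S0983): no simple group of order `4760 = 2^3 * 5 * 7 * 17`.
`p = 5`: `n_5 ∈ {56, 136, 476}`; `|N(P)| = |C(P)| e` with `e ∣ 4`, `e ≠ 1` (Burnside) makes `|N(P)|` even, so
`n_5 = 476`, `|N(P)| = 10`; the exceptional-character degree equation has no solution.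
-/

set_option autoImplicit false

namespace Cfsg.Agent.Helper41.O6232

open Cfsg MulAction

universe u

theorem h41_count4760_aux : ∀ n ∈ Nat.divisors 952, n % 5 = 1 → n ≠ 1 → 2 ∣ 4760 / n → n = 476 := by
  decide +kernel

theorem h41_arith4760_aux : ∀ x ∈ Nat.divisors 4760, 1 < x →
    ¬ ((5 ∣ x - 1 ∧ x + 1 ∣ 4760) ∨ (5 ∣ x + 1 ∧ x - 1 ∣ 4760)) := by decide +kernel

theorem no_4760 {G : Type u} [Group G] [Finite G] [IsSimpleGroup G] : Nat.card G ≠ 4760 := by
  intro hG
  have : Fact (Nat.Prime 5) := ⟨by norm_num⟩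
  have := Fintype.ofFinite G
  obtain ⟨P⟩ : Nonempty (Sylow 5 G) := inferInstance
  have hG' : Nat.card G = 5 ^ 1 * 952 := by rw [hG]; norm_num
  have hm : ¬ 5 ∣ 952 := by norm_num
  have hP : Nat.card (P : Subgroup G) = 5 := by
    have := Cfsg.Agent.Helper17.sylow_card_eq P hG' hm
    rwa [pow_one] at this
  obtain ⟨hn1, hn2⟩ := Cfsg.Agent.Helper17.sylow_count (G := G) hG' hm
  have hn3 := Cfsg.Agent.Helper17.sylow_count_ne_one (G := G) hG' hm one_ne_zero (by norm_num)
  have hidx : (Subgroup.normalizer ((P : Subgroup G) : Set G)).index = Nat.card (Sylow 5 G) :=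
    P.card_eq_index_normalizer.symm
  have hmul := (Subgroup.normalizer ((P : Subgroup G) : Set G)).card_mul_index
  rw [hidx, hG] at hmul
  obtain ⟨e, he4, he1, hCe⟩ := Cfsg.Agent.Helper17.exists_e P hP (by rw [hG]; norm_num)
  have he2 : 2 ∣ e := by
    have h4 : e ∣ 4 := he4
    have hle : e ≤ 4 := Nat.le_of_dvd (by norm_num) h4
    have hpos : 0 < e := Nat.pos_of_dvd_of_pos h4 (by norm_num)
    interval_cases e
    · exact absurd rfl he1
    · exact dvd_refl 2
    · exfalso; revert h4; decide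
    · exact ⟨2, rfl⟩
  have hNeven : 2 ∣ Nat.card (Subgroup.normalizer ((P : Subgroup G) : Set G)) := by
    rw [← hCe]; exact Dvd.dvd.mul_left he2 _
  have hnpos : 0 < Nat.card (Sylow 5 G) := Nat.card_pos
  have hNdiv : Nat.card (Subgroup.normalizer ((P : Subgroup G) : Set G)) =
      4760 / Nat.card (Sylow 5 G) := by
    rw [← hmul, Nat.mul_div_cancel _ hnpos]
  have hn476 : Nat.card (Sylow 5 G) = 476 :=
    h41_count4760_aux _ (Nat.mem_divisors.2 ⟨hn1, by norm_num⟩) hn2 hn3 (hNdiv ▸ hNeven)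
  have hN : Nat.card (Subgroup.normalizer ((P : Subgroup G) : Set G)) = 5 * 2 := by
    rw [hNdiv, hn476]
  have hC : Subgroup.centralizer ((P : Subgroup G) : Set G) = (P : Subgroup G) :=
    Cfsg.Agent.Helper17.centralizer_eq_of_card_normalizer P hP (by rw [hG]; norm_num)
      Nat.prime_two hN
  have hperf : commutator G = ⊤ :=
    Cfsg.Agent.Helper17.PrimeTI.perfect_of_simple (by rw [hG]; norm_num)
  obtain ⟨x, hx1, hxd, hx⟩ := Cfsg.Agent.Helper17.PrimeTI.dihedral_normalizer_degrees hperf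
    (P : Subgroup G) 5 2 hP hC hN (by norm_num) (by norm_num)
  rw [hG] at hxd hx
  exact h41_arith4760_aux x (Nat.mem_divisors.2 ⟨hxd, by norm_num⟩) hx1 hx

end Cfsg.Agent.Helper41.O6232
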