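import Mathlib
import Cfsg.Agent.Lib.Helper17.PrimeTIOrders
import Cfsg.Agent.Lib.Helper17.PrimeTIApp

/-!
# O6232 (N5104) (helper41, for helper17 server, S0983): no simple group of order `5104 = 2^4 * 11 * 29`.
`p = 29`: `n_29 = 88` is forced, `|N(P)| = 58`, exceptional-character degree equation has no solution.
-/

set_option autoImplicit false

namespace Cfsg.Agent.Helper41.O6232

open Cfsg MulAction

universe u

theorem h41_count5104_aux : ∀ n ∈ Nat.divisors 176, n % 29 = 1 → n ≠ 1 → n * 2 = 176 := by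
  decide +kernel

theorem h41_arith5104_aux : ∀ x ∈ Nat.divisors 5104, 1 < x →
    ¬ ((29 ∣ x - 1 ∧ x + 1 ∣ 5104) ∨ (29 ∣ x + 1 ∧ x - 1 ∣ 5104)) := by decide +kernel

theorem no_5104 {G : Type u} [Group G] [Finite G] [IsSimpleGroup G] : Nat.card G ≠ 5104 := by
  intro hG
  have : Fact (Nat.Prime 29) := ⟨by norm_num⟩
  have := Fintype.ofFinite G
  obtain ⟨P⟩ : Nonempty (Sylow 29 G) := inferInstance
  obtain ⟨hP, hN, hC⟩ := Cfsg.Agent.Helper17.PrimeTI.forced_sylow 29 176 2 Nat.prime_two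
    (by rw [hG]) (by norm_num) (by norm_num)
    (fun n hn => h41_count5104_aux n (Nat.mem_divisors.2 ⟨hn, by norm_num⟩)) P
  have hperf : commutator G = ⊤ :=
    Cfsg.Agent.Helper17.PrimeTI.perfect_of_simple (by rw [hG]; norm_num)
  obtain ⟨x, hx1, hxd, hx⟩ := Cfsg.Agent.Helper17.PrimeTI.dihedral_normalizer_degrees hperf
    (P : Subgroup G) 29 14 hP hC hN (by norm_num) (by norm_num)
  rw [hG] at hxd hx
  exact h41_arith5104_aux x (Nat.mem_divisors.2 ⟨hxd, by norm_num⟩) hx1 hx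

end Cfsg.Agent.Helper41.O6232
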