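import Mathlib
import Cfsg.Agent.Lib.Helper79.OSPDefs

/-!
# OSP piece (B1b) (helper79 server, S2720): `hyperbolic_block`

The split torus on the hyperbolic space `W1 ⊕ W1'`.
-/

set_option autoImplicit false

namespace Cfsg.Agent.Helper41.OSP

open QuadraticMap Cfsg.Agent.Helper79.OSP

variable {F : Type*} [Field F] {V : Type*} [AddCommGroup V] [Module F V]

/-- a finite module over a field with `2 ≠ 0` has odd cardinality. -/
theorem h41_odd_card (h2 : (2 : F) ≠ 0) (W : Type*) [AddCommGroup W] [Module F W] [Finite W] :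
    Odd (Nat.card W) := by
  by_contra h
  rw [Nat.not_odd_iff_even] at h
  haveI : Fact (Nat.Prime 2) := ⟨Nat.prime_two⟩
  obtain ⟨x, hx⟩ := exists_prime_addOrderOf_dvd_card' (G := W) 2 h.two_dvd
  have h2x : (2 : ℕ) • x = 0 := by rw [← hx]; exact addOrderOf_nsmul_eq_zero x
  have hx0 : x ≠ 0 := by
    intro h0; rw [h0, addOrderOf_zero] at hx; norm_num at hx
  have h3 : (2 : F) • x = 0 := by rw [two_smul, ← two_nsmul]; exact h2x
  rcases smul_eq_zero.1 h3 with h | h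
  · exact h2 h
  · exact hx0 h

/-- the fibre over `1` of a nonzero functional. -/
theorem h41_fibre_card [Finite F] {U : Type*} [AddCommGroup U] [Module F U] [Finite U]
    (φ : U →ₗ[F] F) (hφ : ∃ b, φ b ≠ 0) :
    Nat.card U = Nat.card F * Nat.card {b : U // φ b = 1} := by
  obtain ⟨b₀, hb₀⟩ := hφ
  set b₁ : U := (φ b₀)⁻¹ • b₀ with hb₁
  have h1 : φ b₁ = 1 := by rw [hb₁, map_smul, smul_eq_mul, inv_mul_cancel₀ hb₀]
  rw [← Nat.card_prod]
  apply Nat.card_congr
  refine ⟨fun b => (φ b, ⟨b - (φ b - 1) • b₁, ?_⟩), fun p => p.2.1 + (p.1 - 1) • b₁, ?_, ?_⟩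
  · rw [map_sub, map_smul, h1, smul_eq_mul, mul_one]; ring
  · intro b; simp
  · rintro ⟨c, b, hb⟩
    refine Prod.ext ?_ (Subtype.ext ?_)
    · simp [h1, hb]
    · simp [h1, hb]

/-- a perfect pairing between two subspaces identifies one with the dual of the other. -/
theorem h41_pairing_equiv [Finite V] (B : V →ₗ[F] V →ₗ[F] F) (W1 W1' : Submodule F V)
    (hp1 : ∀ w ∈ W1, (∀ u ∈ W1', B w u = 0) → w = 0)
    (hp2 : ∀ u ∈ W1', (∀ w ∈ W1, B w u = 0) → u = 0) :
    ∃ Φ : ↥W1' ≃ₗ[F] Module.Dual F ↥W1, ∀ (u : ↥W1') (w : ↥W1), Φ u w = B w u := by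
  set Φ₀ : ↥W1' →ₗ[F] Module.Dual F ↥W1 := B.flip.domRestrict₁₂ W1' W1 with hΦ₀
  set Ψ₀ : ↥W1 →ₗ[F] Module.Dual F ↥W1' := B.domRestrict₁₂ W1 W1' with hΨ₀
  have hΦa : ∀ (u : ↥W1') (w : ↥W1), Φ₀ u w = B w u := fun u w => rfl
  have hΨa : ∀ (w : ↥W1) (u : ↥W1'), Ψ₀ w u = B w u := fun w u => rfl
  have hΦinj : Function.Injective Φ₀ := by
    rw [← LinearMap.ker_eq_bot, LinearMap.ker_eq_bot']
    intro u hu
    have : (u : V) = 0 := hp2 u u.2 (fun w hw => by
      have := LinearMap.congr_fun hu ⟨w, hw⟩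
      rw [hΦa] at this
      simpa using this)
    exact Subtype.ext this
  have hΨinj : Function.Injective Ψ₀ := by
    rw [← LinearMap.ker_eq_bot, LinearMap.ker_eq_bot']
    intro w hw
    have : (w : V) = 0 := hp1 w w.2 (fun u hu => by
      have := LinearMap.congr_fun hw ⟨u, hu⟩
      rw [hΨa] at this
      simpa using this)
    exact Subtype.ext this
  have hfr : Module.finrank F ↥W1' = Module.finrank F (Module.Dual F ↥W1) := by
    have h1 := LinearMap.finrank_le_finrank_of_injective hΦinj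
    have h2 := LinearMap.finrank_le_finrank_of_injective hΨinj
    rw [Subspace.dual_finrank_eq] at h1 h2 ⊢
    omega
  have hΦsurj : Function.Surjective Φ₀ :=
    (LinearMap.injective_iff_surjective_of_finrank_eq_finrank hfr).1 hΦinj
  exact ⟨LinearEquiv.ofBijective Φ₀ ⟨hΦinj, hΦsurj⟩, fun u w => rfl⟩

/-- the adjoint-inverse of `lam`. -/
theorem h41_exists_mu [Finite V] (B : V →ₗ[F] V →ₗ[F] F) (W1 W1' : Submodule F V)
    (hp1 : ∀ w ∈ W1, (∀ u ∈ W1', B w u = 0) → w = 0)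
    (hp2 : ∀ u ∈ W1', (∀ w ∈ W1, B w u = 0) → u = 0) (lam : ↥W1 ≃ₗ[F] ↥W1) :
    ∃ μ : ↥W1' ≃ₗ[F] ↥W1', ∀ (w : ↥W1) (u : ↥W1'), B (lam w) (μ u) = B w u := by
  obtain ⟨Φ, hΦ⟩ := h41_pairing_equiv B W1 W1' hp1 hp2
  refine ⟨Φ ≪≫ₗ lam.symm.dualMap ≪≫ₗ Φ.symm, fun w u => ?_⟩
  rw [← hΦ, ← hΦ]
  simp [LinearEquiv.dualMap_apply]

/-- (B1b) -/
theorem hyperbolic_block [Finite F] [Finite V] (h2 : (2 : F) ≠ 0) (Q : QuadraticForm F V)
    (t : V →ₗ[F] V) (ht : ∀ v, Q (t v) = Q v) (W1 W1' W' : Submodule F V)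
    (hW1t : ∀ w ∈ W1, t w ∈ W1) (hW1't : ∀ w ∈ W1', t w ∈ W1') (hW't : ∀ w ∈ W', t w ∈ W')
    (hiso1 : ∀ w ∈ W1, ∀ u ∈ W1, polar Q w u = 0) (hiso1' : ∀ w ∈ W1', ∀ u ∈ W1', polar Q w u = 0)
    (hdisj : Disjoint W1 W1') (hc : IsCompl (W1 ⊔ W1') W')
    (horth : ∀ w ∈ W1 ⊔ W1', ∀ w' ∈ W', polar Q w w' = 0)
    (hp1 : ∀ w ∈ W1, (∀ u ∈ W1', polar Q w u = 0) → w = 0)
    (hp2 : ∀ u ∈ W1', (∀ w ∈ W1, polar Q w u = 0) → u = 0) (hW1 : W1 ≠ ⊥)
    (lam : ↥W1 ≃ₗ[F] ↥W1) (hl1 : ∀ w : ↥W1, lam (t.restrict hW1t w) = t.restrict hW1t (lam w))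
    (hl2 : orderOf lam = Nat.card ↥W1 - 1)
    (hl4 : ∀ w : ↥W1, w ≠ 0 → ∀ j : ℕ, (lam ^ j) w = w → (Nat.card ↥W1 - 1) ∣ j) :
    Block Q t (W1 ⊔ W1') W' := by
  classical
  -- polar facts
  have hpol : ∀ x y, polar Q x y = Q (x + y) - Q x - Q y := fun x y => rfl
  have hQadd : ∀ x y, Q (x + y) = Q x + Q y + polar Q x y := fun x y => by rw [hpol]; ring
  set B : V →ₗ[F] V →ₗ[F] F := Q.polarBilin with hB
  have hBp : ∀ x y, B x y = polar Q x y := fun x y => rfl
  have hBt : ∀ x y, B (t x) (t y) = B x y := by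
    intro x y; rw [hBp, hBp, hpol, hpol, ← map_add, ht, ht, ht]
  have hQ0gen : ∀ w : V, polar Q w w = 0 → Q w = 0 := by
    intro w h
    rw [polar_self, two_nsmul, ← two_mul] at h
    rcases mul_eq_zero.1 h with h | h
    · exact absurd h h2
    · exact h
  have hQ0 : ∀ w ∈ W1, Q w = 0 := fun w hw => hQ0gen w (hiso1 w hw w hw)
  have hQ0' : ∀ w ∈ W1', Q w = 0 := fun w hw => hQ0gen w (hiso1' w hw w hw)
  -- the adjoint inverse
  obtain ⟨μ, hμ⟩ := h41_exists_mu B W1 W1' (fun w hw h => hp1 w hw h) (fun u hu h => hp2 u hu h) lam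
  -- the decomposition
  set eL : (↥W1 × ↥W1') × ↥W' →ₗ[F] V :=
    (W1.subtype.coprod W1'.subtype).coprod W'.subtype with heL
  have heL_apply : ∀ (a : ↥W1) (b : ↥W1') (c : ↥W'),
      eL ((a, b), c) = (a : V) + (b : V) + (c : V) := by
    intro a b c; simp [heL]
  have hinj : Function.Injective eL := by
    rw [← LinearMap.ker_eq_bot, LinearMap.ker_eq_bot']
    rintro ⟨⟨a, b⟩, c⟩ h
    rw [heL_apply] at h
    have h1 : (a : V) + (b : V) ∈ W1 ⊔ W1' := Submodule.add_mem_sup a.2 b.2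
    have h2' : (a : V) + (b : V) = -(c : V) := eq_neg_of_add_eq_zero_left h
    have h3 : (a : V) + (b : V) ∈ W' := by rw [h2']; exact W'.neg_mem c.2
    have h4 : (a : V) + (b : V) = 0 := (Submodule.disjoint_def.1 hc.disjoint) _ h1 h3
    have hc0 : (c : V) = 0 := by rw [h4] at h2'; exact neg_eq_zero.1 h2'.symm
    have h5 : (a : V) = -(b : V) := eq_neg_of_add_eq_zero_left h4
    have ha0 : (a : V) = 0 :=
      (Submodule.disjoint_def.1 hdisj) _ a.2 (by rw [h5]; exact W1'.neg_mem b.2)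
    have hb0 : (b : V) = 0 := by rw [ha0] at h5; exact neg_eq_zero.1 h5.symm
    exact Prod.ext (Prod.ext (Subtype.ext ha0) (Subtype.ext hb0)) (Subtype.ext hc0)
  have hsurj : Function.Surjective eL := by
    intro v
    have hv : v ∈ (W1 ⊔ W1') ⊔ W' := by rw [hc.sup_eq_top]; trivial
    obtain ⟨x, hx, c, hc', rfl⟩ := Submodule.mem_sup.1 hv
    obtain ⟨a, ha, b, hb, rfl⟩ := Submodule.mem_sup.1 hx
    exact ⟨((⟨a, ha⟩, ⟨b, hb⟩), ⟨c, hc'⟩), heL_apply _ _ _⟩
  set e : ((↥W1 × ↥W1') × ↥W') ≃ₗ[F] V := LinearEquiv.ofBijective eL ⟨hinj, hsurj⟩ with he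
  have he_apply : ∀ (a : ↥W1) (b : ↥W1') (c : ↥W'),
      e ((a, b), c) = (a : V) + (b : V) + (c : V) := fun a b c => heL_apply a b c
  set f : ((↥W1 × ↥W1') × ↥W') ≃ₗ[F] ((↥W1 × ↥W1') × ↥W') :=
    (lam.prodCongr μ).prodCongr (LinearEquiv.refl F ↥W') with hf
  set s : V ≃ₗ[F] V := e.symm ≪≫ₗ f ≪≫ₗ e with hs
  have hse : ∀ (a : ↥W1) (b : ↥W1') (c : ↥W'), s (e ((a, b), c)) = e ((lam a, μ b), c) := by
    intro a b c; simp [hs, hf]
  have hspow : ∀ (j : ℕ) (a : ↥W1) (b : ↥W1') (c : ↥W'),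
      (s ^ j) (e ((a, b), c)) = e (((lam ^ j) a, (μ ^ j) b), c) := by
    intro j
    induction j with
    | zero => intro a b c; simp
    | succ j ih =>
      intro a b c
      rw [pow_succ, LinearEquiv.mul_apply, hse, ih, pow_succ, pow_succ, LinearEquiv.mul_apply,
        LinearEquiv.mul_apply]
  have hQe : ∀ (a : ↥W1) (b : ↥W1') (c : ↥W'), Q (e ((a, b), c)) = B a b + Q c := by
    intro a b c
    rw [he_apply, hQadd, hQadd, hQ0 a a.2, hQ0' b b.2,
      horth _ (Submodule.add_mem_sup a.2 b.2) _ c.2, hBp]; ring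
  -- invariance of the pairing
  have hinv : ∀ (j : ℕ) (w : ↥W1) (u : ↥W1'), B ((lam ^ j) w) ((μ ^ j) u) = B w u := by
    intro j
    induction j with
    | zero => intro w u; simp
    | succ j ih =>
      intro w u
      rw [pow_succ, pow_succ, LinearEquiv.mul_apply, LinearEquiv.mul_apply, ih, hμ]
  have hμj : ∀ j : ℕ, lam ^ j = 1 → ∀ u : ↥W1', (μ ^ j) u = u := by
    intro j hj u
    have h0 : (((μ ^ j) u - u : ↥W1') : V) = 0 := by
      apply hp2 _ ((μ ^ j) u - u).2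
      intro w hw
      have h1 := hinv j ⟨w, hw⟩ u
      rw [hj] at h1
      rw [← hBp, Submodule.coe_sub, map_sub]
      have h1' : B w ((μ ^ j) u) = B w u := h1
      rw [h1', sub_self]
    exact sub_eq_zero.1 (Subtype.ext h0)
  -- the numbers
  set N : ℕ := Nat.card ↥W1 - 1 with hN
  have hlamN : lam ^ N = 1 := by rw [← hl2]; exact pow_orderOf_eq_one lam
  have hoddW1 : Odd (Nat.card ↥W1) := h41_odd_card h2 ↥W1
  have hoddW1' : Odd (Nat.card ↥W1') := h41_odd_card h2 ↥W1'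
  haveI : Nontrivial ↥W1 := Submodule.nontrivial_iff_ne_bot.2 hW1
  have hcard1 : 1 < Nat.card ↥W1 := Finite.one_lt_card_iff_nontrivial.2 inferInstance
  have hNpos : 0 < N := by omega
  have hNeven : Even N := Nat.Odd.sub_odd hoddW1 odd_one
  obtain ⟨a₀, ha₀W, ha₀⟩ := Submodule.exists_mem_ne_zero_of_ne_bot hW1
  -- fibres
  have hfib : ∀ a : ↥W1, a ≠ 0 →
      Nat.card ↥W1' = Nat.card F * Nat.card {b : ↥W1' // B a b = 1} := by
    intro a ha
    have hex : ∃ b : ↥W1', ((B a).domRestrict W1') b ≠ 0 := by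
      by_contra hcon
      push_neg at hcon
      apply ha
      apply Subtype.ext
      apply hp1 a a.2
      intro u hu
      exact hcon ⟨u, hu⟩
    exact h41_fibre_card ((B a).domRestrict W1') hex
  set k : ℕ := Nat.card {b : ↥W1' // B (a₀ : V) b = 1} with hk
  have hFpos : 0 < Nat.card F := Nat.card_pos
  have hk0 : Nat.card ↥W1' = Nat.card F * k :=
    hfib ⟨a₀, ha₀W⟩ (fun h => ha₀ (congrArg Subtype.val h))
  have hfibk : ∀ a : ↥W1, a ≠ 0 → Nat.card {b : ↥W1' // B a b = 1} = k := by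
    intro a ha
    have h1 := hfib a ha
    rw [hk0] at h1
    exact (Nat.eq_of_mul_eq_mul_left hFpos h1).symm
  have hkodd : Odd k := by
    rw [hk0] at hoddW1'
    exact (Nat.odd_mul.1 hoddW1').2
  -- `t` on the pieces
  have ht1inj : Function.Injective (t.restrict hW1t) := by
    rw [← LinearMap.ker_eq_bot, LinearMap.ker_eq_bot']
    intro a ha
    apply Subtype.ext
    apply hp1 a a.2
    intro u hu
    have h1 : t (a : V) = 0 := by
      have := congrArg Subtype.val ha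
      simpa using this
    rw [← hBp, ← hBt, h1]; simp
  have ht1surj : Function.Surjective (t.restrict hW1t) := Finite.injective_iff_surjective.1 ht1inj
  have hμt : ∀ b : ↥W1', μ (t.restrict hW1't b) = t.restrict hW1't (μ b) := by
    intro b
    have h0 : ((μ (t.restrict hW1't b) - t.restrict hW1't (μ b) : ↥W1') : V) = 0 := by
      apply hp2 _ (μ (t.restrict hW1't b) - t.restrict hW1't (μ b)).2
      intro w hw
      obtain ⟨w₀, hw₀⟩ := ht1surj (lam.symm ⟨w, hw⟩)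
      have hw1 : lam (t.restrict hW1t w₀) = ⟨w, hw⟩ := by rw [hw₀]; simp
      have e1 : B w (μ (t.restrict hW1't b)) = B w₀ b := by
        have : B (lam (t.restrict hW1t w₀)) (μ (t.restrict hW1't b)) = B w₀ b := by
          rw [hμ]
          simp only [LinearMap.restrict_coe_apply]
          exact hBt _ _
        rw [hw1] at this; exact this
      have e2 : B w (t.restrict hW1't (μ b)) = B w₀ b := by
        have : B (lam (t.restrict hW1t w₀)) (t.restrict hW1't (μ b)) = B w₀ b := by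
          rw [hl1]
          simp only [LinearMap.restrict_coe_apply]
          rw [hBt, hμ]
        rw [hw1] at this; exact this
      rw [← hBp, Submodule.coe_sub, map_sub, e1, e2, sub_self]
    exact sub_eq_zero.1 (Subtype.ext h0)
  have hte : ∀ (a : ↥W1) (b : ↥W1') (c : ↥W'), t (e ((a, b), c)) =
      e ((t.restrict hW1t a, t.restrict hW1't b), t.restrict hW't c) := by
    intro a b c
    rw [he_apply, he_apply, map_add, map_add]
    simp only [LinearMap.restrict_coe_apply]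
  refine ⟨s, N, k, ?_, ?_, ?_, ?_, hNpos, hNeven, hkodd, ?_, ?_, ?_⟩
  · -- isometry
    intro v
    obtain ⟨⟨⟨a, b⟩, c⟩, rfl⟩ := e.surjective v
    rw [hse, hQe, hQe, hμ]
  · -- commutes with t
    intro v
    obtain ⟨⟨⟨a, b⟩, c⟩, rfl⟩ := e.surjective v
    rw [hte, hse, hse, hte, hl1, hμt]
  · -- preserves W1 ⊔ W1'
    intro w hw
    obtain ⟨a, ha, b, hb, rfl⟩ := Submodule.mem_sup.1 hw
    have h1 : a + b = e ((⟨a, ha⟩, ⟨b, hb⟩), 0) := by rw [he_apply]; simp
    rw [h1, hse, he_apply]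
    simp only [ZeroMemClass.coe_zero, add_zero]
    exact Submodule.add_mem_sup (lam ⟨a, ha⟩).2 (μ ⟨b, hb⟩).2
  · -- identity on W'
    intro w' hw'
    have h1 : w' = e ((0, 0), ⟨w', hw'⟩) := by rw [he_apply]; simp
    rw [h1, hse, he_apply, he_apply]
    simp
  · -- s ^ N = 1
    apply LinearEquiv.ext
    intro v
    obtain ⟨⟨⟨a, b⟩, c⟩, rfl⟩ := e.surjective v
    rw [hspow, hlamN, hμj N hlamN]
    rfl
  · -- freeness
    intro x hx hx0 j hj
    obtain ⟨a, ha, b, hb, rfl⟩ := Submodule.mem_sup.1 hx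
    have h1 : a + b = e ((⟨a, ha⟩, ⟨b, hb⟩), 0) := by rw [he_apply]; simp
    rw [h1, hspow] at hj
    have h3 := e.injective hj
    have hja : (lam ^ j) ⟨a, ha⟩ = ⟨a, ha⟩ := congrArg (fun p => p.1.1) h3
    have hjb : (μ ^ j) ⟨b, hb⟩ = ⟨b, hb⟩ := congrArg (fun p => p.1.2) h3
    by_cases ha0 : a = 0
    · subst ha0
      have hb0 : b ≠ 0 := by
        intro hb0; apply hx0; rw [hb0]; simp
      by_contra hnd
      have hfree : ∀ w : ↥W1, w ≠ 0 → (lam ^ j) w ≠ w := fun w hw h => hnd (hl4 w hw j h)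
      have hDinj : Function.Injective (fun w : ↥W1 => (lam ^ j) w - w) := by
        intro w w' h
        simp only at h
        by_contra hne
        have hne' : w - w' ≠ 0 := sub_ne_zero.2 hne
        apply hfree _ hne'
        rw [map_sub]
        have : (lam ^ j) w - (lam ^ j) w' - (w - w') = 0 := by
          rw [sub_sub_sub_comm, h, sub_self]
        exact sub_eq_zero.1 this
      have hDsurj := Finite.injective_iff_surjective.1 hDinj
      apply hb0
      apply hp2 b hb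
      intro w hw
      obtain ⟨w₁, hw₁⟩ := hDsurj ⟨w, hw⟩
      simp only at hw₁
      have h5 := hinv j w₁ ⟨b, hb⟩
      rw [hjb] at h5
      have h6 : (w : V) = (((lam ^ j) w₁ - w₁ : ↥W1) : V) := by rw [hw₁]
      rw [← hBp, h6, Submodule.coe_sub, map_sub, LinearMap.sub_apply]
      have h5' : B ((lam ^ j) w₁ : V) b = B (w₁ : V) b := h5
      rw [h5', sub_self]
    · exact hl4 ⟨a, ha⟩ (fun h => ha0 (congrArg Subtype.val h)) j hja
  · -- the count
    have hequiv : Nat.card {w : V // w ∈ W1 ⊔ W1' ∧ Q w = 1} =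
        Nat.card {p : ↥W1 × ↥W1' // B p.1 p.2 = 1} := by
      symm
      apply Nat.card_congr
      refine Equiv.ofBijective (fun p => ⟨(p.1.1 : V) + (p.1.2 : V),
        Submodule.add_mem_sup p.1.1.2 p.1.2.2, ?_⟩) ⟨?_, ?_⟩
      · rw [hQadd, hQ0 _ p.1.1.2, hQ0' _ p.1.2.2, ← hBp, p.2]; ring
      · rintro ⟨⟨a, b⟩, hab⟩ ⟨⟨a', b'⟩, hab'⟩ h
        have h1 : (a : V) + (b : V) = (a' : V) + (b' : V) := congrArg Subtype.val h
        have h2' : eL ((a, b), 0) = eL ((a', b'), 0) := by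
          rw [heL_apply, heL_apply, h1]
        have h3 := hinj h2'
        apply Subtype.ext
        exact congrArg Prod.fst h3
      · rintro ⟨w, hw, hQw⟩
        obtain ⟨a, ha, b, hb, rfl⟩ := Submodule.mem_sup.1 hw
        refine ⟨⟨(⟨a, ha⟩, ⟨b, hb⟩), ?_⟩, rfl⟩
        rw [hQadd, hQ0 _ ha, hQ0' _ hb] at hQw
        simp only [zero_add] at hQw
        exact hQw
    rw [hequiv]
    haveI : Fintype ↥W1 := Fintype.ofFinite _
    rw [Nat.card_congr (Equiv.subtypeProdEquivSigmaSubtype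
      (fun (a : ↥W1) (b : ↥W1') => B a b = 1)), Nat.card_sigma,
      ← Finset.add_sum_erase Finset.univ _ (Finset.mem_univ (0 : ↥W1))]
    have g0 : Nat.card {b : ↥W1' // B ((0 : ↥W1) : V) b = 1} = 0 := by
      haveI : IsEmpty {b : ↥W1' // B ((0 : ↥W1) : V) b = 1} := by
        refine ⟨fun x => ?_⟩
        have := x.2
        simp at this
      exact Nat.card_of_isEmpty
    rw [g0, zero_add, Finset.sum_congr rfl (fun a ha => hfibk a (Finset.ne_of_mem_erase ha)),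
      Finset.sum_const, smul_eq_mul, Finset.card_erase_of_mem (Finset.mem_univ _),
      Finset.card_univ, ← Nat.card_eq_fintype_card]

end Cfsg.Agent.Helper41.OSP
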