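import Mathlib
import Cfsg.Prelude.Def_FusionSystem
import Cfsg.Agent.Lib.Helper87.Om7Defs

/-!
# OM7 (B4): the permutation of a monomial element normalising `S0` lies in `P16`
(helper41 for helper87, S2647)
-/

set_option autoImplicit false

namespace Cfsg.Agent.Helper41.Om7

open Matrix QuadraticMap Cfsg.Agent.Helper36.QuadInv Cfsg.Agent.Helper36.OmegaTrans
  Cfsg.Agent.Helper43 Cfsg.Agent.Helper87.Om7

variable {F : Type*} [Field F] [Fintype F] [DecidableEq F] {ι : Type} [Fintype ι] [DecidableEq ι]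
variable {Q : QuadraticForm F (ι → F)} {c : F} {f : Fin 7 → ι → F}

theorem b4_sa_mem : sa ∈ P16 := Subgroup.subset_closure (by simp)

theorem b4_sb_mem : sb ∈ P16 :=
  P16.mul_mem (Subgroup.subset_closure (by simp)) (Subgroup.subset_closure (by simp))

/-- the core of (B4), with the facts from the other pieces as hypotheses -/
theorem b4_core (g : OG F ⇑Q) (σ : Equiv.Perm (Fin 7)) (hσ : IsMono Q f g σ)
    (hg : ∀ x, x ∈ Cfsg.Omega F ⇑Q → x ∈ mono Q f → g * x * g⁻¹ ∈ mono Q f)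
    (huniq : ∀ {g : OG F ⇑Q} {σ τ : Equiv.Perm (Fin 7)},
      IsMono Q f g σ → IsMono Q f g τ → σ = τ)
    (hW1 : IsMono Q f (W Q f 0 1 2 3) sa) (hW1Ω : W Q f 0 1 2 3 ∈ Cfsg.Omega F ⇑Q)
    (hW2 : IsMono Q f (W Q f 0 2 4 5) sb) (hW2Ω : W Q f 0 2 4 5 ∈ Cfsg.Omega F ⇑Q)
    (hconj : ∀ {σ : Equiv.Perm (Fin 7)}, σ * sa * σ⁻¹ ∈ P16 → σ * sb * σ⁻¹ ∈ P16 → σ ∈ P16) :
    σ ∈ P16 := by
  have key : ∀ (w : OG F ⇑Q) (τ : Equiv.Perm (Fin 7)), IsMono Q f w τ → τ ∈ P16 →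
      w ∈ Cfsg.Omega F ⇑Q → σ * τ * σ⁻¹ ∈ P16 := by
    intro w τ hw hτ hwΩ
    obtain ⟨ρ, hρ, hρm⟩ := hg w hwΩ ⟨τ, hτ, hw⟩
    have h1 : IsMono Q f (g * w * g⁻¹) (σ * τ * σ⁻¹) :=
      isMono_mul (isMono_mul hσ hw) (isMono_inv hσ)
    rw [huniq h1 hρm]
    exact hρ
  exact hconj (key _ _ hW1 b4_sa_mem hW1Ω) (key _ _ hW2 b4_sb_mem hW2Ω)

end Cfsg.Agent.Helper41.Om7
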