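import Mathlib
import Cfsg.Prelude.Def_FusionSystem
import Cfsg.Agent.Lib.Helper87.Om7Defs
import Cfsg.Agent.Lib.Helper8.Om7API2a
import Cfsg.Agent.Lib.Helper46.Om7API2b
import Cfsg.Agent.Lib.Helper30.Om7MONO
import Cfsg.Agent.Lib.Helper63.Om7PERM
import Cfsg.Agent.Lib.Helper41.Om7B4Core

/-!
# OM7 (B4): the permutation of a monomial element normalising `S0` lies in `P16`
(helper41 for helper87, S2647)
-/

set_option autoImplicit false

namespace Cfsg.Agent.Helper41.Om7

open Matrix QuadraticMap Cfsg.Agent.Helper36.QuadInv Cfsg.Agent.Helper36.OmegaTrans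
  Cfsg.Agent.Helper43 Cfsg.Agent.Helper87.Om7

variable {F : Type*} [Field F] [Fintype F] [DecidableEq F] {ι : Type} [Fintype ι] [DecidableEq ι]
variable {Q : QuadraticForm F (ι → F)} {c : F} {f : Fin 7 → ι → F}

/-- (B4) conjugate `W 0 1 2 3` and `W 0 2 4 5`; `isMono_unique`; `P16_of_conj`. -/
theorem perm_mem_P16 (hF : Frame Q c f) (g : OG F ⇑Q) (σ : Equiv.Perm (Fin 7))
    (hσ : IsMono Q f g σ)
    (hg : ∀ x, x ∈ Cfsg.Omega F ⇑Q → x ∈ mono Q f → g * x * g⁻¹ ∈ mono Q f) : σ ∈ P16 :=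
  b4_core g σ hσ hg (fun h1 h2 => Cfsg.Agent.Helper30.Om7.isMono_unique hF h1 h2)
    (Cfsg.Agent.Helper8.Om7.W_isMono hF (by decide) (by decide) (by decide) (by decide)
      (by decide) (by decide))
    (Cfsg.Agent.Helper46.Om7.W_mem_Omega hF (by decide) (by decide))
    (Cfsg.Agent.Helper8.Om7.W_isMono hF (by decide) (by decide) (by decide) (by decide)
      (by decide) (by decide))
    (Cfsg.Agent.Helper46.Om7.W_mem_Omega hF (by decide) (by decide))
    (fun h1 h2 => Cfsg.Agent.Helper63.Om7.P16_of_conj h1 h2)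

end Cfsg.Agent.Helper41.Om7
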