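import Mathlib
import Cfsg.Prelude.Def_FusionSystem
import Cfsg.Agent.Lib.Helper87.Om7Defs

/-!
# OM7 (DIAG): a diagonal element of determinant `1` is a product of `D i j`'s
(helper41 for helper87, S2647)
-/

set_option autoImplicit false

namespace Cfsg.Agent.Helper41.Om7

open Matrix QuadraticMap Cfsg.Agent.Helper36.QuadInv Cfsg.Agent.Helper36.OmegaTrans
  Cfsg.Agent.Helper43 Cfsg.Agent.Helper87.Om7

variable {F : Type*} [Field F] [Fintype F] [DecidableEq F] {ι : Type} [Fintype ι] [DecidableEq ι]
variable {Q : QuadraticForm F (ι → F)} {c : F} {f : Fin 7 → ι → F}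

theorem diag_det_mul (x y : OG F ⇑Q) :
    (((x * y : OG F ⇑Q) : GL ι F) : Matrix ι ι F).det =
      ((x : GL ι F) : Matrix ι ι F).det * ((y : GL ι F) : Matrix ι ι F).det := by
  rw [Subgroup.coe_mul, Units.val_mul, Matrix.det_mul]

/-- the core of (DIAG), with the facts from the other pieces as hypotheses -/
theorem diag_core (hne : ∀ i : Fin 7, f i ≠ - f i)
    (hDact : ∀ {i j : Fin 7}, i ≠ j → ∀ k : Fin 7,
      actHom (⇑Q) (D Q f i j) (f k) = if k = i ∨ k = j then - f k else f k)
    (hDdet : ∀ {i j : Fin 7}, i ≠ j → (((D Q f i j : OG F ⇑Q) : GL ι F) : Matrix ι ι F).det = 1)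
    (hfix : ∀ g : OG F ⇑Q, (∀ i, actHom (⇑Q) g (f i) = f i) → g = 1)
    (hext : ∀ g h : OG F ⇑Q, (∀ i, actHom (⇑Q) g (f i) = actHom (⇑Q) h (f i)) → g = h)
    (hRact : ∀ i k : Fin 7,
      actHom (⇑Q) (reflIso' Q (f i)) (f k) = if k = i then - f k else f k)
    (hRdet : ∀ i : Fin 7, (((reflIso' Q (f i) : OG F ⇑Q) : GL ι F) : Matrix ι ι F).det = -1)
    (h2 : (2 : F) ≠ 0) :
    ∀ (n : ℕ) (x : OG F ⇑Q), ((x : GL ι F) : Matrix ι ι F).det = 1 → IsMono Q f x 1 →
      (Finset.univ.filter (fun i : Fin 7 => actHom (⇑Q) x (f i) = - f i)).card = n →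
      x ∈ Subgroup.closure {y : OG F ⇑Q | ∃ i j : Fin 7, i ≠ j ∧ y = D Q f i j} := by
  intro n
  induction n using Nat.strong_induction_on with
  | _ n ih =>
    intro x hx hm hn
    set A := Finset.univ.filter (fun i : Fin 7 => actHom (⇑Q) x (f i) = - f i) with hA
    have hmemA : ∀ i, i ∈ A ↔ actHom (⇑Q) x (f i) = - f i := by
      intro i; simp [hA]
    have hnotA : ∀ i, i ∉ A → actHom (⇑Q) x (f i) = f i := by
      intro i hi
      rcases hm i with h | h
      · exact h
      · exact absurd ((hmemA i).2 h) hi
    rcases Nat.lt_or_ge 1 A.card with h1 | h1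
    · -- two distinct elements
      obtain ⟨i, hi, j, hj, hij⟩ := Finset.one_lt_card.1 h1
      have hxi := (hmemA i).1 hi
      have hxj := (hmemA j).1 hj
      set x' := x * D Q f i j with hx'
      have hact : ∀ k, actHom (⇑Q) x' (f k) =
          if k = i ∨ k = j then f k else actHom (⇑Q) x (f k) := by
        intro k
        rw [hx', act_mul, hDact hij k]
        split_ifs with hk
        · rcases hk with rfl | rfl
          · rw [map_neg, hxi, neg_neg]
          · rw [map_neg, hxj, neg_neg]
        · rfl
      have hm' : IsMono Q f x' 1 := by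
        intro k
        rw [hact k]
        split_ifs with hk
        · left; rfl
        · exact hm k
      have hdet' : ((x' : GL ι F) : Matrix ι ι F).det = 1 := by
        rw [hx', diag_det_mul, hx, hDdet hij, mul_one]
      have hA' : Finset.univ.filter (fun k : Fin 7 => actHom (⇑Q) x' (f k) = - f k) =
          (A.erase i).erase j := by
        ext k
        simp only [Finset.mem_filter, Finset.mem_univ, true_and, Finset.mem_erase, hmemA]
        rw [hact k]
        split_ifs with hk
        · constructor
          · intro h; exact absurd h (hne k)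
          · rintro ⟨h1, h2, _⟩
            rcases hk with rfl | rfl
            · exact absurd rfl h2
            · exact absurd rfl h1
        · have hk := not_or.1 hk
          constructor
          · intro h; exact ⟨hk.2, hk.1, h⟩
          · rintro ⟨_, _, h⟩; exact h
      have hcard : ((A.erase i).erase j).card < n := by
        rw [Finset.card_erase_of_mem (Finset.mem_erase.2 ⟨hij.symm, hj⟩),
          Finset.card_erase_of_mem hi]
        omega
      have hmem' := ih _ hcard x' hdet' hm' (by rw [hA'])
      have hD : D Q f i j ∈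
          Subgroup.closure {y : OG F ⇑Q | ∃ i j : Fin 7, i ≠ j ∧ y = D Q f i j} :=
        Subgroup.subset_closure ⟨i, j, hij, rfl⟩
      have : x = x' * (D Q f i j)⁻¹ := by rw [hx', mul_inv_cancel_right]
      rw [this]
      exact Subgroup.mul_mem _ hmem' (Subgroup.inv_mem _ hD)
    · -- at most one sign
      rcases Nat.eq_zero_or_pos A.card with h0 | h0
      · have hAe : A = ∅ := Finset.card_eq_zero.1 h0
        have : x = 1 := hfix x (fun i => hnotA i (by rw [hAe]; exact Finset.notMem_empty i))
        rw [this]
        exact Subgroup.one_mem _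
      · exfalso
        have h1' : A.card = 1 := le_antisymm h1 h0
        obtain ⟨i, hi⟩ := Finset.card_eq_one.1 h1'
        have hxr : x = reflIso' Q (f i) := by
          apply hext
          intro k
          rw [hRact i k]
          split_ifs with hk
          · rw [hk]
            exact (hmemA i).1 (by rw [hi]; exact Finset.mem_singleton_self i)
          · exact hnotA k (by rw [hi, Finset.mem_singleton]; exact hk)
        rw [hxr, hRdet i] at hx
        apply h2
        have : (1 : F) + 1 = 0 := by
          calc (1 : F) + 1 = 1 + -(-1) := by rw [neg_neg]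
            _ = 0 := by rw [hx]; ring
        calc (2 : F) = 1 + 1 := by norm_num
          _ = 0 := this

end Cfsg.Agent.Helper41.Om7
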