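import Mathlib
import Cfsg.Prelude.Def_FusionSystem
import Cfsg.Agent.Lib.Helper87.Om7Defs
import Cfsg.Agent.Lib.Helper8.Om7API2a
import Cfsg.Agent.Lib.Helper41.Om7DIAGCore

/-!
# OM7 (DIAG): a diagonal element of determinant `1` is a product of `D i j`'s
(helper41 for helper87, S2647)
-/

set_option autoImplicit false

namespace Cfsg.Agent.Helper41.Om7

open Matrix QuadraticMap Cfsg.Agent.Helper36.QuadInv Cfsg.Agent.Helper36.OmegaTrans
  Cfsg.Agent.Helper43 Cfsg.Agent.Helper87.Om7

variable {F : Type*} [Field F] [Fintype F] [DecidableEq F] {ι : Type} [Fintype ι] [DecidableEq ι]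
variable {Q : QuadraticForm F (ι → F)} {c : F} {f : Fin 7 → ι → F}

/-- (DIAG) a diagonal element of determinant `1` is a product of `D i j`'s:
`x = z := ∏_{i < 6, x f_i = - f_i} D i 6`: `x z⁻¹` fixes `f 0 … f 5` and maps `f 6` to `± f 6`;
if the sign were `-`, then `x z⁻¹ = r_{f 6}` (`frame_ext`) of determinant `-1`
(`Helper43.reflectionMatrix_det`). NOTE the hypothesis is `det = 1`, NOT `x ∈ Ω` ((EVEN) needs
this form); for `x ∈ Ω` use `det_eq_one_of_mem_Omega`. -/
theorem diag_mem_closure (hF : Frame Q c f) (x : OG F ⇑Q)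
    (hx : ((x : GL ι F) : Matrix ι ι F).det = 1) (hm : IsMono Q f x 1) :
    x ∈ Subgroup.closure {y : OG F ⇑Q | ∃ i j : Fin 7, i ≠ j ∧ y = D Q f i j} := by
  have hQne : ∀ i : Fin 7, Q (f i) ≠ 0 := fun i => by rw [hF.norm i]; exact hF.c0
  have hRdet : ∀ i : Fin 7,
      (((reflIso' Q (f i) : OG F ⇑Q) : GL ι F) : Matrix ι ι F).det = -1 := by
    intro i
    rw [reflIso'_coe Q (hQne i)]
    exact reflectionMatrix_det Q (hQne i)
  refine diag_core ?_ (fun hij k => Cfsg.Agent.Helper8.Om7.D_act hF hij k) ?_ ?_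
    (fun g h H => Cfsg.Agent.Helper8.Om7.h8_frame_ext hF g h H)
    (fun i k => Cfsg.Agent.Helper8.Om7.h8_refl_act hF i k) hRdet hF.two _ x hx hm rfl
  · intro i h
    apply hQne i
    have h2 : (2 : F) • f i = 0 := by
      rw [two_smul]
      nth_rewrite 2 [h]
      exact add_neg_cancel _
    have h3 : f i = 0 := by
      rcases smul_eq_zero.1 h2 with h4 | h4
      · exact absurd h4 hF.two
      · exact h4
    rw [h3, map_zero]
  · intro i j _
    unfold D
    rw [diag_det_mul, hRdet i, hRdet j]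
    norm_num
  · intro g h
    apply Cfsg.Agent.Helper8.Om7.h8_frame_ext hF g 1
    intro i
    rw [h i, act_one]

end Cfsg.Agent.Helper41.Om7
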