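import Cfsg.Agent.Lib.Helper41.PGLConj

/-!
# Maximal subgroups of `PGL₂(q)`, `q` odd: no subgroup `A₅.2` in characteristic three

The centralizer in `PGL₂(F)` of an element of `PSL₂(F)` of order `p` lies in `PSL₂(F)`.
-/

set_option autoImplicit false
set_option linter.unusedSectionVars false
set_option linter.unusedVariables false
set_option linter.style.haveILetI false

namespace Cfsg.Agent.Helper41.PGLMax

open Matrix Cfsg.Agent.Helper98.Ident Cfsg.Agent.Helper98.Dickson Cfsg.Agent.Helper41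
  Cfsg.Agent.Helper41.PMax

section cent

variable {F : Type*} [Field F]

/-- an invertible matrix commuting with a non-scalar matrix of `SL₂(F)` with a repeated eigenvalue has
square determinant, hence lies in `PSL₂(F)` modulo scalars -/
theorem mk_mem_range_of_commute (h2 : (2 : F) ≠ 0) (X : S2 F) (htr : X.1.trace ^ 2 = 4)
    (hX1 : (QuotientGroup.mk X : PG F) ≠ 1) (g : GL (Fin 2) F)
    (hcomm : g.1 * X.1 = X.1 * g.1) :
    Matrix.ProjGenLinGroup.mk g ∈ (tau (F := F)).range := by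
  have hns : Cfsg.Agent.Helper51.PSLDih.NonScalar X.1 := by
    by_contra hs
    exact hX1 (mk_eq_one_of_not_nonScalar X hs)
  have hdetX := det_eq X
  rw [Matrix.trace_fin_two] at htr
  have e00 := congrFun (congrFun hcomm 0) 0
  have e01 := congrFun (congrFun hcomm 0) 1
  have e10 := congrFun (congrFun hcomm 1) 0
  simp only [Matrix.mul_apply, Fin.sum_univ_two] at e00 e01 e10
  have hdetg : g.1.det = g.1 0 0 * g.1 1 1 - g.1 0 1 * g.1 1 0 := Matrix.det_fin_two _
  have hdet0 : g.1.det ≠ 0 := by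
    have := g.isUnit.map (Matrix.detMonoidHom (R := F) (n := Fin 2))
    exact this.ne_zero
  set a := X.1 0 0 with ha
  set b := X.1 0 1 with hb
  set c := X.1 1 0 with hc
  set d := X.1 1 1 with hd
  set s := g.1 0 0 with hs
  set t := g.1 0 1 with ht
  set u := g.1 1 0 with hu
  set v := g.1 1 1 with hv
  have hD : (a - d) ^ 2 + 4 * b * c = 0 := by linear_combination htr - 4 * hdetX
  have hZ : (s - v) ^ 2 + 4 * t * u = 0 := by
    rcases hns with hb0 | hc0 | had
    · have h1 : b ^ 2 * ((s - v) ^ 2 + 4 * t * u) = 0 := by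
        linear_combination (b * (s - v) + t * (a - d)) * e01 - 4 * b * t * e00 + t ^ 2 * hD
      rcases mul_eq_zero.mp h1 with h | h
      · exact absurd ((pow_eq_zero_iff two_ne_zero).mp h) hb0
      · exact h
    · have h1 : c ^ 2 * ((s - v) ^ 2 + 4 * t * u) = 0 := by
        linear_combination -(c * (s - v) + u * (a - d)) * e10 + 4 * c * u * e00 + u ^ 2 * hD
      rcases mul_eq_zero.mp h1 with h | h
      · exact absurd ((pow_eq_zero_iff two_ne_zero).mp h) hc0
      · exact h
    · by_cases hb0 : b = 0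
      · exfalso
        apply had
        have : (a - d) ^ 2 = 0 := by rw [hb0] at hD; linear_combination hD
        exact sub_eq_zero.mp ((pow_eq_zero_iff two_ne_zero).mp this)
      · have h1 : b ^ 2 * ((s - v) ^ 2 + 4 * t * u) = 0 := by
          linear_combination (b * (s - v) + t * (a - d)) * e01 - 4 * b * t * e00 + t ^ 2 * hD
        rcases mul_eq_zero.mp h1 with h | h
        · exact absurd ((pow_eq_zero_iff two_ne_zero).mp h) hb0
        · exact h
  have hsq : g.1.det = ((s + v) / 2) ^ 2 := by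
    rw [hdetg]
    field_simp
    linear_combination (-1 : F) * hZ
  have hw0 : (s + v) / 2 ≠ 0 := by
    intro h
    rw [h] at hsq
    apply hdet0
    rw [hsq]; ring
  apply Cfsg.Agent.S0805.mk_mem_range_toPGL g (Units.mk0 _ hw0)⁻¹
  apply Units.ext
  rw [Units.val_mul, Matrix.GeneralLinearGroup.val_det_apply, hsq]
  simp only [Units.val_pow_eq_pow_val, Units.val_inv_eq_inv_val, Units.val_mk0, Units.val_one]
  rw [← mul_pow, inv_mul_cancel₀ hw0, one_pow]

end cent

section char3

variable {F : Type*} [Field F] [Fintype F] [CharP F 3]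

/-- the centralizer in `PGL₂(F)` of an element of order three of `PSL₂(F)`, in characteristic three,
lies in `PSL₂(F)` -/
theorem centralizer_le_range (h2 : (2 : F) ≠ 0) (x' : PG F) (hx3 : x' ^ 3 = 1) (hx1 : x' ≠ 1)
    (m : GG F) (hm : m * tau x' * m⁻¹ = tau x') : m ∈ (tau (F := F)).range := by
  obtain ⟨X, rfl⟩ := QuotientGroup.mk_surjective x'
  induction m using Matrix.ProjGenLinGroup.induction_on with | mk g =>
  rw [← tau_conjGL] at hm
  have h1 := tau_injective hm
  have htr := trace_of_pow_three X hx1 hx3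
  have h3 : (3 : F) = 0 := by
    have := CharP.cast_eq_zero F 3
    exact_mod_cast this
  have htr2 : X.1.trace ^ 2 = 4 := by
    rcases htr with e | e <;> rw [e] <;> linear_combination (-1 : F) * h3
  rcases (psl2_mk_eq_mk_iff (conjGL g X) X).mp h1 with e | e
  · apply mk_mem_range_of_commute h2 X htr2 hx1 g
    have h4 := congrArg Subtype.val e
    rw [conjGL_coe] at h4
    calc g.1 * X.1 = g.1 * X.1 * ((g⁻¹).1 * g.1) := by simp
      _ = (g.1 * X.1 * (g⁻¹).1) * g.1 := by simp only [mul_assoc]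
      _ = X.1 * g.1 := by rw [← h4]
  · exfalso
    have h4 := congrArg (fun Y : S2 F => Y.1.trace) e
    simp only [Matrix.SpecialLinearGroup.coe_neg, Matrix.trace_neg, trace_conjGL] at h4
    rcases htr with e' | e' <;> rw [e'] at h4
    · apply h2; linear_combination h4
    · apply h2; linear_combination (-1 : F) * h4

set_option maxRecDepth 100000 in
theorem perm5_three_conj : ∀ y : Equiv.Perm (Fin 5), Equiv.Perm.sign y = 1 → y ^ 3 = 1 → y ≠ 1 →
    ∃ h : Equiv.Perm (Fin 5), Equiv.Perm.sign h = 1 ∧ h * kz5 * h⁻¹ = y := by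
  decide +kernel

/-- in characteristic three no subgroup of `PGL₂(F)` outside `PSL₂(F)` meets `PSL₂(F)` in an `A₅` -/
theorem alt5_char3_gl (hodd : Odd (Fintype.card F)) (M : Subgroup (GG F))
    (hML : ¬ M ≤ (tau (F := F)).range)
    (e' : (M.comap (tau (F := F))) ≃* alternatingGroup (Fin 5)) : False := by
  have h2 := two_ne_zero_of_odd_card hodd
  have hL2 := index_range_tau hodd
  haveI : (tau (F := F)).range.Normal := Subgroup.normal_of_index_eq_two hL2
  obtain ⟨z1, z2, z3, -, -⟩ := kz5_facts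
  obtain ⟨ζ, hζ⟩ : ∃ ζ : alternatingGroup (Fin 5),
    ζ = ⟨kz5, Equiv.Perm.mem_alternatingGroup.mpr z1⟩ := ⟨_, rfl⟩
  have hζ3 : ζ ^ 3 = 1 := by
    rw [hζ]; apply Subtype.ext; exact z2
  have hζ1 : ζ ≠ 1 := by
    rw [hζ]; intro h; exact z3 (congrArg Subtype.val h)
  obtain ⟨x₀, hx₀⟩ : ∃ x₀ : M.comap (tau (F := F)), x₀ = e'.symm ζ := ⟨_, rfl⟩
  have hx3 : (x₀ : PG F) ^ 3 = 1 := by
    rw [hx₀, ← Subgroup.coe_pow, ← map_pow, hζ3, map_one, Subgroup.coe_one]
  have hx1 : (x₀ : PG F) ≠ 1 := by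
    intro h
    apply hζ1
    have h1 : x₀ = 1 := Subtype.ext h
    rw [← e'.apply_symm_apply ζ, ← hx₀, h1, map_one]
  obtain ⟨m, hmM, hmL⟩ := SetLike.not_le_iff_exists.mp hML
  have hyL : m * tau (x₀ : PG F) * m⁻¹ ∈ (tau (F := F)).range :=
    Subgroup.Normal.conj_mem inferInstance _ (MonoidHom.mem_range.mpr ⟨_, rfl⟩) m
  obtain ⟨y', hy'⟩ := hyL
  have hyM : y' ∈ M.comap (tau (F := F)) := by
    rw [Subgroup.mem_comap, hy']
    exact M.mul_mem (M.mul_mem hmM x₀.2) (M.inv_mem hmM)
  have hy3 : y' ^ 3 = 1 := by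
    apply tau_injective
    rw [map_pow, hy', map_one, conj_pow, ← map_pow, hx3, map_one, mul_one, mul_inv_cancel]
  have hy1 : y' ≠ 1 := by
    intro h
    apply hx1
    apply tau_injective
    rw [h, map_one] at hy'
    have h1 : tau (x₀ : PG F) = m⁻¹ * (m * tau (x₀ : PG F) * m⁻¹) * m := by group
    rw [h1, ← hy', map_one]
    group
  obtain ⟨η, hη⟩ : ∃ η : alternatingGroup (Fin 5), η = e' ⟨y', hyM⟩ := ⟨_, rfl⟩
  have hη3 : η ^ 3 = 1 := by
    rw [hη, ← map_pow]
    have : (⟨y', hyM⟩ : M.comap (tau (F := F))) ^ 3 = 1 := Subtype.ext (by simpa using hy3)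
    rw [this, map_one]
  have hη1 : η ≠ 1 := by
    intro h
    apply hy1
    rw [hη] at h
    have h1 : (⟨y', hyM⟩ : M.comap (tau (F := F))) = 1 := by
      apply e'.injective
      rw [h, map_one]
    exact congrArg Subtype.val h1
  obtain ⟨h, hh, hconj⟩ := perm5_three_conj η.1 (Equiv.Perm.mem_alternatingGroup.mp η.2)
    (by have := congrArg Subtype.val hη3; simpa using this)
    (by intro h; exact hη1 (Subtype.ext h))
  obtain ⟨θ, hθ⟩ : ∃ θ : alternatingGroup (Fin 5),
    θ = ⟨h, Equiv.Perm.mem_alternatingGroup.mpr hh⟩ := ⟨_, rfl⟩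
  have hθc : θ * ζ * θ⁻¹ = η := by
    rw [hθ, hζ]
    apply Subtype.ext
    exact hconj
  obtain ⟨h', hh'⟩ : ∃ h' : M.comap (tau (F := F)), h' = e'.symm θ := ⟨_, rfl⟩
  have hc1 : h' * x₀ * h'⁻¹ = ⟨y', hyM⟩ := by
    apply e'.injective
    rw [map_mul, map_mul, map_inv, hh', hx₀, e'.apply_symm_apply, e'.apply_symm_apply, hθc, hη]
  have hc2 : (h' : PG F) * (x₀ : PG F) * (h' : PG F)⁻¹ = y' := congrArg Subtype.val hc1
  have hcent : ((tau (h' : PG F))⁻¹ * m) * tau (x₀ : PG F) * ((tau (h' : PG F))⁻¹ * m)⁻¹ =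
      tau (x₀ : PG F) := by
    have h1 : ((tau (h' : PG F))⁻¹ * m) * tau (x₀ : PG F) * ((tau (h' : PG F))⁻¹ * m)⁻¹ =
        (tau (h' : PG F))⁻¹ * (m * tau (x₀ : PG F) * m⁻¹) * tau (h' : PG F) := by group
    rw [h1, ← hy', ← hc2, map_mul, map_mul, map_inv]
    group
  have hin := centralizer_le_range h2 (x₀ : PG F) hx3 hx1 _ hcent
  apply hmL
  have h1 : m = tau (h' : PG F) * ((tau (h' : PG F))⁻¹ * m) := by group
  rw [h1]
  exact Subgroup.mul_mem _ ⟨_, rfl⟩ hin

end char3

end Cfsg.Agent.Helper41.PGLMax
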