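import Cfsg.Agent.Lib.Helper41.PGLBase

/-!
# Maximal subgroups of `PGL₂(q)`, `q` odd: no maximal `A₄`, `A₅` outside `PSL₂(q)`

A group generated by elements of order three lies in every subgroup of index two.
-/

set_option autoImplicit false
set_option linter.unusedSectionVars false
set_option linter.unusedVariables false
set_option linter.style.haveILetI false

namespace Cfsg.Agent.Helper41.PGLMax

open Matrix Cfsg.Agent.Helper41 Cfsg.Agent.Helper41.PMax

section cubes

variable {G T : Type*} [Group G] [Group T]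

/-- a subgroup all of whose elements are products of two elements of order dividing three lies in
every subgroup of index two -/
theorem le_of_cubes (L : Subgroup G) (hL : L.index = 2) (M : Subgroup G) (e : M ≃* T)
    (h : ∀ t : T, ∃ a : T, a ^ 3 = 1 ∧ (a⁻¹ * t) ^ 3 = 1) : M ≤ L := by
  have hcube : ∀ x : G, x ^ 3 = 1 → x ∈ L := by
    intro x hx
    have : x = (x * x) * (x * x) := by
      calc x = x ^ 3 * x := by rw [hx, one_mul]
        _ = (x * x) * (x * x) := by rw [pow_succ, pow_two]; group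
    rw [this]
    exact sq_mem_of_index_two' L hL _
  intro m hm
  obtain ⟨a, ha, hb⟩ := h (e ⟨m, hm⟩)
  have h1 : ((e.symm a : M) : G) ^ 3 = 1 := by
    rw [← Subgroup.coe_pow, ← map_pow, ha, map_one, Subgroup.coe_one]
  have h2 : ((e.symm (a⁻¹ * e ⟨m, hm⟩) : M) : G) ^ 3 = 1 := by
    rw [← Subgroup.coe_pow, ← map_pow, hb, map_one, Subgroup.coe_one]
  have h3 : m = ((e.symm a : M) : G) * ((e.symm (a⁻¹ * e ⟨m, hm⟩) : M) : G) := by
    rw [← Subgroup.coe_mul, ← map_mul, mul_inv_cancel_left, e.symm_apply_apply]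
  rw [h3]
  exact L.mul_mem (hcube _ h1) (hcube _ h2)

end cubes

section perms

set_option maxRecDepth 100000 in
theorem perm4_cubes : ∀ τ : Equiv.Perm (Fin 4), Equiv.Perm.sign τ = 1 →
    ∃ a : Equiv.Perm (Fin 4), Equiv.Perm.sign a = 1 ∧ a ^ 3 = 1 ∧ (a⁻¹ * τ) ^ 3 = 1 := by
  decide +kernel

set_option maxRecDepth 100000 in
theorem perm5_cubes : ∀ τ : Equiv.Perm (Fin 5), Equiv.Perm.sign τ = 1 →
    ∃ a : Equiv.Perm (Fin 5), Equiv.Perm.sign a = 1 ∧ a ^ 3 = 1 ∧ (a⁻¹ * τ) ^ 3 = 1 := by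
  decide +kernel

theorem alt_cubes {n : ℕ} (h : ∀ τ : Equiv.Perm (Fin n), Equiv.Perm.sign τ = 1 →
    ∃ a : Equiv.Perm (Fin n), Equiv.Perm.sign a = 1 ∧ a ^ 3 = 1 ∧ (a⁻¹ * τ) ^ 3 = 1)
    (t : alternatingGroup (Fin n)) :
    ∃ a : alternatingGroup (Fin n), a ^ 3 = 1 ∧ (a⁻¹ * t) ^ 3 = 1 := by
  obtain ⟨a, ha, h1, h2⟩ := h t.1 (Equiv.Perm.mem_alternatingGroup.mp t.2)
  refine ⟨⟨a, Equiv.Perm.mem_alternatingGroup.mpr ha⟩, ?_, ?_⟩
  · apply Subtype.ext
    exact h1
  · apply Subtype.ext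
    exact h2

end perms

section excl

variable {F : Type*} [Field F] [Fintype F]

/-- a subgroup of `PGL₂(F)` isomorphic to `A₄` lies in `PSL₂(F)` -/
theorem alt4_le_range (hodd : Odd (Fintype.card F)) (M : Subgroup (GG F))
    (e : M ≃* alternatingGroup (Fin 4)) : M ≤ (tau (F := F)).range :=
  le_of_cubes _ (index_range_tau hodd) M e (alt_cubes perm4_cubes)

/-- a subgroup of `PGL₂(F)` isomorphic to `A₅` lies in `PSL₂(F)` -/
theorem alt5_le_range (hodd : Odd (Fintype.card F)) (M : Subgroup (GG F))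
    (e : M ≃* alternatingGroup (Fin 5)) : M ≤ (tau (F := F)).range :=
  le_of_cubes _ (index_range_tau hodd) M e (alt_cubes perm5_cubes)

end excl

end Cfsg.Agent.Helper41.PGLMax
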