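import Cfsg.Agent.Lib.Helper41.PMaxA5
import Cfsg.Agent.S0805

/-!
# Maximal subgroups of `PGL₂(q)`, `q` odd: basic set-up

`G = PGL₂(F)`, `L` the image of `PSL₂(F)` (of index two), `M` a coatom of `G` not containing `L`.
-/

set_option autoImplicit false
set_option linter.unusedSectionVars false
set_option linter.unusedVariables false
set_option linter.style.haveILetI false

namespace Cfsg.Agent.Helper41.PGLMax

open Matrix Cfsg.Agent.Helper98.Ident Cfsg.Agent.Helper98.Dickson Cfsg.Agent.Helper41
  Cfsg.Agent.Helper41.PMax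

/-- `PGL₂(F)` -/
abbrev GG (F : Type*) [Field F] := Matrix.ProjGenLinGroup (Fin 2) F

section index2

variable {G : Type*} [Group G]

/-- a subgroup not contained in a subgroup `L` of index two meets `L` in a subgroup of index two -/
theorem card_eq_two_mul_inf [Finite G] (L : Subgroup G) (hL : L.index = 2) (N : Subgroup G)
    (hN : ¬ N ≤ L) : Nat.card N = 2 * Nat.card (N ⊓ L : Subgroup G) := by
  haveI : L.Normal := Subgroup.normal_of_index_eq_two hL
  have h1 : L.relIndex N ∣ 2 := hL ▸ Subgroup.relIndex_dvd_index_of_normal L N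
  have h2 : L.relIndex N ≠ 1 := fun h => hN (Subgroup.relIndex_eq_one.mp h)
  have h3 : L.relIndex N = 2 := by
    rcases (Nat.dvd_prime Nat.prime_two).mp h1 with h | h
    · exact absurd h h2
    · exact h
  have h4 := Subgroup.relIndex_mul_relIndex ⊥ (N ⊓ L) N bot_le inf_le_left
  rw [Subgroup.relIndex_bot_left, Subgroup.relIndex_bot_left, Subgroup.inf_relIndex_left, h3] at h4
  omega

/-- a coatom not containing `L` (of index two) is not contained in `L` -/
theorem not_le_of_coatom (L : Subgroup G) (hL : L.index = 2) (M : Subgroup G) (hM : IsCoatom M)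
    (hML : ¬ L ≤ M) : ¬ M ≤ L := by
  intro h
  have hne : L ≠ ⊤ := by
    intro h'
    rw [h', Subgroup.index_top] at hL
    omega
  exact hML (eq_of_coatom_le hM h hne).ge

theorem sq_mem_of_index_two' (L : Subgroup G) (hL : L.index = 2) (a : G) : a * a ∈ L := by
  have := Subgroup.sq_mem_of_index_two hL a
  rwa [pow_two] at this

end index2

section setup

variable {F : Type*} [Field F]

/-- the embedding `PSL₂(F) → PGL₂(F)` -/
noncomputable abbrev tau : PG F →* GG F := Matrix.ProjectiveSpecialLinearGroup.toPGL

theorem tau_injective : Function.Injective (tau (F := F)) :=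
  Matrix.ProjectiveSpecialLinearGroup.toPGL_injective

theorem tau_mk (g : S2 F) : tau (QuotientGroup.mk g : PG F) =
    Matrix.ProjGenLinGroup.mk (Matrix.SpecialLinearGroup.toGL g) := rfl

/-- the image of `SL₂(F)` in `PGL₂(F)` is the image of `PSL₂(F)` -/
theorem range_eq : (Matrix.ProjGenLinGroup.mk.comp Matrix.SpecialLinearGroup.toGL).range =
    (tau (F := F)).range := by
  ext x
  constructor
  · rintro ⟨g, rfl⟩
    exact ⟨QuotientGroup.mk g, rfl⟩
  · rintro ⟨y, rfl⟩
    obtain ⟨g, rfl⟩ := QuotientGroup.mk_surjective y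
    exact ⟨g, rfl⟩

variable [Fintype F]

theorem finite_GG : Finite (GG F) := by
  haveI : Finite (GL (Fin 2) F) := inferInstance
  exact inferInstanceAs (Finite (GL (Fin 2) F ⧸ _))

theorem card_GG (hodd : Odd (Fintype.card F)) :
    Nat.card (GG F) = 2 * Nat.card (PG F) := by
  have h1 := Cfsg.Agent.S0805.card_PGL2 (K := F)
  have h2 : Nat.card (PG F) * 2 = (Fintype.card F ^ 2 - 1) * Fintype.card F :=
    Cfsg.Agent.Helper98.PSL2Card.card_psl2_odd (F := F) rfl hodd
  have hq : 1 < Fintype.card F := Fintype.one_lt_card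
  have h3 : Fintype.card F ^ 2 - Fintype.card F = Fintype.card F * (Fintype.card F - 1) := by
    rw [pow_two, Nat.mul_sub, mul_one]
  rw [h3] at h1
  have h4 : Nat.card (GG F) * (Fintype.card F - 1) =
      (2 * Nat.card (PG F)) * (Fintype.card F - 1) := by
    rw [h1, mul_comm 2, h2]; ring
  exact Nat.eq_of_mul_eq_mul_right (by omega) h4

theorem card_range_tau : Nat.card (tau (F := F)).range = Nat.card (PG F) :=
  (Nat.card_congr (MonoidHom.ofInjective tau_injective).toEquiv).symm

theorem index_range_tau (hodd : Odd (Fintype.card F)) : (tau (F := F)).range.index = 2 := by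
  haveI := finite_GG (F := F)
  haveI := finite_PG (F := F)
  have h1 := Subgroup.card_mul_index (tau (F := F)).range
  rw [card_range_tau, card_GG hodd] at h1
  have hpos : 0 < Nat.card (PG F) := Nat.card_pos
  have : Nat.card (PG F) * (tau (F := F)).range.index = Nat.card (PG F) * 2 := by
    rw [h1]; ring
  exact Nat.eq_of_mul_eq_mul_left hpos this

/-- `M ∩ L`, pulled back to `PSL₂(F)` -/
theorem map_comap_tau (M : Subgroup (GG F)) :
    (M.comap tau).map tau = M ⊓ (tau (F := F)).range := by
  rw [Subgroup.map_comap_eq]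
  exact inf_comm _ _

theorem card_comap_tau (M : Subgroup (GG F)) :
    Nat.card (M.comap (tau (F := F))) = Nat.card (M ⊓ (tau (F := F)).range : Subgroup (GG F)) := by
  rw [← map_comap_tau]
  exact Nat.card_congr (Subgroup.equivMapOfInjective _ _ tau_injective).toEquiv

/-- `|M| = 2 |M ∩ L|` -/
theorem card_eq_two_mul_comap (hodd : Odd (Fintype.card F)) (M : Subgroup (GG F))
    (hM : ¬ M ≤ (tau (F := F)).range) :
    Nat.card M = 2 * Nat.card (M.comap (tau (F := F))) := by
  haveI := finite_GG (F := F)
  rw [card_comap_tau]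
  exact card_eq_two_mul_inf _ (index_range_tau hodd) M hM

end setup

end Cfsg.Agent.Helper41.PGLMax
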