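import Cfsg.Agent.Lib.Helper41.PGLRat

/-!
# Maximal subgroups of `PGL₂(q)`: the Borel case
-/

set_option autoImplicit false
set_option linter.unusedSectionVars false
set_option linter.unusedVariables false
set_option linter.style.haveILetI false

namespace Cfsg.Agent.Helper41.PGLMax

open Matrix Cfsg.Agent.Helper98.Ident Cfsg.Agent.Helper98.Dickson Cfsg.Agent.Helper41
  Cfsg.Agent.Helper41.PMax

variable {F : Type*} [Field F]

/-- upper triangular invertible matrices -/
def borelGL : Subgroup (GL (Fin 2) F) where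
  carrier := {g | g.1 1 0 = 0}
  one_mem' := by simp
  mul_mem' := by
    intro a b ha hb
    change (a * b).1 1 0 = 0
    change a.1 1 0 = 0 at ha
    change b.1 1 0 = 0 at hb
    rw [Units.val_mul, Matrix.mul_apply, Fin.sum_univ_two, ha, hb]
    ring
  inv_mem' := by
    intro a ha
    change (a⁻¹).1 1 0 = 0
    change a.1 1 0 = 0 at ha
    rw [gl_inv_eq]
    simp [ha]

/-- the Borel subgroup of `PGL₂(F)` -/
def BG : Subgroup (GG F) := (borelGL (F := F)).map Matrix.ProjGenLinGroup.mk

theorem mk_mem_BG_iff (g : GL (Fin 2) F) :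
    Matrix.ProjGenLinGroup.mk g ∈ BG (F := F) ↔ g.1 1 0 = 0 := by
  constructor
  · rintro ⟨g', hg', hgg⟩
    change g'.1 1 0 = 0 at hg'
    obtain ⟨u, hu⟩ := Matrix.ProjGenLinGroup.mk_eq_mk_iff.mp hgg
    rw [← hu]
    simp [Matrix.mul_apply, Matrix.scalar_apply, Matrix.diagonal_apply, hg']
  · intro h
    exact ⟨g, h, rfl⟩

theorem comap_BG : (BG (F := F)).comap tau = borelP F := by
  ext y
  obtain ⟨h, rfl⟩ := QuotientGroup.mk_surjective y
  rw [Subgroup.mem_comap, tau_mk, mk_mem_BG_iff, mk_mem_borelP_iff]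
  rfl

variable [Fintype F] (p : ℕ) [Fact p.Prime] [CharP F p]

theorem BG_ne_top : BG (F := F) ≠ ⊤ := by
  intro h
  apply borelP_ne_top (F := F)
  rw [← comap_BG, h]
  rfl

/-- an upper triangular subgroup of order divisible by `p` contains a nontrivial `uu b` -/
theorem exists_uu_mem (hp2 : p ≠ 2) (H : Subgroup (PG F)) (hpH : p ∣ Nat.card H)
    (hB : ∀ g ∈ pre H, g.1 1 0 = 0) : ∃ b : F, b ≠ 0 ∧ uu b ∈ pre H := by
  haveI := finite_PG (F := F)
  have hpp : p.Prime := Fact.out
  obtain ⟨y, hy⟩ := exists_prime_orderOf_dvd_card' (G := H) p hpH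
  obtain ⟨h, hh⟩ := QuotientGroup.mk_surjective (y : PG F)
  have hmem : h ∈ pre H := by
    change (QuotientGroup.mk h : PG F) ∈ H
    rw [hh]; exact y.2
  have h10 := hB h hmem
  have hord : orderOf (QuotientGroup.mk h : PG F) = p := by
    rw [hh, Subgroup.orderOf_coe, hy]
  have hne1 : (QuotientGroup.mk h : PG F) ≠ 1 := by
    intro h1
    rw [h1, orderOf_one] at hord
    exact hpp.ne_one hord.symm
  obtain ⟨n, -, hn⟩ := FiniteField.card F p
  have hpq : p ∣ Fintype.card F := by rw [hn]; exact dvd_pow_self p n.ne_zero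
  have hq1 : 1 ≤ Fintype.card F := Fintype.card_pos
  have ht : h.1.trace ^ 2 = 4 := by
    by_contra ht
    rcases semisimple_pow p h.1 h.2 ht with h' | h'
    · have h1 := orderOf_dvd_of_pow_eq_one ((psl2_mk_pow_eq_one_iff h _).mpr h')
      rw [hord] at h1
      have h2 : p ∣ Fintype.card F - 1 :=
        h1.trans (Nat.div_dvd_of_dvd (Nat.gcd_dvd_right _ _))
      have h3 : p ∣ Fintype.card F - (Fintype.card F - 1) := Nat.dvd_sub hpq h2
      have h4 : Fintype.card F - (Fintype.card F - 1) = 1 := by omega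
      rw [h4] at h3
      exact hpp.one_lt.ne' (Nat.dvd_one.mp h3)
    · have h1 := orderOf_dvd_of_pow_eq_one ((psl2_mk_pow_eq_one_iff h _).mpr h')
      rw [hord] at h1
      have hd : Nat.gcd 2 (Fintype.card F - 1) ∣ Fintype.card F + 1 := by
        have h5 : Nat.gcd 2 (Fintype.card F - 1) ∣ 2 := Nat.gcd_dvd_left _ _
        have h6 : Nat.gcd 2 (Fintype.card F - 1) ∣ Fintype.card F - 1 := Nat.gcd_dvd_right _ _
        have h7 : Fintype.card F + 1 = (Fintype.card F - 1) + 2 := by omega
        rw [h7]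
        exact Nat.dvd_add h6 h5
      have h2 : p ∣ Fintype.card F + 1 := h1.trans (Nat.div_dvd_of_dvd hd)
      have h3 : p ∣ Fintype.card F + 1 - Fintype.card F := Nat.dvd_sub h2 hpq
      have h4 : Fintype.card F + 1 - Fintype.card F = 1 := by omega
      rw [h4] at h3
      exact hpp.one_lt.ne' (Nat.dvd_one.mp h3)
  have hdet : h.1 0 0 * h.1 1 1 = 1 := by
    have := det_eq h
    rw [h10] at this
    linear_combination this
  rw [Matrix.trace_fin_two] at ht
  have heq : h.1 0 0 = h.1 1 1 := by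
    have h0 : (h.1 0 0 - h.1 1 1) ^ 2 = 0 := by linear_combination ht - 4 * hdet
    have := pow_eq_zero_iff (two_ne_zero) |>.mp h0
    linear_combination this
  have hsq : (h.1 0 0 - 1) * (h.1 0 0 + 1) = 0 := by
    rw [← heq] at hdet
    linear_combination hdet
  rcases mul_eq_zero.mp hsq with h0 | h0
  · have h00 : h.1 0 0 = 1 := by linear_combination h0
    have h11 : h.1 1 1 = 1 := by rw [← heq, h00]
    have hu : h = uu (h.1 0 1) := by
      apply ext2 <;> simp [h00, h11, h10]
    refine ⟨h.1 0 1, ?_, hu ▸ hmem⟩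
    intro hb
    apply hne1
    rw [hu, hb, uu_zero]
    rfl
  · have h00 : h.1 0 0 = -1 := by linear_combination h0
    have h11 : h.1 1 1 = -1 := by rw [← heq, h00]
    have hu : -h = uu (-h.1 0 1) := by
      apply ext2 <;> simp [h00, h11, h10, Matrix.SpecialLinearGroup.coe_neg]
    have hmem' : -h ∈ pre H := by
      change (QuotientGroup.mk (-h) : PG F) ∈ H
      rw [psl2_mk_neg]
      exact hmem
    refine ⟨-h.1 0 1, ?_, hu ▸ hmem'⟩
    intro hb
    apply hne1
    rw [← psl2_mk_neg, hu, hb, uu_zero]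
    rfl

/-- the Borel case: `M ∩ PSL₂(F)` is upper triangular of order divisible by `p` -/
theorem borel_case_gl (hp2 : p ≠ 2) (M : Subgroup (GG F)) (hM : IsCoatom M)
    (hML : ¬ M ≤ (tau (F := F)).range) (hpH : p ∣ Nat.card (M.comap (tau (F := F))))
    (hB : ∀ g ∈ pre (M.comap (tau (F := F))), g.1 1 0 = 0) :
    Nat.card M = Fintype.card F * (Fintype.card F - 1) := by
  have hodd : Odd (Fintype.card F) := odd_card_of_char_ne_two p hp2
  obtain ⟨b, hb0, hb⟩ := exists_uu_mem p hp2 _ hpH hB
  have hle : M ≤ BG (F := F) := by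
    intro m hm
    induction m using Matrix.ProjGenLinGroup.induction_on with | mk g =>
    rw [mk_mem_BG_iff]
    have h1 := hB _ (conj_mem_pre hodd M g hm (uu b) hb)
    rw [conjGL_uu] at h1
    simp only [Matrix.of_apply, Matrix.cons_val_zero, Matrix.cons_val_one, Matrix.cons_val',
      Matrix.cons_val_fin_one] at h1
    have hd := gl_det_ne_zero g
    have h2 : b * g.1 1 0 ^ 2 = 0 := by
      have h3 : b * g.1 1 0 ^ 2 / g.1.det = 0 := neg_eq_zero.mp h1
      rcases div_eq_zero_iff.mp h3 with h4 | h4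
      · exact h4
      · exact absurd h4 hd
    rcases mul_eq_zero.mp h2 with h3 | h3
    · exact absurd h3 hb0
    · exact pow_eq_zero_iff (two_ne_zero) |>.mp h3
  have heq := eq_of_coatom_le hM hle BG_ne_top
  rw [card_eq_two_mul_comap hodd M hML, heq, comap_BG]
  exact card_borelP_odd hodd

end Cfsg.Agent.Helper41.PGLMax
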