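import Cfsg.Agent.Lib.Helper41.PGLBase

/-!
# Maximal subgroups of `PGL₂(q)`: conjugation by `GL₂` on `SL₂` and on `PGL₂`
-/

set_option autoImplicit false
set_option linter.unusedSectionVars false
set_option linter.unusedVariables false
set_option linter.style.haveILetI false

namespace Cfsg.Agent.Helper41.PGLMax

open Matrix Cfsg.Agent.Helper98.Ident Cfsg.Agent.Helper98.Dickson Cfsg.Agent.Helper41
  Cfsg.Agent.Helper41.PMax

variable {F : Type*} [Field F]

theorem toGL_conjGL (g : GL (Fin 2) F) (h : S2 F) :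
    Matrix.SpecialLinearGroup.toGL (conjGL g h) = g * Matrix.SpecialLinearGroup.toGL h * g⁻¹ := by
  apply Units.ext
  simp [conjGL_coe]

/-- conjugation by `GL₂` on `PSL₂` is the restriction of an inner automorphism of `PGL₂` -/
theorem tau_conjGL (g : GL (Fin 2) F) (h : S2 F) :
    tau (QuotientGroup.mk (conjGL g h) : PG F) =
      Matrix.ProjGenLinGroup.mk g * tau (QuotientGroup.mk h : PG F) *
        (Matrix.ProjGenLinGroup.mk g)⁻¹ := by
  rw [tau_mk, tau_mk, toGL_conjGL, map_mul, map_mul, map_inv]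

theorem tau_bar_conjGL (g : GL (Fin 2) F) (y : PG F) :
    tau (bar (conjGL g) y) = Matrix.ProjGenLinGroup.mk g * tau y * (Matrix.ProjGenLinGroup.mk g)⁻¹ := by
  obtain ⟨h, rfl⟩ := QuotientGroup.mk_surjective y
  rw [bar_mk, tau_conjGL]

/-- an element of `PGL₂` normalising (the image of) a subgroup `W` of `PSL₂` acts on the preimage of
`W` in `SL₂` -/
theorem conj_mem_pre_of_normalizer (W : Subgroup (PG F)) (g : GL (Fin 2) F)
    (hg : Matrix.ProjGenLinGroup.mk g ∈
      Subgroup.normalizer ((W.map tau : Subgroup (GG F)) : Set (GG F)))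
    (h : S2 F) (hh : h ∈ pre W) : conjGL g h ∈ pre W := by
  have h1 : tau (QuotientGroup.mk h : PG F) ∈ W.map tau := ⟨_, hh, rfl⟩
  have h2 := (Subgroup.mem_normalizer_iff.mp hg _).mp h1
  rw [← tau_conjGL] at h2
  obtain ⟨w, hw, hw2⟩ := h2
  have h3 := tau_injective hw2
  change (QuotientGroup.mk (conjGL g h) : PG F) ∈ W
  rw [← h3]
  exact hw

/-- a subgroup of `PGL₂` normalises its intersection with `PSL₂` -/
theorem le_normalizer_comap [Fintype F] (hodd : Odd (Fintype.card F)) (M : Subgroup (GG F)) :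
    M ≤ Subgroup.normalizer
      ((((M.comap (tau (F := F))).map tau : Subgroup (GG F))) : Set (GG F)) := by
  rw [map_comap_tau]
  haveI : (tau (F := F)).range.Normal := Subgroup.normal_of_index_eq_two (index_range_tau hodd)
  intro m hm
  rw [Subgroup.mem_normalizer_iff]
  intro x
  constructor
  · rintro ⟨hx1, hx2⟩
    exact ⟨M.mul_mem (M.mul_mem hm hx1) (M.inv_mem hm),
      Subgroup.Normal.conj_mem inferInstance x hx2 m⟩
  · rintro ⟨hx1, hx2⟩
    constructor
    · have : x = m⁻¹ * (m * x * m⁻¹) * m := by group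
      rw [this]
      exact M.mul_mem (M.mul_mem (M.inv_mem hm) hx1) hm
    · have : x = m⁻¹ * (m * x * m⁻¹) * m⁻¹⁻¹ := by group
      rw [this]
      exact Subgroup.Normal.conj_mem inferInstance _ hx2 m⁻¹

/-- elements of `M` act on the preimage of `M ∩ PSL₂` -/
theorem conj_mem_pre [Fintype F] (hodd : Odd (Fintype.card F)) (M : Subgroup (GG F))
    (g : GL (Fin 2) F) (hg : Matrix.ProjGenLinGroup.mk g ∈ M) (h : S2 F)
    (hh : h ∈ pre (M.comap (tau (F := F)))) : conjGL g h ∈ pre (M.comap (tau (F := F))) :=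
  conj_mem_pre_of_normalizer _ g (le_normalizer_comap hodd M hg) h hh

section transport

/-- conjugating `M` by `mk g` conjugates `M ∩ PSL₂` by `bar (conjGL g)` -/
theorem comap_map_conj (M : Subgroup (GG F)) (g : GL (Fin 2) F) :
    (M.map (MulAut.conj (Matrix.ProjGenLinGroup.mk g)).toMonoidHom).comap (tau (F := F)) =
      (M.comap (tau (F := F))).map (bar (conjGL g)).toMonoidHom := by
  ext y
  rw [Subgroup.mem_comap, Subgroup.mem_map_equiv, Subgroup.mem_map_equiv, Subgroup.mem_comap]
  have h1 : (MulAut.conj (Matrix.ProjGenLinGroup.mk g)).symm (tau y) =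
      tau ((bar (conjGL g)).symm y) := by
    have h2 := tau_bar_conjGL g ((bar (conjGL g)).symm y)
    rw [MulEquiv.apply_symm_apply] at h2
    rw [h2]
    simp [MulAut.conj_symm_apply]
    group
  rw [h1]

end transport

end Cfsg.Agent.Helper41.PGLMax
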