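import Cfsg.Agent.Lib.Helper41.PGLBase

/-!
# `PGL₂(q) ≤ PSL₂(q²)` and the subgroups of `PGL₂(q)` of order prime to `p`
-/

set_option autoImplicit false
set_option linter.unusedSectionVars false
set_option linter.unusedVariables false
set_option linter.style.haveILetI false

namespace Cfsg.Agent.Helper41.PGLMax

open Matrix Cfsg.Agent.Helper98.Ident Cfsg.Agent.Helper98.Dickson Cfsg.Agent.Helper41
  Cfsg.Agent.Helper41.PMax Cfsg.Agent.S0805

variable {F : Type*} [Field F] [Fintype F] (p : ℕ) [Fact p.Prime] [CharP F p]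

/-- `PGL₂(F)` embeds in `PSL₂(K)` for a finite field `K` of the same characteristic -/
theorem exists_embedding (hodd : Odd (Fintype.card F)) :
    ∃ (K : Type) (_ : Field K) (_ : Fintype K) (_ : CharP K p) (ι : GG F →* PG K),
      Function.Injective ι := by
  classical
  obtain ⟨n, -, hn⟩ := FiniteField.card F p
  haveI : Fintype (GaloisField p (2 * n)) := Fintype.ofFinite _
  have hcard : Fintype.card F ^ 2 = Fintype.card (GaloisField p (2 * n)) := by
    rw [← Nat.card_eq_fintype_card (α := GaloisField p (2 * n)),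
      GaloisField.card p (2 * n) (by have := n.pos; omega), hn, ← pow_mul, mul_comm]
  obtain ⟨φ⟩ := exists_ringHom (K := F) (F := GaloisField p (2 * n)) 2 hcard
  have hoddK : Odd (Fintype.card (GaloisField p (2 * n))) := by
    rw [← hcard]; exact hodd.pow
  have hsq : ∀ x : F, x ≠ 0 → IsSquare (φ x) := fun x hx =>
    isSquare_of_even φ 2 even_two hcard hoddK x hx
  have hle := range_pglMap_le φ hsq
  let f1 : GG F →* (tau (F := GaloisField p (2 * n))).range :=
    (pglMap φ).codRestrict _ (fun x => hle ⟨x, rfl⟩)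
  let e : PG (GaloisField p (2 * n)) ≃* (tau (F := GaloisField p (2 * n))).range :=
    MonoidHom.ofInjective tau_injective
  refine ⟨GaloisField p (2 * n), inferInstance, inferInstance, inferInstance,
    e.symm.toMonoidHom.comp f1, ?_⟩
  intro x y hxy
  have h1 : f1 x = f1 y := e.symm.injective hxy
  have h2 : pglMap φ x = pglMap φ y := congrArg Subtype.val h1
  exact pglMap_injective φ h2

/-- subgroups of `PGL₂(F)` of order prime to `p` -/
theorem type_of_pprime (hodd : Odd (Fintype.card F)) (M : Subgroup (GG F))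
    (hp : ¬ p ∣ Nat.card M) :
    IsCyclic M ∨ (∃ n, 0 < n ∧ Nonempty (M ≃* DihedralGroup n)) ∨
      Nonempty (M ≃* alternatingGroup (Fin 4)) ∨ Nonempty (M ≃* Equiv.Perm (Fin 4)) ∨
      Nonempty (M ≃* alternatingGroup (Fin 5)) := by
  obtain ⟨K, _, _, _, ι, hι⟩ := exists_embedding p hodd
  let e0 : M ≃* M.map ι := Subgroup.equivMapOfInjective M ι hι
  have hp' : ¬ p ∣ Nat.card (M.map ι) := by
    rw [← Nat.card_congr e0.toEquiv]; exact hp
  rcases dickson_pprime p (M.map ι) hp' with h | ⟨n, hn, ⟨e⟩⟩ | ⟨⟨e⟩⟩ | ⟨⟨e⟩⟩ | ⟨⟨e⟩⟩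
  · left
    haveI := h
    exact isCyclic_of_surjective e0.symm e0.symm.surjective
  · right; left; exact ⟨n, hn, ⟨e0.trans e⟩⟩
  · right; right; left; exact ⟨e0.trans e⟩
  · right; right; right; left; exact ⟨e0.trans e⟩
  · right; right; right; right; exact ⟨e0.trans e⟩

end Cfsg.Agent.Helper41.PGLMax
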