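import Cfsg.Agent.Lib.Helper41.PGLTorus
import Cfsg.Agent.Lib.Helper41.PGLEmbed

/-!
# Maximal subgroups of `PGL₂(q)`, `q` odd: cyclic and dihedral subgroups of order prime to `p`
-/

set_option autoImplicit false
set_option linter.unusedSectionVars false
set_option linter.unusedVariables false
set_option linter.style.haveILetI false

namespace Cfsg.Agent.Helper41.PGLMax

open Matrix Cfsg.Agent.Helper98.Ident Cfsg.Agent.Helper98.Dickson Cfsg.Agent.Helper41
  Cfsg.Agent.Helper41.PMax Cfsg.Agent.Helper98.Torus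

variable {F : Type*} [Field F] [Fintype F] (p : ℕ) [Fact p.Prime] [CharP F p]

theorem card_GG_eq (hodd : Odd (Fintype.card F)) :
    Nat.card (GG F) = (Fintype.card F ^ 2 - 1) * Fintype.card F := by
  have h2 : Nat.card (PG F) * 2 = (Fintype.card F ^ 2 - 1) * Fintype.card F :=
    Cfsg.Agent.Helper98.PSL2Card.card_psl2_odd (F := F) rfl hodd
  rw [card_GG hodd, mul_comm, h2]

theorem eight_dvd_card_GG (hodd : Odd (Fintype.card F)) : 8 ∣ Nat.card (GG F) := by
  rw [card_GG_eq hodd]
  apply Dvd.dvd.mul_right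
  obtain ⟨j, hj⟩ := hodd
  rw [hj]
  have h1 : (2 * j + 1) ^ 2 - 1 = 4 * (j * (j + 1)) := by
    apply Nat.sub_eq_of_eq_add; ring
  rw [h1]
  obtain ⟨t, ht⟩ := Nat.even_mul_succ_self j
  rw [ht]
  exact ⟨t, by ring⟩

/-- a maximal subgroup of `PGL₂(q)` which is a `2`-group has order at least `8` -/
theorem eight_le_of_two_group (hodd : Odd (Fintype.card F)) (h5 : 5 ≤ Fintype.card F)
    (M : Subgroup (GG F)) (hM : IsCoatom M) (h2g : IsPGroup 2 M) : 8 ≤ Nat.card M := by
  haveI := finite_GG (F := F)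
  haveI : Fact (Nat.Prime 2) := ⟨Nat.prime_two⟩
  obtain ⟨Q, hQ⟩ := h2g.exists_le_sylow
  have hQne : (Q : Subgroup (GG F)) ≠ ⊤ := by
    intro h
    obtain ⟨k, hk⟩ := IsPGroup.iff_card.mp Q.2
    rw [h, Subgroup.card_top, card_GG_eq hodd] at hk
    have hdvd : Fintype.card F ∣ 2 ^ k := ⟨Fintype.card F ^ 2 - 1, by rw [← hk]; ring⟩
    obtain ⟨i, -, hi⟩ := (Nat.dvd_prime_pow Nat.prime_two).mp hdvd
    rcases Nat.eq_zero_or_pos i with h0 | h0
    · rw [h0, pow_zero] at hi; omega
    · have : Even (Fintype.card F) := by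
        rw [hi]; exact (Nat.even_pow.mpr ⟨even_two, h0.ne'⟩)
      exact (Nat.not_even_iff_odd.mpr hodd) this
  have heq := eq_of_coatom_le hM hQ hQne
  have h8 : 2 ^ 3 ∣ Nat.card (Q : Subgroup (GG F)) :=
    Q.pow_dvd_card_of_pow_dvd_card (n := 3) (by norm_num; exact eight_dvd_card_GG hodd)
  rw [← heq] at h8
  exact Nat.le_of_dvd Nat.card_pos (by simpa using h8)

theorem not_small (hodd : Odd (Fintype.card F)) (h5 : 5 ≤ Fintype.card F)
    (M : Subgroup (GG F)) (hM : IsCoatom M) :
    Nat.card M ≠ 1 ∧ Nat.card M ≠ 2 ∧ Nat.card M ≠ 4 := by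
  haveI : Fact (Nat.Prime 2) := ⟨Nat.prime_two⟩
  refine ⟨?_, ?_, ?_⟩
  · intro h
    have := eight_le_of_two_group hodd h5 M hM (IsPGroup.of_card (n := 0) (by rw [h]; norm_num))
    omega
  · intro h
    have := eight_le_of_two_group hodd h5 M hM (IsPGroup.of_card (n := 1) (by rw [h]; norm_num))
    omega
  · intro h
    have := eight_le_of_two_group hodd h5 M hM (IsPGroup.of_card (n := 2) (by rw [h]; norm_num))
    omega

/-- pulling back a normalizer along `PSL₂ → PGL₂` -/
theorem comap_normalizer_tau (V' : Subgroup (PG F)) :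
    (Subgroup.normalizer ((V'.map tau : Subgroup (GG F)) : Set (GG F))).comap tau =
      Subgroup.normalizer (V' : Set (PG F)) := by
  have h1 := Subgroup.comap_normalizer_eq_of_le_range (f := tau (F := F)) (H := V'.map tau)
    (by rintro _ ⟨x, -, rfl⟩; exact ⟨x, rfl⟩)
  rw [h1, Subgroup.comap_map_eq_self_of_injective tau_injective]

/-- a maximal subgroup normalising a Klein four-subgroup of `PSL₂(F)` is its normalizer -/
theorem klein_normalizer_gl (hodd : Odd (Fintype.card F)) (h5 : 5 ≤ Fintype.card F)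
    (M : Subgroup (GG F)) (hM : IsCoatom M) (V' : Subgroup (PG F)) (hV : IsKleinFour V')
    (hle : M ≤ Subgroup.normalizer ((V'.map tau : Subgroup (GG F)) : Set (GG F))) :
    M = Subgroup.normalizer ((V'.map tau : Subgroup (GG F)) : Set (GG F)) ∧
      M.comap tau = Subgroup.normalizer (V' : Set (PG F)) := by
  haveI := finite_PG (F := F)
  have h2 := two_ne_zero_of_odd_card hodd
  have hne : Subgroup.normalizer ((V'.map tau : Subgroup (GG F)) : Set (GG F)) ≠ ⊤ := by
    intro h
    have h1 := comap_normalizer_tau V'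
    rw [h] at h1
    have hC := Cfsg.Agent.Helper98.PSL2Klein.centralizer_eq h2 V' hV
    have hdvd := Cfsg.Agent.Helper98.KleinNorm.card_normalizer_dvd V' hV hC
    rw [← h1] at hdvd
    have h24 := Nat.le_of_dvd (by norm_num) hdvd
    have h60 := card_PG_ge hodd h5
    have : Nat.card ((⊤ : Subgroup (GG F)).comap (tau (F := F))) = Nat.card (PG F) := by
      rw [Subgroup.comap_top, Subgroup.card_top]
    omega
  have heq := eq_of_coatom_le hM hle hne
  exact ⟨heq, by rw [heq, comap_normalizer_tau]⟩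

/-- a subgroup of order four and exponent two is a Klein four-group -/
theorem isKleinFour_of_card_of_sq {G : Type*} [Group G] (V : Subgroup G) (hcard : Nat.card V = 4)
    (hsq : ∀ x ∈ V, x * x = 1) : IsKleinFour V := by
  refine ⟨hcard, ?_⟩
  have hdvd : Monoid.exponent V ∣ 2 := by
    apply Monoid.exponent_dvd_of_forall_pow_eq_one
    intro g
    apply Subtype.ext
    have := hsq g.1 g.2
    simpa [pow_two] using this
  rcases (Nat.dvd_prime Nat.prime_two).mp hdvd with h | h
  · exfalso
    have hsub : Subsingleton V := Monoid.exp_eq_one_iff.mp h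
    have : Nat.card V ≤ 1 := Finite.card_le_one_iff_subsingleton.mpr hsub
    omega
  · exact h

/-- a subgroup of order four of `PSL₂(q)`, `q ≡ ±3 (mod 8)`, is a Klein four-group -/
theorem isKleinFour_of_card_four (h8 : Fintype.card F % 8 = 3 ∨ Fintype.card F % 8 = 5)
    (V : Subgroup (PG F)) (hcard : Nat.card V = 4) : IsKleinFour V := by
  apply isKleinFour_of_card_of_sq V hcard
  intro x hx
  haveI : Finite V := Nat.finite_of_card_ne_zero (by rw [hcard]; norm_num)
  have h4 : x ^ 4 = 1 := by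
    have := pow_card_eq_one' (G := V) (x := ⟨x, hx⟩)
    rw [hcard] at this
    have h' := congrArg Subtype.val this
    simpa using h'
  by_cases h1 : x = 1
  · rw [h1, mul_one]
  · obtain ⟨h, rfl⟩ := QuotientGroup.mk_surjective x
    rcases trace_of_pow_four h h1 h4 with e | e
    · exact psl2_mk_mul_self_of_trace_zero h e
    · exfalso
      have hsq : IsSquare (2 : F) := ⟨h.1.trace, by rw [← e, pow_two]⟩
      rw [FiniteField.isSquare_two_iff] at hsq
      omega

/-- no maximal subgroup of `PGL₂(F)` of order prime to `p` not inside `PSL₂(F)` is cyclic -/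
theorem cyclic_case_gl (hp2 : p ≠ 2) (h5 : 5 ≤ Fintype.card F) (M : Subgroup (GG F))
    (hM : IsCoatom M) (hML : ¬ M ≤ (tau (F := F)).range) (hpM : ¬ p ∣ Nat.card M)
    (hcyc : IsCyclic M) : False := by
  haveI := finite_GG (F := F)
  have hodd : Odd (Fintype.card F) := odd_card_of_char_ne_two p hp2
  have hL2 := index_range_tau hodd
  obtain ⟨g, hg⟩ := IsCyclic.exists_generator (α := M)
  have hord : orderOf (g : GG F) = Nat.card M := by
    rw [Subgroup.orderOf_coe, orderOf_eq_card_of_forall_mem_zpowers hg]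
  obtain ⟨c, hc⟩ : ∃ c : PG F, tau c = (g : GG F) * g := sq_mem_of_index_two' _ hL2 _
  have hcomm : ∀ m ∈ M, m * (g : GG F) = (g : GG F) * m := by
    intro m hm
    obtain ⟨i, hi⟩ := Subgroup.mem_zpowers_iff.mp (hg ⟨m, hm⟩)
    have hm' : m = (g : GG F) ^ i := by
      have := congrArg Subtype.val hi
      rw [Subgroup.coe_zpow] at this
      exact this.symm
    rw [hm']
    exact ((Commute.refl (g : GG F)).zpow_left i).eq
  have hconj : ∀ m ∈ M, m * tau c * m⁻¹ = tau c ∨ m * tau c * m⁻¹ = (tau c)⁻¹ := by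
    intro m hm
    left
    rw [hc]
    have h1 := hcomm m hm
    have h2 : m * (g : GG F) * m⁻¹ = g := by rw [h1]; group
    calc m * ((g : GG F) * g) * m⁻¹ = (m * (g : GG F) * m⁻¹) * (m * (g : GG F) * m⁻¹) := by group
      _ = (g : GG F) * g := by rw [h2]
  obtain ⟨hs1, hs2, hs4⟩ := not_small hodd h5 M hM
  have hc1 : c ≠ 1 := by
    rintro rfl
    rw [map_one] at hc
    have h2 : orderOf (g : GG F) ∣ 2 := orderOf_dvd_of_pow_eq_one (by rw [pow_two, ← hc])
    rw [hord] at h2
    rcases (Nat.dvd_prime Nat.prime_two).mp h2 with h | h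
    · exact hs1 h
    · exact hs2 h
  have hordc : orderOf c = orderOf ((g : GG F) ^ 2) := by
    rw [pow_two, ← hc]
    exact (orderOf_injective tau tau_injective c).symm
  have hcp : ¬ p ∣ orderOf c := by
    intro h
    apply hpM
    rw [← hord]
    exact h.trans (hordc ▸ orderOf_pow_dvd 2)
  obtain ⟨-, -, hcard⟩ := card_of_conj_pm_gl p hp2 h5 M hM hML c hc1 hcp hconj
  have hpow : orderOf c = Nat.card M / Nat.gcd (Nat.card M) 2 := by
    rw [hordc, orderOf_pow, hord]
  have hgcd : Nat.gcd 2 (Fintype.card F - 1) = 2 := by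
    apply Nat.gcd_eq_left
    obtain ⟨j, hj⟩ := hodd
    exact ⟨j, by omega⟩
  have hge : Fintype.card F - 1 ≤ orderOf c := by
    rw [hpow]
    rcases hcard with e | e <;> rw [e]
    · rw [Nat.gcd_mul_right_left, Nat.mul_div_cancel_left _ (by norm_num : 0 < 2)]
    · rw [Nat.gcd_mul_right_left, Nat.mul_div_cancel_left _ (by norm_num : 0 < 2)]
      omega
  obtain ⟨j, hj⟩ := hodd
  rcases psl2_orderOf_dvd p c with h | h | h
  · have hpp : p.Prime := Fact.out
    rcases (Nat.dvd_prime hpp).mp h with e | e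
    · exact hc1 (orderOf_eq_one_iff.mp e)
    · exact hcp (by rw [e])
  · rw [hgcd] at h
    have hpos : 0 < (Fintype.card F - 1) / 2 := by omega
    have := Nat.le_of_dvd hpos h
    omega
  · rw [hgcd] at h
    have hpos : 0 < (Fintype.card F + 1) / 2 := by omega
    have := Nat.le_of_dvd hpos h
    omega

/-- the dihedral maximal subgroups of `PGL₂(F)` not inside `PSL₂(F)` -/
theorem dihedral_case_gl (hp2 : p ≠ 2) (h5 : 5 ≤ Fintype.card F) (M : Subgroup (GG F))
    (hM : IsCoatom M) (hML : ¬ M ≤ (tau (F := F)).range) (hpM : ¬ p ∣ Nat.card M) (n : ℕ)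
    (hn : 0 < n) (e : M ≃* DihedralGroup n) :
    (n = Fintype.card F - 1 ∧ Fintype.card F ≠ 5) ∨ n = Fintype.card F + 1 := by
  haveI := finite_GG (F := F)
  haveI := finite_PG (F := F)
  have hodd : Odd (Fintype.card F) := odd_card_of_char_ne_two p hp2
  have hL2 := index_range_tau hodd
  have hcardM : Nat.card M = 2 * n := by
    rw [Nat.card_congr e.toEquiv, DihedralGroup.nat_card]
  obtain ⟨ρ, hρ⟩ : ∃ ρ : M, ρ = e.symm (DihedralGroup.r 1) := ⟨_, rfl⟩
  obtain ⟨c, hc⟩ : ∃ c : PG F, tau c = (ρ : GG F) * ρ := sq_mem_of_index_two' _ hL2 _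
  have hconjρ : ∀ m ∈ M, m * (ρ : GG F) * m⁻¹ = ρ ∨ m * (ρ : GG F) * m⁻¹ = (ρ : GG F)⁻¹ := by
    intro m hm
    rcases Cfsg.Agent.Helper41.PMax.dih_conj n (e ⟨m, hm⟩) with h | h
    · left
      have : (⟨m, hm⟩ : M) * ρ * (⟨m, hm⟩ : M)⁻¹ = ρ := by
        apply e.injective
        rw [map_mul, map_mul, map_inv, hρ, e.apply_symm_apply, h]
      exact congrArg Subtype.val this
    · right
      have : (⟨m, hm⟩ : M) * ρ * (⟨m, hm⟩ : M)⁻¹ = ρ⁻¹ := by
        apply e.injective
        rw [map_mul, map_mul, map_inv, map_inv, hρ, e.apply_symm_apply, h]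
      exact congrArg Subtype.val this
  have hconj : ∀ m ∈ M, m * tau c * m⁻¹ = tau c ∨ m * tau c * m⁻¹ = (tau c)⁻¹ := by
    intro m hm
    rw [hc]
    have e1 : m * ((ρ : GG F) * ρ) * m⁻¹ = (m * (ρ : GG F) * m⁻¹) * (m * (ρ : GG F) * m⁻¹) := by
      group
    rw [e1]
    rcases hconjρ m hm with h | h <;> rw [h]
    · left; rfl
    · right; rw [_root_.mul_inv_rev]
  obtain ⟨hs1, hs2, hs4⟩ := not_small hodd h5 M hM
  have hordρ : orderOf (ρ : GG F) = n := by
    rw [Subgroup.orderOf_coe, hρ, MulEquiv.orderOf_eq, DihedralGroup.orderOf_r_one]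
  have hc1 : c ≠ 1 := by
    rintro rfl
    rw [map_one] at hc
    have h2 : orderOf (ρ : GG F) ∣ 2 := orderOf_dvd_of_pow_eq_one (by rw [pow_two, ← hc])
    rw [hordρ] at h2
    rcases (Nat.dvd_prime Nat.prime_two).mp h2 with h | h
    · apply hs2; rw [hcardM, h]
    · apply hs4; rw [hcardM, h]
  have hordc : orderOf c = orderOf ((ρ : GG F) ^ 2) := by
    rw [pow_two, ← hc]
    exact (orderOf_injective tau tau_injective c).symm
  have hcp : ¬ p ∣ orderOf c := by
    intro h
    apply hpM
    have h1 : orderOf c ∣ n := by rw [hordc, ← hordρ]; exact orderOf_pow_dvd 2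
    rw [hcardM]
    exact (h.trans h1).mul_left 2
  obtain ⟨heqM, hcomap, hcard⟩ := card_of_conj_pm_gl p hp2 h5 M hM hML c hc1 hcp hconj
  rcases hcard with h | h
  · left
    refine ⟨by omega, ?_⟩
    intro hq5
    have hc4 : Nat.card (M.comap (tau (F := F))) = 4 := by
      have := card_eq_two_mul_comap hodd M hML
      rw [h, hq5] at this
      omega
    have hV := isKleinFour_of_card_four (Or.inr (by rw [hq5])) _ hc4
    have hnorm : M ≤ Subgroup.normalizer
        ((((M.comap (tau (F := F))).map tau : Subgroup (GG F))) : Set (GG F)) := by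
      rw [map_comap_tau]
      haveI : (tau (F := F)).range.Normal := Subgroup.normal_of_index_eq_two hL2
      intro m hm
      rw [Subgroup.mem_normalizer_iff]
      intro x
      constructor
      · rintro ⟨hx1, hx2⟩
        exact ⟨M.mul_mem (M.mul_mem hm hx1) (M.inv_mem hm),
          Subgroup.Normal.conj_mem inferInstance x hx2 m⟩
      · rintro ⟨hx1, hx2⟩
        constructor
        · have : x = m⁻¹ * (m * x * m⁻¹) * m := by group
          rw [this]
          exact M.mul_mem (M.mul_mem (M.inv_mem hm) hx1) hm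
        · have : x = m⁻¹ * (m * x * m⁻¹) * m⁻¹⁻¹ := by group
          rw [this]
          exact Subgroup.Normal.conj_mem inferInstance _ hx2 m⁻¹
    obtain ⟨-, h2⟩ := klein_normalizer_gl hodd h5 M hM _ hV hnorm
    have h12 := Cfsg.Agent.Helper98.KleinNorm.twelve_le_card_normalizer _ hV
      (twelve_mul_card_kleinFour_psl2 (two_ne_zero_of_odd_card hodd))
    rw [← h2, hc4] at h12
    omega
  · right
    omega

end Cfsg.Agent.Helper41.PGLMax
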