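import Cfsg.Agent.Lib.Helper41.PGLRat

/-!
# Maximal subgroups of `PGL₂(q)`: the subfield case
-/

set_option autoImplicit false
set_option linter.unusedSectionVars false
set_option linter.unusedVariables false
set_option linter.style.haveILetI false

namespace Cfsg.Agent.Helper41.PGLMax

open Matrix Cfsg.Agent.Helper98.Ident Cfsg.Agent.Helper98.Dickson Cfsg.Agent.Helper41
  Cfsg.Agent.Helper41.PMax Cfsg.Agent.S0805

variable {F : Type*} [Field F]

/-- `RG k` is the image of `PGL₂` of a model of `k` -/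
theorem RG_fieldRange {K1 : Type*} [Field K1] (φ : K1 →+* F) :
    RG φ.fieldRange = (pglMap φ).range := by
  apply le_antisymm
  · rintro _ ⟨g, ⟨t, ht, htg⟩, rfl⟩
    have h : ∀ i j, ∃ a : K1, φ a = t * g.1 i j := fun i j => RingHom.mem_fieldRange.mp (htg i j)
    choose f hf using h
    have hM : φ.mapMatrix (Matrix.of f) = t • g.1 := by
      ext i j
      simp [hf]
    have hdet : (Matrix.of f).det ≠ 0 := by
      intro h0
      have h1 : (φ.mapMatrix (Matrix.of f)).det = 0 := by
        rw [← RingHom.map_det, h0, map_zero]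
      rw [hM, Matrix.det_smul] at h1
      rcases mul_eq_zero.mp h1 with h | h
      · exact ht (pow_eq_zero_iff (by simp) |>.mp h)
      · exact gl_det_ne_zero g h
    refine ⟨Matrix.ProjGenLinGroup.mk
      (Matrix.GeneralLinearGroup.mkOfDetNeZero (Matrix.of f) hdet), ?_⟩
    rw [pglMap_mk]
    symm
    rw [Matrix.ProjGenLinGroup.mk_eq_mk_iff]
    refine ⟨Units.mk0 t ht, Units.ext ?_⟩
    rw [Units.val_mul, gl_map_val]
    have h2 : ((Matrix.GeneralLinearGroup.mkOfDetNeZero (Matrix.of f) hdet : GL (Fin 2) K1) :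
        Matrix (Fin 2) (Fin 2) K1) = Matrix.of f := rfl
    rw [h2, hM]
    ext i j
    simp [Matrix.mul_apply, Matrix.scalar_apply, Matrix.diagonal_apply]
    ring
  · rintro _ ⟨x, rfl⟩
    induction x using Matrix.ProjGenLinGroup.induction_on with | mk g0 =>
    rw [pglMap_mk, mk_mem_RG_iff]
    refine ⟨1, one_ne_zero, fun i j => ?_⟩
    rw [one_mul, gl_map_val]
    exact ⟨g0.1 i j, rfl⟩

/-- a matrix of `SL₂(F)` which is `k`-rational up to a scalar and has trace `2` is `k`-rational -/
theorem mem_SLK_of_ratForm_of_trace (h2 : (2 : F) ≠ 0) (k : Subfield F) (h : S2 F)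
    (hr : h ∈ ratForm k) (ht : h.1.trace = 2) : h ∈ SLK k := by
  obtain ⟨t, ht0, htg⟩ := hr
  have h1 : t * 2 ∈ k := by
    have := add_mem (htg 0 0) (htg 1 1)
    rw [← mul_add] at this
    rw [Matrix.trace_fin_two] at ht
    rwa [ht] at this
  have htk : t ∈ k := by
    have : t = t * 2 * 2⁻¹ := by field_simp
    rw [this]
    exact mul_mem h1 (inv_mem (two_mem k))
  intro i j
  have : h.1 i j = t⁻¹ * (t * h.1 i j) := by field_simp
  rw [this]
  exact mul_mem (inv_mem htk) (htg i j)

theorem ll_one_mem_SLK (k : Subfield F) : ll (1 : F) ∈ SLK k := by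
  apply mem_SLK_of <;> simp [one_mem, zero_mem]

theorem trace_uu (a : F) : (uu a).1.trace = 2 := by
  rw [Matrix.trace_fin_two]; simp; norm_num

theorem trace_ll (a : F) : (ll a).1.trace = 2 := by
  rw [Matrix.trace_fin_two]; simp; norm_num

/-- the subfield case: `M ∩ PSL₂(F)` contains `PSL₂(k)` in standard position -/
theorem subfield_case_gl [Fintype F] (hodd : Odd (Fintype.card F)) (M : Subgroup (GG F))
    (hM : IsCoatom M) (hML : ¬ M ≤ (tau (F := F)).range) (hLM : ¬ (tau (F := F)).range ≤ M)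
    (k : Subfield F) (hk : SLK k ≤ pre (M.comap (tau (F := F))))
    (hdec : ∀ g ∈ pre (M.comap (tau (F := F))), ∃ t : Fˣ, dd t ∈ pre (M.comap (tau (F := F))) ∧
      (t : F) ^ 2 ∈ k ∧ g * (dd t)⁻¹ ∈ SLK k) :
    ∃ (F₀ : Type) (_ : Field F₀) (_ : Fintype F₀) (r : ℕ), r.Prime ∧ Odd r ∧
      Fintype.card F = Fintype.card F₀ ^ r ∧
      Nonempty (M ≃* Matrix.ProjGenLinGroup (Fin 2) F₀) := by
  classical
  have h2 := two_ne_zero_of_odd_card hodd
  have hLr : pre (M.comap (tau (F := F))) ≤ ratForm k := by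
    intro g hg
    obtain ⟨t, ht, ht2, hg0⟩ := hdec g hg
    have : g = g * (dd t)⁻¹ * dd t := by group
    rw [this]
    exact mul_mem (SLK_le_ratForm k hg0) (dd_mem_ratForm k t ht2)
  have hMle : M ≤ RG k := by
    intro m hm
    induction m using Matrix.ProjGenLinGroup.induction_on with | mk g =>
    rw [mk_mem_RG_iff]
    apply mem_ratGL_of_conj
    · apply mem_SLK_of_ratForm_of_trace h2 k _
        (hLr (conj_mem_pre hodd M g hm (uu 1) (hk (uu_one_mem_SLK k))))
      rw [trace_conjGL, trace_uu]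
    · apply mem_SLK_of_ratForm_of_trace h2 k _
        (hLr (conj_mem_pre hodd M g hm (ll 1) (hk (ll_one_mem_SLK k))))
      rw [trace_conjGL, trace_ll]
  have hk_ne : k ≠ ⊤ := by
    intro h
    apply hLM
    rintro _ ⟨y, rfl⟩
    obtain ⟨g, rfl⟩ := QuotientGroup.mk_surjective y
    have : g ∈ pre (M.comap (tau (F := F))) := by
      apply hk
      rw [h]
      intro i j
      trivial
    exact this
  have hMeq : M = RG k := eq_of_coatom_le hM hMle (RG_ne_top hk_ne)
  have hmax : ∀ k₁ : Subfield F, k ≤ k₁ → k₁ = k ∨ k₁ = ⊤ := by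
    intro k₁ hle
    by_cases htop : k₁ = ⊤
    · exact Or.inr htop
    · left
      have h1 : M = RG k₁ := eq_of_coatom_le hM (hMle.trans (RG_mono hle)) (RG_ne_top htop)
      apply le_antisymm _ hle
      apply eq_top_of_RG_le
      rw [← h1, ← hMeq]
  have hprime := Cfsg.Agent.Helper98.Torus.prime_finrank k hk_ne hmax
  obtain ⟨F₀, _, _, φ, hφ, hm⟩ := exists_model' k
  subst hφ
  have hrange : M = (pglMap φ).range := by rw [hMeq, RG_fieldRange]
  refine ⟨F₀, inferInstance, inferInstance, _, hprime, ?_, hm.symm, ?_⟩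
  · rcases hprime.eq_two_or_odd' with hr2 | hrodd
    · exfalso
      apply hML
      rw [hrange]
      rw [hr2] at hm
      exact range_pglMap_le φ (fun x hx => isSquare_of_even φ 2 even_two hm hodd x hx)
    · exact hrodd
  · rw [hrange]
    exact ⟨(MonoidHom.ofInjective (pglMap_injective φ)).symm⟩

end Cfsg.Agent.Helper41.PGLMax
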