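import Cfsg.Agent.Lib.Helper41.PGLS4
import Cfsg.Agent.Lib.Helper41.PGLA5
import Cfsg.Agent.Lib.Helper41.PGLAlt
import Cfsg.Agent.Lib.Helper41.PGLSub
import Cfsg.Agent.Lib.Helper41.PGLBorel

/-!
# Maximal subgroups of `PGL₂(q)`, `q` odd: transport along conjugation, and the case `p ∣ |M|`
-/

set_option autoImplicit false
set_option linter.unusedSectionVars false
set_option linter.unusedVariables false
set_option linter.style.haveILetI false

namespace Cfsg.Agent.Helper41.PGLMax

open Matrix Cfsg.Agent.Helper98.Ident Cfsg.Agent.Helper98.Dickson Cfsg.Agent.Helper41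
  Cfsg.Agent.Helper41.PMax

variable {F : Type*} [Field F] [Fintype F]

/-- transporting the hypotheses on `M` along conjugation by an element of `PGL₂(F)` -/
theorem conj_transport (hodd : Odd (Fintype.card F)) (M : Subgroup (GG F)) (hM : IsCoatom M)
    (hML : ¬ M ≤ (tau (F := F)).range) (hLM : ¬ (tau (F := F)).range ≤ M) (c : GG F) :
    IsCoatom (M.map (MulAut.conj c).toMonoidHom) ∧
      ¬ M.map (MulAut.conj c).toMonoidHom ≤ (tau (F := F)).range ∧
      ¬ (tau (F := F)).range ≤ M.map (MulAut.conj c).toMonoidHom ∧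
      Nonempty (M ≃* M.map (MulAut.conj c).toMonoidHom) := by
  haveI : (tau (F := F)).range.Normal :=
    Subgroup.normal_of_index_eq_two (index_range_tau hodd)
  refine ⟨map_isCoatom _ M hM, ?_, ?_, ⟨(MulAut.conj c).subgroupMap M⟩⟩
  · intro h
    apply hML
    intro m hm
    have h1 : c * m * c⁻¹ ∈ (tau (F := F)).range := h ⟨m, hm, rfl⟩
    have h2 : m = c⁻¹ * (c * m * c⁻¹) * c⁻¹⁻¹ := by group
    rw [h2]
    exact Subgroup.Normal.conj_mem inferInstance _ h1 c⁻¹
  · intro h
    apply hLM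
    intro l hl
    have h1 : c * l * c⁻¹ ∈ (tau (F := F)).range := Subgroup.Normal.conj_mem inferInstance _ hl c
    obtain ⟨m, hm, hmc⟩ := h h1
    have h2 : c * m * c⁻¹ = c * l * c⁻¹ := hmc
    have h3 : m = l := by simpa using h2
    rw [← h3]
    exact hm

variable (p : ℕ) [Fact p.Prime] [CharP F p]

/-- the case `p ∣ |M|` -/
theorem main_p_dvd (hp2 : p ≠ 2) (M : Subgroup (GG F)) (hM : IsCoatom M)
    (hML : ¬ M ≤ (tau (F := F)).range) (hLM : ¬ (tau (F := F)).range ≤ M)
    (hpM : p ∣ Nat.card M) :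
    Nat.card M = Fintype.card F * (Fintype.card F - 1) ∨
    (∃ (F₀ : Type) (_ : Field F₀) (_ : Fintype F₀) (r : ℕ), r.Prime ∧ Odd r ∧
      Fintype.card F = Fintype.card F₀ ^ r ∧
      Nonempty (M ≃* Matrix.ProjGenLinGroup (Fin 2) F₀)) := by
  have hpp : p.Prime := Fact.out
  have hodd : Odd (Fintype.card F) := odd_card_of_char_ne_two p hp2
  have hcard := card_eq_two_mul_comap hodd M hML
  have hpH : p ∣ Nat.card (M.comap (tau (F := F))) := by
    rw [hcard] at hpM
    rcases (Nat.Prime.dvd_mul hpp).mp hpM with h | h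
    · exact absurd ((Nat.prime_dvd_prime_iff_eq hpp Nat.prime_two).mp h) hp2
    · exact h
  rcases dickson_raw_gl p (M.comap (tau (F := F))) with h | ⟨γ, hB⟩ | ⟨hp, -⟩ | ⟨hp3, ⟨e'⟩⟩ |
    ⟨γ, k, hk, hu, hdec⟩
  · exact absurd hpH h
  · left
    obtain ⟨hco, h1, h2, ⟨e⟩⟩ := conj_transport hodd M hM hML hLM (Matrix.ProjGenLinGroup.mk γ)
    rw [Nat.card_congr e.toEquiv]
    apply borel_case_gl p hp2 _ hco h1
    · rw [comap_map_conj]
      have h3 : Nat.card (M.comap (tau (F := F))) =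
          Nat.card ((M.comap (tau (F := F))).map (bar (conjGL γ)).toMonoidHom) :=
        Nat.card_congr ((bar (conjGL γ)).subgroupMap (M.comap (tau (F := F)))).toEquiv
      rw [← h3]
      exact hpH
    · rw [comap_map_conj]
      exact hB
  · exact absurd hp hp2
  · exfalso
    subst hp3
    exact alt5_char3_gl hodd M hML e'
  · right
    obtain ⟨hco, h1, h2, ⟨e⟩⟩ := conj_transport hodd M hM hML hLM (Matrix.ProjGenLinGroup.mk γ)
    obtain ⟨F₀, i1, i2, r, hr, hro, hq, ⟨e2⟩⟩ := subfield_case_gl hodd _ hco h1 h2 k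
      (by rw [comap_map_conj]; exact hk) (by rw [comap_map_conj]; exact hdec)
    exact ⟨F₀, i1, i2, r, hr, hro, hq, ⟨e.trans e2⟩⟩

end Cfsg.Agent.Helper41.PGLMax
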