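import Cfsg.Agent.Lib.Helper41.PGLMain
import Cfsg.Agent.Lib.Helper24.SL2Borel

/-!
# `M ∩ PSL₂(F)` for a maximal subgroup `M` of `PGL₂(F)`: transfer lemmas and the Borel case
-/

set_option autoImplicit false
set_option linter.unusedSectionVars false
set_option linter.unusedVariables false
set_option linter.style.haveILetI false

namespace Cfsg.Agent.Helper41.PGLMax

open Matrix Cfsg.Agent.Helper98.Ident Cfsg.Agent.Helper98.Dickson Cfsg.Agent.Helper41
  Cfsg.Agent.Helper41.PMax

variable {F : Type*} [Field F]

/-- the Borel subgroup of `PSL₂(F)` is maximal -/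
theorem isCoatom_borelP [Fintype F] : IsCoatom (borelP F) := by
  have hco := Cfsg.Agent.Helper24.SL2B.isCoatom_borel (F := F)
  constructor
  · exact borelP_ne_top
  · intro K hK
    have hpre : Cfsg.Agent.Helper40.borel F ≤ pre K := by
      intro g hg
      change (QuotientGroup.mk g : PG F) ∈ K
      exact hK.le ⟨g, hg, rfl⟩
    have hne : Cfsg.Agent.Helper40.borel F ≠ pre K := by
      intro h
      apply hK.ne
      apply le_antisymm hK.le
      intro y hy
      obtain ⟨g, rfl⟩ := QuotientGroup.mk_surjective y
      have : g ∈ pre K := hy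
      rw [← h] at this
      exact ⟨g, this, rfl⟩
    have htop := hco.2 _ (lt_of_le_of_ne hpre hne)
    rw [eq_top_iff]
    intro y _
    obtain ⟨g, rfl⟩ := QuotientGroup.mk_surjective y
    have : g ∈ pre K := by rw [htop]; trivial
    exact this

/-- maximality is invariant under the automorphisms `bar (conjGL γ)` -/
theorem isCoatom_of_map_bar (H : Subgroup (PG F)) (γ : GL (Fin 2) F)
    (h : IsCoatom (H.map (bar (conjGL γ)).toMonoidHom)) : IsCoatom H :=
  ((bar (conjGL γ)).mapSubgroup.isCoatom_iff H).mp h

/-- transfer from `PSL₂(F)` to its image in `PGL₂(F)` -/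
theorem isCoatom_meet_of_comap (M : Subgroup (GG F)) (h : IsCoatom (M.comap (tau (F := F)))) :
    IsCoatom ((M ⊓ (tau (F := F)).range).subgroupOf (tau (F := F)).range) := by
  have e : PG F ≃* (tau (F := F)).range := MonoidHom.ofInjective tau_injective
  have heq : (M ⊓ (tau (F := F)).range).subgroupOf (tau (F := F)).range =
      (M.comap (tau (F := F))).map
        ((MonoidHom.ofInjective (tau_injective (F := F))) : PG F →* (tau (F := F)).range) := by
    ext x
    rw [Subgroup.mem_subgroupOf, Subgroup.mem_map]
    constructor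
    · rintro ⟨hx, -⟩
      obtain ⟨y, hy⟩ := x.2
      refine ⟨y, ?_, ?_⟩
      · rw [Subgroup.mem_comap, hy]; exact hx
      · apply Subtype.ext
        exact hy
    · rintro ⟨y, hy, rfl⟩
      exact ⟨hy, ⟨y, rfl⟩⟩
  rw [heq]
  exact ((MonoidHom.ofInjective (tau_injective (F := F))).mapSubgroup.isCoatom_iff _).mpr h

end Cfsg.Agent.Helper41.PGLMax
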