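import Cfsg.Agent.Lib.Helper41.PGLMeet1

/-!
# `M ∩ PSL₂(F)` for a dihedral maximal subgroup `M` of `PGL₂(F)` is dihedral
-/

set_option autoImplicit false
set_option linter.unusedSectionVars false
set_option linter.unusedVariables false
set_option linter.style.haveILetI false

namespace Cfsg.Agent.Helper41.PGLMax

open Matrix Cfsg.Agent.Helper98.Ident Cfsg.Agent.Helper98.Dickson Cfsg.Agent.Helper41
  Cfsg.Agent.Helper41.PMax

section general

variable {G T : Type*} [Group G] [Group T]

theorem orderOf_le_of_equiv (H : Subgroup G) (e : H ≃* T) (c : G) (hc : c ∈ H) (N : ℕ)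
    (h : ∀ t : T, ∃ k, 0 < k ∧ k ≤ N ∧ t ^ k = 1) : orderOf c ≤ N := by
  obtain ⟨k, hk0, hkN, hk⟩ := h (e ⟨c, hc⟩)
  have h1 := pow_eq_one_of_equiv H e c hc k hk
  exact (Nat.le_of_dvd hk0 (orderOf_dvd_of_pow_eq_one h1)).trans hkN

theorem alt4_exponent : ∀ t : alternatingGroup (Fin 4), ∃ k, 0 < k ∧ k ≤ 3 ∧ t ^ k = 1 := by
  intro t
  rcases perm4_even t.1 (Equiv.Perm.mem_alternatingGroup.mp t.2) with h | h
  · exact ⟨2, by norm_num, by norm_num, Subtype.ext h⟩
  · exact ⟨3, by norm_num, by norm_num, Subtype.ext h⟩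

theorem perm4_exponent : ∀ t : Equiv.Perm (Fin 4), ∃ k, 0 < k ∧ k ≤ 4 ∧ t ^ k = 1 := by
  intro t
  by_cases hs : Equiv.Perm.sign t = 1
  · rcases perm4_even t hs with h | h
    · exact ⟨2, by norm_num, by norm_num, h⟩
    · exact ⟨3, by norm_num, by norm_num, h⟩
  · exact ⟨4, by norm_num, by norm_num, perm4_odd t hs⟩

theorem alt5_exponent : ∀ t : alternatingGroup (Fin 5), ∃ k, 0 < k ∧ k ≤ 5 ∧ t ^ k = 1 := by
  intro t
  rcases perm5_even t.1 (Equiv.Perm.mem_alternatingGroup.mp t.2) with h | h | h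
  · exact ⟨2, by norm_num, by norm_num, Subtype.ext h⟩
  · exact ⟨3, by norm_num, by norm_num, Subtype.ext h⟩
  · exact ⟨5, by norm_num, by norm_num, Subtype.ext h⟩

end general

section dih

variable {F : Type*} [Field F] [Fintype F] (p : ℕ) [Fact p.Prime] [CharP F p]

/-- the intersection with `PSL₂(F)` of a dihedral subgroup of order `2 (q ∓ 1)` of `PGL₂(F)`, not
inside `PSL₂(F)`, is dihedral of order `q ∓ 1` -/
theorem dihedral_meet (hp2 : p ≠ 2) (h5 : 5 ≤ Fintype.card F) (M : Subgroup (GG F))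
    (hML : ¬ M ≤ (tau (F := F)).range) (hpM : ¬ p ∣ Nat.card M) (n : ℕ)
    (hn : n = Fintype.card F - 1 ∨ n = Fintype.card F + 1) (e : M ≃* DihedralGroup n) :
    Nonempty (M.comap (tau (F := F)) ≃* DihedralGroup (n / 2)) := by
  haveI := finite_GG (F := F)
  haveI := finite_PG (F := F)
  have hpp : p.Prime := Fact.out
  have hodd : Odd (Fintype.card F) := odd_card_of_char_ne_two p hp2
  have hL2 := index_range_tau hodd
  have hn0 : 0 < n := by rcases hn with h | h <;> omega
  haveI : NeZero n := ⟨hn0.ne'⟩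
  have hcardM : Nat.card M = 2 * n := by
    rw [Nat.card_congr e.toEquiv, DihedralGroup.nat_card]
  have hcardH : Nat.card (M.comap (tau (F := F))) = n := by
    have := card_eq_two_mul_comap hodd M hML
    omega
  have hpH : ¬ p ∣ Nat.card (M.comap (tau (F := F))) := by
    intro h
    apply hpM
    rw [hcardM, ← hcardH]
    exact h.mul_left 2
  have hneven : 2 ∣ n := by
    obtain ⟨j, hj⟩ := hodd
    rcases hn with h | h
    · exact ⟨j, by omega⟩
    · exact ⟨j + 1, by omega⟩
  -- the element `c`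
  obtain ⟨ρ, hρ⟩ : ∃ ρ : M, ρ = e.symm (DihedralGroup.r 1) := ⟨_, rfl⟩
  obtain ⟨c, hc⟩ : ∃ c : PG F, tau c = (ρ : GG F) * ρ := sq_mem_of_index_two' _ hL2 _
  have hcH : c ∈ M.comap (tau (F := F)) := by
    rw [Subgroup.mem_comap, hc]
    exact M.mul_mem ρ.2 ρ.2
  have hordρ : orderOf (ρ : GG F) = n := by
    rw [Subgroup.orderOf_coe, hρ, MulEquiv.orderOf_eq, DihedralGroup.orderOf_r_one]
  have hordc : orderOf c = n / 2 := by
    have h1 : orderOf c = orderOf ((ρ : GG F) ^ 2) := by
      rw [pow_two, ← hc]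
      exact (orderOf_injective tau tau_injective c).symm
    rw [h1, orderOf_pow, hordρ, Nat.gcd_eq_right hneven]
  rcases dickson_pprime p (M.comap (tau (F := F))) hpH with hcyc | ⟨m, hm, ⟨e'⟩⟩ | ⟨⟨e'⟩⟩ |
    ⟨⟨e'⟩⟩ | ⟨⟨e'⟩⟩
  · exfalso
    obtain ⟨g, hg⟩ := IsCyclic.exists_generator (α := M.comap (tau (F := F)))
    have hord : orderOf (g : PG F) = n := by
      rw [Subgroup.orderOf_coe, orderOf_eq_card_of_forall_mem_zpowers hg, hcardH]
    have hgcd : Nat.gcd 2 (Fintype.card F - 1) = 2 := by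
      apply Nat.gcd_eq_left
      obtain ⟨j, hj⟩ := hodd
      exact ⟨j, by omega⟩
    obtain ⟨j, hj⟩ := hodd
    rcases psl2_orderOf_dvd p (g : PG F) with h | h | h
    · rw [hord] at h
      rcases (Nat.dvd_prime hpp).mp h with h1 | h1
      · rcases hn with h' | h' <;> omega
      · apply hpH
        rw [hcardH, h1]
    · rw [hord, hgcd] at h
      have hpos : 0 < (Fintype.card F - 1) / 2 := by omega
      have := Nat.le_of_dvd hpos h
      rcases hn with h' | h' <;> omega
    · rw [hord, hgcd] at h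
      have hpos : 0 < (Fintype.card F + 1) / 2 := by omega
      have := Nat.le_of_dvd hpos h
      rcases hn with h' | h' <;> omega
  · have h1 : Nat.card (M.comap (tau (F := F))) = 2 * m := by
      rw [Nat.card_congr e'.toEquiv, DihedralGroup.nat_card]
    have hm2 : m = n / 2 := by omega
    rw [hm2] at e'
    exact ⟨e'⟩
  · exfalso
    have h1 : Nat.card (M.comap (tau (F := F))) = 12 := by
      rw [Nat.card_congr e'.toEquiv, card_alternatingGroup_four]
    have h2 := orderOf_le_of_equiv _ e' c hcH 3 alt4_exponent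
    omega
  · exfalso
    have h1 : Nat.card (M.comap (tau (F := F))) = 24 := by
      rw [Nat.card_congr e'.toEquiv, card_perm_four]
    have h2 := orderOf_le_of_equiv _ e' c hcH 4 perm4_exponent
    omega
  · exfalso
    have h1 : Nat.card (M.comap (tau (F := F))) = 60 := by
      rw [Nat.card_congr e'.toEquiv, card_alternatingGroup_five]
    have h2 := orderOf_le_of_equiv _ e' c hcH 5 alt5_exponent
    omega

end dih

end Cfsg.Agent.Helper41.PGLMax
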