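import Cfsg.Agent.Lib.Helper41.PGLMeet5

/-!
# A maximal subgroup of `PGL₂(q)` meets `PSL₂(q)` in a maximal subgroup: characteristic two
-/

set_option autoImplicit false
set_option linter.unusedSectionVars false
set_option linter.unusedVariables false
set_option linter.style.haveILetI false

namespace Cfsg.Agent.Helper41.PGLMax

open Matrix Cfsg.Agent.Helper98.Ident Cfsg.Agent.Helper98.Dickson Cfsg.Agent.Helper41
  Cfsg.Agent.Helper41.PMax Cfsg.Agent.S0805

/-- in characteristic two, `PSL₂(F) = PGL₂(F)` -/
theorem range_tau_eq_top {F : Type*} [Field F] [Fintype F] [CharP F 2] :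
    (tau (F := F)).range = ⊤ := by
  rw [eq_top_iff]
  intro x _
  induction x using Matrix.ProjGenLinGroup.induction_on with | mk g =>
  have hd := gl_det_ne_zero g
  obtain ⟨s, hs⟩ := FiniteField.isSquare_of_char_two (CharP.ringChar_of_prime_eq_zero
    Nat.prime_two (CharP.cast_eq_zero F 2)) g.1.det
  have hs0 : s ≠ 0 := by
    rintro rfl
    rw [mul_zero] at hs
    exact hd hs
  apply mk_mem_range_toPGL g (Units.mk0 s hs0)⁻¹
  apply Units.ext
  rw [Units.val_mul, Matrix.GeneralLinearGroup.val_det_apply, hs]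
  simp only [Units.val_pow_eq_pow_val, Units.val_inv_eq_inv_val, Units.val_mk0, Units.val_one]
  field_simp

theorem isCoatom_subgroupOf_top {G : Type*} [Group G] (M : Subgroup G) (hM : IsCoatom M) :
    IsCoatom (M.subgroupOf ⊤) :=
  (Subgroup.isCoatom_comap (Subgroup.topEquiv (G := G))).mpr hM

end Cfsg.Agent.Helper41.PGLMax
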