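import Cfsg.Agent.Lib.Helper41.PGLConj

/-!
# Maximal subgroups of `PGL₂(q)`: the subfield subgroups `PGL₂(k)` of `PGL₂(F)`
-/

set_option autoImplicit false
set_option linter.unusedSectionVars false
set_option linter.unusedVariables false
set_option linter.style.haveILetI false

namespace Cfsg.Agent.Helper41.PGLMax

open Matrix Cfsg.Agent.Helper98.Ident Cfsg.Agent.Helper98.Dickson Cfsg.Agent.Helper41
  Cfsg.Agent.Helper41.PMax Cfsg.Agent.S0805

variable {F : Type*} [Field F]

section inv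

theorem gl_det_ne_zero (g : GL (Fin 2) F) : g.1.det ≠ 0 := by
  have := g.isUnit.map (Matrix.detMonoidHom (R := F) (n := Fin 2))
  exact this.ne_zero

theorem gl_det_eq (g : GL (Fin 2) F) : g.1.det = g.1 0 0 * g.1 1 1 - g.1 0 1 * g.1 1 0 :=
  Matrix.det_fin_two _

theorem gl_inv_eq (g : GL (Fin 2) F) :
    (g⁻¹).1 = (g.1.det)⁻¹ • !![g.1 1 1, -g.1 0 1; -g.1 1 0, g.1 0 0] := by
  rw [Matrix.coe_units_inv, Matrix.inv_def, Matrix.adjugate_fin_two, Ring.inverse_eq_inv']

/-- `d • g (uu a) g⁻¹` -/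
theorem conjGL_uu (g : GL (Fin 2) F) (a : F) :
    (conjGL g (uu a)).1 = !![1 - a * g.1 0 0 * g.1 1 0 / g.1.det, a * g.1 0 0 ^ 2 / g.1.det;
      -(a * g.1 1 0 ^ 2 / g.1.det), 1 + a * g.1 0 0 * g.1 1 0 / g.1.det] := by
  have hd := gl_det_ne_zero g
  have hdet := gl_det_eq g
  rw [conjGL_coe, gl_inv_eq]
  ext i j
  fin_cases i <;> fin_cases j
  all_goals
    simp [Matrix.mul_apply, Fin.sum_univ_two]
    field_simp
    try rw [hdet]
    try ring

theorem conjGL_ll (g : GL (Fin 2) F) (a : F) :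
    (conjGL g (ll a)).1 = !![1 + a * g.1 0 1 * g.1 1 1 / g.1.det, -(a * g.1 0 1 ^ 2 / g.1.det);
      a * g.1 1 1 ^ 2 / g.1.det, 1 - a * g.1 0 1 * g.1 1 1 / g.1.det] := by
  have hd := gl_det_ne_zero g
  have hdet := gl_det_eq g
  rw [conjGL_coe, gl_inv_eq]
  ext i j
  fin_cases i <;> fin_cases j
  all_goals
    simp [Matrix.mul_apply, Fin.sum_univ_two]
    field_simp
    try rw [hdet]
    try ring

end inv

section ratGL

/-- invertible matrices that are `k`-rational up to a scalar -/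
def ratGL (k : Subfield F) : Subgroup (GL (Fin 2) F) where
  carrier := {g | ∃ t : F, t ≠ 0 ∧ ∀ i j, t * g.1 i j ∈ k}
  one_mem' := by
    refine ⟨1, one_ne_zero, ?_⟩
    intro i j
    rw [one_mul]
    fin_cases i <;> fin_cases j <;> simp [zero_mem, one_mem]
  mul_mem' := by
    rintro a b ⟨t, ht, hta⟩ ⟨s, hs, hsb⟩
    refine ⟨t * s, mul_ne_zero ht hs, ?_⟩
    intro i j
    have e : t * s * (a * b).1 i j =
        (t * a.1 i 0) * (s * b.1 0 j) + (t * a.1 i 1) * (s * b.1 1 j) := by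
      rw [Units.val_mul, Matrix.mul_apply, Fin.sum_univ_two]; ring
    rw [e]
    exact add_mem (mul_mem (hta i 0) (hsb 0 j)) (mul_mem (hta i 1) (hsb 1 j))
  inv_mem' := by
    rintro a ⟨t, ht, hta⟩
    have hd := gl_det_ne_zero a
    refine ⟨t * a.1.det, mul_ne_zero ht hd, ?_⟩
    intro i j
    rw [gl_inv_eq]
    fin_cases i <;> fin_cases j
    · have : t * a.1.det * ((a.1.det)⁻¹ • !![a.1 1 1, -a.1 0 1; -a.1 1 0, a.1 0 0]) 0 0 =
          t * a.1 1 1 := by simp; field_simp
      rw [Fin.zero_eta, this]; exact hta 1 1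
    · have : t * a.1.det * ((a.1.det)⁻¹ • !![a.1 1 1, -a.1 0 1; -a.1 1 0, a.1 0 0]) 0 1 =
          -(t * a.1 0 1) := by simp; field_simp
      rw [Fin.zero_eta, Fin.mk_one, this]; exact neg_mem (hta 0 1)
    · have : t * a.1.det * ((a.1.det)⁻¹ • !![a.1 1 1, -a.1 0 1; -a.1 1 0, a.1 0 0]) 1 0 =
          -(t * a.1 1 0) := by simp; field_simp
      rw [Fin.zero_eta, Fin.mk_one, this]; exact neg_mem (hta 1 0)
    · have : t * a.1.det * ((a.1.det)⁻¹ • !![a.1 1 1, -a.1 0 1; -a.1 1 0, a.1 0 0]) 1 1 =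
          t * a.1 0 0 := by simp; field_simp
      rw [Fin.mk_one, this]; exact hta 0 0

theorem mem_ratGL (k : Subfield F) (g : GL (Fin 2) F) :
    g ∈ ratGL k ↔ ∃ t : F, t ≠ 0 ∧ ∀ i j, t * g.1 i j ∈ k := Iff.rfl

/-- the image of `GL₂(k)` in `PGL₂(F)` -/
def RG (k : Subfield F) : Subgroup (GG F) := (ratGL k).map Matrix.ProjGenLinGroup.mk

theorem mk_mem_RG_iff (k : Subfield F) (g : GL (Fin 2) F) :
    Matrix.ProjGenLinGroup.mk g ∈ RG k ↔ g ∈ ratGL k := by
  constructor
  · rintro ⟨g', ⟨t, ht, htg⟩, hgg⟩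
    obtain ⟨u, hu⟩ := Matrix.ProjGenLinGroup.mk_eq_mk_iff.mp hgg
    refine ⟨t * ((u⁻¹ : Fˣ) : F), mul_ne_zero ht (Units.ne_zero _), ?_⟩
    intro i j
    have h1 : g.1 i j = g'.1 i j * (u : F) := by
      rw [← hu]
      simp [Matrix.mul_apply, Matrix.scalar_apply, Matrix.diagonal_apply]
    rw [h1]
    have h2 : t * ((u⁻¹ : Fˣ) : F) * (g'.1 i j * (u : F)) = t * g'.1 i j := by
      have : ((u⁻¹ : Fˣ) : F) * (u : F) = 1 := by simp
      linear_combination (t * g'.1 i j) * this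
    rw [h2]
    exact htg i j
  · intro h
    exact ⟨g, h, rfl⟩

theorem toGL_mem_ratGL_iff (k : Subfield F) (h : S2 F) :
    Matrix.SpecialLinearGroup.toGL h ∈ ratGL k ↔ h ∈ ratForm k := Iff.rfl

theorem tau_mem_RG_iff (k : Subfield F) (h : S2 F) :
    tau (QuotientGroup.mk h : PG F) ∈ RG k ↔ h ∈ ratForm k := by
  rw [tau_mk, mk_mem_RG_iff, toGL_mem_ratGL_iff]

theorem ratGL_mono {k k' : Subfield F} (h : k ≤ k') : ratGL k ≤ ratGL k' := by
  rintro g ⟨t, ht, htg⟩
  exact ⟨t, ht, fun i j => h (htg i j)⟩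

theorem RG_mono {k k' : Subfield F} (h : k ≤ k') : RG k ≤ RG k' :=
  Subgroup.map_mono (ratGL_mono h)

/-- if `RG k = ⊤` then `k = ⊤` -/
theorem eq_top_of_RG_le {k k' : Subfield F} (h : RG k' ≤ RG k) : k' ≤ k := by
  intro a ha
  apply mem_of_uu_mem_ratForm k a
  rw [← tau_mem_RG_iff]
  apply h
  rw [tau_mem_RG_iff]
  exact SLK_le_ratForm k' (by apply mem_SLK_of <;> simp [zero_mem, one_mem, ha])

theorem RG_ne_top {k : Subfield F} (hk : k ≠ ⊤) : RG k ≠ ⊤ := by
  intro h
  apply hk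
  rw [eq_top_iff]
  intro a _
  apply mem_of_uu_mem_ratForm k a
  rw [← tau_mem_RG_iff, h]
  trivial

/-- the key rationality lemma: if conjugation by `g` maps `uu 1` and `ll 1` to `k`-rational matrices
then `g` is `k`-rational up to a scalar -/
theorem mem_ratGL_of_conj (k : Subfield F) (g : GL (Fin 2) F) (h1 : conjGL g (uu 1) ∈ SLK k)
    (h2 : conjGL g (ll 1) ∈ SLK k) : g ∈ ratGL k := by
  have hd := gl_det_ne_zero g
  have hdet := gl_det_eq g
  have hX := conjGL_uu g 1
  have hY := conjGL_ll g 1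
  have x00 := h1 0 0
  have x01 := h1 0 1
  have x10 := h1 1 0
  have x11 := h1 1 1
  have y00 := h2 0 0
  have y01 := h2 0 1
  have y10 := h2 1 0
  have y11 := h2 1 1
  rw [hX] at x00 x01 x10 x11
  rw [hY] at y00 y01 y10 y11
  simp only [Matrix.of_apply, Matrix.cons_val_zero, Matrix.cons_val_one, Matrix.cons_val',
    Matrix.cons_val_fin_one, one_mul] at x00 x01 x10 x11 y00 y01 y10 y11
  set a := g.1 0 0 with ha
  set b := g.1 0 1 with hb
  set c := g.1 1 0 with hc
  set e := g.1 1 1 with he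
  set d := g.1.det with hdd
  have hac : a * c / d ∈ k := by
    have := sub_mem (one_mem k) x00
    have e1 : 1 - (1 - a * c / d) = a * c / d := by ring
    rwa [e1] at this
  have hbe : b * e / d ∈ k := by
    have := sub_mem y00 (one_mem k)
    have e1 : 1 + b * e / d - 1 = b * e / d := by ring
    rwa [e1] at this
  have hcc : c ^ 2 / d ∈ k := by
    have := neg_mem x10
    rwa [neg_neg] at this
  have hbb : b ^ 2 / d ∈ k := by
    have := neg_mem y01
    rwa [neg_neg] at this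
  have hae : a * e / d ∈ k := by
    have := sub_mem (mul_mem x01 y10) (mul_mem hac hbe)
    have e1 : a ^ 2 / d * (e ^ 2 / d) - a * c / d * (b * e / d) = a * e / d := by
      field_simp
      rw [hdet]; ring
    rwa [e1] at this
  have hab : a * b / d ∈ k := by
    have := sub_mem (mul_mem x01 hbe) (mul_mem hac hbb)
    have e1 : a ^ 2 / d * (b * e / d) - a * c / d * (b ^ 2 / d) = a * b / d := by
      field_simp
      rw [hdet]; ring
    rwa [e1] at this
  have hce : c * e / d ∈ k := by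
    have := sub_mem (mul_mem hac y10) (mul_mem hcc hbe)
    have e1 : a * c / d * (e ^ 2 / d) - c ^ 2 / d * (b * e / d) = c * e / d := by
      field_simp
      rw [hdet]; ring
    rwa [e1] at this
  have hcb : c * b / d ∈ k := by
    have := sub_mem (mul_mem hac hbe) (mul_mem hcc hbb)
    have e1 : a * c / d * (b * e / d) - c ^ 2 / d * (b ^ 2 / d) = c * b / d := by
      field_simp
      rw [hdet]; ring
    rwa [e1] at this
  by_cases ha0 : a = 0
  · have hc0 : c ≠ 0 := by
      intro hc0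
      apply hd
      rw [hdet, ha0, hc0]; ring
    refine ⟨c / d, div_ne_zero hc0 hd, ?_⟩
    intro i j
    fin_cases i <;> fin_cases j
    · have : c / d * g.1 0 0 = a * c / d := by rw [← ha]; ring
      rw [Fin.zero_eta, this]; exact hac
    · have : c / d * g.1 0 1 = c * b / d := by rw [← hb]; ring
      rw [Fin.zero_eta, Fin.mk_one, this]; exact hcb
    · have : c / d * g.1 1 0 = c ^ 2 / d := by rw [← hc]; ring
      rw [Fin.zero_eta, Fin.mk_one, this]; exact hcc
    · have : c / d * g.1 1 1 = c * e / d := by rw [← he]; ring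
      rw [Fin.mk_one, this]; exact hce
  · refine ⟨a / d, div_ne_zero ha0 hd, ?_⟩
    intro i j
    fin_cases i <;> fin_cases j
    · have : a / d * g.1 0 0 = a ^ 2 / d := by rw [← ha]; ring
      rw [Fin.zero_eta, this]; exact x01
    · have : a / d * g.1 0 1 = a * b / d := by rw [← hb]; ring
      rw [Fin.zero_eta, Fin.mk_one, this]; exact hab
    · have : a / d * g.1 1 0 = a * c / d := by rw [← hc]; ring
      rw [Fin.zero_eta, Fin.mk_one, this]; exact hac
    · have : a / d * g.1 1 1 = a * e / d := by rw [← he]; ring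
      rw [Fin.mk_one, this]; exact hae

end ratGL

end Cfsg.Agent.Helper41.PGLMax
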