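import Cfsg.Agent.Lib.Helper41.PGLConj

/-!
# Dickson's theorem, raw form, with the normalising automorphism induced by `GL₂(F)`
-/

set_option autoImplicit false
set_option linter.unusedSectionVars false
set_option linter.unusedVariables false
set_option linter.unusedSimpArgs false
set_option linter.style.haveILetI false

namespace Cfsg.Agent.Helper41.PGLMax

open Matrix Cfsg.Agent.Helper41 Cfsg.Agent.Helper98.SL2CT Cfsg.Agent.Helper59.SL2Sub
open Cfsg.Agent.Helper5 Cfsg.Agent.Helper98.Ident Cfsg.Agent.Helper98.Final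
open Cfsg.Agent.Helper98.Dickson Cfsg.Agent.Helper41.PMax

variable {F : Type*} [Field F]

section conj

theorem conj_eq_conjGL (c x : S2 F) :
    (MulAut.conj c : S2 F ≃* S2 F) x = conjGL (Matrix.SpecialLinearGroup.toGL c) x := by
  apply Subtype.ext
  rw [conjGL_coe, MulAut.conj_apply, ← map_inv]
  rfl

/-- `diag(s, 1)` -/
noncomputable def diagGL (s : Fˣ) : GL (Fin 2) F :=
  Matrix.GeneralLinearGroup.mkOfDetNeZero !![(s : F), 0; 0, 1] (by
    rw [Matrix.det_fin_two_of]; simp)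

theorem diagGL_inv_val (s : Fˣ) :
    ((diagGL s)⁻¹ : GL (Fin 2) F).1 = !![((s⁻¹ : Fˣ) : F), 0; 0, 1] := by
  have h1 : (diagGL s).1 = !![(s : F), 0; 0, 1] := rfl
  rw [Matrix.coe_units_inv, h1]
  apply Matrix.inv_eq_right_inv
  ext i j
  fin_cases i <;> fin_cases j <;> simp [Matrix.mul_apply, Fin.sum_univ_two]

theorem sigma_eq_conjGL (s : Fˣ) (x : S2 F) : sigma s x = conjGL (diagGL s) x := by
  have h1 : (diagGL s).1 = !![(s : F), 0; 0, 1] := rfl
  have hs : (s : F) * ((s⁻¹ : Fˣ) : F) = 1 := by simp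
  apply ext2
  · rw [sigma_00, conjGL_coe, diagGL_inv_val, h1]
    simp only [Matrix.mul_apply, Fin.sum_univ_two, Matrix.of_apply, Matrix.cons_val_zero,
      Matrix.cons_val_one, Matrix.cons_val', Matrix.cons_val_fin_one]
    linear_combination (-(x.1 0 0)) * hs
  · rw [sigma_01, conjGL_coe, diagGL_inv_val, h1]
    simp only [Matrix.mul_apply, Fin.sum_univ_two, Matrix.of_apply, Matrix.cons_val_zero,
      Matrix.cons_val_one, Matrix.cons_val', Matrix.cons_val_fin_one]
    ring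
  · rw [sigma_10, conjGL_coe, diagGL_inv_val, h1]
    simp only [Matrix.mul_apply, Fin.sum_univ_two, Matrix.of_apply, Matrix.cons_val_zero,
      Matrix.cons_val_one, Matrix.cons_val', Matrix.cons_val_fin_one]
    ring
  · rw [sigma_11, conjGL_coe, diagGL_inv_val, h1]
    simp only [Matrix.mul_apply, Fin.sum_univ_two, Matrix.of_apply, Matrix.cons_val_zero,
      Matrix.cons_val_one, Matrix.cons_val', Matrix.cons_val_fin_one]
    ring

theorem conjGL_conjGL (g₁ g₂ : GL (Fin 2) F) (x : S2 F) :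
    conjGL g₂ (conjGL g₁ x) = conjGL (g₂ * g₁) x := by
  apply Subtype.ext
  rw [conjGL_coe, conjGL_coe, conjGL_coe, _root_.mul_inv_rev, Units.val_mul, Units.val_mul]
  simp only [mul_assoc]

theorem theta_eq_conjGL (s : Fˣ) (x0 : F) (x : S2 F) :
    theta s x0 x = conjGL (diagGL s * Matrix.SpecialLinearGroup.toGL (uu (-x0))) x := by
  rw [theta_apply, sigma_eq_conjGL]
  have h1 : uu (-x0) * x * (uu (-x0))⁻¹ =
      conjGL (Matrix.SpecialLinearGroup.toGL (uu (-x0))) x := conj_eq_conjGL _ _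
  rw [h1, conjGL_conjGL]

theorem bar_eq_of_forall (Θ Θ' : S2 F ≃* S2 F) (h : ∀ x, Θ x = Θ' x) : bar Θ = bar Θ' := by
  have : Θ = Θ' := MulEquiv.ext h
  rw [this]

end conj

section main

variable [Fintype F] (p : ℕ) [Fact p.Prime] [CharP F p]

/-- **Dickson's theorem, raw form**, with the normalisation carried out by `GL₂(F)`-conjugation
(the proof is that of `Cfsg.Agent.Helper98.Dickson.dickson_raw`) -/
theorem dickson_raw_gl (H : Subgroup (Matrix.ProjectiveSpecialLinearGroup (Fin 2) F)) :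
    (¬ p ∣ Nat.card H) ∨
    (∃ γ : GL (Fin 2) F, ∀ g ∈ pre (H.map (bar (conjGL γ)).toMonoidHom), g.1 1 0 = 0) ∨
    (p = 2 ∧ ∃ n, 0 < n ∧ ¬ 2 ∣ n ∧ Nonempty (H ≃* DihedralGroup n)) ∨
    (p = 3 ∧ Nonempty (H ≃* alternatingGroup (Fin 5))) ∨
    (∃ γ : GL (Fin 2) F, ∃ k : Subfield F, SLK k ≤ pre (H.map (bar (conjGL γ)).toMonoidHom) ∧
        (∀ a : F, a ∈ k ↔ uu a ∈ pre (H.map (bar (conjGL γ)).toMonoidHom)) ∧
        ∀ g ∈ pre (H.map (bar (conjGL γ)).toMonoidHom), ∃ t : Fˣ,
          dd t ∈ pre (H.map (bar (conjGL γ)).toMonoidHom) ∧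
          (t : F) ^ 2 ∈ k ∧ g * (dd t)⁻¹ ∈ SLK k) := by
  classical
  haveI : Finite (S2 F) := inferInstanceAs (Finite {A : Matrix (Fin 2) (Fin 2) F // A.det = 1})
  haveI : Finite (Matrix.ProjectiveSpecialLinearGroup (Fin 2) F) :=
    inferInstanceAs (Finite (S2 F ⧸ _))
  by_cases hp : p ∣ Nat.card H
  swap
  · exact Or.inl hp
  right
  set K := pre H with hK
  have hpK : p ∣ Nat.card K :=
    hp.trans (Subgroup.card_dvd_of_surjective (proj H) (proj_surjective H))
  obtain U : Sylow p K := default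
  have hUne : (U : Subgroup K) ≠ ⊥ := U.ne_bot_of_dvd_card hpK
  obtain ⟨h, hh⟩ := exists_conj p K.subtype U
  set Θ1 : S2 F ≃* S2 F := MulAut.conj h⁻¹ with hΘ1
  have hbar1 : bar Θ1 = bar (conjGL (Matrix.SpecialLinearGroup.toGL h⁻¹)) :=
    bar_eq_of_forall _ _ (fun x => conj_eq_conjGL h⁻¹ x)
  set H1 := H.map (bar Θ1).toMonoidHom with hH1
  have e1 : H ≃* H1 := isoMap H Θ1
  obtain ⟨U1, hU1card, hU1⟩ := exists_sylow_map K (pre H1) Θ1 (pre_map H Θ1) U
  have S : Setup p (pre H1) U1 := by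
    refine ⟨center_le_pre H1, ?_, ?_⟩
    · intro y hy
      obtain ⟨u, hu, hyu⟩ := hU1 y hy
      rw [hyu]
      have := hh u hu
      rw [conjHom_apply] at this
      rw [hΘ1, MulAut.conj_apply, inv_inv]
      exact this
    · intro hbot
      apply hUne
      rw [← Subgroup.card_eq_one] at hbot ⊢
      rw [← hU1card]
      exact hbot
  by_cases hB : BK (pre H1) = ⊤
  · left
    refine ⟨Matrix.SpecialLinearGroup.toGL h⁻¹, ?_⟩
    rw [← hbar1]
    intro g hg
    have : (⟨g, hg⟩ : pre H1) ∈ BK (pre H1) := by rw [hB]; trivial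
    exact mem_BK.mp this
  right
  rcases S.main (proj H1) (proj_surjective H1) (proj_ker H1) hB with hidx | ⟨h2, n, hn, ⟨e⟩⟩ | ⟨h3, ⟨e⟩⟩
  · right; right
    obtain ⟨s, x0, hL⟩ := S.hyp hidx
    set H2 := H1.map (bar (theta s x0)).toMonoidHom with hH2
    rw [← pre_map H1 (theta s x0)] at hL
    obtain ⟨k, hk, hu, hdec⟩ := ident p hL
    have hbar2 : (bar Θ1).trans (bar (theta s x0)) =
        bar (conjGL (diagGL s * Matrix.SpecialLinearGroup.toGL (uu (-x0)) *
          Matrix.SpecialLinearGroup.toGL h⁻¹)) := by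
      apply MulEquiv.ext
      intro y
      obtain ⟨x, rfl⟩ := QuotientGroup.mk_surjective y
      rw [MulEquiv.trans_apply, bar_mk, bar_mk, bar_mk, theta_eq_conjGL, hΘ1, conj_eq_conjGL,
        conjGL_conjGL]
    have hmap : H.map (bar (conjGL (diagGL s * Matrix.SpecialLinearGroup.toGL (uu (-x0)) *
          Matrix.SpecialLinearGroup.toGL h⁻¹))).toMonoidHom = H2 := by
      rw [← hbar2, hH2, hH1, Subgroup.map_map]
      rfl
    refine ⟨diagGL s * Matrix.SpecialLinearGroup.toGL (uu (-x0)) *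
          Matrix.SpecialLinearGroup.toGL h⁻¹, k, ?_, ?_, ?_⟩
    · rw [hmap]; exact hk
    · rw [hmap]; exact hu
    · rw [hmap]; exact hdec
  · left
    have hp2 : p = 2 := two_of_card_sylow p U1 h2
    refine ⟨hp2, n, hn, ?_, ⟨e1.trans e⟩⟩
    intro hpn
    have hc1 : Nat.card H1 = 2 * n := by
      rw [Nat.card_congr e.toEquiv, DihedralGroup.nat_card]
    have hdvd : Nat.card H1 ∣ Nat.card (pre H1) :=
      Subgroup.card_dvd_of_surjective (proj H1) (proj_surjective H1)
    have h4 : 2 ^ 2 ∣ Nat.card (pre H1) := by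
      refine Dvd.dvd.trans ?_ hdvd
      rw [hc1]
      obtain ⟨t, rfl⟩ := hpn
      exact ⟨t, by ring⟩
    have h5 := U1.pow_dvd_card_of_pow_dvd_card (by rw [hp2]; exact h4)
    rw [h2, hp2] at h5
    omega
  · right; left
    have hp3 : p = 3 := by
      have h1 := U1.card_eq_multiplicity
      rw [h3] at h1
      have hpd : p ∣ 3 := by
        have hne : (Nat.card (pre H1)).factorization p ≠ 0 := by
          intro h0
          rw [h0, pow_zero] at h1
          omega
        rw [h1]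
        exact dvd_pow_self p hne
      exact (Nat.prime_dvd_prime_iff_eq (Fact.out : p.Prime) Nat.prime_three).mp hpd
    exact ⟨hp3, ⟨e1.trans e⟩⟩

end main

end Cfsg.Agent.Helper41.PGLMax
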