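import Cfsg.Agent.Lib.Helper41.PGLS4b
import Cfsg.Agent.Lib.Helper41.PGLDih
import Cfsg.Agent.Lib.Helper41.PGLRaw

/-!
# Maximal subgroups of `PGL₂(q)`, `q` odd: maximal subgroups `S₄`
-/

set_option autoImplicit false
set_option linter.unusedSectionVars false
set_option linter.unusedVariables false
set_option linter.style.haveILetI false

namespace Cfsg.Agent.Helper41.PGLMax

open Matrix Cfsg.Agent.Helper98.Ident Cfsg.Agent.Helper98.Dickson Cfsg.Agent.Helper41
  Cfsg.Agent.Helper41.PMax

section conj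

variable {F : Type*} [Field F]

theorem conjGL_neg (g : GL (Fin 2) F) (X : S2 F) : conjGL g (-X) = -conjGL g X := by
  apply Subtype.ext
  rw [conjGL_coe, Matrix.SpecialLinearGroup.coe_neg, Matrix.SpecialLinearGroup.coe_neg, conjGL_coe]
  simp

theorem InQ8.map (g : GL (Fin 2) F) {A B X : S2 F} (h : InQ8 A B X) :
    InQ8 (conjGL g A) (conjGL g B) (conjGL g X) := by
  rcases h with rfl | rfl | rfl | rfl | rfl | rfl
  · exact Or.inl rfl
  · exact Or.inr (Or.inl (conjGL_neg g _))
  · exact Or.inr (Or.inr (Or.inl rfl))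
  · exact Or.inr (Or.inr (Or.inr (Or.inl (conjGL_neg g _))))
  · exact Or.inr (Or.inr (Or.inr (Or.inr (Or.inl (map_mul _ _ _)))))
  · exact Or.inr (Or.inr (Or.inr (Or.inr (Or.inr (by rw [conjGL_neg, map_mul])))))

end conj

section main

variable {F : Type*} [Field F] [Fintype F] (p : ℕ) [Fact p.Prime] [CharP F p]

/-- a subgroup `S₄` of `PGL₂(F)` is conjugate into `PGL₂(k)` for every subfield `k` -/
theorem perm4_conj_le_RG (hp2 : p ≠ 2) (M : Subgroup (GG F)) (e : M ≃* Equiv.Perm (Fin 4))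
    (k : Subfield F) :
    ∃ (A B : S2 F) (_ : IsQuatPair A B) (g₀ : GL (Fin 2) F),
      tau (QuotientGroup.mk A : PG F) ∈ M ∧ tau (QuotientGroup.mk B : PG F) ∈ M ∧
      (∀ g : GL (Fin 2) F, Matrix.ProjGenLinGroup.mk g ∈ M →
        InQ8 A B (conjGL g A) ∧ InQ8 A B (conjGL g B)) ∧
      M.map (MulAut.conj (Matrix.ProjGenLinGroup.mk g₀)).toMonoidHom ≤ RG k := by
  have hodd : Odd (Fintype.card F) := odd_card_of_char_ne_two p hp2
  have h2 := two_ne_zero_of_odd_card hodd
  obtain ⟨A, B, hAB, hA, hB, hconj⟩ := perm4_quat hodd M e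
  obtain ⟨x, y, hxy⟩ := exists_std_pair (F := F) p hp2
  obtain ⟨g₀, hgA, hgB⟩ := exists_conj_std h2 A B hAB (x : F) (y : F) hxy
  refine ⟨A, B, hAB, g₀, hA, hB, hconj, ?_⟩
  rintro _ ⟨m, hm, rfl⟩
  induction m using Matrix.ProjGenLinGroup.induction_on with | mk g =>
  obtain ⟨c1, c2⟩ := hconj g hm
  have hxk : (x : F) ∈ k := natCast_mem k x
  have hyk : (y : F) ∈ k := natCast_mem k y
  have hIk := quatI_mem_SLK k
  have hJk := quatJ_mem_SLK k (x : F) (y : F) hxk hyk hxy
  have key : ∀ X : S2 F, conjGL (g₀ * g * g₀⁻¹) (conjGL g₀ X) = conjGL g₀ (conjGL g X) := by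
    intro X
    rw [conjGL_conjGL, conjGL_conjGL, inv_mul_cancel_right]
  have hI : conjGL (g₀ * g * g₀⁻¹) quatI ∈ SLK k := by
    rw [← hgA, key]
    have := InQ8.map g₀ c1
    rw [hgA, hgB] at this
    exact inQ8_mem_SLK k _ _ _ hIk hJk this
  have hJ : conjGL (g₀ * g * g₀⁻¹) (quatJ (x : F) (y : F) hxy) ∈ SLK k := by
    rw [← hgB, key]
    have := InQ8.map g₀ c2
    rw [hgA, hgB] at this
    exact inQ8_mem_SLK k _ _ _ hIk hJk this
  obtain ⟨hu, hl⟩ := conj_uu_ll_mem k h2 (x : F) (y : F) hxk hyk hxy _ hI hJ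
  have hmem := mem_ratGL_of_conj k _ hu hl
  have : (MulAut.conj (Matrix.ProjGenLinGroup.mk g₀)).toMonoidHom (Matrix.ProjGenLinGroup.mk g) =
      Matrix.ProjGenLinGroup.mk (g₀ * g * g₀⁻¹) := by
    rw [map_mul, map_mul, map_inv]
    rfl
  rw [this, mk_mem_RG_iff]
  exact hmem

theorem orderOf_tau_uu_one : orderOf (tau (QuotientGroup.mk (uu (1 : F)) : PG F)) = p := by
  rw [orderOf_injective tau tau_injective]
  have hpp : p.Prime := Fact.out
  apply orderOf_eq_prime
  · rw [← QuotientGroup.mk_pow, Cfsg.Agent.Helper98.DMax.uu_pow_char F p 1]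
    rfl
  · intro h
    have h1 : (QuotientGroup.mk (uu (1 : F)) : PG F) = QuotientGroup.mk (1 : S2 F) := h
    rcases (psl2_mk_eq_mk_iff _ _).mp h1 with e | e
    · have := congrArg (fun g : S2 F => g.1 0 1) e
      simp at this
    · have := congrArg (fun g : S2 F => g.1 0 1) e
      simp at this

/-- the maximal subgroups `S₄` of `PGL₂(F)`: `q` is a prime, `q ≡ ±3 (mod 8)` -/
theorem perm4_case_gl (hp2 : p ≠ 2) (h5 : 5 ≤ Fintype.card F) (M : Subgroup (GG F))
    (hM : IsCoatom M) (hML : ¬ M ≤ (tau (F := F)).range) (hpM : ¬ p ∣ Nat.card M)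
    (e : M ≃* Equiv.Perm (Fin 4)) :
    (Fintype.card F).Prime ∧ (Fintype.card F % 8 = 3 ∨ Fintype.card F % 8 = 5) := by
  haveI := finite_GG (F := F)
  haveI := finite_PG (F := F)
  have hpp : p.Prime := Fact.out
  have hodd : Odd (Fintype.card F) := odd_card_of_char_ne_two p hp2
  have h2 := two_ne_zero_of_odd_card hodd
  obtain ⟨A, B, hAB, g₀, hA, hB, hconj, hle⟩ := perm4_conj_le_RG p hp2 M e (frobFix p 1)
  constructor
  · have hco : IsCoatom (M.map (MulAut.conj (Matrix.ProjGenLinGroup.mk g₀)).toMonoidHom) :=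
      map_isCoatom _ M hM
    by_cases htop : RG (frobFix (F := F) p 1) = ⊤
    · have hall : ∀ a : F, a ∈ frobFix p 1 := by
        intro a
        have h1 : (⊤ : Subfield F) ≤ frobFix p 1 :=
          eq_top_of_RG_le (k' := ⊤) (by rw [htop]; exact le_top)
        exact h1 (Subfield.mem_top a)
      have hle' := card_le_of_frobFix_top p 1 one_pos hall
      obtain ⟨n, -, hn⟩ := FiniteField.card F p
      rw [pow_one] at hle'
      have hn1 : (n : ℕ) = 1 := by
        by_contra hne
        have h2n : 2 ≤ (n : ℕ) := by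
          have := n.pos
          omega
        have h3 : p ^ 2 ≤ p ^ (n : ℕ) := Nat.pow_le_pow_right hpp.pos h2n
        have h4 : p * 2 ≤ p ^ 2 := by
          rw [pow_two]
          exact Nat.mul_le_mul_left p hpp.two_le
        have := hpp.pos
        omega
      rw [hn, hn1, pow_one]
      exact hpp
    · exfalso
      have heq := eq_of_coatom_le hco hle htop
      have hu : tau (QuotientGroup.mk (uu (1 : F)) : PG F) ∈
          M.map (MulAut.conj (Matrix.ProjGenLinGroup.mk g₀)).toMonoidHom := by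
        rw [heq, tau_mem_RG_iff]
        exact SLK_le_ratForm _ (uu_one_mem_SLK _)
      obtain ⟨m, hm, hmu⟩ := hu
      apply hpM
      have h1 : orderOf m = p := by
        rw [← orderOf_tau_uu_one (F := F) p, ← hmu]
        exact (MulEquiv.orderOf_eq (MulAut.conj (Matrix.ProjGenLinGroup.mk g₀)) m).symm
      rw [← h1]
      exact Subgroup.orderOf_dvd_natCard M hm
  · -- the congruence
    have hV := quatKlein_isKleinFour h2 A B hAB
    have hnorm : M ≤ Subgroup.normalizer
        ((((quatKlein h2 A B hAB).map tau : Subgroup (GG F))) : Set (GG F)) := by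
      intro m hm
      apply mem_normalizer_of_conj_mem
      induction m using Matrix.ProjGenLinGroup.induction_on with | mk g =>
      obtain ⟨c1, c2⟩ := hconj g hm
      have hsub : ∀ X : S2 F, InQ8 A B X →
          (QuotientGroup.mk X : PG F) ∈ quatKlein h2 A B hAB := by
        intro X hX
        rw [mem_quatKlein]
        rcases hX with rfl | rfl | rfl | rfl | rfl | rfl
        · exact Or.inr (Or.inl rfl)
        · exact Or.inr (Or.inl (psl2_mk_neg _))
        · exact Or.inr (Or.inr (Or.inl rfl))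
        · exact Or.inr (Or.inr (Or.inl (psl2_mk_neg _)))
        · exact Or.inr (Or.inr (Or.inr rfl))
        · exact Or.inr (Or.inr (Or.inr (psl2_mk_neg _)))
      have hcA : (QuotientGroup.mk (conjGL g A) : PG F) ∈ quatKlein h2 A B hAB := hsub _ c1
      have hcB : (QuotientGroup.mk (conjGL g B) : PG F) ∈ quatKlein h2 A B hAB := hsub _ c2
      rintro _ ⟨v, hv, rfl⟩
      have hv := (mem_quatKlein h2 A B hAB v).mp hv
      rcases hv with rfl | rfl | rfl | rfl
      · rw [map_one, mul_one, mul_inv_cancel]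
        exact Subgroup.one_mem _
      · rw [← tau_conjGL]
        exact ⟨_, hcA, rfl⟩
      · rw [← tau_conjGL]
        exact ⟨_, hcB, rfl⟩
      · rw [← QuotientGroup.mk_mul, ← tau_conjGL, map_mul, QuotientGroup.mk_mul]
        exact ⟨_, Subgroup.mul_mem _ hcA hcB, rfl⟩
    obtain ⟨-, hcomap⟩ := klein_normalizer_gl hodd h5 M hM _ hV hnorm
    have hcard : Nat.card M = 24 := by
      rw [Nat.card_congr e.toEquiv, card_perm_four]
    have h12 : Nat.card (Subgroup.normalizer ((quatKlein h2 A B hAB : Subgroup (PG F)) :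
        Set (PG F))) = 12 := by
      have := card_eq_two_mul_comap hodd M hML
      rw [hcomap, hcard] at this
      omega
    by_contra hcon
    have hq : Fintype.card F % 8 = 1 ∨ Fintype.card F % 8 = 7 := by
      obtain ⟨j, hj⟩ := hodd; omega
    have hG : Nat.card (PG F) * 2 = (Fintype.card F ^ 2 - 1) * Fintype.card F :=
      Cfsg.Agent.Helper98.PSL2Card.card_psl2_odd (F := F) rfl hodd
    have h16 : ∃ m, Fintype.card F ^ 2 - 1 = 16 * m := by
      rcases hq with hq | hq
      · obtain ⟨t, ht⟩ : ∃ t, Fintype.card F = 8 * t + 1 := ⟨Fintype.card F / 8, by omega⟩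
        refine ⟨t * (4 * t + 1), ?_⟩
        rw [ht]
        apply Nat.sub_eq_of_eq_add
        ring
      · obtain ⟨t, ht⟩ : ∃ t, Fintype.card F = 8 * t + 7 := ⟨Fintype.card F / 8, by omega⟩
        refine ⟨(t + 1) * (4 * t + 3), ?_⟩
        rw [ht]
        apply Nat.sub_eq_of_eq_add
        ring
    obtain ⟨m, hm⟩ := h16
    have h8 : 8 ∣ Nat.card (PG F) := by
      refine ⟨m * Fintype.card F, ?_⟩
      apply Nat.eq_of_mul_eq_mul_right (by norm_num : 0 < 2)
      rw [hG, hm]
      ring
    have := Cfsg.Agent.Helper98.KleinNorm.eight_dvd_card_normalizer _ hV h8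
    rw [h12] at this
    omega

end main

end Cfsg.Agent.Helper41.PGLMax
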