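import Cfsg.Agent.Lib.Helper41.PGLConj

/-!
# Maximal subgroups of `PGL₂(q)`, `q` odd: subgroups `S₄` — the quaternion pair
-/

set_option autoImplicit false
set_option linter.unusedSectionVars false
set_option linter.unusedVariables false
set_option linter.style.haveILetI false

namespace Cfsg.Agent.Helper41.PGLMax

open Matrix Cfsg.Agent.Helper98.Ident Cfsg.Agent.Helper98.Dickson Cfsg.Agent.Helper41
  Cfsg.Agent.Helper41.PMax

section general

variable {G : Type*} [Group G]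

theorem perm4_sq : (∃ s : Equiv.Perm (Fin 4), s * s = ka4) ∧
    (∃ s : Equiv.Perm (Fin 4), s * s = kb4) := by
  decide

/-- the normal four-group of a subgroup isomorphic to `S₄` -/
theorem perm4_klein (M : Subgroup G) (e : M ≃* Equiv.Perm (Fin 4)) :
    ∃ a b : G, a ∈ M ∧ b ∈ M ∧ a ≠ 1 ∧ b ≠ 1 ∧ a * a = 1 ∧ b * b = 1 ∧ a * b = b * a ∧ a ≠ b ∧
      (∃ s : G, s * s = a) ∧ (∃ s : G, s * s = b) ∧
      ∀ m ∈ M, (m * a * m⁻¹ = a ∨ m * a * m⁻¹ = b ∨ m * a * m⁻¹ = a * b) ∧
        (m * b * m⁻¹ = a ∨ m * b * m⁻¹ = b ∨ m * b * m⁻¹ = a * b) := by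
  obtain ⟨h1, h2, h3, h4, h5, h6, h7, h8⟩ := k4_facts
  obtain ⟨ha, hb, ha1, hb1, haa, hbb, hab, hne⟩ := klein_transport M e ka4 kb4 h1 h2 h3 h4 h5 h6
  obtain ⟨⟨s1, hs1⟩, ⟨s2, hs2⟩⟩ := perm4_sq
  refine ⟨_, _, ha, hb, ha1, hb1, haa, hbb, hab, hne, ⟨((e.symm s1 : M) : G), ?_⟩,
    ⟨((e.symm s2 : M) : G), ?_⟩, ?_⟩
  · rw [← Subgroup.coe_mul, ← map_mul, hs1]
  · rw [← Subgroup.coe_mul, ← map_mul, hs2]
  · intro m hm
    have key : ∀ γ : Equiv.Perm (Fin 4), m * ((e.symm γ : M) : G) * m⁻¹ =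
        ((e.symm (e ⟨m, hm⟩ * γ * (e ⟨m, hm⟩)⁻¹) : M) : G) := by
      intro γ
      rw [map_mul, map_mul, map_inv, e.symm_apply_apply]
      rfl
    obtain ⟨k1, k2⟩ := k4_normal (e ⟨m, hm⟩)
    have hαβ : ((e.symm (ka4 * kb4) : M) : G) =
        ((e.symm ka4 : M) : G) * ((e.symm kb4 : M) : G) := by
      rw [map_mul]; rfl
    constructor
    · rw [key ka4]
      rcases k1 with k | k | k <;> rw [k]
      · left; rfl
      · right; left; rfl
      · right; right; exact hαβ
    · rw [key kb4]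
      rcases k2 with k | k | k <;> rw [k]
      · left; rfl
      · right; left; rfl
      · right; right; exact hαβ

end general

section quat

variable {F : Type*} [Field F] [Fintype F]

/-- membership in the quaternion group generated by a quaternion pair, up to sign -/
def InQ8 (A B X : S2 F) : Prop :=
  X = A ∨ X = -A ∨ X = B ∨ X = -B ∨ X = A * B ∨ X = -(A * B)

/-- the quaternion pair of a subgroup `S₄` of `PGL₂(F)` -/
theorem perm4_quat (hodd : Odd (Fintype.card F)) (M : Subgroup (GG F))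
    (e : M ≃* Equiv.Perm (Fin 4)) :
    ∃ A B : S2 F, IsQuatPair A B ∧ tau (QuotientGroup.mk A : PG F) ∈ M ∧
      tau (QuotientGroup.mk B : PG F) ∈ M ∧
      ∀ g : GL (Fin 2) F, Matrix.ProjGenLinGroup.mk g ∈ M →
        InQ8 A B (conjGL g A) ∧ InQ8 A B (conjGL g B) := by
  have h2 := two_ne_zero_of_odd_card hodd
  have hL2 := index_range_tau hodd
  obtain ⟨a, b, ha, hb, ha1, hb1, haa, hbb, hab, hne, ⟨s1, hs1⟩, ⟨s2, hs2⟩, hconj⟩ :=
    perm4_klein M e
  obtain ⟨a', ha'⟩ : ∃ a' : PG F, tau a' = a := hs1 ▸ sq_mem_of_index_two' _ hL2 s1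
  obtain ⟨b', hb'⟩ : ∃ b' : PG F, tau b' = b := hs2 ▸ sq_mem_of_index_two' _ hL2 s2
  obtain ⟨A, rfl⟩ := QuotientGroup.mk_surjective a'
  obtain ⟨B, rfl⟩ := QuotientGroup.mk_surjective b'
  have hAB : IsQuatPair A B := by
    apply (quat_pair_iff h2 A B).mpr
    refine ⟨?_, ?_, ?_, ?_, ?_, ?_⟩
    · intro h
      apply ha1
      rw [← ha', h, map_one]
    · intro h
      apply hb1
      rw [← hb', h, map_one]
    · apply tau_injective
      rw [map_mul, ha', haa, map_one]
    · apply tau_injective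
      rw [map_mul, hb', hbb, map_one]
    · apply tau_injective
      rw [map_mul, map_mul, ha', hb', hab]
    · intro h
      apply hne
      rw [← ha', ← hb', h]
  refine ⟨A, B, hAB, ha' ▸ ha, hb' ▸ hb, ?_⟩
  intro g hg
  obtain ⟨k1, k2⟩ := hconj _ hg
  rw [← ha', ← hb', ← tau_conjGL, ← map_mul, ← QuotientGroup.mk_mul] at k1 k2
  have conv : ∀ X Y : S2 F, tau (QuotientGroup.mk X : PG F) = tau (QuotientGroup.mk Y : PG F) →
      X = Y ∨ X = -Y := by
    intro X Y h
    exact (psl2_mk_eq_mk_iff Y X).mp (tau_injective h).symm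
  constructor
  · rcases k1 with k | k | k
    · rcases conv _ _ k with h | h
      · exact Or.inl h
      · exact Or.inr (Or.inl h)
    · rcases conv _ _ k with h | h
      · exact Or.inr (Or.inr (Or.inl h))
      · exact Or.inr (Or.inr (Or.inr (Or.inl h)))
    · rcases conv _ _ k with h | h
      · exact Or.inr (Or.inr (Or.inr (Or.inr (Or.inl h))))
      · exact Or.inr (Or.inr (Or.inr (Or.inr (Or.inr h))))
  · rcases k2 with k | k | k
    · rcases conv _ _ k with h | h
      · exact Or.inl h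
      · exact Or.inr (Or.inl h)
    · rcases conv _ _ k with h | h
      · exact Or.inr (Or.inr (Or.inl h))
      · exact Or.inr (Or.inr (Or.inr (Or.inl h)))
    · rcases conv _ _ k with h | h
      · exact Or.inr (Or.inr (Or.inr (Or.inr (Or.inl h))))
      · exact Or.inr (Or.inr (Or.inr (Or.inr (Or.inr h))))

end quat

end Cfsg.Agent.Helper41.PGLMax
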