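import Cfsg.Agent.Lib.Helper41.PGLS4a
import Cfsg.Agent.Lib.Helper41.PGLRat

/-!
# Maximal subgroups of `PGL₂(q)`, `q` odd: subgroups `S₄` — rationality of the normalizer of `Q₈`
-/

set_option autoImplicit false
set_option linter.unusedSectionVars false
set_option linter.unusedVariables false
set_option linter.style.haveILetI false

namespace Cfsg.Agent.Helper41.PGLMax

open Matrix Cfsg.Agent.Helper98.Ident Cfsg.Agent.Helper98.Dickson Cfsg.Agent.Helper41
  Cfsg.Agent.Helper41.PMax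

section rat

variable {F : Type*} [Field F]

theorem neg_mem_SLK (k : Subfield F) (X : S2 F) (h : X ∈ SLK k) : -X ∈ SLK k := by
  intro i j
  rw [Matrix.SpecialLinearGroup.coe_neg, Matrix.neg_apply]
  exact neg_mem (h i j)

theorem quatI_mem_SLK (k : Subfield F) : (quatI : S2 F) ∈ SLK k := by
  apply mem_SLK_of <;> simp [quatI, zero_mem, one_mem]

theorem quatJ_mem_SLK (k : Subfield F) (x y : F) (hx : x ∈ k) (hy : y ∈ k)
    (hxy : x ^ 2 + y ^ 2 = -1) : quatJ x y hxy ∈ SLK k := by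
  apply mem_SLK_of <;> simp [quatJ, hx, hy]

theorem inQ8_mem_SLK (k : Subfield F) (A B X : S2 F) (hA : A ∈ SLK k) (hB : B ∈ SLK k)
    (hX : InQ8 A B X) : X ∈ SLK k := by
  rcases hX with rfl | rfl | rfl | rfl | rfl | rfl
  · exact hA
  · exact neg_mem_SLK k _ hA
  · exact hB
  · exact neg_mem_SLK k _ hB
  · exact (SLK k).mul_mem hA hB
  · exact neg_mem_SLK k _ ((SLK k).mul_mem hA hB)

theorem uu_one_eq (h2 : (2 : F) ≠ 0) (x y : F) (hxy : x ^ 2 + y ^ 2 = -1) :
    (uu (1 : F)).1 = 1 + (2 : F)⁻¹ • ((quatI : S2 F).1 +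
      x • ((quatI : S2 F).1 * (quatJ x y hxy).1) - y • (quatJ x y hxy).1) := by
  have h2' : (2 : F)⁻¹ * 2 = 1 := inv_mul_cancel₀ h2
  ext i j
  fin_cases i <;> fin_cases j
  all_goals
    simp [uu, mk2, quatI, quatJ, Matrix.mul_apply, Fin.sum_univ_two]
    first
      | (right; linear_combination (-1 : F) * hxy)
      | (right; linear_combination (1 : F) * hxy)
      | (right; ring)
      | linear_combination (-1 : F) * hxy
      | linear_combination (1 : F) * hxy
      | linear_combination (2 : F)⁻¹ * hxy - h2'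
      | ring

theorem ll_one_eq (h2 : (2 : F) ≠ 0) (x y : F) (hxy : x ^ 2 + y ^ 2 = -1) :
    (ll (1 : F)).1 = 1 + (2 : F)⁻¹ • (x • ((quatI : S2 F).1 * (quatJ x y hxy).1) -
      y • (quatJ x y hxy).1 - (quatI : S2 F).1) := by
  have h2' : (2 : F)⁻¹ * 2 = 1 := inv_mul_cancel₀ h2
  ext i j
  fin_cases i <;> fin_cases j
  all_goals
    simp [ll, mk2, quatI, quatJ, Matrix.mul_apply, Fin.sum_univ_two]
    first
      | (right; linear_combination (-1 : F) * hxy)
      | (right; linear_combination (1 : F) * hxy)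
      | (right; ring)
      | linear_combination (-1 : F) * hxy
      | linear_combination (1 : F) * hxy
      | linear_combination (2 : F)⁻¹ * hxy - h2'
      | ring

theorem one_apply_mem (k : Subfield F) (i j : Fin 2) :
    (1 : Matrix (Fin 2) (Fin 2) F) i j ∈ k := by
  rw [Matrix.one_apply]
  split_ifs
  · exact one_mem k
  · exact zero_mem k

/-- if conjugation by `g` maps the standard quaternion pair to `k`-rational matrices, then it maps
the elementary unipotent matrices to `k`-rational matrices -/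
theorem conj_uu_ll_mem (k : Subfield F) (h2 : (2 : F) ≠ 0) (x y : F) (hx : x ∈ k) (hy : y ∈ k)
    (hxy : x ^ 2 + y ^ 2 = -1) (g : GL (Fin 2) F) (hI : conjGL g quatI ∈ SLK k)
    (hJ : conjGL g (quatJ x y hxy) ∈ SLK k) :
    conjGL g (uu 1) ∈ SLK k ∧ conjGL g (ll 1) ∈ SLK k := by
  have hIJ : conjGL g quatI * conjGL g (quatJ x y hxy) ∈ SLK k := (SLK k).mul_mem hI hJ
  have h2k : (2 : F)⁻¹ ∈ k := inv_mem (two_mem k)
  have hgg : (g⁻¹).1 * g.1 = 1 := by simp
  have hgg' : g.1 * (g⁻¹).1 = 1 := by simp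
  have hprod : g.1 * (quatI : S2 F).1 * (g⁻¹).1 * (g.1 * (quatJ x y hxy).1 * (g⁻¹).1) =
      g.1 * ((quatI : S2 F).1 * (quatJ x y hxy).1) * (g⁻¹).1 := by
    calc g.1 * (quatI : S2 F).1 * (g⁻¹).1 * (g.1 * (quatJ x y hxy).1 * (g⁻¹).1)
        = g.1 * (quatI : S2 F).1 * ((g⁻¹).1 * g.1) * (quatJ x y hxy).1 * (g⁻¹).1 := by
          simp only [mul_assoc]
      _ = g.1 * ((quatI : S2 F).1 * (quatJ x y hxy).1) * (g⁻¹).1 := by
          rw [hgg, mul_one]; simp only [mul_assoc]
  have e1 : (conjGL g (uu 1)).1 = 1 + (2 : F)⁻¹ • ((conjGL g quatI).1 +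
      x • (conjGL g quatI * conjGL g (quatJ x y hxy)).1 - y • (conjGL g (quatJ x y hxy)).1) := by
    rw [Matrix.SpecialLinearGroup.coe_mul]
    simp only [conjGL_coe]
    rw [uu_one_eq h2 x y hxy, hprod]
    simp only [Matrix.mul_add, Matrix.add_mul, Matrix.mul_sub, Matrix.sub_mul, Matrix.mul_smul,
      Matrix.smul_mul, Matrix.mul_one, hgg']
  have e2 : (conjGL g (ll 1)).1 = 1 + (2 : F)⁻¹ • (x • (conjGL g quatI *
      conjGL g (quatJ x y hxy)).1 - y • (conjGL g (quatJ x y hxy)).1 - (conjGL g quatI).1) := by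
    rw [Matrix.SpecialLinearGroup.coe_mul]
    simp only [conjGL_coe]
    rw [ll_one_eq h2 x y hxy, hprod]
    simp only [Matrix.mul_add, Matrix.add_mul, Matrix.mul_sub, Matrix.sub_mul, Matrix.mul_smul,
      Matrix.smul_mul, Matrix.mul_one, hgg']
  constructor
  · intro i j
    rw [e1]
    simp only [Matrix.add_apply, Matrix.smul_apply, Matrix.sub_apply, smul_eq_mul]
    exact add_mem (one_apply_mem k i j) (mul_mem h2k (sub_mem (add_mem (hI i j)
      (mul_mem hx (hIJ i j))) (mul_mem hy (hJ i j))))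
  · intro i j
    rw [e2]
    simp only [Matrix.add_apply, Matrix.smul_apply, Matrix.sub_apply, smul_eq_mul]
    exact add_mem (one_apply_mem k i j) (mul_mem h2k (sub_mem (sub_mem
      (mul_mem hx (hIJ i j)) (mul_mem hy (hJ i j))) (hI i j)))

end rat

end Cfsg.Agent.Helper41.PGLMax
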