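import Cfsg.Agent.Lib.Helper41.PGLBase

/-!
# Maximal subgroups of `PGL₂(q)`, `q` odd: extended centralizers of semisimple elements
-/

set_option autoImplicit false
set_option linter.unusedSectionVars false
set_option linter.unusedVariables false
set_option linter.style.haveILetI false

namespace Cfsg.Agent.Helper41.PGLMax

open Matrix Cfsg.Agent.Helper98.Ident Cfsg.Agent.Helper98.Dickson Cfsg.Agent.Helper41
  Cfsg.Agent.Helper41.PMax Cfsg.Agent.Helper98.Torus

variable {F : Type*} [Field F] [Fintype F] (p : ℕ) [Fact p.Prime] [CharP F p]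

/-- the extended centralizer in `PSL₂(F)` lifts to the extended centralizer in `SL₂(F)` -/
theorem pre_NX (h2 : (2 : F) ≠ 0) (X : S2 F) : pre (NX (QuotientGroup.mk X : PG F)) = NX X := by
  apply le_antisymm
  · intro g hg
    exact mem_NX_of_mk h2 X g hg
  · intro g hg
    change (QuotientGroup.mk g : PG F) ∈ NX (QuotientGroup.mk X : PG F)
    rcases hg with h | h
    · left
      change (QuotientGroup.mk (g * X * g⁻¹) : PG F) = _
      rw [h]
    · right
      change (QuotientGroup.mk (g * X * g⁻¹) : PG F) = _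
      rw [h]
      rfl

/-- the order of the extended centralizer of a semisimple element of `PSL₂(F)` -/
theorem card_NX_psl (h2 : (2 : F) ≠ 0) (X : S2 F) (ht : X.1.trace ^ 2 ≠ 4) :
    Nat.card (NX (QuotientGroup.mk X : PG F)) = Fintype.card F - 1 ∨
      Nat.card (NX (QuotientGroup.mk X : PG F)) = Fintype.card F + 1 := by
  have h1 := card_pre h2 (NX (QuotientGroup.mk X : PG F))
  rw [pre_NX h2 X] at h1
  rcases card_NX_odd h2 X ht with h | h
  · left
    exact Nat.eq_of_mul_eq_mul_left (by norm_num : 0 < 2) (h1.symm.trans h)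
  · right
    exact Nat.eq_of_mul_eq_mul_left (by norm_num : 0 < 2) (h1.symm.trans h)

theorem NX_psl_ne_top (h2 : (2 : F) ≠ 0) (h5 : 5 ≤ Fintype.card F) (X : S2 F)
    (ht : X.1.trace ^ 2 ≠ 4) : NX (QuotientGroup.mk X : PG F) ≠ ⊤ := by
  intro h
  apply NX_ne_top h2 h5 X ht
  rw [← pre_NX h2 X, h]
  rfl

/-- pulling back the extended centralizer along `PSL₂ → PGL₂` -/
theorem comap_NX (c : PG F) : (NX (tau c)).comap tau = NX c := by
  ext y
  rw [Subgroup.mem_comap]
  change (tau y * tau c * (tau y)⁻¹ = tau c ∨ tau y * tau c * (tau y)⁻¹ = (tau c)⁻¹) ↔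
    (y * c * y⁻¹ = c ∨ y * c * y⁻¹ = c⁻¹)
  rw [← map_inv, ← map_inv, ← map_mul, ← map_mul]
  constructor
  · rintro (h | h)
    · left; exact tau_injective h
    · right; exact tau_injective h
  · rintro (h | h)
    · left; rw [h]
    · right; rw [h]

/-- the generic step: a coatom `M` of `PGL₂(F)` not inside `PSL₂(F)`, all of whose elements
conjugate a semisimple `c ∈ PSL₂(F)` to `c^{±1}`, is the extended centralizer of `c` and has order
`2 (q ∓ 1)` -/
theorem card_of_conj_pm_gl (hp2 : p ≠ 2) (h5 : 5 ≤ Fintype.card F) (M : Subgroup (GG F))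
    (hM : IsCoatom M) (hML : ¬ M ≤ (tau (F := F)).range) (c : PG F) (hc1 : c ≠ 1)
    (hcp : ¬ p ∣ orderOf c)
    (hconj : ∀ m ∈ M, m * tau c * m⁻¹ = tau c ∨ m * tau c * m⁻¹ = (tau c)⁻¹) :
    M = NX (tau c) ∧ M.comap tau = NX c ∧
      (Nat.card M = 2 * (Fintype.card F - 1) ∨ Nat.card M = 2 * (Fintype.card F + 1)) := by
  have h2 : (2 : F) ≠ 0 := two_ne_zero_of_char p hp2
  have hodd : Odd (Fintype.card F) := odd_card_of_char_ne_two p hp2
  obtain ⟨X, rfl⟩ := QuotientGroup.mk_surjective c
  have ht := trace_sq_ne_four_of_order p X hc1 hcp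
  have hle : M ≤ NX (tau (QuotientGroup.mk X : PG F)) := fun m hm => hconj m hm
  have hne : NX (tau (QuotientGroup.mk X : PG F)) ≠ ⊤ := by
    intro h
    apply NX_psl_ne_top h2 h5 X ht
    rw [← comap_NX, h]
    rfl
  have heq := eq_of_coatom_le hM hle hne
  have hcomap : M.comap tau = NX (QuotientGroup.mk X : PG F) := by rw [heq, comap_NX]
  refine ⟨heq, hcomap, ?_⟩
  rw [card_eq_two_mul_comap hodd M hML, hcomap]
  rcases card_NX_psl h2 X ht with h | h
  · left; rw [h]
  · right; rw [h]

end Cfsg.Agent.Helper41.PGLMax
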