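import Mathlib

/-!
# Normaliser growth in `p`-groups (helper41; generic tool for the order-`459648` servers, S1022)

`h41_exists_succ_normalizer`: a `p`-subgroup `X` of order `p ^ k` of a finite group whose order is divisible by
`p ^ (k + 1)` lies in a subgroup `K` of order `p ^ (k + 1)` which normalises it; in particular
`p ^ (k + 1) ∣ |N_G(X)|` (`h41_pow_succ_dvd_card_normalizer`).
-/

set_option autoImplicit false

namespace Cfsg.Agent.Helper41.PGrow

theorem h41_exists_succ_normalizer {G : Type*} [Group G] [Finite G] {p k : ℕ} [hp : Fact p.Prime]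
    (X : Subgroup G) (hX : Nat.card X = p ^ k) (hG : p ^ (k + 1) ∣ Nat.card G) :
    ∃ K : Subgroup G, Nat.card K = p ^ (k + 1) ∧ X ≤ K ∧ K ≤ Subgroup.normalizer (X : Set G) := by
  obtain ⟨K, hK, hXK⟩ := Sylow.exists_subgroup_card_pow_succ hG hX
  refine ⟨K, hK, hXK, ?_⟩
  -- `X` has index `p` in the `p`-group `K`, hence is normal in `K`
  have hKp : IsPGroup p K := IsPGroup.of_card hK
  have hidx : (X.subgroupOf K).index = p := by
    have h1 := Subgroup.card_mul_index (X.subgroupOf K)
    have h2 : Nat.card (X.subgroupOf K) = p ^ k := by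
      rw [← hX]
      exact Nat.card_congr (Subgroup.subgroupOfEquivOfLe hXK).toEquiv
    rw [h2, hK, pow_succ] at h1
    exact Nat.eq_of_mul_eq_mul_left (pow_pos hp.out.pos k) h1
  have hnorm : (X.subgroupOf K).Normal := by
    apply Subgroup.normal_of_index_eq_minFac_card
    rw [hidx, hK, Nat.Prime.pow_minFac hp.out (Nat.succ_ne_zero k)]
  intro g hg
  have h3 := hnorm.conj_mem
  rw [Subgroup.mem_normalizer_iff]
  intro x
  constructor
  · intro hx
    have h4 := h3 ⟨x, hXK hx⟩ (by rw [Subgroup.mem_subgroupOf]; exact hx) ⟨g, hg⟩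
    rw [Subgroup.mem_subgroupOf] at h4
    have h5 : g * x * g⁻¹ ∈ X := by simpa using h4
    exact h5
  · intro hx
    have hgx : g * x * g⁻¹ ∈ K := hXK hx
    have h4 := h3 ⟨g * x * g⁻¹, hgx⟩ (by rw [Subgroup.mem_subgroupOf]; exact hx) ⟨g⁻¹, K.inv_mem hg⟩
    rw [Subgroup.mem_subgroupOf] at h4
    have h5 : g⁻¹ * (g * x * g⁻¹) * g ∈ X := by simpa using h4
    have e : g⁻¹ * (g * x * g⁻¹) * g = x := by group
    rwa [e] at h5

theorem h41_pow_succ_dvd_card_normalizer {G : Type*} [Group G] [Finite G] {p k : ℕ}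
    [hp : Fact p.Prime] (X : Subgroup G) (hX : Nat.card X = p ^ k)
    (hG : p ^ (k + 1) ∣ Nat.card G) :
    p ^ (k + 1) ∣ Nat.card (Subgroup.normalizer (X : Set G)) := by
  obtain ⟨K, hK, -, hKN⟩ := h41_exists_succ_normalizer X hX hG
  rw [← hK]
  exact Subgroup.card_dvd_of_le hKN

end Cfsg.Agent.Helper41.PGrow
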