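import Cfsg.Agent.Lib.Helper41.PMaxAlt

/-!
# Maximal `A₄`, `S₄`, `A₅` in `PSL₂(F)`: bounds on `|F|`
-/

set_option autoImplicit false
set_option linter.unusedSectionVars false
set_option linter.unusedVariables false
set_option linter.style.haveILetI false

namespace Cfsg.Agent.Helper41.PMax

open Matrix Cfsg.Agent.Helper98.Ident Cfsg.Agent.Helper98.Dickson Cfsg.Agent.Helper41

variable {F : Type*} [Field F] [Fintype F] (p : ℕ) [Fact p.Prime] [CharP F p]

/-- a maximal `A₄` of order prime to `p` forces `|F| ≤ p` -/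
theorem alt4_card_le (hp2 : p ≠ 2) (M : Subgroup (PG F)) (hM : IsCoatom M)
    (hpM : ¬ p ∣ Nat.card M) (e : M ≃* alternatingGroup (Fin 4)) : Fintype.card F ≤ p ^ 1 := by
  obtain ⟨h1, h2, h3, h4, h5, h6, h7, h8⟩ := k4_facts
  obtain ⟨α, hα⟩ : ∃ α : alternatingGroup (Fin 4), α = ⟨ka4, Equiv.Perm.mem_alternatingGroup.mpr h7⟩ :=
    ⟨_, rfl⟩
  obtain ⟨β, hβ⟩ : ∃ β : alternatingGroup (Fin 4), β = ⟨kb4, Equiv.Perm.mem_alternatingGroup.mpr h8⟩ :=
    ⟨_, rfl⟩
  obtain ⟨ha, hb, ha1, hb1, haa, hbb, hab, hne⟩ := klein_transport M e α β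
    (by rw [hα]; intro h; exact h1 (congrArg Subtype.val h))
    (by rw [hβ]; intro h; exact h2 (congrArg Subtype.val h))
    (by rw [hα]; apply Subtype.ext; exact h3)
    (by rw [hβ]; apply Subtype.ext; exact h4)
    (by rw [hα, hβ]; apply Subtype.ext; exact h5)
    (by rw [hα, hβ]; intro h; exact h6 (congrArg Subtype.val h))
  apply card_le_of_traces p hp2 M hM hpM _ _ ha hb ha1 hb1 haa hbb hab hne 1 one_pos
  intro h hh
  have hs : Equiv.Perm.sign (e ⟨_, hh⟩).1 = 1 := Equiv.Perm.mem_alternatingGroup.mp (e ⟨_, hh⟩).2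
  rcases perm4_even _ hs with h' | h'
  · apply trace_mem_two
    apply pow_eq_one_of_equiv M e _ hh 2
    apply Subtype.ext
    simpa using h'
  · apply trace_mem_three
    apply pow_eq_one_of_equiv M e _ hh 3
    apply Subtype.ext
    simpa using h'

/-- a maximal `A₅` of order prime to `p` forces `|F| ≤ p²`, and `|F| ≤ p` if `5` is a square in the
prime field -/
theorem alt5_card_le (hp2 : p ≠ 2) (M : Subgroup (PG F)) (hM : IsCoatom M)
    (hpM : ¬ p ∣ Nat.card M) (e : M ≃* alternatingGroup (Fin 5)) (j : ℕ) (hj : 0 < j)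
    (hk5 : ∀ c : F, c ^ 2 = 5 → c ∈ frobFix (F := F) p j) : Fintype.card F ≤ p ^ j := by
  have h2F : (2 : F) ≠ 0 := two_ne_zero_of_char p hp2
  obtain ⟨h1, h2, h3, h4, h5, h6, h7, h8⟩ := k5_facts
  obtain ⟨α, hα⟩ : ∃ α : alternatingGroup (Fin 5), α = ⟨ka5, Equiv.Perm.mem_alternatingGroup.mpr h7⟩ :=
    ⟨_, rfl⟩
  obtain ⟨β, hβ⟩ : ∃ β : alternatingGroup (Fin 5), β = ⟨kb5, Equiv.Perm.mem_alternatingGroup.mpr h8⟩ :=
    ⟨_, rfl⟩
  obtain ⟨ha, hb, ha1, hb1, haa, hbb, hab, hne⟩ := klein_transport M e α β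
    (by rw [hα]; intro h; exact h1 (congrArg Subtype.val h))
    (by rw [hβ]; intro h; exact h2 (congrArg Subtype.val h))
    (by rw [hα]; apply Subtype.ext; exact h3)
    (by rw [hβ]; apply Subtype.ext; exact h4)
    (by rw [hα, hβ]; apply Subtype.ext; exact h5)
    (by rw [hα, hβ]; intro h; exact h6 (congrArg Subtype.val h))
  apply card_le_of_traces p hp2 M hM hpM _ _ ha hb ha1 hb1 haa hbb hab hne j hj
  intro h hh
  have hs : Equiv.Perm.sign (e ⟨_, hh⟩).1 = 1 := Equiv.Perm.mem_alternatingGroup.mp (e ⟨_, hh⟩).2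
  rcases perm5_even _ hs with h' | h' | h'
  · apply trace_mem_two
    apply pow_eq_one_of_equiv M e _ hh 2
    apply Subtype.ext
    simpa using h'
  · apply trace_mem_three
    apply pow_eq_one_of_equiv M e _ hh 3
    apply Subtype.ext
    simpa using h'
  · apply trace_mem_five h2F _ hk5
    apply pow_eq_one_of_equiv M e _ hh 5
    apply Subtype.ext
    simpa using h'

/-- square roots of `5` lie in `𝔽_{p²}` -/
theorem sqrt_five_mem_two (hp2 : p ≠ 2) : ∀ c : F, c ^ 2 = 5 → c ∈ frobFix (F := F) p 2 := by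
  intro c hc
  apply sqrt_mem_frobFix_two p hp2 c 5
  rw [hc]; norm_num

/-- square roots of `2` lie in `𝔽_{p²}` -/
theorem sqrt_two_mem_two (hp2 : p ≠ 2) : ∀ c : F, c ^ 2 = 2 → c ∈ frobFix (F := F) p 2 := by
  intro c hc
  apply sqrt_mem_frobFix_two p hp2 c 2
  rw [hc]; norm_num

/-- if `p ≡ ±1 (mod 5)` then square roots of `5` lie in the prime field -/
theorem sqrt_five_mem_one (hp5 : p % 5 = 1 ∨ p % 5 = 4) :
    ∀ c : F, c ^ 2 = 5 → c ∈ frobFix (F := F) p 1 := by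
  have hpp : p.Prime := Fact.out
  haveI : Fact (Nat.Prime 5) := ⟨by norm_num⟩
  have hp2 : p ≠ 2 := by rintro rfl; omega
  have hsq : IsSquare ((5 : ℕ) : ZMod p) := by
    apply (ZMod.exists_sq_eq_prime_iff_of_mod_four_eq_one (p := 5) (q := p) (by norm_num) hp2).mp
    rw [← ZMod.natCast_mod p 5]
    rcases hp5 with h | h <;> rw [h]
    · exact ⟨1, by norm_num⟩
    · exact ⟨2, by norm_num⟩
  obtain ⟨c0, hc0⟩ := hsq
  -- transport to `F`
  have h1 : ((c0.val ^ 2 : ℕ) : ZMod p) = ((5 : ℕ) : ZMod p) := by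
    push_cast
    rw [ZMod.natCast_zmod_val]
    push_cast at hc0
    rw [hc0]
    ring
  have h3 : ((c0.val ^ 2 : ℕ) : F) = ((5 : ℕ) : F) := by
    rw [ZMod.natCast_eq_natCast_iff] at h1
    exact (CharP.natCast_eq_natCast F p).mpr h1
  push_cast at h3
  intro c hc
  have h4 : (c - (c0.val : F)) * (c + (c0.val : F)) = 0 := by linear_combination hc - h3
  rcases mul_eq_zero.mp h4 with e | e
  · rw [sub_eq_zero.mp e]
    exact natCast_mem _ _
  · rw [eq_neg_of_add_eq_zero_left e]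
    exact neg_mem (natCast_mem _ _)

end Cfsg.Agent.Helper41.PMax

namespace Cfsg.Agent.Helper41.PMax

open Matrix Cfsg.Agent.Helper98.Ident Cfsg.Agent.Helper98.Dickson Cfsg.Agent.Helper41

variable {F : Type*} [Field F] [Fintype F] (p : ℕ) [Fact p.Prime] [CharP F p]

/-- a maximal `S₄` of order prime to `p` forces `|F| ≤ p` -/
theorem perm4_card_le (hp2 : p ≠ 2) (M : Subgroup (PG F)) (hM : IsCoatom M)
    (hpM : ¬ p ∣ Nat.card M) (e : M ≃* Equiv.Perm (Fin 4)) : Fintype.card F ≤ p ^ 1 := by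
  have h2F : (2 : F) ≠ 0 := two_ne_zero_of_char p hp2
  obtain ⟨h1, h2, h3, h4, h5, h6, h7, h8⟩ := k4_facts
  obtain ⟨ha, hb, ha1, hb1, haa, hbb, hab, hne⟩ := klein_transport M e ka4 kb4 h1 h2 h3 h4 h5 h6
  obtain ⟨a, haE⟩ : ∃ a : PG F, a = ((e.symm ka4 : M) : PG F) := ⟨_, rfl⟩
  obtain ⟨b, hbE⟩ : ∃ b : PG F, b = ((e.symm kb4 : M) : PG F) := ⟨_, rfl⟩
  rw [← haE] at ha ha1 haa hab hne
  rw [← hbE] at hb hb1 hbb hab hne
  have hea : e ⟨a, ha⟩ = ka4 := by
    have : (⟨a, ha⟩ : M) = e.symm ka4 := Subtype.ext haE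
    rw [this, e.apply_symm_apply]
  have heb : e ⟨b, hb⟩ = kb4 := by
    have : (⟨b, hb⟩ : M) = e.symm kb4 := Subtype.ext hbE
    rw [this, e.apply_symm_apply]
  -- the elements of the four-group are even
  have hV : ∀ v : PG F, (v = 1 ∨ v = a ∨ v = b ∨ v = a * b) →
      ∃ hv : v ∈ M, Equiv.Perm.sign (e ⟨v, hv⟩) = 1 := by
    intro v hv
    rcases hv with rfl | rfl | rfl | rfl
    · refine ⟨M.one_mem, ?_⟩
      have : (⟨1, M.one_mem⟩ : M) = 1 := rfl
      rw [this, map_one, map_one]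
    · exact ⟨ha, by rw [hea]; exact h7⟩
    · exact ⟨hb, by rw [heb]; exact h8⟩
    · refine ⟨M.mul_mem ha hb, ?_⟩
      have : (⟨a * b, M.mul_mem ha hb⟩ : M) = ⟨a, ha⟩ * ⟨b, hb⟩ := rfl
      rw [this, map_mul, map_mul, hea, heb, h7, h8, one_mul]
  apply card_le_of_proj_traces p hp2 M hM hpM a b ha hb ha1 hb1 haa hbb hab hne 1 one_pos
  intro h hh
  -- the sign of `h * u`
  have hsign : ∀ u : S2 F, ((QuotientGroup.mk u : PG F) = 1 ∨ (QuotientGroup.mk u : PG F) = a ∨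
      (QuotientGroup.mk u : PG F) = b ∨ (QuotientGroup.mk u : PG F) = a * b) →
      ∃ hv : (QuotientGroup.mk (h * u) : PG F) ∈ M,
        Equiv.Perm.sign (e ⟨_, hv⟩) = Equiv.Perm.sign (e ⟨_, hh⟩) := by
    intro u hu
    obtain ⟨hv, hs⟩ := hV _ hu
    have hmem : (QuotientGroup.mk (h * u) : PG F) ∈ M := by
      rw [QuotientGroup.mk_mul]; exact M.mul_mem hh hv
    refine ⟨hmem, ?_⟩
    have : (⟨_, hmem⟩ : M) = ⟨_, hh⟩ * ⟨_, hv⟩ := by
      apply Subtype.ext
      exact QuotientGroup.mk_mul _ h u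
    rw [this, map_mul, map_mul, hs, mul_one]
  by_cases hs : Equiv.Perm.sign (e ⟨_, hh⟩) = 1
  · refine ⟨1, one_ne_zero, ?_⟩
    intro u hu
    obtain ⟨hv, hsv⟩ := hsign u hu
    rw [hs] at hsv
    refine ⟨(h * u).1.trace, ?_, by rw [one_mul]⟩
    rcases perm4_even _ hsv with h' | h'
    · apply trace_mem_two
      exact pow_eq_one_of_equiv M e _ hv 2 h'
    · apply trace_mem_three
      exact pow_eq_one_of_equiv M e _ hv 3 h'
  · -- odd elements
    have hodd : ∀ u : S2 F, ((QuotientGroup.mk u : PG F) = 1 ∨ (QuotientGroup.mk u : PG F) = a ∨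
        (QuotientGroup.mk u : PG F) = b ∨ (QuotientGroup.mk u : PG F) = a * b) →
        (h * u).1.trace = 0 ∨ (h * u).1.trace ^ 2 = 2 := by
      intro u hu
      obtain ⟨hv, hsv⟩ := hsign u hu
      have hsv' : Equiv.Perm.sign (e ⟨_, hv⟩) ≠ 1 := by rw [hsv]; exact hs
      have h4' := pow_eq_one_of_equiv M e _ hv 4 (perm4_odd _ hsv')
      have hne1 : (QuotientGroup.mk (h * u) : PG F) ≠ 1 := by
        intro h1'
        apply hsv'
        have : (⟨_, hv⟩ : M) = 1 := Subtype.ext h1'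
        rw [this, map_one, map_one]
      exact trace_of_pow_four _ hne1 h4'
    by_cases hex : ∃ s : F, s ^ 2 = 2
    · obtain ⟨s, hs2⟩ := hex
      have hs0 : s ≠ 0 := by
        rintro rfl
        apply h2F
        rw [← hs2]; ring
      refine ⟨s, hs0, ?_⟩
      intro u hu
      rcases hodd u hu with h0 | h0
      · exact ⟨0, zero_mem _, by rw [h0, mul_zero]⟩
      · have h5' : ((h * u).1.trace - s) * ((h * u).1.trace + s) = 0 := by
          linear_combination h0 - hs2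
        rcases mul_eq_zero.mp h5' with e' | e'
        · exact ⟨1, one_mem _, by rw [mul_one]; exact sub_eq_zero.mp e'⟩
        · exact ⟨-1, neg_mem (one_mem _), by
            rw [mul_neg, mul_one]; exact eq_neg_of_add_eq_zero_left e'⟩
    · refine ⟨1, one_ne_zero, ?_⟩
      intro u hu
      rcases hodd u hu with h0 | h0
      · exact ⟨0, zero_mem _, by rw [h0, mul_zero]⟩
      · exact absurd ⟨_, h0⟩ hex

end Cfsg.Agent.Helper41.PMax
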