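import Cfsg.Agent.Lib.Helper41.PMaxExc3
import Cfsg.Agent.Lib.Helper41.PMaxAlt2
import Cfsg.Agent.S0808

/-!
# Maximal `A₄` in `PSL₂(p)`: the congruence conditions
-/

set_option autoImplicit false
set_option linter.unusedSectionVars false
set_option linter.unusedVariables false
set_option linter.style.haveILetI false

namespace Cfsg.Agent.Helper41.PMax

open Matrix Cfsg.Agent.Helper98.Ident Cfsg.Agent.Helper98.Dickson Cfsg.Agent.Helper41

section general

variable {G : Type*} [Group G]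

/-- in a finite group, `g V g⁻¹ ⊆ V` implies `g ∈ N(V)` -/
theorem mem_normalizer_of_conj_mem [Finite G] (V : Subgroup G) (g : G)
    (h : ∀ x ∈ V, g * x * g⁻¹ ∈ V) : g ∈ Subgroup.normalizer (V : Set G) := by
  have hle : V.map (MulAut.conj g).toMonoidHom ≤ V := by
    rintro _ ⟨x, hx, rfl⟩
    exact h x hx
  have hcard : Nat.card (V.map (MulAut.conj g).toMonoidHom) = Nat.card V :=
    Nat.card_congr (Subgroup.equivMapOfInjective V _ (MulAut.conj g).injective).toEquiv.symm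
  have heq : V.map (MulAut.conj g).toMonoidHom = V :=
    Subgroup.eq_of_le_of_card_ge hle (le_of_eq hcard.symm)
  rw [Subgroup.mem_normalizer_iff]
  intro x
  constructor
  · exact h x
  · intro hx
    rw [← heq] at hx
    obtain ⟨y, hy, hyx⟩ := hx
    have h1 : g * y * g⁻¹ = g * x * g⁻¹ := hyx
    have h2 : y = x := by simpa using h1
    rw [← h2]
    exact hy

/-- a subgroup isomorphic to `A₄` normalises a Klein four-subgroup -/
theorem alt4_le_normalizer [Finite G] (M : Subgroup G) (e : M ≃* alternatingGroup (Fin 4)) :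
    ∃ V : Subgroup G, IsKleinFour V ∧ V ≤ M ∧ M ≤ Subgroup.normalizer (V : Set G) := by
  obtain ⟨h1, h2, h3, h4, h5, h6, h7, h8⟩ := k4_facts
  obtain ⟨α, hα⟩ : ∃ α : alternatingGroup (Fin 4),
    α = ⟨ka4, Equiv.Perm.mem_alternatingGroup.mpr h7⟩ := ⟨_, rfl⟩
  obtain ⟨β, hβ⟩ : ∃ β : alternatingGroup (Fin 4),
    β = ⟨kb4, Equiv.Perm.mem_alternatingGroup.mpr h8⟩ := ⟨_, rfl⟩
  obtain ⟨ha, hb, ha1, hb1, haa, hbb, hab, hne⟩ := klein_transport M e α β
    (by rw [hα]; intro h; exact h1 (congrArg Subtype.val h))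
    (by rw [hβ]; intro h; exact h2 (congrArg Subtype.val h))
    (by rw [hα]; apply Subtype.ext; exact h3)
    (by rw [hβ]; apply Subtype.ext; exact h4)
    (by rw [hα, hβ]; apply Subtype.ext; exact h5)
    (by rw [hα, hβ]; intro h; exact h6 (congrArg Subtype.val h))
  refine ⟨Cfsg.Agent.Helper19.kleinFour _ _ haa hbb hab,
    kleinFour_isKleinFour haa hbb hab ha1 hb1 hne, ?_, ?_⟩
  · rintro x (rfl | rfl | rfl | rfl)
    exacts [M.one_mem, ha, hb, M.mul_mem ha hb]
  · intro m hm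
    apply mem_normalizer_of_conj_mem
    have key : ∀ γ : alternatingGroup (Fin 4), m * ((e.symm γ : M) : G) * m⁻¹ =
        ((e.symm (e ⟨m, hm⟩ * γ * (e ⟨m, hm⟩)⁻¹) : M) : G) := by
      intro γ
      rw [map_mul, map_mul, map_inv, e.symm_apply_apply]
      rfl
    obtain ⟨k1, k2⟩ := k4_normal (e ⟨m, hm⟩).1
    have hαβ : ((e.symm (α * β) : M) : G) = ((e.symm α : M) : G) * ((e.symm β : M) : G) := by
      rw [map_mul]; rfl
    have hca : m * ((e.symm α : M) : G) * m⁻¹ ∈
        Cfsg.Agent.Helper19.kleinFour _ _ haa hbb hab := by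
      rw [key α]
      have : e ⟨m, hm⟩ * α * (e ⟨m, hm⟩)⁻¹ = α ∨ e ⟨m, hm⟩ * α * (e ⟨m, hm⟩)⁻¹ = β ∨
          e ⟨m, hm⟩ * α * (e ⟨m, hm⟩)⁻¹ = α * β := by
        rcases k1 with k | k | k
        · left; apply Subtype.ext; rw [hα]; exact k
        · right; left; apply Subtype.ext; rw [hα, hβ]; exact k
        · right; right; apply Subtype.ext; rw [hα, hβ]; exact k
      rcases this with k | k | k <;> rw [k]
      · exact Or.inr (Or.inl rfl)
      · exact Or.inr (Or.inr (Or.inl rfl))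
      · exact Or.inr (Or.inr (Or.inr hαβ))
    have hcb : m * ((e.symm β : M) : G) * m⁻¹ ∈
        Cfsg.Agent.Helper19.kleinFour _ _ haa hbb hab := by
      rw [key β]
      have : e ⟨m, hm⟩ * β * (e ⟨m, hm⟩)⁻¹ = α ∨ e ⟨m, hm⟩ * β * (e ⟨m, hm⟩)⁻¹ = β ∨
          e ⟨m, hm⟩ * β * (e ⟨m, hm⟩)⁻¹ = α * β := by
        rcases k2 with k | k | k
        · left; apply Subtype.ext; rw [hα, hβ]; exact k
        · right; left; apply Subtype.ext; rw [hβ]; exact k
        · right; right; apply Subtype.ext; rw [hα, hβ]; exact k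
      rcases this with k | k | k <;> rw [k]
      · exact Or.inr (Or.inl rfl)
      · exact Or.inr (Or.inr (Or.inl rfl))
      · exact Or.inr (Or.inr (Or.inr hαβ))
    rintro x (rfl | rfl | rfl | rfl)
    · rw [mul_one, mul_inv_cancel]; exact Subgroup.one_mem _
    · exact hca
    · exact hcb
    · have : m * (((e.symm α : M) : G) * ((e.symm β : M) : G)) * m⁻¹ =
          (m * ((e.symm α : M) : G) * m⁻¹) * (m * ((e.symm β : M) : G) * m⁻¹) := by group
      rw [this]
      exact Subgroup.mul_mem _ hca hcb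

end general

section a4

variable {F : Type*} [Field F] [Fintype F]

theorem card_PG_ge (hodd : Odd (Fintype.card F)) (h5 : 5 ≤ Fintype.card F) :
    60 ≤ Nat.card (PG F) := by
  have hG : Nat.card (PG F) * 2 = (Fintype.card F ^ 2 - 1) * Fintype.card F :=
    Cfsg.Agent.Helper98.PSL2Card.card_psl2_odd (F := F) rfl hodd
  have h1 : 5 ^ 2 ≤ Fintype.card F ^ 2 := Nat.pow_le_pow_left h5 2
  have h2 : 24 * 5 ≤ (Fintype.card F ^ 2 - 1) * Fintype.card F := Nat.mul_le_mul (by omega) h5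
  omega

/-- a maximal `A₄` is the normalizer of a Klein four-subgroup -/
theorem alt4_eq_normalizer (hodd : Odd (Fintype.card F)) (h5 : 5 ≤ Fintype.card F)
    (M : Subgroup (PG F)) (hM : IsCoatom M) (e : M ≃* alternatingGroup (Fin 4)) :
    ∃ V : Subgroup (PG F), IsKleinFour V ∧ Subgroup.normalizer (V : Set (PG F)) = M := by
  haveI := finite_PG (F := F)
  have h2 := two_ne_zero_of_odd_card hodd
  obtain ⟨V, hV, hVM, hMN⟩ := alt4_le_normalizer M e
  refine ⟨V, hV, ?_⟩
  have hC := Cfsg.Agent.Helper98.PSL2Klein.centralizer_eq h2 V hV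
  have hdvd := Cfsg.Agent.Helper98.KleinNorm.card_normalizer_dvd V hV hC
  have hne : Subgroup.normalizer (V : Set (PG F)) ≠ ⊤ := by
    apply ne_top_of_card_lt
    have h24 := Nat.le_of_dvd (by norm_num) hdvd
    have h60 := card_PG_ge hodd h5
    omega
  exact (eq_of_coatom_le hM hMN hne).symm

/-- a maximal `A₄` forces `q ≡ ±3 (mod 8)` -/
theorem alt4_mod_eight (hodd : Odd (Fintype.card F)) (h5 : 5 ≤ Fintype.card F)
    (M : Subgroup (PG F)) (hM : IsCoatom M) (e : M ≃* alternatingGroup (Fin 4)) :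
    Fintype.card F % 8 = 3 ∨ Fintype.card F % 8 = 5 := by
  haveI := finite_PG (F := F)
  obtain ⟨V, hV, hN⟩ := alt4_eq_normalizer hodd h5 M hM e
  by_contra hcon
  have hq : Fintype.card F % 8 = 1 ∨ Fintype.card F % 8 = 7 := by
    obtain ⟨j, hj⟩ := hodd; omega
  have hG : Nat.card (PG F) * 2 = (Fintype.card F ^ 2 - 1) * Fintype.card F :=
    Cfsg.Agent.Helper98.PSL2Card.card_psl2_odd (F := F) rfl hodd
  have h16 : ∃ m, Fintype.card F ^ 2 - 1 = 16 * m := by
    rcases hq with hq | hq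
    · obtain ⟨t, ht⟩ : ∃ t, Fintype.card F = 8 * t + 1 := ⟨Fintype.card F / 8, by omega⟩
      refine ⟨t * (4 * t + 1), ?_⟩
      rw [ht]
      apply Nat.sub_eq_of_eq_add
      ring
    · obtain ⟨t, ht⟩ : ∃ t, Fintype.card F = 8 * t + 7 := ⟨Fintype.card F / 8, by omega⟩
      refine ⟨(t + 1) * (4 * t + 3), ?_⟩
      rw [ht]
      apply Nat.sub_eq_of_eq_add
      ring
  obtain ⟨m, hm⟩ := h16
  have h8 : 8 ∣ Nat.card (PG F) := by
    refine ⟨m * Fintype.card F, ?_⟩
    apply Nat.eq_of_mul_eq_mul_right (by norm_num : 0 < 2)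
    rw [hG, hm]
    ring
  have := Cfsg.Agent.Helper98.KleinNorm.eight_dvd_card_normalizer V hV h8
  rw [hN, Nat.card_congr e.toEquiv, card_alternatingGroup_four] at this
  omega

/-- a maximal `A₄` forces `q ≢ ±1 (mod 10)` -/
theorem alt4_not_mod_ten (hodd : Odd (Fintype.card F)) (h5 : 5 ≤ Fintype.card F)
    (M : Subgroup (PG F)) (hM : IsCoatom M) (e : M ≃* alternatingGroup (Fin 4))
    (hq : Fintype.card F % 10 = 1 ∨ Fintype.card F % 10 = 9) : False := by
  haveI := finite_PG (F := F)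
  obtain ⟨V, hV, hN⟩ := alt4_eq_normalizer hodd h5 M hM e
  have hq8 := alt4_mod_eight hodd h5 M hM e
  have hG : Nat.card (PG F) * 2 = (Fintype.card F ^ 2 - 1) * Fintype.card F :=
    Cfsg.Agent.Helper98.PSL2Card.card_psl2_odd (F := F) rfl hodd
  -- an `A₅`
  have h5dvd : 5 ∣ Fintype.card F * (Fintype.card F ^ 2 - 1) := by
    apply Dvd.dvd.mul_left
    rcases hq with hq | hq
    · obtain ⟨t, ht⟩ : ∃ t, Fintype.card F = 5 * t + 1 := ⟨Fintype.card F / 5, by omega⟩
      refine ⟨5 * t ^ 2 + 2 * t, ?_⟩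
      rw [ht]
      apply Nat.sub_eq_of_eq_add
      ring
    · obtain ⟨t, ht⟩ : ∃ t, Fintype.card F = 5 * t + 4 := ⟨Fintype.card F / 5, by omega⟩
      refine ⟨5 * t ^ 2 + 8 * t + 3, ?_⟩
      rw [ht]
      apply Nat.sub_eq_of_eq_add
      ring
  obtain ⟨S, ⟨e'⟩⟩ := (alt5_le_psl2_iff (F := F) rfl).mpr h5dvd
  have hScard : Nat.card S = 60 := by rw [Nat.card_congr e'.toEquiv, card_alternatingGroup_five]
  obtain ⟨h1, h2, h3, h4, h5', h6, h7, h8⟩ := k5_facts
  obtain ⟨z1, z2, z3, z4, z5⟩ := kz5_facts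
  obtain ⟨α, hα⟩ : ∃ α : alternatingGroup (Fin 5),
    α = ⟨ka5, Equiv.Perm.mem_alternatingGroup.mpr h7⟩ := ⟨_, rfl⟩
  obtain ⟨β, hβ⟩ : ∃ β : alternatingGroup (Fin 5),
    β = ⟨kb5, Equiv.Perm.mem_alternatingGroup.mpr h8⟩ := ⟨_, rfl⟩
  obtain ⟨ζ, hζ⟩ : ∃ ζ : alternatingGroup (Fin 5),
    ζ = ⟨kz5, Equiv.Perm.mem_alternatingGroup.mpr z1⟩ := ⟨_, rfl⟩
  obtain ⟨ha, hb, ha1, hb1, haa, hbb, hab, hne⟩ := klein_transport S e' α β
    (by rw [hα]; intro h; exact h1 (congrArg Subtype.val h))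
    (by rw [hβ]; intro h; exact h2 (congrArg Subtype.val h))
    (by rw [hα]; apply Subtype.ext; exact h3)
    (by rw [hβ]; apply Subtype.ext; exact h4)
    (by rw [hα, hβ]; apply Subtype.ext; exact h5')
    (by rw [hα, hβ]; intro h; exact h6 (congrArg Subtype.val h))
  have hz3 : ((e'.symm ζ : S) : PG F) ^ 3 = 1 := by
    rw [← SubmonoidClass.coe_pow, ← map_pow]
    have : ζ ^ 3 = 1 := by rw [hζ]; apply Subtype.ext; simpa using z2
    rw [this, map_one, Subgroup.coe_one]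
  have hz1 : ((e'.symm ζ : S) : PG F) ≠ 1 := by
    intro h
    have h' : e'.symm ζ = 1 := Subtype.ext h
    have h'' : ζ = 1 := by rw [← e'.apply_symm_apply ζ, h', map_one]
    rw [hζ] at h''
    exact z3 (congrArg Subtype.val h'')
  have hza : ((e'.symm ζ : S) : PG F) * ((e'.symm α : S) : PG F) * ((e'.symm ζ : S) : PG F)⁻¹ =
      ((e'.symm α : S) : PG F) * ((e'.symm β : S) : PG F) := by
    rw [← Subgroup.coe_inv, ← Subgroup.coe_mul, ← Subgroup.coe_mul, ← Subgroup.coe_mul,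
      ← map_inv, ← map_mul, ← map_mul, ← map_mul]
    have : ζ * α * ζ⁻¹ = α * β := by rw [hζ, hα, hβ]; apply Subtype.ext; exact z4
    rw [this]
  have hzb : ((e'.symm ζ : S) : PG F) * ((e'.symm β : S) : PG F) * ((e'.symm ζ : S) : PG F)⁻¹ =
      ((e'.symm α : S) : PG F) := by
    rw [← Subgroup.coe_inv, ← Subgroup.coe_mul, ← Subgroup.coe_mul,
      ← map_inv, ← map_mul, ← map_mul]
    have : ζ * β * ζ⁻¹ = α := by rw [hζ, hα, hβ]; apply Subtype.ext; exact z5
    rw [this]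
  obtain ⟨V', hV'def⟩ : ∃ V' : Subgroup (PG F),
    V' = Cfsg.Agent.Helper19.kleinFour _ _ haa hbb hab := ⟨_, rfl⟩
  have hV' : IsKleinFour V' := by
    rw [hV'def]; exact kleinFour_isKleinFour haa hbb hab ha1 hb1 hne
  have hV'S : V' ≤ S := by
    rw [hV'def]
    rintro x (rfl | rfl | rfl | rfl)
    exacts [S.one_mem, ha, hb, S.mul_mem ha hb]
  have hzN : ((e'.symm ζ : S) : PG F) ∈ Subgroup.normalizer (V' : Set (PG F)) := by
    apply mem_normalizer_of_conj_mem
    have hca : ((e'.symm ζ : S) : PG F) * ((e'.symm α : S) : PG F) *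
        ((e'.symm ζ : S) : PG F)⁻¹ ∈ V' := by
      rw [hza, hV'def]; exact Or.inr (Or.inr (Or.inr rfl))
    have hcb : ((e'.symm ζ : S) : PG F) * ((e'.symm β : S) : PG F) *
        ((e'.symm ζ : S) : PG F)⁻¹ ∈ V' := by
      rw [hzb, hV'def]; exact Or.inr (Or.inl rfl)
    intro x hx
    rw [hV'def] at hx
    rcases hx with rfl | rfl | rfl | rfl
    · rw [mul_one, mul_inv_cancel]; exact Subgroup.one_mem _
    · exact hca
    · exact hcb
    · have : ((e'.symm ζ : S) : PG F) * (((e'.symm α : S) : PG F) * ((e'.symm β : S) : PG F)) *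
          ((e'.symm ζ : S) : PG F)⁻¹ =
          (((e'.symm ζ : S) : PG F) * ((e'.symm α : S) : PG F) * ((e'.symm ζ : S) : PG F)⁻¹) *
          (((e'.symm ζ : S) : PG F) * ((e'.symm β : S) : PG F) * ((e'.symm ζ : S) : PG F)⁻¹) := by
        group
      rw [this]
      exact Subgroup.mul_mem _ hca hcb
  -- conjugacy of the four-groups
  obtain ⟨g, hg⟩ := (Cfsg.Agent.S0808.result (F := F) rfl hodd).1 hq8 V V' hV hV'
  have hN' : Subgroup.normalizer (V' : Set (PG F)) = M.map (MulAut.conj g).toMonoidHom := by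
    rw [hg, ← Subgroup.map_equiv_normalizer_eq, hN]
  have hM' : IsCoatom (M.map (MulAut.conj g).toMonoidHom) := map_isCoatom (MulAut.conj g) M hM
  have hcardM' : Nat.card (M.map (MulAut.conj g).toMonoidHom) = 12 := by
    rw [Nat.card_congr (Subgroup.equivMapOfInjective M _ (MulAut.conj g).injective).toEquiv.symm,
      Nat.card_congr e.toEquiv, card_alternatingGroup_four]
  -- the intersection
  have hX4 : 4 ∣ Nat.card (S ⊓ Subgroup.normalizer (V' : Set (PG F)) : Subgroup (PG F)) := by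
    rw [← hV'.card_four]
    exact Subgroup.card_dvd_of_le (le_inf hV'S Subgroup.le_normalizer)
  have hX3 : 3 ∣ Nat.card (S ⊓ Subgroup.normalizer (V' : Set (PG F)) : Subgroup (PG F)) := by
    have ho : orderOf ((e'.symm ζ : S) : PG F) = 3 := by
      haveI : Fact (Nat.Prime 3) := ⟨Nat.prime_three⟩
      exact orderOf_eq_prime hz3 hz1
    rw [← ho]
    exact Subgroup.orderOf_dvd_natCard _ ⟨(e'.symm ζ).2, hzN⟩
  have hX12 : 12 ∣ Nat.card (S ⊓ Subgroup.normalizer (V' : Set (PG F)) : Subgroup (PG F)) :=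
    Nat.Coprime.mul_dvd_of_dvd_of_dvd (by norm_num : Nat.Coprime 4 3) hX4 hX3
  have hXeq : (S ⊓ Subgroup.normalizer (V' : Set (PG F)) : Subgroup (PG F)) =
      Subgroup.normalizer (V' : Set (PG F)) := by
    apply Subgroup.eq_of_le_of_card_ge inf_le_right
    rw [hN', hcardM', ← hN']
    exact Nat.le_of_dvd Nat.card_pos hX12
  have hle : M.map (MulAut.conj g).toMonoidHom ≤ S := by
    rw [← hN', ← hXeq]
    exact inf_le_left
  have hSne : S ≠ ⊤ := by
    apply ne_top_of_card_lt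
    rw [hScard]
    have h9 : 9 ≤ Fintype.card F := by omega
    have h1 : 9 ^ 2 ≤ Fintype.card F ^ 2 := Nat.pow_le_pow_left h9 2
    have h2 : 80 * 9 ≤ (Fintype.card F ^ 2 - 1) * Fintype.card F := Nat.mul_le_mul (by omega) h9
    omega
  have := eq_of_coatom_le hM' hle hSne
  rw [← this, hcardM'] at hScard
  omega

end a4

end Cfsg.Agent.Helper41.PMax
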