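import Cfsg.Agent.Lib.Helper41.PMaxA4

/-!
# Maximal `A₅` in `PSL₂(3ⁿ)`: `n = 2`
-/

set_option autoImplicit false
set_option linter.unusedSectionVars false
set_option linter.unusedVariables false
set_option linter.style.haveILetI false

namespace Cfsg.Agent.Helper41.PMax

open Matrix Cfsg.Agent.Helper98.Ident Cfsg.Agent.Helper98.Dickson Cfsg.Agent.Helper41

theorem pow9_mod5 (n : ℕ) : 9 ^ (2 * n) % 5 = 1 ∧ 9 ^ (2 * n + 1) % 5 = 4 := by
  induction n with
  | zero => simp
  | succ n ih =>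
    obtain ⟨h1, h2⟩ := ih
    have e1 : 9 ^ (2 * (n + 1)) = 9 ^ (2 * n + 1) * 9 := by ring
    have e2 : 9 ^ (2 * (n + 1) + 1) = 9 ^ (2 * n + 1) * 81 := by ring
    rw [e1, e2]
    omega

theorem pow9_mod8 (n : ℕ) : 9 ^ n % 8 = 1 := by
  induction n with
  | zero => simp
  | succ n ih =>
    rw [pow_succ]
    omega

variable {F : Type*} [Field F] [Fintype F]

/-- an element with `t⁴ = -1` when `q = 9ᵐ` -/
theorem exists_pow_four_eq_neg_one (h2 : (2 : F) ≠ 0) (m : ℕ) (hq : Fintype.card F = 9 ^ m) :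
    ∃ t : F, t ^ 4 = -1 := by
  have h8 := pow9_mod8 m
  rw [← hq] at h8
  have hsq : IsSquare (-1 : F) := by
    rw [FiniteField.isSquare_neg_one_iff]
    omega
  obtain ⟨i, hi⟩ := hsq
  have hi0 : i ≠ 0 := by
    rintro rfl
    rw [mul_zero] at hi
    exact (neg_ne_zero.mpr one_ne_zero) hi
  have hi4 : i ^ 4 = 1 := by
    have : i ^ 4 = (i * i) ^ 2 := by ring
    rw [this, ← hi]; ring
  have hsq2 : IsSquare i := by
    rw [FiniteField.isSquare_iff (ringChar_ne_two_of_two_ne_zero h2) hi0]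
    have : Fintype.card F / 2 = 4 * (Fintype.card F / 8) := by omega
    rw [this, pow_mul, hi4, one_pow]
  obtain ⟨t, ht⟩ := hsq2
  refine ⟨t, ?_⟩
  have : t ^ 4 = (t * t) ^ 2 := by ring
  rw [this, ← ht, pow_two, ← hi]

/-- a maximal `A₅` in characteristic `3` forces `q = 9` -/
theorem alt5_char_three [CharP F 3] (h5 : 5 ≤ Fintype.card F) (M : Subgroup (PG F))
    (hM : IsCoatom M) (e : M ≃* alternatingGroup (Fin 5)) : Fintype.card F = 9 := by
  haveI : Fact (Nat.Prime 3) := ⟨Nat.prime_three⟩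
  have hp2 : (3 : ℕ) ≠ 2 := by norm_num
  have h2F : (2 : F) ≠ 0 := two_ne_zero_of_char 3 hp2
  obtain ⟨n, -, hn⟩ := FiniteField.card F 3
  have h5dvd : 5 ∣ Fintype.card F * (Fintype.card F ^ 2 - 1) :=
    (alt5_le_psl2_iff (F := F) rfl).mp ⟨M, ⟨e⟩⟩
  have heven : ∃ m, (n : ℕ) = 2 * m := by
    by_contra hodd
    obtain ⟨j, hj⟩ : ∃ j, (n : ℕ) = 2 * j + 1 := by
      refine ⟨(n : ℕ) / 2, ?_⟩
      by_contra h
      exact hodd ⟨(n : ℕ) / 2, by omega⟩
    have hsq : Fintype.card F ^ 2 = 9 ^ (2 * j + 1) := by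
      rw [hn, hj, ← pow_mul, mul_comm, pow_mul]; norm_num
    have h4 := (pow9_mod5 j).2
    have hcop : Nat.Coprime 5 (Fintype.card F) := by
      rw [hn]; exact Nat.Coprime.pow_right _ (by norm_num)
    have hd := hcop.dvd_of_dvd_mul_left h5dvd
    rw [hsq] at hd
    omega
  obtain ⟨m, hm⟩ := heven
  have hq : Fintype.card F = 9 ^ m := by
    rw [hn, hm, pow_mul]; norm_num
  by_contra hne
  have hm2 : 2 ≤ m := by
    by_contra hlt
    have : m = 0 ∨ m = 1 := by omega
    rcases this with rfl | rfl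
    · rw [pow_zero] at hq; omega
    · rw [pow_one] at hq; exact hne hq
  have h81 : 81 ≤ Fintype.card F := by
    rw [hq]
    calc 81 = 9 ^ 2 := by norm_num
      _ ≤ 9 ^ m := Nat.pow_le_pow_right (by norm_num) hm2
  -- the Klein pair
  obtain ⟨h1, h2, h3, h4, h5', h6, h7, h8⟩ := k5_facts
  obtain ⟨α, hα⟩ : ∃ α : alternatingGroup (Fin 5),
    α = ⟨ka5, Equiv.Perm.mem_alternatingGroup.mpr h7⟩ := ⟨_, rfl⟩
  obtain ⟨β, hβ⟩ : ∃ β : alternatingGroup (Fin 5),
    β = ⟨kb5, Equiv.Perm.mem_alternatingGroup.mpr h8⟩ := ⟨_, rfl⟩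
  obtain ⟨ha, hb, ha1, hb1, haa, hbb, hab, hne'⟩ := klein_transport M e α β
    (by rw [hα]; intro h; exact h1 (congrArg Subtype.val h))
    (by rw [hβ]; intro h; exact h2 (congrArg Subtype.val h))
    (by rw [hα]; apply Subtype.ext; exact h3)
    (by rw [hβ]; apply Subtype.ext; exact h4)
    (by rw [hα, hβ]; apply Subtype.ext; exact h5')
    (by rw [hα, hβ]; intro h; exact h6 (congrArg Subtype.val h))
  generalize ((e.symm α : M) : PG F) = a at ha ha1 haa hab hne'
  generalize ((e.symm β : M) : PG F) = b at hb hb1 hbb hab hne'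
  obtain ⟨A, rfl⟩ := QuotientGroup.mk_surjective a
  obtain ⟨B, rfl⟩ := QuotientGroup.mk_surjective b
  have hAB : IsQuatPair A B := (quat_pair_iff h2F A B).mpr ⟨ha1, hb1, haa, hbb, hab, hne'⟩
  -- traces
  have htrM : ∀ h : S2 F, (QuotientGroup.mk h : PG F) ∈ M → h.1.trace ∈ frobFix (F := F) 3 2 := by
    intro h hh
    have hs : Equiv.Perm.sign (e ⟨_, hh⟩).1 = 1 :=
      Equiv.Perm.mem_alternatingGroup.mp (e ⟨_, hh⟩).2
    rcases perm5_even _ hs with h' | h' | h'
    · apply trace_mem_two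
      apply pow_eq_one_of_equiv M e _ hh 2
      apply Subtype.ext
      simpa using h'
    · apply trace_mem_three
      apply pow_eq_one_of_equiv M e _ hh 3
      apply Subtype.ext
      simpa using h'
    · apply trace_mem_five h2F _ (sqrt_five_mem_two 3 hp2)
      apply pow_eq_one_of_equiv M e _ hh 5
      apply Subtype.ext
      simpa using h'
  have hmemu : ∀ u : S2 F, (u = 1 ∨ u = A ∨ u = B ∨ u = A * B) → u ∈ pre M := by
    rintro u (rfl | rfl | rfl | rfl)
    · exact Subgroup.one_mem _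
    · exact ha
    · exact hb
    · exact Subgroup.mul_mem _ ha hb
  obtain ⟨g, hg⟩ := exists_aut_le_ratForm 3 hp2 (pre M) A B hAB (frobFix 3 2) (by
    intro h hh
    refine ⟨1, one_ne_zero, ?_⟩
    intro u hu
    exact ⟨(h * u).1.trace, htrM _ (Subgroup.mul_mem _ hh (hmemu u hu)), by rw [one_mul]⟩)
  have hle : (pre M).map (conjGL g).toMonoidHom ≤ SLK (frobFix (F := F) 3 2) := by
    rintro _ ⟨h, hh, rfl⟩
    apply (hg h hh).2
    intro u hu
    exact htrM _ (Subgroup.mul_mem _ hh (hmemu u hu))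
  have hco := map_isCoatom (conjGL g) (pre M) (pre_isCoatom M hM)
  have hnetop : SLK (frobFix (F := F) 3 2) ≠ ⊤ := by
    intro htop
    have := card_le_of_SLK_top 3 2 (by norm_num) htop
    norm_num at this
    omega
  have heq := eq_of_coatom_le hco hle hnetop
  -- an element of order four
  obtain ⟨t, ht⟩ := exists_pow_four_eq_neg_one h2F m hq
  have ht0 : t ≠ 0 := by
    rintro rfl
    rw [zero_pow (by norm_num)] at ht
    exact (neg_ne_zero.mpr one_ne_zero) ht.symm
  have htk : t ∈ frobFix (F := F) 3 2 := by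
    rw [mem_frobFix]
    have : t ^ 3 ^ 2 = (t ^ 4) ^ 2 * t := by ring
    rw [this, ht]; ring
  have hdd : dd (Units.mk0 t ht0) ∈ SLK (frobFix (F := F) 3 2) :=
    Cfsg.Agent.Helper98.Final.dd_mem_SLK _ _ htk
  rw [← heq] at hdd
  obtain ⟨h, hh, hhd⟩ := hdd
  have hdd4 : (dd (Units.mk0 t ht0)) ^ 4 = -1 := by
    have e2 : (dd (Units.mk0 t ht0)) ^ 4 = dd ((Units.mk0 t ht0) ^ 4) := by
      rw [show (4 : ℕ) = 2 + 2 by norm_num, pow_add, pow_two, Cfsg.Agent.Helper98.Final.dd_mul,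
        Cfsg.Agent.Helper98.Final.dd_mul]
      congr 1
      rw [← pow_two, ← pow_two, ← pow_mul]
    rw [e2]
    apply ext2 <;> simp [ht]
  have hh4 : h ^ 4 = -1 := by
    apply (conjGL g).injective
    rw [map_pow, conjGL_neg_one]
    exact (congrArg (· ^ 4) hhd).trans hdd4
  have hx4 : (QuotientGroup.mk h : PG F) ^ 4 = 1 := by
    rw [psl2_mk_pow_eq_one_iff]
    right
    rw [← Matrix.SpecialLinearGroup.coe_pow, hh4]
    simp
  have hx2 : (QuotientGroup.mk h : PG F) ^ 2 ≠ 1 := by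
    rw [Ne, psl2_mk_pow_eq_one_iff]
    intro h'
    have h41 : (h : Matrix (Fin 2) (Fin 2) F) ^ 4 = 1 := by
      have : (h : Matrix (Fin 2) (Fin 2) F) ^ 4 = ((h : Matrix (Fin 2) (Fin 2) F) ^ 2) ^ 2 := by
        rw [← pow_mul]
      rw [this]
      rcases h' with h' | h' <;> rw [h'] <;> simp
    have h4m : (h : Matrix (Fin 2) (Fin 2) F) ^ 4 = -1 := by
      rw [← Matrix.SpecialLinearGroup.coe_pow, hh4]
      simp
    rw [h41] at h4m
    have := congrFun (congrFun h4m 0) 0
    simp at this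
    apply h2F
    linear_combination this
  have hs : Equiv.Perm.sign (e ⟨_, hh⟩).1 = 1 :=
    Equiv.Perm.mem_alternatingGroup.mp (e ⟨_, hh⟩).2
  apply hx2
  rcases perm5_even _ hs with h' | h' | h'
  · apply pow_eq_one_of_equiv M e _ hh 2
    apply Subtype.ext
    simpa using h'
  · have h3' : (QuotientGroup.mk h : PG F) ^ 3 = 1 := by
      apply pow_eq_one_of_equiv M e _ hh 3
      apply Subtype.ext
      simpa using h'
    have : (QuotientGroup.mk h : PG F) = 1 := by
      calc (QuotientGroup.mk h : PG F) = (QuotientGroup.mk h : PG F) ^ 4 *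
            ((QuotientGroup.mk h : PG F) ^ 3)⁻¹ := by group
        _ = 1 := by rw [hx4, h3']; simp
    rw [this, one_pow]
  · have h5'' : (QuotientGroup.mk h : PG F) ^ 5 = 1 := by
      apply pow_eq_one_of_equiv M e _ hh 5
      apply Subtype.ext
      simpa using h'
    have : (QuotientGroup.mk h : PG F) = 1 := by
      calc (QuotientGroup.mk h : PG F) = (QuotientGroup.mk h : PG F) ^ 5 *
            ((QuotientGroup.mk h : PG F) ^ 4)⁻¹ := by group
        _ = 1 := by rw [hx4, h5'']; simp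
    rw [this, one_pow]

end Cfsg.Agent.Helper41.PMax
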