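import Cfsg.Agent.Lib.Helper41.PMaxDescent

/-!
# Maximal subgroups of `PSL₂(F)` isomorphic to `A₄`, `S₄`, `A₅`: the field is small
-/

set_option autoImplicit false
set_option linter.unusedSectionVars false
set_option linter.unusedVariables false
set_option linter.style.haveILetI false

namespace Cfsg.Agent.Helper41.PMax

open Matrix Cfsg.Agent.Helper98.Ident Cfsg.Agent.Helper98.Dickson Cfsg.Agent.Helper41

/-- `PSL₂(F)` -/
abbrev PG (F : Type*) [Field F] := Matrix.ProjectiveSpecialLinearGroup (Fin 2) F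

section transport

variable {G T : Type*} [Group G] [Group T]

theorem pow_eq_one_of_equiv (M : Subgroup G) (e : M ≃* T) (x : G) (hx : x ∈ M) (n : ℕ)
    (h : (e ⟨x, hx⟩) ^ n = 1) : x ^ n = 1 := by
  have h1 : (⟨x, hx⟩ : M) ^ n = 1 := by
    apply e.injective
    rw [map_pow, h, map_one]
  have := congrArg Subtype.val h1
  simpa using this

theorem klein_transport (M : Subgroup G) (e : M ≃* T) (α β : T) (hα : α ≠ 1) (hβ : β ≠ 1)
    (hαα : α * α = 1) (hββ : β * β = 1) (hαβ : α * β = β * α) (hne : α ≠ β) :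
    ((e.symm α : M) : G) ∈ M ∧ ((e.symm β : M) : G) ∈ M ∧ ((e.symm α : M) : G) ≠ 1 ∧
      ((e.symm β : M) : G) ≠ 1 ∧ ((e.symm α : M) : G) * ((e.symm α : M) : G) = 1 ∧
      ((e.symm β : M) : G) * ((e.symm β : M) : G) = 1 ∧
      ((e.symm α : M) : G) * ((e.symm β : M) : G) = ((e.symm β : M) : G) * ((e.symm α : M) : G) ∧
      ((e.symm α : M) : G) ≠ ((e.symm β : M) : G) := by
  refine ⟨(e.symm α).2, (e.symm β).2, ?_, ?_, ?_, ?_, ?_, ?_⟩
  · intro h
    apply hα
    have : e.symm α = 1 := Subtype.ext h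
    rw [← e.apply_symm_apply α, this, map_one]
  · intro h
    apply hβ
    have : e.symm β = 1 := Subtype.ext h
    rw [← e.apply_symm_apply β, this, map_one]
  · rw [← Subgroup.coe_mul, ← map_mul, hαα, map_one, Subgroup.coe_one]
  · rw [← Subgroup.coe_mul, ← map_mul, hββ, map_one, Subgroup.coe_one]
  · rw [← Subgroup.coe_mul, ← Subgroup.coe_mul, ← map_mul, ← map_mul, hαβ]
  · intro h
    apply hne
    have : e.symm α = e.symm β := Subtype.ext h
    exact e.symm.injective this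

end transport

section general

variable {F : Type*} [Field F] [Fintype F] (p : ℕ) [Fact p.Prime] [CharP F p]

/-- projective trace descent for a coatom of `PSL₂(F)` of order prime to `p` containing a four-group -/
theorem card_le_of_proj_traces (hp2 : p ≠ 2) (M : Subgroup (PG F)) (hM : IsCoatom M)
    (hpM : ¬ p ∣ Nat.card M) (a b : PG F) (ha : a ∈ M) (hb : b ∈ M) (ha1 : a ≠ 1) (hb1 : b ≠ 1)
    (haa : a * a = 1) (hbb : b * b = 1) (hab : a * b = b * a) (hne : a ≠ b) (j : ℕ) (hj : 0 < j)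
    (htr : ∀ h : S2 F, (QuotientGroup.mk h : PG F) ∈ M → ∃ c : F, c ≠ 0 ∧ ∀ u : S2 F,
      ((QuotientGroup.mk u : PG F) = 1 ∨ (QuotientGroup.mk u : PG F) = a ∨
        (QuotientGroup.mk u : PG F) = b ∨ (QuotientGroup.mk u : PG F) = a * b) →
      ∃ a' ∈ frobFix (F := F) p j, (h * u).1.trace = c * a') :
    Fintype.card F ≤ p ^ j := by
  have h2 : (2 : F) ≠ 0 := two_ne_zero_of_char p hp2
  obtain ⟨A, rfl⟩ := QuotientGroup.mk_surjective a
  obtain ⟨B, rfl⟩ := QuotientGroup.mk_surjective b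
  have hAB : IsQuatPair A B := (quat_pair_iff h2 A B).mpr ⟨ha1, hb1, haa, hbb, hab, hne⟩
  obtain ⟨g, hg⟩ := exists_aut_le_ratForm p hp2 (pre M) A B hAB (frobFix p j) (by
    intro h hh
    obtain ⟨c, hc0, hc⟩ := htr h hh
    refine ⟨c, hc0, ?_⟩
    intro u hu
    apply hc u
    rcases hu with rfl | rfl | rfl | rfl
    · left; rfl
    · right; left; rfl
    · right; right; left; rfl
    · right; right; right; rfl)
  have htop := top_of_coatom p (pre M) (pre_isCoatom M hM) (not_dvd_card_pre p hp2 M hpM) g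
    (ratForm (frobFix p j)) (fun h hh => (hg h hh).1) (SLK_le_ratForm _ (uu_one_mem_SLK _))
  exact card_le_of_ratForm_top p j hj htop

/-- trace descent for a coatom of `PSL₂(F)` of order prime to `p` containing a four-group -/
theorem card_le_of_traces (hp2 : p ≠ 2) (M : Subgroup (PG F)) (hM : IsCoatom M)
    (hpM : ¬ p ∣ Nat.card M) (a b : PG F) (ha : a ∈ M) (hb : b ∈ M) (ha1 : a ≠ 1) (hb1 : b ≠ 1)
    (haa : a * a = 1) (hbb : b * b = 1) (hab : a * b = b * a) (hne : a ≠ b) (j : ℕ) (hj : 0 < j)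
    (htr : ∀ h : S2 F, (QuotientGroup.mk h : PG F) ∈ M → h.1.trace ∈ frobFix (F := F) p j) :
    Fintype.card F ≤ p ^ j := by
  apply card_le_of_proj_traces p hp2 M hM hpM a b ha hb ha1 hb1 haa hbb hab hne j hj
  intro h hh
  refine ⟨1, one_ne_zero, ?_⟩
  intro u hu
  refine ⟨(h * u).1.trace, ?_, by rw [one_mul]⟩
  apply htr
  rw [QuotientGroup.mk_mul]
  apply M.mul_mem hh
  rcases hu with e | e | e | e <;> rw [e]
  · exact M.one_mem
  · exact ha
  · exact hb
  · exact M.mul_mem ha hb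

end general

section tracemem

variable {F : Type*} [Field F]

theorem two_mem (k : Subfield F) : (2 : F) ∈ k := by
  have : ((2 : ℕ) : F) ∈ k := natCast_mem k 2
  exact_mod_cast this

theorem trace_mem_one (k : Subfield F) (h : S2 F) (hx : (QuotientGroup.mk h : PG F) = 1) :
    h.1.trace ∈ k := by
  rcases trace_of_mk_eq_one h hx with e | e <;> rw [e]
  · exact two_mem k
  · exact neg_mem (two_mem k)

theorem trace_mem_two (k : Subfield F) (h : S2 F) (hx : (QuotientGroup.mk h : PG F) ^ 2 = 1) :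
    h.1.trace ∈ k := by
  by_cases h1 : (QuotientGroup.mk h : PG F) = 1
  · exact trace_mem_one k h h1
  · rw [trace_of_pow_two h h1 hx]; exact zero_mem k

theorem trace_mem_three (k : Subfield F) (h : S2 F) (hx : (QuotientGroup.mk h : PG F) ^ 3 = 1) :
    h.1.trace ∈ k := by
  by_cases h1 : (QuotientGroup.mk h : PG F) = 1
  · exact trace_mem_one k h h1
  · rcases trace_of_pow_three h h1 hx with e | e <;> rw [e]
    · exact one_mem k
    · exact neg_mem (one_mem k)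

theorem trace_mem_four (k : Subfield F) (hk2 : ∀ c : F, c ^ 2 = 2 → c ∈ k) (h : S2 F)
    (hx : (QuotientGroup.mk h : PG F) ^ 4 = 1) : h.1.trace ∈ k := by
  by_cases h1 : (QuotientGroup.mk h : PG F) = 1
  · exact trace_mem_one k h h1
  · rcases trace_of_pow_four h h1 hx with e | e
    · rw [e]; exact zero_mem k
    · exact hk2 _ e

theorem trace_mem_five (h2 : (2 : F) ≠ 0) (k : Subfield F) (hk5 : ∀ c : F, c ^ 2 = 5 → c ∈ k)
    (h : S2 F) (hx : (QuotientGroup.mk h : PG F) ^ 5 = 1) : h.1.trace ∈ k := by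
  by_cases h1 : (QuotientGroup.mk h : PG F) = 1
  · exact trace_mem_one k h h1
  · rcases trace_of_pow_five h h1 hx with e | e
    · have h3 := hk5 _ e
      have : h.1.trace = 2⁻¹ * ((2 * h.1.trace - 1) + 1) := by field_simp; ring
      rw [this]
      exact mul_mem (inv_mem (two_mem k)) (add_mem h3 (one_mem k))
    · have h3 := hk5 _ e
      have : h.1.trace = 2⁻¹ * ((2 * h.1.trace + 1) - 1) := by field_simp; ring
      rw [this]
      exact mul_mem (inv_mem (two_mem k)) (sub_mem h3 (one_mem k))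

end tracemem

section perms

theorem perm4_even : ∀ τ : Equiv.Perm (Fin 4), Equiv.Perm.sign τ = 1 → τ ^ 2 = 1 ∨ τ ^ 3 = 1 := by
  decide

set_option maxRecDepth 100000 in
theorem perm4_odd : ∀ τ : Equiv.Perm (Fin 4), Equiv.Perm.sign τ ≠ 1 → τ ^ 4 = 1 := by
  decide +kernel

/-- the standard four-group generators -/
def ka4 : Equiv.Perm (Fin 4) := Equiv.swap 0 1 * Equiv.swap 2 3

def kb4 : Equiv.Perm (Fin 4) := Equiv.swap 0 2 * Equiv.swap 1 3

def ka5 : Equiv.Perm (Fin 5) := Equiv.swap 0 1 * Equiv.swap 2 3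

def kb5 : Equiv.Perm (Fin 5) := Equiv.swap 0 2 * Equiv.swap 1 3

/-- a `3`-cycle normalising the four-group -/
def kz5 : Equiv.Perm (Fin 5) := Equiv.swap 0 1 * Equiv.swap 1 2

theorem k4_facts : (ka4 ≠ 1) ∧ (kb4 ≠ 1) ∧ (ka4 * ka4 = 1) ∧ (kb4 * kb4 = 1) ∧
    (ka4 * kb4 = kb4 * ka4) ∧ (ka4 ≠ kb4) ∧ Equiv.Perm.sign ka4 = 1 ∧
    Equiv.Perm.sign kb4 = 1 := by
  decide

theorem k5_facts : (ka5 ≠ 1) ∧ (kb5 ≠ 1) ∧ (ka5 * ka5 = 1) ∧ (kb5 * kb5 = 1) ∧
    (ka5 * kb5 = kb5 * ka5) ∧ (ka5 ≠ kb5) ∧ Equiv.Perm.sign ka5 = 1 ∧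
    Equiv.Perm.sign kb5 = 1 := by
  decide

theorem kz5_facts : Equiv.Perm.sign kz5 = 1 ∧ kz5 ^ 3 = 1 ∧ kz5 ≠ 1 ∧
    (kz5 * ka5 * kz5⁻¹ = ka5 * kb5) ∧ (kz5 * kb5 * kz5⁻¹ = ka5) := by
  decide

/-- the four-group is normal in `S₄` -/
theorem k4_normal : ∀ τ : Equiv.Perm (Fin 4),
    (τ * ka4 * τ⁻¹ = ka4 ∨ τ * ka4 * τ⁻¹ = kb4 ∨ τ * ka4 * τ⁻¹ = ka4 * kb4) ∧
    (τ * kb4 * τ⁻¹ = ka4 ∨ τ * kb4 * τ⁻¹ = kb4 ∨ τ * kb4 * τ⁻¹ = ka4 * kb4) := by
  decide

-- no element of order four in `A₄`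
set_option maxRecDepth 100000 in
theorem perm4_even_four : ∀ τ : Equiv.Perm (Fin 4), Equiv.Perm.sign τ = 1 → τ ^ 4 = 1 →
    τ ^ 2 = 1 := by
  decide +kernel

set_option maxRecDepth 100000 in
theorem perm5_even : ∀ τ : Equiv.Perm (Fin 5), Equiv.Perm.sign τ = 1 →
    τ ^ 2 = 1 ∨ τ ^ 3 = 1 ∨ τ ^ 5 = 1 := by
  decide +kernel

end perms

end Cfsg.Agent.Helper41.PMax
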