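import Cfsg.Agent.Lib.Helper41.SL2Red2

/-!
# Sylow `2`-subgroups of `SL₂(q)`, `q` odd: the unique Sylow case
-/

set_option autoImplicit false
set_option linter.unusedSectionVars false

namespace Cfsg.Agent.Helper41

open Matrix

section arith

theorem factorization_two_pow_mul_odd (a r : ℕ) (hr : Odd r) :
    (2 ^ a * r).factorization 2 = a := by
  have hr0 : r ≠ 0 := by
    rintro rfl
    exact (Nat.not_odd_iff_even.mpr (by decide)) hr
  rw [Nat.factorization_mul (pow_ne_zero _ (by norm_num)) hr0, Finsupp.add_apply,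
    Nat.Prime.factorization_pow Nat.prime_two, Finsupp.single_eq_same,
    Nat.factorization_eq_zero_of_not_dvd (Nat.two_dvd_ne_zero.mpr (Nat.odd_iff.mp hr)), add_zero]

/-- `q (q-1) (q+1) = 2^(a+1) · odd` when `q` is odd and `q ∓ 1 = 2^a m'`, `a ≥ 2` -/
theorem sl2_card_two_part (q a m' : ℕ) (hq : Odd q) (ha : 2 ≤ a) (hm' : Odd m')
    (hm : 2 ^ a * m' = q - 1 ∨ 2 ^ a * m' = q + 1) :
    ∃ r : ℕ, Odd r ∧ q * (q - 1) * (q + 1) = 2 ^ (a + 1) * r := by
  obtain ⟨b, rfl⟩ : ∃ b, a = b + 2 := ⟨a - 2, by omega⟩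
  rcases hm with h | h
  · -- q - 1 = 2^a m', q + 1 = 2 (2^(a-1) m' + 1)
    refine ⟨q * m' * (2 ^ (b + 1) * m' + 1), ?_, ?_⟩
    · refine (hq.mul hm').mul ?_
      exact Even.add_one ⟨2 ^ b * m', by ring⟩
    · have h1 : q + 1 = 2 * (2 ^ (b + 1) * m' + 1) := by
        have : q - 1 + 2 = q + 1 := by
          have := hq.pos
          omega
        rw [← this, ← h]; ring
      rw [← h, h1]; ring
  · -- q + 1 = 2^a m', q - 1 = 2 (2^(a-1) m' - 1)
    have hpos : 1 ≤ 2 ^ (b + 1) * m' := Nat.mul_pos (by positivity) hm'.pos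
    refine ⟨q * m' * (2 ^ (b + 1) * m' - 1), ?_, ?_⟩
    · refine (hq.mul hm').mul ?_
      apply Nat.Even.sub_odd hpos _ odd_one
      exact ⟨2 ^ b * m', by ring⟩
    · have h1 : q - 1 = 2 * (2 ^ (b + 1) * m' - 1) := by
        have : 2 ^ (b + 2) * m' = 2 * (2 ^ (b + 1) * m') := by ring
        omega
      rw [← h, h1]; ring

end arith

section setup

variable {F : Type*} [Field F] [Fintype F] (p : ℕ) [Fact p.Prime] [CharP F p]

include p in
theorem odd_card_of_char_ne_two (hp2 : p ≠ 2) : Odd (Fintype.card F) := by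
  obtain ⟨n, hp, hn⟩ := FiniteField.card F p
  rw [hn]
  exact (hp.odd_of_ne_two hp2).pow

include p in
theorem char_dvd_card : p ∣ Fintype.card F := by
  obtain ⟨n, hp, hn⟩ := FiniteField.card F p
  rw [hn]
  exact dvd_pow_self p n.ne_zero

include p in
theorem coprime_char_of_eq (m : ℕ) (hm : m = Fintype.card F - 1 ∨ m = Fintype.card F + 1) :
    Nat.Coprime m p := by
  have hp : p.Prime := Fact.out
  have hq2 : 2 ≤ Fintype.card F := Fintype.one_lt_card
  apply Nat.Coprime.symm
  rw [Nat.Prime.coprime_iff_not_dvd hp]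
  intro hd
  have h1 := char_dvd_card (F := F) p
  have : p ∣ 1 := by
    rcases hm with h | h
    · have e : Fintype.card F = m + 1 := by omega
      rw [e] at h1
      exact (Nat.dvd_add_right hd).mp h1
    · rw [h] at hd
      exact (Nat.dvd_add_right h1).mp hd
  exact hp.one_lt.ne' (Nat.dvd_one.mp this)

theorem two_ne_zero_of_char (hp2 : p ≠ 2) : (2 : F) ≠ 0 := by
  intro h
  have h2 : ((2 : ℕ) : F) = 0 := by exact_mod_cast h
  rw [CharP.cast_eq_zero_iff F p] at h2
  have hp : p.Prime := Fact.out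
  exact hp2 ((Nat.prime_dvd_prime_iff_eq hp Nat.prime_two).mp h2)

/-- the order of a Sylow `2`-subgroup of `SL₂(q)` -/
theorem sl2_card_sylow_two (hp2 : p ≠ 2) (a m' : ℕ) (ha : 2 ≤ a) (hm' : Odd m')
    (hm : 2 ^ a * m' = Fintype.card F - 1 ∨ 2 ^ a * m' = Fintype.card F + 1)
    (P : Sylow 2 (SpecialLinearGroup (Fin 2) F)) : Nat.card P = 2 ^ (a + 1) := by
  classical
  obtain ⟨r, hr, hcard⟩ := sl2_card_two_part (Fintype.card F) a m'
    (odd_card_of_char_ne_two p hp2) ha hm' hm
  rw [Sylow.card_eq_multiplicity, card_sl2, hcard, factorization_two_pow_mul_odd _ _ hr]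

include p in
/-- powers of an element of order `q ∓ 1` are regular semisimple unless of order `≤ 2` -/
theorem trace_sq_ne_four_of_mem_zpowers (t : SpecialLinearGroup (Fin 2) F)
    (ht : orderOf t = Fintype.card F - 1 ∨ orderOf t = Fintype.card F + 1)
    (c : SpecialLinearGroup (Fin 2) F) (hc : c ∈ Subgroup.zpowers t) (hc2 : c * c ≠ 1) :
    (c : Matrix (Fin 2) (Fin 2) F).trace ^ 2 ≠ 4 := by
  apply sl2_trace_sq_ne_four p c (orderOf t) (coprime_char_of_eq p _ ht) _ hc2
  obtain ⟨j, rfl⟩ := hc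
  rw [← zpow_natCast, ← _root_.zpow_mul, mul_comm, _root_.zpow_mul, zpow_natCast,
    pow_orderOf_eq_one, _root_.one_zpow]

theorem commute_of_mem_zpowers {G : Type*} [Group G] (t x y : G) (hx : x ∈ Subgroup.zpowers t)
    (hy : y ∈ Subgroup.zpowers t) : x * y = y * x := by
  obtain ⟨i, rfl⟩ := hx
  obtain ⟨j, rfl⟩ := hy
  rw [← _root_.zpow_add, ← _root_.zpow_add, add_comm]

/-- the unique Sylow case for `p = 2`: `q ∓ 1` is a power of two -/
theorem inUniqueSylow_of_two_pow (hp2 : p ≠ 2) (k : ℕ) (hk : 2 ≤ k)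
    (hq : 2 ^ k = Fintype.card F - 1 ∨ 2 ^ k = Fintype.card F + 1)
    (t : SpecialLinearGroup (Fin 2) F) (ht : orderOf t = 2 ^ k) : InUniqueSylow 2 t := by
  refine ⟨⟨k, ht⟩, ?_⟩
  have h2 : (2 : F) ≠ 0 := two_ne_zero_of_char p hp2
  have hcardP : ∀ P : Sylow 2 (SpecialLinearGroup (Fin 2) F), Nat.card P = 2 ^ (k + 1) := by
    intro P
    exact sl2_card_sylow_two p hp2 k 1 hk odd_one (by rwa [mul_one]) P
  have h4k : 4 ≤ 2 ^ k := by
    calc 4 = 2 ^ 2 := by norm_num
      _ ≤ 2 ^ k := Nat.pow_le_pow_right (by norm_num) hk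
  have ht2 : t * t ≠ 1 := by
    intro h
    have := orderOf_dvd_of_pow_eq_one (show t ^ 2 = 1 by rw [pow_two]; exact h)
    rw [ht] at this
    have := Nat.le_of_dvd (by norm_num) this
    omega
  have htr : (t : Matrix (Fin 2) (Fin 2) F).trace ^ 2 ≠ 4 :=
    trace_sq_ne_four_of_mem_zpowers p t (by rw [ht]; exact hq) t (Subgroup.mem_zpowers t) ht2
  obtain ⟨K, hK⟩ : ∃ K : Subgroup (SpecialLinearGroup (Fin 2) F), K = Subgroup.zpowers t := ⟨_, rfl⟩
  have hcardK : Nat.card K = 2 ^ k := by rw [hK, Nat.card_zpowers, ht]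
  -- the centralizer of `t` is `⟨t⟩`
  have hKC : K ≤ Subgroup.centralizer ({t} : Set (SpecialLinearGroup (Fin 2) F)) := by
    rw [hK, Subgroup.zpowers_le, Subgroup.mem_centralizer_singleton_iff]
  have hCK : Subgroup.centralizer ({t} : Set (SpecialLinearGroup (Fin 2) F)) = K := by
    symm
    apply Subgroup.eq_of_le_of_card_ge hKC
    have hdvd := Subgroup.card_dvd_of_le hKC
    rw [hcardK] at hdvd ⊢
    have hq2 : 2 ≤ Fintype.card F := Fintype.one_lt_card
    rcases sl2_card_centralizer t htr with hc | hc <;> rcases hq with hq | hq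
    · rw [hc, hq]
    · exfalso
      rw [hc] at hdvd
      have e : Fintype.card F - 1 = 2 ^ k - 2 := by omega
      rw [e] at hdvd
      have := Nat.le_of_dvd (by omega) hdvd
      omega
    · exfalso
      rw [hc] at hdvd
      have e : Fintype.card F + 1 = 2 ^ k + 2 := by omega
      rw [e] at hdvd
      have h3 : 2 ^ k ∣ 2 := (Nat.dvd_add_right (dvd_refl _)).mp hdvd
      have := Nat.le_of_dvd (by norm_num) h3
      omega
    · rw [hc, hq]
  have hmemC : ∀ y : SpecialLinearGroup (Fin 2) F, y * t = t * y → y ∈ K := by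
    intro y hy
    rw [← hCK, Subgroup.mem_centralizer_singleton_iff]
    exact hy
  -- elements of a Sylow subgroup outside `⟨t⟩` invert `t`
  have key : ∀ P : Sylow 2 (SpecialLinearGroup (Fin 2) F), t ∈ P →
      ∀ y ∈ P, y ∉ K → y * t * y⁻¹ = t⁻¹ := by
    intro P hP y hy hyK
    have hKP : K ≤ (P : Subgroup (SpecialLinearGroup (Fin 2) F)) := by
      rw [hK, Subgroup.zpowers_le]; exact hP
    have hc : Nat.card (P : Subgroup (SpecialLinearGroup (Fin 2) F)) = 2 * Nat.card K := by
      rw [hcardK]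
      have := hcardP P
      rw [pow_succ] at this
      rw [mul_comm]; exact this
    have hconj : y * t * y⁻¹ ∈ K :=
      conj_mem_of_card K (P : Subgroup (SpecialLinearGroup (Fin 2) F)) hKP hc hy
        (by rw [hK]; exact Subgroup.mem_zpowers t)
    have hcomm : y * t * y⁻¹ * t = t * (y * t * y⁻¹) :=
      commute_of_mem_zpowers t _ _ (by rw [← hK]; exact hconj) (Subgroup.mem_zpowers t)
    rcases Cfsg.Agent.Helper98.SL2CT.eq_or_eq_inv_of_commute_trace' t (y * t * y⁻¹) hcomm
      (sl2_trace_conj y t) htr with h | h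
    · exfalso
      apply hyK
      apply hmemC
      have := congrArg (· * y) h
      simpa [mul_assoc] using this
    · exact h
  have hle : ∀ P P' : Sylow 2 (SpecialLinearGroup (Fin 2) F), t ∈ P → t ∈ P' →
      (P : Subgroup (SpecialLinearGroup (Fin 2) F)) ≤ P' := by
    intro P P' hP hP' y hy
    have hKP' : K ≤ (P' : Subgroup (SpecialLinearGroup (Fin 2) F)) := by
      rw [hK, Subgroup.zpowers_le]; exact hP'
    by_cases hyK : y ∈ K
    · exact hKP' hyK
    · have hex : ∃ y' ∈ (P' : Subgroup (SpecialLinearGroup (Fin 2) F)), y' ∉ K := by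
        by_contra hcon
        push Not at hcon
        have hle : (P' : Subgroup (SpecialLinearGroup (Fin 2) F)) ≤ K := hcon
        have := Subgroup.card_le_of_le hle
        rw [hcardK] at this
        have h3 := hcardP P'
        rw [pow_succ] at h3
        have : Nat.card (P' : Subgroup (SpecialLinearGroup (Fin 2) F)) ≤ 2 ^ k := this
        omega
      obtain ⟨y', hy', hy'K⟩ := hex
      have e1 := key P hP y hy hyK
      have e2 := key P' hP' y' hy' hy'K
      have e3 : y * t * y⁻¹ = y' * t * y'⁻¹ := by rw [e1, e2]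
      have hcomm : (y'⁻¹ * y) * t = t * (y'⁻¹ * y) := by
        calc y'⁻¹ * y * t = y'⁻¹ * (y * t * y⁻¹) * y := by group
          _ = y'⁻¹ * (y' * t * y'⁻¹) * y := by rw [e3]
          _ = t * (y'⁻¹ * y) := by group
      have hmem := hKP' (hmemC _ hcomm)
      have e4 : y = y' * (y'⁻¹ * y) := by group
      rw [e4]
      exact Subgroup.mul_mem _ hy' hmem
  intro P P' hP hP'
  apply Sylow.ext
  exact (P.is_maximal' P'.2 (hle P P' hP hP')).symm

end setup

end Cfsg.Agent.Helper41
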