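import Cfsg.Agent.Lib.Helper41.PMaxTools
import Cfsg.Agent.Lib.Helper41.SL2ClassOdd
import Cfsg.Agent.Lib.Helper41.SL2Red3

/-!
# Trace-field descent for maximal subgroups of `SL₂(F)` containing a quaternion group
-/

set_option autoImplicit false
set_option linter.unusedSectionVars false
set_option linter.unusedVariables false
set_option linter.style.haveILetI false

namespace Cfsg.Agent.Helper41.PMax

open Matrix Cfsg.Agent.Helper98.Ident Cfsg.Agent.Helper98.Dickson Cfsg.Agent.Helper41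

variable {F : Type*} [Field F] [Fintype F]

section std

/-- a solution of `x² + y² = -1` in the prime field -/
theorem exists_std_pair (p : ℕ) [Fact p.Prime] [CharP F p] (hp2 : p ≠ 2) :
    ∃ a b : ℕ, ((a : F)) ^ 2 + ((b : F)) ^ 2 = -1 := by
  have hpp : p.Prime := Fact.out
  have h2 : (2 : ZMod p) ≠ 0 := by
    intro h
    have h' : ((2 : ℕ) : ZMod p) = 0 := by exact_mod_cast h
    rw [ZMod.natCast_eq_zero_iff] at h'
    exact hp2 ((Nat.prime_dvd_prime_iff_eq hpp Nat.prime_two).mp h')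
  obtain ⟨x0, y0, h0⟩ := exists_sq_add_sq_eq_neg_one (F := ZMod p) h2
  refine ⟨x0.val, y0.val, ?_⟩
  have h1 : ((x0.val ^ 2 + y0.val ^ 2 + 1 : ℕ) : ZMod p) = 0 := by
    push_cast
    rw [ZMod.natCast_zmod_val, ZMod.natCast_zmod_val, h0]
    ring
  rw [ZMod.natCast_eq_zero_iff] at h1
  have h3 : ((x0.val ^ 2 + y0.val ^ 2 + 1 : ℕ) : F) = 0 := (CharP.cast_eq_zero_iff F p _).mpr h1
  push_cast at h3
  linear_combination h3

theorem isQuatPair_std (x y : F) (hxy : x ^ 2 + y ^ 2 = -1) :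
    IsQuatPair (quatI : S2 F) (quatJ x y hxy) := by
  refine ⟨quatI_trace, ?_, ?_⟩
  · simp [quatJ, Matrix.trace_fin_two]
  · simp [quatI, quatJ, Matrix.trace_fin_two, Matrix.mul_apply, Fin.sum_univ_two]

theorem exists_conj_std (h2 : (2 : F) ≠ 0) (A B : S2 F) (hAB : IsQuatPair A B) (x y : F)
    (hxy : x ^ 2 + y ^ 2 = -1) :
    ∃ g : GL (Fin 2) F, conjGL g A = quatI ∧ conjGL g B = quatJ x y hxy := by
  obtain ⟨g0, hdet, hA, hB⟩ := exists_intertwiner h2 hAB (isQuatPair_std x y hxy)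
  refine ⟨Matrix.GeneralLinearGroup.mkOfDetNeZero g0 hdet, ?_, ?_⟩
  · exact conjGL_of_intertwine _ _ _ hA
  · exact conjGL_of_intertwine _ _ _ hB

end std

section descent

variable (p : ℕ) [Fact p.Prime] [CharP F p]

/-- **descent**: if the traces of `h`, `hA`, `hB`, `hAB` are `c` times elements of `k`, for all `h` in a
subgroup `L` containing the quaternion pair `(A, B)`, then a `GL₂`-conjugate of `L` consists of matrices
that are `k`-rational up to a scalar -/
theorem exists_aut_le_ratForm (hp2 : p ≠ 2) (L : Subgroup (S2 F)) (A B : S2 F)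
    (hAB : IsQuatPair A B) (k : Subfield F)
    (htr : ∀ h ∈ L, ∃ c : F, c ≠ 0 ∧ ∀ u : S2 F, (u = 1 ∨ u = A ∨ u = B ∨ u = A * B) →
      ∃ a ∈ k, (h * u).1.trace = c * a) :
    ∃ g : GL (Fin 2) F, ∀ h ∈ L, conjGL g h ∈ ratForm k ∧
      ((∀ u : S2 F, (u = 1 ∨ u = A ∨ u = B ∨ u = A * B) → (h * u).1.trace ∈ k) →
        conjGL g h ∈ SLK k) := by
  have h2 : (2 : F) ≠ 0 := two_ne_zero_of_char p hp2
  obtain ⟨a, b, hab⟩ := exists_std_pair (F := F) p hp2
  obtain ⟨g, hgA, hgB⟩ := exists_conj_std h2 A B hAB (a : F) (b : F) hab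
  refine ⟨g, ?_⟩
  intro h hh
  have hxk : (a : F) ∈ k := natCast_mem k a
  have hyk : (b : F) ∈ k := natCast_mem k b
  have key : ∀ c : F, (∀ u : S2 F, (u = 1 ∨ u = A ∨ u = B ∨ u = A * B) →
      ∃ a' ∈ k, (h * u).1.trace = c * a') →
      ∀ i j, ∃ a' ∈ k, 2 * (conjGL g h).1 i j = c * a' := by
    intro c hc
    obtain ⟨a1, ha1, h1⟩ := hc 1 (Or.inl rfl)
    obtain ⟨a2, ha2, h2'⟩ := hc A (Or.inr (Or.inl rfl))
    obtain ⟨a3, ha3, h3⟩ := hc B (Or.inr (Or.inr (Or.inl rfl)))
    obtain ⟨a4, ha4, h4⟩ := hc (A * B) (Or.inr (Or.inr (Or.inr rfl)))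
    apply entries_of_traces k (a : F) (b : F) hxk hyk hab (conjGL g h).1 c a1 a2 a3 a4 ha1 ha2 ha3 ha4
    · rw [trace_conjGL, ← h1, mul_one]
    · rw [← hgA, ← Matrix.SpecialLinearGroup.coe_mul, ← map_mul, trace_conjGL, h2']
    · rw [← hgB, ← Matrix.SpecialLinearGroup.coe_mul, ← map_mul, trace_conjGL, h3]
    · rw [← hgA, ← hgB, ← Matrix.SpecialLinearGroup.coe_mul, ← Matrix.SpecialLinearGroup.coe_mul,
        ← map_mul, ← map_mul, trace_conjGL, h4]
  have h2k : (2 : F) ∈ k := by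
    have : ((2 : ℕ) : F) ∈ k := natCast_mem k 2
    exact_mod_cast this
  constructor
  · obtain ⟨c, hc0, hc⟩ := htr h hh
    have := key c hc
    refine ⟨2 * c⁻¹, mul_ne_zero h2 (inv_ne_zero hc0), ?_⟩
    intro i j
    obtain ⟨a', ha', e⟩ := this i j
    have : 2 * c⁻¹ * (conjGL g h).1 i j = a' := by
      calc 2 * c⁻¹ * (conjGL g h).1 i j = c⁻¹ * (2 * (conjGL g h).1 i j) := by ring
        _ = c⁻¹ * (c * a') := by rw [e]
        _ = a' := by field_simp
    rw [this]
    exact ha'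
  · intro hall
    have := key 1 (fun u hu => ⟨(h * u).1.trace, hall u hu, by rw [one_mul]⟩)
    intro i j
    obtain ⟨a', ha', e⟩ := this i j
    rw [one_mul] at e
    have : (conjGL g h).1 i j = 2⁻¹ * a' := by
      rw [← e]; field_simp
    rw [this]
    exact mul_mem (inv_mem h2k) ha'

/-- the order of `uu 1` -/
theorem orderOf_uu_one : orderOf (uu (1 : F)) = p := by
  apply orderOf_eq_prime (Cfsg.Agent.Helper98.DMax.uu_pow_char F p 1)
  intro h
  have := congrArg (fun g : S2 F => g.1 0 1) h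
  simp at this

/-- a proper overgroup of a conjugate of a coatom of order prime to `p` cannot contain `uu 1` -/
theorem top_of_coatom (L : Subgroup (S2 F)) (hL : IsCoatom L) (hpL : ¬ p ∣ Nat.card L)
    (g : GL (Fin 2) F) (X : Subgroup (S2 F)) (hX : ∀ h ∈ L, conjGL g h ∈ X) (hu : uu 1 ∈ X) :
    X = ⊤ := by
  by_contra hne
  have hco := map_isCoatom (conjGL g) L hL
  have hle : L.map (conjGL g).toMonoidHom ≤ X := by
    rintro _ ⟨h, hh, rfl⟩
    exact hX h hh
  have heq := eq_of_coatom_le hco hle hne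
  rw [← heq] at hu
  obtain ⟨h, hh, hhu⟩ := hu
  apply hpL
  have h1 : orderOf h = p := by
    rw [← orderOf_uu_one (F := F) p, ← hhu]
    exact (MulEquiv.orderOf_eq (conjGL g) h).symm
  rw [← h1]
  exact Subgroup.orderOf_dvd_natCard L hh

theorem card_le_of_SLK_top (j : ℕ) (hj : 0 < j) (h : SLK (frobFix (F := F) p j) = ⊤) :
    Fintype.card F ≤ p ^ j := by
  apply card_le_of_frobFix_top p j hj
  intro a
  apply mem_of_uu_mem_SLK
  rw [h]; trivial

theorem card_le_of_ratForm_top (j : ℕ) (hj : 0 < j) (h : ratForm (frobFix (F := F) p j) = ⊤) :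
    Fintype.card F ≤ p ^ j := by
  apply card_le_of_frobFix_top p j hj
  intro a
  apply mem_of_uu_mem_ratForm
  rw [h]; trivial

end descent

section pre

variable (p : ℕ) [Fact p.Prime] [CharP F p]

/-- `|pre M| = 2 |M|` in odd characteristic -/
theorem card_pre (h2 : (2 : F) ≠ 0)
    (M : Subgroup (Matrix.ProjectiveSpecialLinearGroup (Fin 2) F)) :
    Nat.card (pre M) = 2 * Nat.card M := by
  haveI : Finite (S2 F) := inferInstanceAs (Finite {A : Matrix (Fin 2) (Fin 2) F // A.det = 1})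
  have h1 : Nat.card (M.comap (QuotientGroup.mk' (Subgroup.center (S2 F)))) =
      Nat.card M * Nat.card (QuotientGroup.mk' (Subgroup.center (S2 F))).ker := by
    have hk : (QuotientGroup.mk' (Subgroup.center (S2 F))).ker ≤
        M.comap (QuotientGroup.mk' (Subgroup.center (S2 F))) := by
      intro z hz
      rw [Subgroup.mem_comap, MonoidHom.mem_ker.mp hz]
      exact one_mem _
    have h3 := Subgroup.relIndex_mul_relIndex ⊥ (QuotientGroup.mk' (Subgroup.center (S2 F))).ker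
      (M.comap (QuotientGroup.mk' (Subgroup.center (S2 F)))) bot_le hk
    rw [Subgroup.relIndex_bot_left, Subgroup.relIndex_bot_left, Subgroup.relIndex_ker,
      Subgroup.map_comap_eq_self_of_surjective (QuotientGroup.mk'_surjective _)] at h3
    rw [← h3, mul_comm]
  unfold pre
  rw [h1, QuotientGroup.ker_mk', card_center_sl2_odd h2, mul_comm]

theorem not_dvd_card_pre (hp2 : p ≠ 2)
    (M : Subgroup (Matrix.ProjectiveSpecialLinearGroup (Fin 2) F)) (hpM : ¬ p ∣ Nat.card M) :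
    ¬ p ∣ Nat.card (pre M) := by
  have hpp : p.Prime := Fact.out
  rw [card_pre (two_ne_zero_of_char p hp2) M]
  intro h
  rcases (Nat.Prime.dvd_mul hpp).mp h with h | h
  · exact hp2 ((Nat.prime_dvd_prime_iff_eq hpp Nat.prime_two).mp h)
  · exact hpM h

end pre

end Cfsg.Agent.Helper41.PMax
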