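import Cfsg.Agent.Lib.Helper41.PMaxDih

/-!
# Maximal subgroups of `PSL₂(F)`: cyclic ones do not exist, dihedral ones have order `q ∓ 1`
-/

set_option autoImplicit false
set_option linter.unusedSectionVars false
set_option linter.unusedVariables false
set_option linter.style.haveILetI false

namespace Cfsg.Agent.Helper41.PMax

open Matrix Cfsg.Agent.Helper98.Ident Cfsg.Agent.Helper98.Dickson Cfsg.Agent.Helper41
  Cfsg.Agent.Helper98.Torus

variable {F : Type*} [Field F] [Fintype F] (p : ℕ) [Fact p.Prime] [CharP F p]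

/-- no maximal subgroup of `PSL₂(F)` of order prime to `p` is cyclic -/
theorem cyclic_case (hp2 : p ≠ 2) (h5 : 5 ≤ Fintype.card F) (M : Subgroup (PG F))
    (hM : IsCoatom M) (hpM : ¬ p ∣ Nat.card M) (hcyc : IsCyclic M) : False := by
  haveI := finite_PG (F := F)
  have hodd : Odd (Fintype.card F) := odd_card_of_char_ne_two p hp2
  obtain ⟨g, hg⟩ := IsCyclic.exists_generator (α := M)
  have hord : orderOf (g : PG F) = Nat.card M := by
    rw [Subgroup.orderOf_coe, orderOf_eq_card_of_forall_mem_zpowers hg]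
  have hc1 : (g : PG F) ≠ 1 := by
    intro h
    apply coatom_ne_bot hodd h5 M hM
    rw [Subgroup.eq_bot_iff_forall]
    intro x hx
    obtain ⟨i, hi⟩ := Subgroup.mem_zpowers_iff.mp (hg ⟨x, hx⟩)
    have := congrArg Subtype.val hi
    rw [Subgroup.coe_zpow, h, _root_.one_zpow] at this
    exact this.symm
  have hcp : ¬ p ∣ orderOf (g : PG F) := by rw [hord]; exact hpM
  have hconj : ∀ m ∈ M, m * (g : PG F) * m⁻¹ = (g : PG F) ∨ m * (g : PG F) * m⁻¹ = (g : PG F)⁻¹ := by
    intro m hm
    left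
    obtain ⟨i, hi⟩ := Subgroup.mem_zpowers_iff.mp (hg ⟨m, hm⟩)
    have hm' : m = (g : PG F) ^ i := by
      have := congrArg Subtype.val hi
      rw [Subgroup.coe_zpow] at this
      exact this.symm
    rw [hm']
    have : (g : PG F) ^ i * (g : PG F) = (g : PG F) * (g : PG F) ^ i :=
      ((Commute.refl (g : PG F)).zpow_left i).eq
    rw [this, mul_inv_cancel_right]
  have hcard := card_of_conj_pm p hp2 h5 M hM (g : PG F) hc1 hcp hconj
  rw [← hord] at hcard
  have hgcd : Nat.gcd 2 (Fintype.card F - 1) = 2 := by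
    apply Nat.gcd_eq_left
    obtain ⟨j, hj⟩ := hodd
    exact ⟨j, by omega⟩
  obtain ⟨j, hj⟩ := hodd
  rcases psl2_orderOf_dvd p (g : PG F) with h | h | h
  · have hpp : p.Prime := Fact.out
    rcases (Nat.dvd_prime hpp).mp h with e | e
    · exact hc1 (orderOf_eq_one_iff.mp e)
    · exact hcp (by rw [e])
  · rw [hgcd] at h
    have hpos : 0 < (Fintype.card F - 1) / 2 := by omega
    have := Nat.le_of_dvd hpos h
    rcases hcard with e | e <;> omega
  · rw [hgcd] at h
    have hpos : 0 < (Fintype.card F + 1) / 2 := by omega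
    have := Nat.le_of_dvd hpos h
    rcases hcard with e | e <;> omega

/-- Klein four-subgroups of `PSL₂(F)` are not maximal -/
theorem klein_case (hp2 : p ≠ 2) (h5 : 5 ≤ Fintype.card F) (M : Subgroup (PG F))
    (hM : IsCoatom M) (hV : IsKleinFour M) : False := by
  haveI := finite_PG (F := F)
  have h2 : (2 : F) ≠ 0 := two_ne_zero_of_char p hp2
  have hodd : Odd (Fintype.card F) := odd_card_of_char_ne_two p hp2
  have hC := Cfsg.Agent.Helper98.PSL2Klein.centralizer_eq h2 M hV
  have h12 := Cfsg.Agent.Helper98.KleinNorm.twelve_le_card_normalizer M hV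
    (twelve_mul_card_kleinFour_psl2 h2)
  have h24 := Cfsg.Agent.Helper98.KleinNorm.card_normalizer_dvd M hV hC
  have hle : M ≤ Subgroup.normalizer (M : Set (PG F)) := Subgroup.le_normalizer
  have hcardM : Nat.card M = 4 := hV.card_four
  rcases eq_or_lt_of_le hle with h | h
  · rw [← h, hcardM] at h12
    omega
  · have htop := hM.2 _ h
    rw [htop, Subgroup.card_top] at h24
    have hG : Nat.card (PG F) * 2 = (Fintype.card F ^ 2 - 1) * Fintype.card F :=
      Cfsg.Agent.Helper98.PSL2Card.card_psl2_odd (F := F) rfl hodd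
    have hle24 := Nat.le_of_dvd (by norm_num) h24
    have h1 : 5 ^ 2 ≤ Fintype.card F ^ 2 := Nat.pow_le_pow_left h5 2
    have h3 : (5 ^ 2 - 1) * 5 ≤ (Fintype.card F ^ 2 - 1) * Fintype.card F :=
      Nat.mul_le_mul (by omega) h5
    omega

/-- a dihedral maximal subgroup of order prime to `p` has order `q ∓ 1` -/
theorem dihedral_case (hp2 : p ≠ 2) (h5 : 5 ≤ Fintype.card F) (M : Subgroup (PG F))
    (hM : IsCoatom M) (hpM : ¬ p ∣ Nat.card M) (n : ℕ) (hn : 0 < n) (e : M ≃* DihedralGroup n) :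
    3 ≤ n ∧ (2 * n = Fintype.card F - 1 ∨ 2 * n = Fintype.card F + 1) := by
  haveI := finite_PG (F := F)
  have hcardM : Nat.card M = 2 * n := by
    rw [Nat.card_congr e.toEquiv, DihedralGroup.nat_card]
  have hn3 : 3 ≤ n := by
    by_contra hlt
    have : n = 1 ∨ n = 2 := by omega
    rcases this with rfl | rfl
    · haveI : Fact (Nat.Prime 2) := ⟨Nat.prime_two⟩
      exact cyclic_case p hp2 h5 M hM hpM (isCyclic_of_prime_card (p := 2) (by rw [hcardM]))
    · haveI : IsKleinFour M := Cfsg.Agent.Helper98.isKleinFour_of_mulEquiv e.symm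
      exact klein_case p hp2 h5 M hM inferInstance
  refine ⟨hn3, ?_⟩
  obtain ⟨ρ, hρ⟩ : ∃ ρ : M, ρ = e.symm (DihedralGroup.r 1) := ⟨_, rfl⟩
  have hordρ : orderOf (ρ : PG F) = n := by
    rw [Subgroup.orderOf_coe, hρ, MulEquiv.orderOf_eq, DihedralGroup.orderOf_r_one]
  have hc1 : (ρ : PG F) ≠ 1 := by
    intro h
    rw [← orderOf_eq_one_iff, hordρ] at h
    omega
  have hcp : ¬ p ∣ orderOf (ρ : PG F) := by
    rw [hordρ]
    intro h
    apply hpM
    rw [hcardM]
    exact Dvd.dvd.mul_left h 2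
  have hconj : ∀ m ∈ M, m * (ρ : PG F) * m⁻¹ = (ρ : PG F) ∨ m * (ρ : PG F) * m⁻¹ = (ρ : PG F)⁻¹ := by
    intro m hm
    rcases dih_conj n (e ⟨m, hm⟩) with h | h
    · left
      have := congrArg e.symm h
      rw [map_mul, map_mul, map_inv, e.symm_apply_apply, ← hρ] at this
      exact congrArg Subtype.val this
    · right
      have := congrArg e.symm h
      rw [map_mul, map_mul, map_inv, map_inv, e.symm_apply_apply, ← hρ] at this
      exact congrArg Subtype.val this
  have hcard := card_of_conj_pm p hp2 h5 M hM (ρ : PG F) hc1 hcp hconj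
  rw [hcardM] at hcard
  exact hcard

end Cfsg.Agent.Helper41.PMax
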