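import Cfsg.Agent.Lib.Helper41.PMaxTools

/-!
# Non-maximality via Sylow conjugacy (generic finite group theory)
-/

set_option autoImplicit false
set_option linter.unusedSectionVars false
set_option linter.unusedVariables false
set_option linter.style.haveILetI false

namespace Cfsg.Agent.Helper41.PMax

section generic

variable {G : Type*} [Group G] [Finite G]

theorem factorization_prime_mul (r m : ℕ) (hr : r.Prime) (hm : ¬ r ∣ m) :
    (r * m).factorization r = 1 := by
  have hm0 : m ≠ 0 := by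
    rintro rfl
    exact hm (dvd_zero r)
  rw [Nat.factorization_mul hr.ne_zero hm0, Finsupp.add_apply, hr.factorization_self,
    Nat.factorization_eq_zero_of_not_dvd hm]

/-- a coatom which is a Sylow subgroup is not properly contained, up to conjugacy, in a proper
subgroup of order divisible by its order -/
theorem not_coatom_of_sylow (r : ℕ) [Fact r.Prime] (M : Subgroup G) (hM : IsCoatom M)
    (hMcard : Nat.card M = r ^ (Nat.card G).factorization r) (S : Subgroup G) (hS : S ≠ ⊤)
    (hdvd : Nat.card M ∣ Nat.card S) (hne : Nat.card S ≠ Nat.card M) : False := by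
  obtain ⟨P, hP⟩ : ∃ P : Sylow r G, (P : Subgroup G) = M := ⟨Sylow.ofCard M hMcard, rfl⟩
  obtain ⟨K, hK⟩ := Sylow.exists_subgroup_card_pow_prime r (G := S)
    (n := (Nat.card G).factorization r) (by rw [← hMcard]; exact hdvd)
  have hKcard : Nat.card (K.map S.subtype) = r ^ (Nat.card G).factorization r := by
    rw [Subgroup.card_map_of_injective S.subtype_injective, hK]
  obtain ⟨Q, hQ⟩ : ∃ Q : Sylow r G, (Q : Subgroup G) = K.map S.subtype :=
    ⟨Sylow.ofCard _ hKcard, rfl⟩
  obtain ⟨g, hg⟩ := MulAction.exists_smul_eq G P Q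
  have h1 : M.map (MulAut.conj g).toMonoidHom = K.map S.subtype := by
    rw [← hP, ← hQ, ← hg, Sylow.coe_subgroup_smul]
    rfl
  have hco := map_isCoatom (MulAut.conj g) M hM
  have hle : M.map (MulAut.conj g).toMonoidHom ≤ S := by
    rw [h1]
    exact Subgroup.map_subtype_le K
  have heq := eq_of_coatom_le hco hle hS
  apply hne
  rw [← heq, Subgroup.card_map_of_injective (MulAut.conj g).injective]

theorem conj_zpow_eq (g t : G) (k : ℤ) : g * t ^ k * g⁻¹ = (g * t * g⁻¹) ^ k := by
  have := map_zpow (MulAut.conj g) t k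
  simpa [MulAut.conj_apply] using this

/-- an element inverting `x` normalizes `⟨x⟩` -/
theorem mem_normalizer_zpowers_of_inv (x y : G) (hyx : y * x * y⁻¹ = x⁻¹) :
    y ∈ Subgroup.normalizer ((Subgroup.zpowers x : Subgroup G) : Set G) := by
  have hyx' : y⁻¹ * x * y = x⁻¹ := by
    have h1 : x = y⁻¹ * x⁻¹ * y := by rw [← hyx]; group
    have h2 : x⁻¹ = (y⁻¹ * x⁻¹ * y)⁻¹ := by rw [← h1]
    rw [h2]; group
  rw [Subgroup.mem_normalizer_iff]
  intro h
  constructor
  · rintro ⟨k, rfl⟩
    rw [conj_zpow_eq, hyx]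
    exact ⟨-k, by simp⟩
  · rintro ⟨k, hk⟩
    have e : h = y⁻¹ * (y * h * y⁻¹) * y := by group
    rw [e, ← hk]
    have := conj_zpow_eq y⁻¹ x k
    rw [inv_inv] at this
    rw [this, hyx']
    exact ⟨-k, by simp⟩

/-- a coatom `M = N(⟨c⟩)` of order `2r`, `⟨c⟩` a Sylow `r`-subgroup, is conjugate into any subgroup
containing an element of order `r` inverted by an involution -/
theorem not_coatom_of_normalizer (r : ℕ) [Fact r.Prime] (hr2 : r ≠ 2)
    (hfac : (Nat.card G).factorization r = 1) (M : Subgroup G) (hM : IsCoatom M)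
    (hMcard : Nat.card M = 2 * r) (c : G) (hc : orderOf c = r)
    (hMN : M ≤ Subgroup.normalizer ((Subgroup.zpowers c : Subgroup G) : Set G))
    (hN : Subgroup.normalizer ((Subgroup.zpowers c : Subgroup G) : Set G) ≠ ⊤)
    (S : Subgroup G) (hS : S ≠ ⊤) (hScard : Nat.card S ≠ 2 * r) (x y : G) (hx : x ∈ S)
    (hy : y ∈ S) (hxo : orderOf x = r) (hyo : orderOf y = 2) (hyx : y * x * y⁻¹ = x⁻¹) : False := by
  have hpr : r.Prime := Fact.out
  have hMeq : M = Subgroup.normalizer ((Subgroup.zpowers c : Subgroup G) : Set G) :=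
    eq_of_coatom_le hM hMN hN
  have hcc : Nat.card (Subgroup.zpowers c) = r ^ (Nat.card G).factorization r := by
    rw [Nat.card_zpowers, hc, hfac, pow_one]
  have hcx : Nat.card (Subgroup.zpowers x) = r ^ (Nat.card G).factorization r := by
    rw [Nat.card_zpowers, hxo, hfac, pow_one]
  obtain ⟨P, hP⟩ : ∃ P : Sylow r G, (P : Subgroup G) = Subgroup.zpowers c :=
    ⟨Sylow.ofCard _ hcc, rfl⟩
  obtain ⟨Q, hQ⟩ : ∃ Q : Sylow r G, (Q : Subgroup G) = Subgroup.zpowers x :=
    ⟨Sylow.ofCard _ hcx, rfl⟩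
  obtain ⟨g, hg⟩ := MulAction.exists_smul_eq G P Q
  have h1 : (Subgroup.zpowers c).map (MulAut.conj g).toMonoidHom = Subgroup.zpowers x := by
    rw [← hP, ← hQ, ← hg, Sylow.coe_subgroup_smul]
    rfl
  obtain ⟨M', hM'⟩ : ∃ M' : Subgroup G, M' = M.map (MulAut.conj g).toMonoidHom := ⟨_, rfl⟩
  have hM'N : M' = Subgroup.normalizer ((Subgroup.zpowers x : Subgroup G) : Set G) := by
    rw [hM', hMeq, ← h1]
    exact Subgroup.map_equiv_normalizer_eq (Subgroup.zpowers c) (MulAut.conj g)
  have hco : IsCoatom M' := by rw [hM']; exact map_isCoatom (MulAut.conj g) M hM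
  have hM'card : Nat.card M' = 2 * r := by
    rw [hM', Subgroup.card_map_of_injective (MulAut.conj g).injective, hMcard]
  have hxM' : x ∈ M' := by
    rw [hM'N]
    exact Subgroup.le_normalizer (Subgroup.mem_zpowers x)
  have hyM' : y ∈ M' := by
    rw [hM'N]
    exact mem_normalizer_zpowers_of_inv x y hyx
  -- the intersection
  have hxT : x ∈ S ⊓ M' := ⟨hx, hxM'⟩
  have hyT : y ∈ S ⊓ M' := ⟨hy, hyM'⟩
  have hd1 : r ∣ Nat.card (S ⊓ M' : Subgroup G) := by
    rw [← hxo]; exact Subgroup.orderOf_dvd_natCard _ hxT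
  have hd2 : 2 ∣ Nat.card (S ⊓ M' : Subgroup G) := by
    rw [← hyo]; exact Subgroup.orderOf_dvd_natCard _ hyT
  have hcop : Nat.Coprime 2 r := by
    rw [Nat.coprime_primes Nat.prime_two hpr]
    exact fun h => hr2 h.symm
  have hd3 : 2 * r ∣ Nat.card (S ⊓ M' : Subgroup G) := hcop.mul_dvd_of_dvd_of_dvd hd2 hd1
  have hle : (S ⊓ M' : Subgroup G) ≤ M' := inf_le_right
  have heq : (S ⊓ M' : Subgroup G) = M' := by
    apply Subgroup.eq_of_le_of_card_ge hle
    rw [hM'card]
    exact Nat.le_of_dvd Nat.card_pos hd3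
  have hM'S : M' ≤ S := by
    rw [← heq]; exact inf_le_left
  have := eq_of_coatom_le hco hM'S hS
  apply hScard
  rw [← this, hM'card]

end generic

end Cfsg.Agent.Helper41.PMax

namespace Cfsg.Agent.Helper41.PMax

section generic2

variable {G : Type*} [Group G] [Finite G]

/-- an element centralizing or inverting `c` normalizes `⟨c⟩` -/
theorem mem_normalizer_zpowers_of_pm (c m : G) (h : m * c * m⁻¹ = c ∨ m * c * m⁻¹ = c⁻¹) :
    m ∈ Subgroup.normalizer ((Subgroup.zpowers c : Subgroup G) : Set G) := by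
  rcases h with h | h
  · have h' : m⁻¹ * c * m = c := by
      have h1 : c = m⁻¹ * (m * c * m⁻¹) * m := by group
      rw [h] at h1
      exact h1.symm
    rw [Subgroup.mem_normalizer_iff]
    intro x
    constructor
    · rintro ⟨k, rfl⟩
      rw [conj_zpow_eq, h]
      exact ⟨k, rfl⟩
    · rintro ⟨k, hk⟩
      have e : x = m⁻¹ * (m * x * m⁻¹) * m := by group
      rw [e, ← hk]
      have := conj_zpow_eq m⁻¹ c k
      rw [inv_inv] at this
      rw [this, h']
      exact ⟨k, rfl⟩
  · exact mem_normalizer_zpowers_of_inv c m h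

end generic2

end Cfsg.Agent.Helper41.PMax
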