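import Cfsg.Agent.Lib.Helper41.PMaxExc
import Cfsg.Agent.Lib.Helper41.PMaxDih2
import Cfsg.Agent.Lib.Helper41.IcosaPSL2
import Cfsg.Agent.Lib.Helper22.SLQuasi
import Cfsg.Agent.S0803
import Cfsg.Agent.Lib.Helper41.DicksonUse2

/-!
# The small exceptions: dihedral subgroups of order `q ∓ 1` that are not maximal in `PSL₂(q)`
-/

set_option autoImplicit false
set_option linter.unusedSectionVars false
set_option linter.unusedVariables false
set_option linter.style.haveILetI false

namespace Cfsg.Agent.Helper41.PMax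

open Matrix Cfsg.Agent.Helper98.Ident Cfsg.Agent.Helper98.Dickson Cfsg.Agent.Helper41

section perms

def sx4 : Equiv.Perm (Fin 4) := Equiv.swap 0 1 * Equiv.swap 1 2
def sy4 : Equiv.Perm (Fin 4) := Equiv.swap 0 1

theorem s4_facts : sx4 ^ 3 = 1 ∧ sx4 ≠ 1 ∧ sy4 ^ 2 = 1 ∧ sy4 ≠ 1 ∧ sy4 * sx4 * sy4⁻¹ = sx4⁻¹ := by
  decide

def sx5 : Equiv.Perm (Fin 5) := Equiv.swap 0 1 * Equiv.swap 1 2 * Equiv.swap 2 3 * Equiv.swap 3 4
def sy5 : Equiv.Perm (Fin 5) := Equiv.swap 1 4 * Equiv.swap 2 3

theorem a5_facts : Equiv.Perm.sign sx5 = 1 ∧ Equiv.Perm.sign sy5 = 1 ∧ sx5 ^ 5 = 1 ∧ sx5 ≠ 1 ∧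
    sy5 ^ 2 = 1 ∧ sy5 ≠ 1 ∧ sy5 * sx5 * sy5⁻¹ = sx5⁻¹ := by
  decide

end perms

section transport

variable {G T : Type*} [Group G] [Group T]

/-- transport of an inverted element of prime order along an isomorphism onto a subgroup -/
theorem exists_inverted_of_equiv (S : Subgroup G) (e : S ≃* T) (r : ℕ) [Fact r.Prime]
    (x0 y0 : T) (hx : x0 ^ r = 1) (hx1 : x0 ≠ 1) (hy : y0 ^ 2 = 1) (hy1 : y0 ≠ 1)
    (hyx : y0 * x0 * y0⁻¹ = x0⁻¹) :
    ∃ x y : G, x ∈ S ∧ y ∈ S ∧ orderOf x = r ∧ orderOf y = 2 ∧ y * x * y⁻¹ = x⁻¹ := by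
  haveI : Fact (Nat.Prime 2) := ⟨Nat.prime_two⟩
  refine ⟨((e.symm x0 : S) : G), ((e.symm y0 : S) : G), (e.symm x0).2, (e.symm y0).2, ?_, ?_, ?_⟩
  · rw [Subgroup.orderOf_coe, MulEquiv.orderOf_eq]
    exact orderOf_eq_prime hx hx1
  · rw [Subgroup.orderOf_coe, MulEquiv.orderOf_eq]
    exact orderOf_eq_prime hy hy1
  · have := congrArg e.symm hyx
    rw [map_mul, map_mul, map_inv, map_inv] at this
    exact congrArg Subtype.val this

end transport

section psl

variable {F : Type*} [Field F] [Fintype F]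

theorem ne_top_of_card_lt (S : Subgroup (PG F)) (h : Nat.card S < Nat.card (PG F)) : S ≠ ⊤ := by
  intro hS
  rw [hS, Subgroup.card_top] at h
  exact lt_irrefl _ h

/-- dihedral subgroups `D_r`, `r` an odd prime exactly dividing `|G|`, are not maximal if some proper
subgroup contains an inverted element of order `r` -/
theorem exc_prime (h4 : 4 ≤ Fintype.card F) (M : Subgroup (PG F)) (hM : IsCoatom M) (r : ℕ)
    [Fact r.Prime] (hr2 : r ≠ 2) (e : M ≃* DihedralGroup r)
    (hfac : (Nat.card (PG F)).factorization r = 1) (S : Subgroup (PG F))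
    (hScard : Nat.card S ≠ 2 * r) (hSlt : Nat.card S < Nat.card (PG F)) (x y : PG F) (hx : x ∈ S)
    (hy : y ∈ S) (hxo : orderOf x = r) (hyo : orderOf y = 2) (hyx : y * x * y⁻¹ = x⁻¹) : False := by
  haveI := finite_PG (F := F)
  have hpr : r.Prime := Fact.out
  have hcardM : Nat.card M = 2 * r := by
    rw [Nat.card_congr e.toEquiv, DihedralGroup.nat_card]
  obtain ⟨ρ, hρ⟩ : ∃ ρ : M, ρ = e.symm (DihedralGroup.r 1) := ⟨_, rfl⟩
  have hordρ : orderOf (ρ : PG F) = r := by
    rw [Subgroup.orderOf_coe, hρ, MulEquiv.orderOf_eq, DihedralGroup.orderOf_r_one]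
  have hMN : M ≤ Subgroup.normalizer ((Subgroup.zpowers (ρ : PG F) : Subgroup (PG F)) :
      Set (PG F)) := by
    intro m hm
    apply mem_normalizer_zpowers_of_pm
    rcases dih_conj r (e ⟨m, hm⟩) with h | h
    · left
      have := congrArg e.symm h
      rw [map_mul, map_mul, map_inv, e.symm_apply_apply, ← hρ] at this
      exact congrArg Subtype.val this
    · right
      have := congrArg e.symm h
      rw [map_mul, map_mul, map_inv, map_inv, e.symm_apply_apply, ← hρ] at this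
      exact congrArg Subtype.val this
  have hN : Subgroup.normalizer ((Subgroup.zpowers (ρ : PG F) : Subgroup (PG F)) :
      Set (PG F)) ≠ ⊤ := by
    intro htop
    haveI : IsSimpleGroup (PG F) := Cfsg.Agent.Helper22.SLQuasi.psl2_isSimpleGroup h4
    have hnorm : (Subgroup.zpowers (ρ : PG F)).Normal := Subgroup.normalizer_eq_top_iff.mp htop
    have hc : Nat.card (Subgroup.zpowers (ρ : PG F)) = r := by rw [Nat.card_zpowers, hordρ]
    rcases hnorm.eq_bot_or_eq_top with h | h
    · rw [h, Subgroup.card_bot] at hc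
      exact hpr.one_lt.ne hc
    · -- then `|G| = r`, but `M` has order `2r`
      rw [h, Subgroup.card_top] at hc
      have := Subgroup.card_le_card_group M
      rw [hcardM, hc] at this
      have := hpr.pos
      omega
  exact not_coatom_of_normalizer r hr2 hfac M hM hcardM (ρ : PG F) hordρ hMN hN S
    (ne_top_of_card_lt S hSlt) hScard x y hx hy hxo hyo hyx

/-- a dihedral subgroup of order `8` of a `PSL₂(F)` of order `8 · odd` containing `S₄` is not
maximal -/
theorem exc_two (M : Subgroup (PG F)) (hM : IsCoatom M) (hMc : Nat.card M = 8) (m : ℕ)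
    (hG : Nat.card (PG F) = 2 ^ 3 * m) (hm : Odd m) (S : Subgroup (PG F))
    (e' : S ≃* Equiv.Perm (Fin 4)) (hbig : 24 < Nat.card (PG F)) : False := by
  haveI := finite_PG (F := F)
  haveI : Fact (Nat.Prime 2) := ⟨Nat.prime_two⟩
  have hScard : Nat.card S = 24 := by rw [Nat.card_congr e'.toEquiv, card_perm_four]
  have hfac : (Nat.card (PG F)).factorization 2 = 3 := by
    rw [hG]; exact factorization_two_pow_mul_odd 3 m hm
  apply not_coatom_of_sylow 2 M hM (by rw [hMc, hfac]; norm_num) S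
    (ne_top_of_card_lt S (by rw [hScard]; exact hbig))
  · rw [hMc, hScard]; norm_num
  · rw [hMc, hScard]; norm_num

end psl

end Cfsg.Agent.Helper41.PMax
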