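import Cfsg.Agent.Lib.Helper41.PMaxExc2

/-!
# Dihedral maximal subgroups of `PSL₂(q)`: the excluded small `q`
-/

set_option autoImplicit false
set_option linter.unusedSectionVars false
set_option linter.unusedVariables false
set_option linter.style.haveILetI false

namespace Cfsg.Agent.Helper41.PMax

open Matrix Cfsg.Agent.Helper98.Ident Cfsg.Agent.Helper98.Dickson Cfsg.Agent.Helper41

theorem a5_inverted : ∃ x0 y0 : alternatingGroup (Fin 5), x0 ^ 5 = 1 ∧ x0 ≠ 1 ∧ y0 ^ 2 = 1 ∧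
    y0 ≠ 1 ∧ y0 * x0 * y0⁻¹ = x0⁻¹ := by
  obtain ⟨h1, h2, h3, h4, h5, h6, h7⟩ := a5_facts
  refine ⟨⟨sx5, Equiv.Perm.mem_alternatingGroup.mpr h1⟩,
    ⟨sy5, Equiv.Perm.mem_alternatingGroup.mpr h2⟩, ?_, ?_, ?_, ?_, ?_⟩
  · apply Subtype.ext; simpa using h3
  · intro h; exact h4 (congrArg Subtype.val h)
  · apply Subtype.ext; simpa using h5
  · intro h; exact h6 (congrArg Subtype.val h)
  · apply Subtype.ext; simpa using h7

variable {F : Type*} [Field F] [Fintype F]

/-- `D₃` is not maximal when `|G| = 3 · m`, `3 ∤ m`, and `G ≥ S₄` -/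
theorem exc_three (h4 : 4 ≤ Fintype.card F) (M : Subgroup (PG F)) (hM : IsCoatom M)
    (e : M ≃* DihedralGroup 3) (m : ℕ) (hG : Nat.card (PG F) = 3 * m) (hm : ¬ 3 ∣ m)
    (hbig : 24 < Nat.card (PG F)) (S : Subgroup (PG F)) (e' : S ≃* Equiv.Perm (Fin 4)) : False := by
  haveI : Fact (Nat.Prime 3) := ⟨Nat.prime_three⟩
  obtain ⟨h1, h2, h3, h4', h5⟩ := s4_facts
  obtain ⟨x, y, hx, hy, hxo, hyo, hyx⟩ := exists_inverted_of_equiv S e' 3 sx4 sy4 h1 h2 h3 h4' h5
  have hScard : Nat.card S = 24 := by rw [Nat.card_congr e'.toEquiv, card_perm_four]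
  exact exc_prime h4 M hM 3 (by norm_num) e
    (by rw [hG]; exact factorization_prime_mul 3 m Nat.prime_three hm) S
    (by rw [hScard]; norm_num) (by rw [hScard]; exact hbig) x y hx hy hxo hyo hyx

/-- `D₅` is not maximal when `|G| = 5 · m`, `5 ∤ m`, and `G ≥ A₅` -/
theorem exc_five (h4 : 4 ≤ Fintype.card F) (M : Subgroup (PG F)) (hM : IsCoatom M)
    (e : M ≃* DihedralGroup 5) (m : ℕ) (hG : Nat.card (PG F) = 5 * m) (hm : ¬ 5 ∣ m)
    (hbig : 60 < Nat.card (PG F)) (S : Subgroup (PG F)) (e' : S ≃* alternatingGroup (Fin 5)) :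
    False := by
  haveI : Fact (Nat.Prime 5) := ⟨by norm_num⟩
  obtain ⟨x0, y0, h1, h2, h3, h4', h5⟩ := a5_inverted
  obtain ⟨x, y, hx, hy, hxo, hyo, hyx⟩ := exists_inverted_of_equiv S e' 5 x0 y0 h1 h2 h3 h4' h5
  have hScard : Nat.card S = 60 := by rw [Nat.card_congr e'.toEquiv, card_alternatingGroup_five]
  exact exc_prime h4 M hM 5 (by norm_num) e
    (by rw [hG]; exact factorization_prime_mul 5 m (by norm_num) hm) S
    (by rw [hScard]; norm_num) (by rw [hScard]; exact hbig) x y hx hy hxo hyo hyx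

/-- the excluded small cases for dihedral maximal subgroups -/
theorem dihedral_exceptions (hodd : Odd (Fintype.card F)) (h5 : 5 ≤ Fintype.card F)
    (M : Subgroup (PG F)) (hM : IsCoatom M) (n : ℕ) (hn3 : 3 ≤ n) (e : M ≃* DihedralGroup n) :
    (2 * n = Fintype.card F - 1 → 13 ≤ Fintype.card F) ∧
      (2 * n = Fintype.card F + 1 → Fintype.card F ≠ 7 ∧ Fintype.card F ≠ 9) := by
  have hG : Nat.card (PG F) * 2 = (Fintype.card F ^ 2 - 1) * Fintype.card F :=
    Cfsg.Agent.Helper98.PSL2Card.card_psl2_odd (F := F) rfl hodd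
  have hcardM : Nat.card M = 2 * n := by
    rw [Nat.card_congr e.toEquiv, DihedralGroup.nat_card]
  have h4 : 4 ≤ Fintype.card F := by omega
  have hS4 : Fintype.card F ^ 2 % 16 = 1 →
      ∃ S : Subgroup (PG F), Nonempty (S ≃* Equiv.Perm (Fin 4)) :=
    fun h => (Cfsg.Agent.S0803.result (F := F) rfl).mpr h
  have hA5 : 5 ∣ Fintype.card F * (Fintype.card F ^ 2 - 1) →
      ∃ S : Subgroup (PG F), Nonempty (S ≃* alternatingGroup (Fin 5)) :=
    fun h => (alt5_le_psl2_iff (F := F) rfl).mpr h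
  obtain ⟨j, hj⟩ := hodd
  constructor
  · intro h2n
    by_contra hlt
    have hq : Fintype.card F = 7 ∨ Fintype.card F = 9 ∨ Fintype.card F = 11 := by omega
    rcases hq with hq | hq | hq
    · rw [hq] at hG h2n hS4
      have hn : n = 3 := by omega
      subst hn
      obtain ⟨S, ⟨e'⟩⟩ := hS4 (by norm_num)
      exact exc_three h4 M hM e 56 (by omega) (by norm_num) (by omega) S e'
    · rw [hq] at hG h2n hS4
      have hn : n = 4 := by omega
      subst hn
      obtain ⟨S, ⟨e'⟩⟩ := hS4 (by norm_num)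
      exact exc_two M hM (by rw [hcardM]) 45 (by omega) (by decide) S e' (by omega)
    · rw [hq] at hG h2n hA5
      have hn : n = 5 := by omega
      subst hn
      obtain ⟨S, ⟨e'⟩⟩ := hA5 (by norm_num)
      exact exc_five h4 M hM e 132 (by omega) (by norm_num) (by omega) S e'
  · intro h2n
    constructor
    · intro hq
      rw [hq] at hG h2n hS4
      have hn : n = 4 := by omega
      subst hn
      obtain ⟨S, ⟨e'⟩⟩ := hS4 (by norm_num)
      exact exc_two M hM (by rw [hcardM]) 21 (by omega) (by decide) S e' (by omega)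
    · intro hq
      rw [hq] at hG h2n hA5
      have hn : n = 5 := by omega
      subst hn
      obtain ⟨S, ⟨e'⟩⟩ := hA5 (by norm_num)
      exact exc_five h4 M hM e 72 (by omega) (by norm_num) (by omega) S e'

end Cfsg.Agent.Helper41.PMax
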