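import Cfsg.Agent.Lib.Helper41.PMaxAlt
import Cfsg.Agent.Lib.Helper41.DicksonUse1
import Cfsg.Agent.Lib.Helper98.SL2Torus
import Cfsg.Agent.Lib.Helper98.SL2Final
import Cfsg.Agent.Lib.Helper98.PSL2Card

/-!
# Maximal subgroups of `PSL₂(F)`, `|F|` odd: the Borel and the subfield cases
-/

set_option autoImplicit false
set_option linter.unusedSectionVars false
set_option linter.unusedVariables false
set_option linter.style.haveILetI false

namespace Cfsg.Agent.Helper41.PMax

open Matrix Cfsg.Agent.Helper98.Ident Cfsg.Agent.Helper98.Dickson Cfsg.Agent.Helper41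
  Cfsg.Agent.Helper98.Final

section fields

variable {F : Type*} [Field F] [Fintype F]

/-- square roots of elements of a subfield of odd index lie in the subfield -/
theorem mem_of_sq_mem_odd (h2 : (2 : F) ≠ 0) (k : Subfield F)
    (hodd : Odd (Module.finrank k F)) (t : F) (ht : t ^ 2 ∈ k) : t ∈ k := by
  classical
  by_contra htk
  have ht0 : t ≠ 0 := by
    rintro rfl
    exact htk (zero_mem k)
  haveI : Fintype k := Fintype.ofFinite k
  have h2k : (2 : k) ≠ 0 := by
    intro h
    apply h2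
    have h' : ((2 : k) : F) = ((0 : k) : F) := congrArg (fun z : k => (z : F)) h
    push_cast at h'
    exact h'
  have hchar : ringChar k ≠ 2 := ringChar_ne_two_of_two_ne_zero h2k
  obtain ⟨ν, hν⟩ : ∃ ν : k, ν = ⟨t ^ 2, ht⟩ := ⟨_, rfl⟩
  have hνF : (ν : F) = t ^ 2 := by rw [hν]
  have hν0 : ν ≠ 0 := by
    intro h
    rw [h] at hνF
    have : t ^ 2 = 0 := by rw [← hνF]; rfl
    exact ht0 (pow_eq_zero_iff (by norm_num) |>.mp this)
  have hnsq : ¬ IsSquare ν := by
    rintro ⟨s, hs⟩
    have hs' : t ^ 2 = (s : F) * s := by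
      rw [← hνF, hs]; rfl
    have h3 : (t - s) * (t + s) = 0 := by linear_combination hs'
    rcases mul_eq_zero.mp h3 with e | e
    · exact htk (by rw [sub_eq_zero.mp e]; exact s.2)
    · exact htk (by rw [eq_neg_of_add_eq_zero_left e]; exact neg_mem s.2)
  have hq0odd : Fintype.card k % 2 = 1 := FiniteField.odd_card_of_char_ne_two hchar
  have hpow : ν ^ (Fintype.card k / 2) = -1 := by
    rcases FiniteField.pow_dichotomy hchar hν0 with h | h
    · exact absurd ((FiniteField.isSquare_iff hchar hν0).mpr h) hnsq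
    · exact h
  have hpowF : t ^ (Fintype.card k - 1) = -1 := by
    have h1 : ((ν ^ (Fintype.card k / 2) : k) : F) = ((-1 : k) : F) :=
      congrArg (fun z : k => (z : F)) hpow
    push_cast at h1
    rw [hνF, ← pow_mul] at h1
    have e : 2 * (Fintype.card k / 2) = Fintype.card k - 1 := by omega
    rw [e] at h1
    exact h1
  have hq0 : 1 ≤ Fintype.card k := Fintype.card_pos
  have htq0 : t ^ Fintype.card k = -t := by
    have : Fintype.card k = (Fintype.card k - 1) + 1 := by omega
    rw [this, pow_succ, hpowF]; ring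
  have hq0odd' : Odd (Fintype.card k) := Nat.odd_iff.mpr hq0odd
  have hiter : ∀ i : ℕ, t ^ (Fintype.card k ^ i) = (-1) ^ i * t := by
    intro i
    induction i with
    | zero => simp
    | succ i ih =>
      rw [pow_succ, pow_mul, ih, mul_pow, htq0, ← pow_mul, mul_comm i, pow_mul,
        Odd.neg_one_pow hq0odd', pow_succ]
      ring
  have hcard : Fintype.card F = Fintype.card k ^ Module.finrank k F :=
    Module.card_eq_pow_finrank (K := k) (V := F)
  have h5 := FiniteField.pow_card t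
  rw [hcard, hiter, Odd.neg_one_pow hodd] at h5
  have h6 : 2 * t = 0 := by linear_combination -h5
  rcases mul_eq_zero.mp h6 with e | e
  · exact h2 e
  · exact ht0 e

/-- a subfield of index two misses a square root of one of its elements -/
theorem exists_sqrt_not_mem (h2 : (2 : F) ≠ 0) (k : Subfield F)
    (hr : Module.finrank k F = 2) : ∃ t : F, t ∉ k ∧ t ^ 2 ∈ k ∧ t ≠ 0 := by
  classical
  haveI : Fintype k := Fintype.ofFinite k
  have h2k : (2 : k) ≠ 0 := by
    intro h
    apply h2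
    have h' : ((2 : k) : F) = ((0 : k) : F) := congrArg (fun z : k => (z : F)) h
    push_cast at h'
    exact h'
  have hchar : ringChar k ≠ 2 := ringChar_ne_two_of_two_ne_zero h2k
  have hcharF : ringChar F ≠ 2 := ringChar_ne_two_of_two_ne_zero h2
  obtain ⟨ν, hν⟩ := FiniteField.exists_nonsquare hchar
  have hν0 : ν ≠ 0 := by
    rintro rfl
    exact hν ⟨0, by simp⟩
  have hνF0 : (ν : F) ≠ 0 := by
    intro h
    exact hν0 (Subtype.ext h)
  have hq0odd : Fintype.card k % 2 = 1 := FiniteField.odd_card_of_char_ne_two hchar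
  have hcard : Fintype.card F = Fintype.card k ^ 2 := by
    rw [← hr]; exact Module.card_eq_pow_finrank (K := k) (V := F)
  have h1 : (ν : F) ^ (Fintype.card k - 1) = 1 := by
    have := FiniteField.pow_card_sub_one_eq_one ν hν0
    have h' : ((ν ^ (Fintype.card k - 1) : k) : F) = ((1 : k) : F) :=
      congrArg (fun z : k => (z : F)) this
    push_cast at h'
    exact h'
  have hsq : IsSquare (ν : F) := by
    rw [FiniteField.isSquare_iff hcharF hνF0, hcard]
    obtain ⟨m, hm⟩ : ∃ m, Fintype.card k = 2 * m + 1 := ⟨Fintype.card k / 2, by omega⟩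
    have e : Fintype.card k ^ 2 / 2 = (Fintype.card k - 1) * (m + 1) := by
      rw [hm]
      have : (2 * m + 1) ^ 2 = 2 * (2 * m * (m + 1)) + 1 := by ring
      rw [this]
      have e2 : 2 * m + 1 - 1 = 2 * m := by omega
      rw [e2]
      omega
    rw [e, pow_mul, h1, one_pow]
  obtain ⟨t, ht⟩ := hsq
  refine ⟨t, ?_, ?_, ?_⟩
  · intro htk
    apply hν
    refine ⟨⟨t, htk⟩, ?_⟩
    apply Subtype.ext
    exact ht
  · rw [pow_two, ← ht]; exact ν.2
  · rintro rfl
    apply hνF0
    rw [ht]; ring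

theorem exists_model' (k : Subfield F) :
    ∃ (K2 : Type) (_ : Field K2) (_ : Fintype K2) (φ : K2 →+* F),
      φ.fieldRange = k ∧ Fintype.card K2 ^ (Module.finrank k F) = Fintype.card F := by
  classical
  let e : Shrink.{0} k ≃+* k := Shrink.ringEquiv.{0} k
  haveI : Fintype (Shrink.{0} k) := Fintype.ofEquiv k e.symm.toEquiv
  refine ⟨Shrink.{0} k, inferInstance, inferInstance, k.subtype.comp e.toRingHom, ?_, ?_⟩
  · ext x
    rw [RingHom.mem_fieldRange]
    constructor
    · rintro ⟨y, rfl⟩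
      exact (e y).2
    · intro hx
      exact ⟨e.symm ⟨x, hx⟩, by simp⟩
  · rw [Fintype.card_congr e.toEquiv]
    exact (Module.card_eq_pow_finrank (K := k) (V := F)).symm

end fields

section cases

variable {F : Type*} [Field F] [Fintype F]

theorem ratForm_mono {k k₁ : Subfield F} (h : k ≤ k₁) : ratForm k ≤ ratForm k₁ := by
  rintro g ⟨t, ht, hg⟩
  exact ⟨t, ht, fun i j => h (hg i j)⟩

theorem dd_mem_ratForm (k : Subfield F) (t : Fˣ) (ht : (t : F) ^ 2 ∈ k) : dd t ∈ ratForm k := by
  refine ⟨(t : F), t.ne_zero, ?_⟩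
  intro i j
  fin_cases i <;> fin_cases j
  · change (t : F) * (dd t).1 0 0 ∈ k
    rw [dd_00, ← pow_two]; exact ht
  · change (t : F) * (dd t).1 0 1 ∈ k
    simp [dd, zero_mem]
  · change (t : F) * (dd t).1 1 0 ∈ k
    simp [dd, zero_mem]
  · change (t : F) * (dd t).1 1 1 ∈ k
    simp [dd, one_mem]

theorem ratForm_ne_top (k : Subfield F) (hk : k ≠ ⊤) : ratForm k ≠ ⊤ := by
  intro h
  apply hk
  rw [eq_top_iff]
  intro a _
  apply mem_of_uu_mem_ratForm
  rw [h]; trivial

theorem borelP_ne_top : borelP F ≠ ⊤ := by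
  intro h
  have := index_borelP (F := F)
  rw [h, Subgroup.index_top] at this
  have hpos := Fintype.card_pos (α := F)
  omega

theorem card_borelP_odd (hodd : Odd (Fintype.card F)) :
    2 * Nat.card (borelP F) = Fintype.card F * (Fintype.card F - 1) := by
  have h1 := Subgroup.card_mul_index (borelP F)
  rw [index_borelP] at h1
  have h2 := Cfsg.Agent.Helper98.PSL2Card.card_psl2_odd (F := F) rfl hodd
  rw [← h1] at h2
  obtain ⟨q, hq⟩ : ∃ q, q = Fintype.card F := ⟨_, rfl⟩
  rw [← hq] at h2 ⊢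
  have hq1 : 1 ≤ q := by rw [hq]; exact Fintype.card_pos
  obtain ⟨m, rfl⟩ : ∃ m, q = m + 1 := ⟨q - 1, by omega⟩
  have e : (m + 1) ^ 2 - 1 = m * (m + 1 + 1) := by
    have : (m + 1) ^ 2 = m * (m + 1 + 1) + 1 := by ring
    omega
  rw [e] at h2
  simp only [Nat.add_sub_cancel]
  have h3 : (2 * Nat.card (borelP F)) * (m + 1 + 1) = ((m + 1) * m) * (m + 1 + 1) := by
    have e2 : 2 * Nat.card (borelP F) * (m + 1 + 1) = Nat.card (borelP F) * (m + 1 + 1) * 2 := by
      ring
    rw [e2, h2]; ring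
  exact Nat.eq_of_mul_eq_mul_right (by omega) h3

/-- the Borel case -/
theorem borel_case (hodd : Odd (Fintype.card F)) (M' : Subgroup (PG F)) (hM' : IsCoatom M')
    (hB : ∀ g ∈ pre M', g.1 1 0 = 0) :
    2 * Nat.card M' = Fintype.card F * (Fintype.card F - 1) := by
  have hle : M' ≤ borelP F := by
    intro y hy
    obtain ⟨g, rfl⟩ := QuotientGroup.mk_surjective y
    rw [mk_mem_borelP_iff]
    exact hB g hy
  rw [eq_of_coatom_le hM' hle borelP_ne_top]
  exact card_borelP_odd hodd

/-- a coatom of `PSL₂(F)` is not trivial -/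
theorem coatom_ne_bot (hodd : Odd (Fintype.card F)) (h5 : 5 ≤ Fintype.card F)
    (M : Subgroup (PG F)) (hM : IsCoatom M) : M ≠ ⊥ := by
  intro h
  have h1 := eq_of_coatom_le hM (h ▸ bot_le : M ≤ borelP F) borelP_ne_top
  have h2 := card_borelP_odd hodd
  rw [← h1, h, Subgroup.card_bot] at h2
  have : 5 * 4 ≤ Fintype.card F * (Fintype.card F - 1) := Nat.mul_le_mul h5 (by omega)
  omega

/-- the subfield case -/
theorem subfield_case (h2 : (2 : F) ≠ 0) (M' : Subgroup (PG F)) (hM' : IsCoatom M')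
    (k : Subfield F) (hk : SLK k ≤ pre M') (hu : ∀ a : F, a ∈ k ↔ uu a ∈ pre M')
    (hdec : ∀ g ∈ pre M', ∃ t : Fˣ, dd t ∈ pre M' ∧ (t : F) ^ 2 ∈ k ∧ g * (dd t)⁻¹ ∈ SLK k) :
    (∃ (F₀ : Type) (_ : Field F₀) (_ : Fintype F₀), Fintype.card F = Fintype.card F₀ ^ 2 ∧
        Nonempty (M' ≃* Matrix.ProjGenLinGroup (Fin 2) F₀)) ∨
    (∃ (F₀ : Type) (_ : Field F₀) (_ : Fintype F₀) (r : ℕ), r.Prime ∧ Odd r ∧
        Fintype.card F = Fintype.card F₀ ^ r ∧
        Nonempty (M' ≃* Matrix.ProjectiveSpecialLinearGroup (Fin 2) F₀)) := by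
  classical
  have hL := pre_isCoatom M' hM'
  have hLr : pre M' ≤ ratForm k := by
    intro g hg
    obtain ⟨t, ht, ht2, hg0⟩ := hdec g hg
    have : g = g * (dd t)⁻¹ * dd t := by group
    rw [this]
    exact mul_mem (SLK_le_ratForm k hg0) (dd_mem_ratForm k t ht2)
  have hk_ne : k ≠ ⊤ := by
    intro h
    apply hL.1
    rw [eq_top_iff]
    intro g _
    apply hk
    rw [h]
    intro i j
    trivial
  have hLeq : pre M' = ratForm k := eq_of_coatom_le hL hLr (ratForm_ne_top k hk_ne)
  have hmax : ∀ k₁ : Subfield F, k ≤ k₁ → k₁ = k ∨ k₁ = ⊤ := by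
    intro k₁ hle
    by_cases htop : k₁ = ⊤
    · exact Or.inr htop
    · left
      have h1 : pre M' = ratForm k₁ :=
        eq_of_coatom_le hL (hLr.trans (ratForm_mono hle)) (ratForm_ne_top k₁ htop)
      apply le_antisymm _ hle
      intro a ha
      rw [hu, h1]
      apply SLK_le_ratForm
      apply mem_SLK_of <;> simp [ha, zero_mem, one_mem]
  have hprime := Cfsg.Agent.Helper98.Torus.prime_finrank k hk_ne hmax
  obtain ⟨F₀, _, _, φ, hφ, hm⟩ := exists_model' k
  subst hφ
  rcases hprime.eq_two_or_odd' with hr2 | hrodd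
  · left
    obtain ⟨t, htk, ht2, ht0⟩ := exists_sqrt_not_mem h2 φ.fieldRange hr2
    rw [hr2] at hm
    refine ⟨F₀, inferInstance, inferInstance, hm.symm, ?_⟩
    have hπ : dd (Units.mk0 t ht0) ∈ pre M' := by
      rw [hLeq]
      exact dd_mem_ratForm _ _ (by simpa using ht2)
    exact iso_pgl φ M' hk hu hdec (Units.mk0 t ht0) hπ (by simpa using htk)
  · right
    refine ⟨F₀, inferInstance, inferInstance, _, hprime, hrodd, hm.symm, ?_⟩
    apply iso_psl φ M' hk
    intro g hg
    obtain ⟨t, ht, ht2, hg0⟩ := hdec g hg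
    have htk := mem_of_sq_mem_odd h2 φ.fieldRange hrodd t ht2
    have : g = g * (dd t)⁻¹ * dd t := by group
    rw [this]
    exact mul_mem hg0 (dd_mem_SLK _ t htk)

end cases

end Cfsg.Agent.Helper41.PMax
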