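import Cfsg.Agent.Lib.Helper98.DicksonFull
import Cfsg.Agent.Lib.Helper98.DicksonMax
import Cfsg.Agent.Lib.Helper51.PSLDih1
import Cfsg.Agent.Lib.Helper41.SL2QuatConj

/-!
# Tools for the maximal subgroups of `PSL₂(q)`, `q` odd

* coatoms and preimages, conjugation by `GL₂` on `SL₂`;
* traces of elements of `SL₂` of small projective order;
* Frobenius-fixed subfields, and the descent lemma: a subgroup of `SL₂(F)` containing the standard
  quaternion pair all of whose traces lie in a subfield `k` consists of `k`-rational matrices.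
-/

set_option autoImplicit false
set_option linter.unusedSectionVars false
set_option linter.unusedVariables false
set_option linter.style.haveILetI false

namespace Cfsg.Agent.Helper41.PMax

open Matrix Cfsg.Agent.Helper98.Ident Cfsg.Agent.Helper98.Dickson Cfsg.Agent.Helper41

variable {F : Type*} [Field F]

section coatom

theorem pre_isCoatom (H : Subgroup (Matrix.ProjectiveSpecialLinearGroup (Fin 2) F))
    (hH : IsCoatom H) : IsCoatom (pre H) :=
  Subgroup.isCoatom_comap_of_surjective (QuotientGroup.mk'_surjective _) hH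

theorem map_isCoatom {G : Type*} [Group G] (σ : G ≃* G) (H : Subgroup G) (hH : IsCoatom H) :
    IsCoatom (H.map σ.toMonoidHom) := by
  have h := (σ.mapSubgroup.isCoatom_iff H).mpr hH
  exact h

/-- a coatom contained in a proper subgroup equals it -/
theorem eq_of_coatom_le {G : Type*} [Group G] {H X : Subgroup G} (hH : IsCoatom H) (hle : H ≤ X)
    (hX : X ≠ ⊤) : H = X := by
  rcases eq_or_lt_of_le hle with h | h
  · exact h
  · exact absurd (hH.2 _ h) hX

end coatom

section conj

/-- conjugation by an invertible matrix, as an automorphism of `SL₂` -/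
def conjGL (g : GL (Fin 2) F) : S2 F ≃* S2 F where
  toFun h := ⟨g.1 * h.1 * (g⁻¹).1, by rw [Matrix.det_units_conj]; exact h.2⟩
  invFun h := ⟨(g⁻¹).1 * h.1 * g.1, by rw [Matrix.det_units_conj']; exact h.2⟩
  left_inv h := by
    apply Subtype.ext
    simp only
    rw [← mul_assoc, ← mul_assoc, mul_assoc _ _ g.1]
    simp
  right_inv h := by
    apply Subtype.ext
    simp only
    rw [← mul_assoc, ← mul_assoc, mul_assoc _ _ (g⁻¹).1]
    simp
  map_mul' a b := by
    apply Subtype.ext
    simp only [Matrix.SpecialLinearGroup.coe_mul]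
    have h1 : (g⁻¹).1 * g.1 = 1 := by simp
    calc g.1 * (a.1 * b.1) * (g⁻¹).1 = g.1 * a.1 * 1 * b.1 * (g⁻¹).1 := by
          simp [mul_assoc]
      _ = g.1 * a.1 * ((g⁻¹).1 * g.1) * b.1 * (g⁻¹).1 := by rw [h1]
      _ = g.1 * a.1 * (g⁻¹).1 * (g.1 * b.1 * (g⁻¹).1) := by simp only [mul_assoc]

theorem conjGL_coe (g : GL (Fin 2) F) (h : S2 F) :
    (conjGL g h).1 = g.1 * h.1 * (g⁻¹).1 := rfl

theorem trace_conjGL (g : GL (Fin 2) F) (h : S2 F) : (conjGL g h).1.trace = h.1.trace := by
  rw [conjGL_coe, Matrix.trace_units_conj]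

theorem conjGL_of_intertwine (g : GL (Fin 2) F) (A A' : S2 F) (h : g.1 * A.1 = A'.1 * g.1) :
    conjGL g A = A' := by
  apply Subtype.ext
  rw [conjGL_coe, h, mul_assoc]
  simp

theorem conjGL_neg_one (g : GL (Fin 2) F) : conjGL g (-1) = -1 := by
  apply Subtype.ext
  rw [conjGL_coe]
  simp

end conj

section traces

open Cfsg.Agent.Helper51.PSLDih

theorem mk_eq_one_of_not_nonScalar (h : S2 F) (hs : ¬ Cfsg.Agent.Helper51.PSLDih.NonScalar h.1) :
    (QuotientGroup.mk h : Matrix.ProjectiveSpecialLinearGroup (Fin 2) F) = 1 := by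
  unfold Cfsg.Agent.Helper51.PSLDih.NonScalar at hs
  push Not at hs
  obtain ⟨h01, h10, h00⟩ := hs
  have hdet := h.2
  rw [Matrix.det_fin_two, h01, h10, ← h00] at hdet
  have h1 : (h.1 0 0 - 1) * (h.1 0 0 + 1) = 0 := by linear_combination hdet
  rw [psl2_mk_eq_one_iff]
  rcases mul_eq_zero.mp h1 with e | e
  · left
    ext i j
    fin_cases i <;> fin_cases j
    · simpa using sub_eq_zero.mp e
    · simpa using h01
    · simpa using h10
    · simp only [Fin.mk_one, Fin.isValue, Matrix.one_apply_eq]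
      rw [← h00]; exact sub_eq_zero.mp e
  · right
    ext i j
    fin_cases i <;> fin_cases j
    · simpa using eq_neg_of_add_eq_zero_left e
    · simpa using h01
    · simpa using h10
    · simp only [Fin.mk_one, Fin.isValue, Matrix.neg_apply, Matrix.one_apply_eq]
      rw [← h00]; exact eq_neg_of_add_eq_zero_left e

/-- the trace of a non-central element of `SL₂` of projective order dividing `n + 1` is a root of
the Lucas polynomial -/
theorem lucas_trace (h : S2 F) (n : ℕ)
    (hne : (QuotientGroup.mk h : Matrix.ProjectiveSpecialLinearGroup (Fin 2) F) ≠ 1)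
    (hn : (QuotientGroup.mk h : Matrix.ProjectiveSpecialLinearGroup (Fin 2) F) ^ (n + 1) = 1) :
    lucasU h.1.trace (n + 1) = 0 := by
  have hs : Cfsg.Agent.Helper51.PSLDih.NonScalar h.1 := by
    by_contra hs
    exact hne (mk_eq_one_of_not_nonScalar h hs)
  rw [psl2_mk_pow_eq_one_iff] at hn
  exact ((pow_succ_eq_pm_one_iff h.1 h.2 hs n).mp hn).1

theorem trace_of_mk_eq_one (h : S2 F)
    (he : (QuotientGroup.mk h : Matrix.ProjectiveSpecialLinearGroup (Fin 2) F) = 1) :
    h.1.trace = 2 ∨ h.1.trace = -2 := by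
  rw [psl2_mk_eq_one_iff] at he
  rcases he with e | e
  · left; rw [e, Matrix.trace_one]; simp
  · right; rw [e, Matrix.trace_neg, Matrix.trace_one]; simp

theorem trace_of_pow_two (h : S2 F)
    (hne : (QuotientGroup.mk h : Matrix.ProjectiveSpecialLinearGroup (Fin 2) F) ≠ 1)
    (hn : (QuotientGroup.mk h : Matrix.ProjectiveSpecialLinearGroup (Fin 2) F) ^ 2 = 1) :
    h.1.trace = 0 := by
  have := lucas_trace h 1 hne hn
  simpa [lucasU] using this

theorem trace_of_pow_three (h : S2 F)
    (hne : (QuotientGroup.mk h : Matrix.ProjectiveSpecialLinearGroup (Fin 2) F) ≠ 1)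
    (hn : (QuotientGroup.mk h : Matrix.ProjectiveSpecialLinearGroup (Fin 2) F) ^ 3 = 1) :
    h.1.trace = 1 ∨ h.1.trace = -1 := by
  have := lucas_trace h 2 hne hn
  simp only [lucasU, mul_one, sub_zero] at this
  have h1 : (h.1.trace - 1) * (h.1.trace + 1) = 0 := by linear_combination this
  rcases mul_eq_zero.mp h1 with e | e
  · left; exact sub_eq_zero.mp e
  · right; exact eq_neg_of_add_eq_zero_left e

theorem trace_of_pow_four (h : S2 F)
    (hne : (QuotientGroup.mk h : Matrix.ProjectiveSpecialLinearGroup (Fin 2) F) ≠ 1)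
    (hn : (QuotientGroup.mk h : Matrix.ProjectiveSpecialLinearGroup (Fin 2) F) ^ 4 = 1) :
    h.1.trace = 0 ∨ h.1.trace ^ 2 = 2 := by
  have := lucas_trace h 3 hne hn
  simp only [lucasU, mul_one, sub_zero] at this
  have h1 : h.1.trace * (h.1.trace ^ 2 - 2) = 0 := by linear_combination this
  rcases mul_eq_zero.mp h1 with e | e
  · left; exact e
  · right; exact sub_eq_zero.mp e

theorem trace_of_pow_five (h : S2 F)
    (hne : (QuotientGroup.mk h : Matrix.ProjectiveSpecialLinearGroup (Fin 2) F) ≠ 1)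
    (hn : (QuotientGroup.mk h : Matrix.ProjectiveSpecialLinearGroup (Fin 2) F) ^ 5 = 1) :
    (2 * h.1.trace - 1) ^ 2 = 5 ∨ (2 * h.1.trace + 1) ^ 2 = 5 := by
  have := lucas_trace h 4 hne hn
  simp only [lucasU, mul_one, sub_zero] at this
  have h1 : (h.1.trace ^ 2 - h.1.trace - 1) * (h.1.trace ^ 2 + h.1.trace - 1) = 0 := by
    linear_combination this
  rcases mul_eq_zero.mp h1 with e | e
  · left; linear_combination 4 * e
  · right; linear_combination 4 * e

end traces

section frob

variable (p : ℕ) [Fact p.Prime] [CharP F p]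

/-- the subfield fixed by the `j`-th power of Frobenius -/
def frobFix (j : ℕ) : Subfield F := (iterateFrobenius F p j).eqLocusField (RingHom.id F)

theorem mem_frobFix (j : ℕ) (x : F) : x ∈ frobFix p j ↔ x ^ p ^ j = x := by
  unfold frobFix
  rw [RingHom.mem_eqLocusField, iterateFrobenius_def]
  rfl

theorem frobFix_one_le_two : frobFix (F := F) p 1 ≤ frobFix p 2 := by
  intro x hx
  rw [mem_frobFix] at hx ⊢
  rw [pow_one] at hx
  rw [pow_two, pow_mul, hx, hx]

/-- square roots of elements of the prime field lie in `𝔽_{p²}` -/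
theorem sqrt_mem_frobFix_two (hp2 : p ≠ 2) (c : F) (m : ℕ) (hc : c ^ 2 = (m : F)) :
    c ∈ frobFix p 2 := by
  have hpp : p.Prime := Fact.out
  have hodd : Odd p := hpp.odd_of_ne_two hp2
  have hm : (m : F) ^ p = (m : F) := by
    have := map_natCast (frobenius F p) m
    rwa [frobenius_def] at this
  have h1 : (c ^ p) ^ 2 = c ^ 2 := by
    rw [← pow_mul, mul_comm, pow_mul, hc, hm]
  have h2 : (c ^ p - c) * (c ^ p + c) = 0 := by linear_combination h1
  rw [mem_frobFix, pow_two, pow_mul]
  rcases mul_eq_zero.mp h2 with e | e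
  · have e' : c ^ p = c := sub_eq_zero.mp e
    rw [e', e']
  · have e' : c ^ p = -c := eq_neg_of_add_eq_zero_left e
    rw [e', Odd.neg_pow hodd, e', neg_neg]

/-- if every element is fixed by the `j`-th power of Frobenius then `|F| ≤ p ^ j` -/
theorem card_le_of_frobFix_top [Fintype F] (j : ℕ) (hj : 0 < j) (h : ∀ a : F, a ∈ frobFix p j) :
    Fintype.card F ≤ p ^ j := by
  classical
  have hpp : p.Prime := Fact.out
  obtain ⟨z, hz⟩ := IsCyclic.exists_generator (α := Fˣ)
  have hzord : orderOf z = Fintype.card F - 1 := by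
    rw [orderOf_eq_card_of_forall_mem_zpowers hz, Nat.card_eq_fintype_card, Fintype.card_units]
  have h1 : (z : F) ^ p ^ j = z := (mem_frobFix p j _).mp (h _)
  have hpj : 1 < p ^ j := Nat.one_lt_pow hj.ne' hpp.one_lt
  have h2 : z ^ (p ^ j - 1) = 1 := by
    apply Units.ext
    rw [Units.val_pow_eq_pow_val, Units.val_one]
    have hz0 : (z : F) ≠ 0 := z.ne_zero
    have h3 : (z : F) ^ (p ^ j - 1) * z = 1 * z := by
      rw [← pow_succ, Nat.sub_add_cancel hpj.le, h1, one_mul]
    exact mul_right_cancel₀ hz0 h3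
  have h3 := orderOf_dvd_of_pow_eq_one h2
  rw [hzord] at h3
  have h4 := Nat.le_of_dvd (by omega) h3
  have hq : 1 ≤ Fintype.card F := Fintype.card_pos
  omega

end frob

section forms

/-- matrices of `SL₂(F)` that are `k`-rational up to a scalar -/
def ratForm (k : Subfield F) : Subgroup (S2 F) where
  carrier := {g | ∃ t : F, t ≠ 0 ∧ ∀ i j, t * g.1 i j ∈ k}
  one_mem' := by
    refine ⟨1, one_ne_zero, ?_⟩
    intro i j
    rw [one_mul]
    fin_cases i <;> fin_cases j <;> simp
  mul_mem' := by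
    rintro a b ⟨t, ht, hta⟩ ⟨s, hs, hsb⟩
    refine ⟨t * s, mul_ne_zero ht hs, ?_⟩
    intro i j
    rw [mul_ent]
    have e : t * s * (a.1 i 0 * b.1 0 j + a.1 i 1 * b.1 1 j) =
        (t * a.1 i 0) * (s * b.1 0 j) + (t * a.1 i 1) * (s * b.1 1 j) := by ring
    rw [e]
    exact add_mem (mul_mem (hta i 0) (hsb 0 j)) (mul_mem (hta i 1) (hsb 1 j))
  inv_mem' := by
    rintro a ⟨t, ht, hta⟩
    refine ⟨t, ht, ?_⟩
    intro i j
    fin_cases i <;> fin_cases j
    · change t * (a⁻¹).1 0 0 ∈ k
      rw [inv_ent00]; exact hta 1 1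
    · change t * (a⁻¹).1 0 1 ∈ k
      rw [inv_ent01, mul_neg]; exact neg_mem (hta 0 1)
    · change t * (a⁻¹).1 1 0 ∈ k
      rw [inv_ent10, mul_neg]; exact neg_mem (hta 1 0)
    · change t * (a⁻¹).1 1 1 ∈ k
      rw [inv_ent11]; exact hta 0 0

theorem mem_ratForm (k : Subfield F) (g : S2 F) :
    g ∈ ratForm k ↔ ∃ t : F, t ≠ 0 ∧ ∀ i j, t * g.1 i j ∈ k := Iff.rfl

theorem SLK_le_ratForm (k : Subfield F) : SLK k ≤ ratForm k := by
  intro g hg
  exact ⟨1, one_ne_zero, fun i j => by rw [one_mul]; exact hg i j⟩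

theorem mem_of_uu_mem_ratForm (k : Subfield F) (a : F) (h : uu a ∈ ratForm k) : a ∈ k := by
  obtain ⟨t, ht, htg⟩ := h
  have h00 := htg 0 0
  have h01 := htg 0 1
  rw [uu_00, mul_one] at h00
  rw [uu_01] at h01
  have : a = t⁻¹ * (t * a) := by field_simp
  rw [this]
  exact mul_mem (inv_mem h00) h01

theorem mem_of_uu_mem_SLK (k : Subfield F) (a : F) (h : uu a ∈ SLK k) : a ∈ k := by
  have := h 0 1
  rwa [uu_01] at this

theorem uu_one_mem_SLK (k : Subfield F) : uu (1 : F) ∈ SLK k := by
  apply mem_SLK_of <;> simp [one_mem, zero_mem]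

end forms

section descent

/-- linear algebra of the descent: the entries of a matrix are determined by its four traces against
the standard quaternion basis -/
theorem entries_of_traces (k : Subfield F) (x y : F) (hx : x ∈ k) (hy : y ∈ k)
    (hxy : x ^ 2 + y ^ 2 = -1) (M : Matrix (Fin 2) (Fin 2) F) (c : F) (a1 a2 a3 a4 : F)
    (ha1 : a1 ∈ k) (ha2 : a2 ∈ k) (ha3 : a3 ∈ k) (ha4 : a4 ∈ k)
    (h1 : M.trace = c * a1) (h2' : (M * (quatI : S2 F).1).trace = c * a2)
    (h3 : (M * (quatJ x y hxy).1).trace = c * a3)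
    (h4 : (M * ((quatI : S2 F).1 * (quatJ x y hxy).1)).trace = c * a4) :
    ∀ i j, ∃ a ∈ k, 2 * M i j = c * a := by
  simp only [quatI, quatJ, Matrix.trace_fin_two, Matrix.mul_apply, Fin.sum_univ_two,
    Matrix.of_apply, Matrix.cons_val_zero, Matrix.cons_val_one, Matrix.cons_val',
    Matrix.cons_val_fin_one] at h1 h2' h3 h4
  intro i j
  fin_cases i <;> fin_cases j
  · refine ⟨a1 - x * a3 - y * a4, sub_mem (sub_mem ha1 (mul_mem hx ha3)) (mul_mem hy ha4), ?_⟩
    simp only [Fin.zero_eta, Fin.isValue]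
    linear_combination h1 - x * h3 - y * h4 + (M 0 0 - M 1 1) * hxy
  · refine ⟨-(y * a3) + x * a4 - a2,
      sub_mem (add_mem (neg_mem (mul_mem hy ha3)) (mul_mem hx ha4)) ha2, ?_⟩
    simp only [Fin.zero_eta, Fin.isValue, Fin.mk_one]
    linear_combination -h2' - y * h3 + x * h4 + (M 0 1 + M 1 0) * hxy
  · refine ⟨-(y * a3) + x * a4 + a2,
      add_mem (add_mem (neg_mem (mul_mem hy ha3)) (mul_mem hx ha4)) ha2, ?_⟩
    simp only [Fin.zero_eta, Fin.isValue, Fin.mk_one]
    linear_combination h2' - y * h3 + x * h4 + (M 0 1 + M 1 0) * hxy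
  · refine ⟨a1 + x * a3 + y * a4, add_mem (add_mem ha1 (mul_mem hx ha3)) (mul_mem hy ha4), ?_⟩
    simp only [Fin.mk_one, Fin.isValue]
    linear_combination h1 + x * h3 + y * h4 - (M 0 0 - M 1 1) * hxy

end descent

end Cfsg.Agent.Helper41.PMax
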