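import Mathlib
import Cfsg.Agent.Lib.Helper41.PSL2Gens

set_option autoImplicit false

/-!
An automorphism of `PSL₂(q)` preserving the upper and the lower root groups acts on them through
a field automorphism and a diagonal scaling.
-/

namespace Cfsg.Agent.Helper41

open Matrix

variable {F : Type*} [Field F]

/-- the Weyl-type element `π [[0, t], [-t⁻¹, 0]]` as a product of root elements -/
theorem uG_lG_uG (t : F) (ht : t ≠ 0) :
    uG t * lG (-t⁻¹) * uG t =
      (QuotientGroup.mk (wSL t ht) : ProjectiveSpecialLinearGroup (Fin 2) F) := by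
  rw [uG, lG, ← QuotientGroup.mk_mul, ← QuotientGroup.mk_mul, upper_lower_upper t ht]

theorem mk_wSL_mul_uG (t : F) (ht : t ≠ 0) (x : F) :
    (QuotientGroup.mk (wSL t ht) : ProjectiveSpecialLinearGroup (Fin 2) F) * uG x =
      lG (-x / t ^ 2) * QuotientGroup.mk (wSL t ht) := by
  rw [uG, lG, ← QuotientGroup.mk_mul, ← QuotientGroup.mk_mul, wSL_mul_upperSL]

/-- if `π M` conjugates a nontrivial upper root element to a lower root element, then the upper left
entry of `M` vanishes -/
theorem apply_zero_zero_eq_zero_of_conj (M : SpecialLinearGroup (Fin 2) F) (c y : F) (hc : c ≠ 0)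
    (h : (QuotientGroup.mk M : ProjectiveSpecialLinearGroup (Fin 2) F) * uG c =
      lG y * QuotientGroup.mk M) : (M : Matrix (Fin 2) (Fin 2) F) 0 0 = 0 := by
  rw [uG, lG, ← QuotientGroup.mk_mul, ← QuotientGroup.mk_mul, psl2_mk_eq_mk_iff] at h
  have hplus : lowerSL y * M = M * upperSL c → (M : Matrix (Fin 2) (Fin 2) F) 0 0 = 0 := by
    intro h
    have h1 := congrArg (fun X : SpecialLinearGroup (Fin 2) F =>
      (X : Matrix (Fin 2) (Fin 2) F)) h
    simp only [Matrix.SpecialLinearGroup.coe_mul] at h1
    have e01 := congrFun (congrFun h1 0) 1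
    simp [upperSL, lowerSL, Matrix.mul_apply, Fin.sum_univ_two] at e01
    rcases e01 with h | h
    · exact h
    · exact absurd h hc
  rcases h with h | h
  · exact hplus h
  · by_cases h2 : (2 : F) = 0
    · rw [sl2_neg_eq_self_char_two h2] at h
      exact hplus h
    · have h1 := congrArg (fun X : SpecialLinearGroup (Fin 2) F =>
        (X : Matrix (Fin 2) (Fin 2) F)) h
      simp only [Matrix.SpecialLinearGroup.coe_mul, Matrix.SpecialLinearGroup.coe_neg] at h1
      have e00 := congrFun (congrFun h1 0) 0
      simp [upperSL, lowerSL, Matrix.mul_apply, Fin.sum_univ_two] at e00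
      have : (2 : F) * (M : Matrix (Fin 2) (Fin 2) F) 0 0 = 0 := by linear_combination e00
      exact (mul_eq_zero.mp this).resolve_left h2

/-- a "semi-multiplicative" additive self-map of a finite field is a field automorphism -/
theorem exists_ringEquiv_of_sq_mul [Fintype F] (σ : F → F) (hadd : ∀ x y, σ (x + y) = σ x + σ y)
    (hone : σ 1 = 1) (hinj : Function.Injective σ)
    (hsq : ∀ t y, σ (t ^ 2 * y) = σ t ^ 2 * σ y) :
    ∃ e : F ≃+* F, ∀ x, e x = σ x := by
  have hzero : σ 0 = 0 := by
    have := hadd 0 0
    rw [add_zero] at this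
    linear_combination -this
  have hmul : ∀ x y, σ (x * y) = σ x * σ y := by
    by_cases h2 : (2 : F) = 0
    · intro x y
      have hchar : ringChar F = 2 :=
        CharP.ringChar_of_prime_eq_zero Nat.prime_two (by exact_mod_cast h2)
      obtain ⟨r, hr⟩ := FiniteField.isSquare_of_char_two hchar x
      have h1 : σ x = σ r ^ 2 := by
        have := hsq r 1
        rw [mul_one, hone, mul_one] at this
        rw [hr, ← pow_two, this]
      rw [h1, hr, ← pow_two, hsq]
    · intro x y
      have h1 := hsq (x + y) 1
      have hx := hsq x 1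
      have hy := hsq y 1
      rw [mul_one, hone, mul_one] at h1 hx hy
      have h3 : (x + y) ^ 2 = x ^ 2 + (x * y + x * y) + y ^ 2 := by ring
      rw [h3, hadd, hadd, hadd, hx, hy, hadd] at h1
      have h4 : (2 : F) * σ (x * y) = 2 * (σ x * σ y) := by linear_combination h1
      exact mul_left_cancel₀ h2 h4
  let f : F →+* F :=
    { toFun := σ
      map_one' := hone
      map_mul' := hmul
      map_zero' := hzero
      map_add' := hadd }
  have hbij : Function.Bijective f := Finite.injective_iff_bijective.mp hinj
  exact ⟨RingEquiv.ofBijective f hbij, fun x => rfl⟩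

/-- the structure of a normalised automorphism on the root groups -/
theorem exists_diag_field_of_normalized [Fintype F]
    (β : MulAut (ProjectiveSpecialLinearGroup (Fin 2) F))
    (hU : ∀ x : F, ∃ y : F, β (uG x) = uG y) (hL : ∀ x : F, ∃ y : F, β (lG x) = lG y) :
    ∃ (c : F) (σ : F ≃+* F), c ≠ 0 ∧ (∀ x, β (uG x) = uG (c * σ x)) ∧
      (∀ y, β (lG y) = lG (σ y / c)) := by
  choose a ha using hU
  choose b hb using hL
  have ha_add : ∀ x y, a (x + y) = a x + a y := by
    intro x y
    apply uG_injective
    rw [← ha, uG_add, map_mul, ha, ha, ← uG_add]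
  have hb_add : ∀ x y, b (x + y) = b x + b y := by
    intro x y
    apply lG_injective
    rw [← hb, lG_add, map_mul, hb, hb, ← lG_add]
  have ha_inj : Function.Injective a := by
    intro x y hxy
    apply uG_injective
    apply β.injective
    rw [ha, ha, hxy]
  have ha_zero : a 0 = 0 := by
    have := ha_add 0 0
    rw [add_zero] at this
    linear_combination -this
  have hb_zero : b 0 = 0 := by
    have := hb_add 0 0
    rw [add_zero] at this
    linear_combination -this
  have hb_neg : ∀ x, b (-x) = -b x := by
    intro x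
    have := hb_add x (-x)
    rw [add_neg_cancel, hb_zero] at this
    linear_combination -this
  have ha_ne : ∀ t, t ≠ 0 → a t ≠ 0 := by
    intro t ht h
    rw [← ha_zero] at h
    exact ht (ha_inj h)
  obtain ⟨c, hcdef⟩ : ∃ c : F, c = a 1 := ⟨_, rfl⟩
  have hc : c ≠ 0 := by
    rw [hcdef]
    exact ha_ne 1 one_ne_zero
  -- the image of the Weyl-type elements
  have hw : ∀ t (ht : t ≠ 0), b (-t⁻¹) = -(a t)⁻¹ ∧
      β (QuotientGroup.mk (wSL t ht)) = QuotientGroup.mk (wSL (a t) (ha_ne t ht)) := by
    intro t ht
    have himg : β (QuotientGroup.mk (wSL t ht)) =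
        (QuotientGroup.mk (upperSL (a t) * lowerSL (b (-t⁻¹)) * upperSL (a t)) :
          ProjectiveSpecialLinearGroup (Fin 2) F) := by
      rw [← uG_lG_uG t ht, map_mul, map_mul, ha, hb, uG, lG, ← QuotientGroup.mk_mul,
        ← QuotientGroup.mk_mul]
    have hconj := congrArg β (mk_wSL_mul_uG t ht 1)
    rw [map_mul, map_mul, ha, hb, himg, ← hcdef] at hconj
    have h00 := apply_zero_zero_eq_zero_of_conj _ c _ hc hconj
    rw [upper_lower_upper_apply] at h00
    simp only [Matrix.of_apply, Matrix.cons_val', Matrix.cons_val_zero, Matrix.cons_val_fin_one]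
      at h00
    have hbt : b (-t⁻¹) = -(a t)⁻¹ := by
      have hat := ha_ne t ht
      apply mul_left_cancel₀ hat
      rw [mul_neg, mul_inv_cancel₀ hat]
      linear_combination h00
    refine ⟨hbt, ?_⟩
    rw [himg, hbt, upper_lower_upper (a t) (ha_ne t ht)]
  -- the main relation
  have hrel : ∀ t (ht : t ≠ 0) x, b (-x / t ^ 2) = -a x / a t ^ 2 := by
    intro t ht x
    have h1 := congrArg β (mk_wSL_mul_uG t ht x)
    rw [map_mul, map_mul, ha, hb, (hw t ht).2, mk_wSL_mul_uG] at h1
    exact (lG_injective (mul_right_cancel h1)).symm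
  have hb_eq : ∀ z, b z = a z / c ^ 2 := by
    intro z
    have h1 := hrel 1 one_ne_zero (-z)
    rw [← hcdef] at h1
    have h2 : a (-z) = -a z := by
      have := ha_add z (-z)
      rw [add_neg_cancel, ha_zero] at this
      linear_combination -this
    rw [h2] at h1
    simpa using h1
  have ha_sq : ∀ t y, a (t ^ 2 * y) = a t ^ 2 * a y / c ^ 2 := by
    intro t y
    by_cases ht : t = 0
    · rw [ht]
      simp [ha_zero]
    · have h1 := hrel t ht (-(t ^ 2 * y))
      have h2 : -(-(t ^ 2 * y)) / t ^ 2 = y := by field_simp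
      have h3 : a (-(t ^ 2 * y)) = -a (t ^ 2 * y) := by
        have := ha_add (t ^ 2 * y) (-(t ^ 2 * y))
        rw [add_neg_cancel, ha_zero] at this
        linear_combination -this
      rw [h2, hb_eq, h3] at h1
      have hat := ha_ne t ht
      field_simp at h1 ⊢
      linear_combination -h1
  obtain ⟨σ, hσ⟩ := exists_ringEquiv_of_sq_mul (fun x => a x / c)
    (by intro x y; simp only [ha_add]; ring)
    (by simp only [← hcdef]; exact div_self hc)
    (by
      intro x y hxy
      apply ha_inj
      simp only at hxy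
      field_simp at hxy
      exact hxy)
    (by
      intro t y
      simp only [ha_sq]
      field_simp)
  refine ⟨c, σ, hc, ?_, ?_⟩
  · intro x
    rw [ha, hσ]
    congr 1
    field_simp
  · intro y
    rw [hb, hb_eq, hσ]
    congr 1
    field_simp

end Cfsg.Agent.Helper41
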