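import Mathlib
import Cfsg.Agent.Lib.Helper41.PSL2AutNorm

set_option autoImplicit false

/-!
`Aut(PSL₂(q)) = PΓL₂(q)`: every automorphism is a product of an inner automorphism, a diagonal
automorphism and a field automorphism.
-/

namespace Cfsg.Agent.Helper41

open Matrix

variable {F : Type*} [Field F]

/-! ### automorphisms of `SL₂` and `PSL₂` -/

/-- an automorphism of a group induces an automorphism of the central quotient -/
def centerQuotAut {S : Type*} [Group S] (e : MulAut S) : MulAut (S ⧸ Subgroup.center S) :=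
  QuotientGroup.congr (Subgroup.center S) (Subgroup.center S) e
    (Subgroup.characteristic_iff_map_eq.mp inferInstance e)

theorem centerQuotAut_mk {S : Type*} [Group S] (e : MulAut S) (x : S) :
    centerQuotAut e (QuotientGroup.mk x) = QuotientGroup.mk (e x) := rfl

/-- as a homomorphism -/
def centerQuotAutHom (S : Type*) [Group S] : MulAut S →* MulAut (S ⧸ Subgroup.center S) where
  toFun := centerQuotAut
  map_one' := by
    ext g
    obtain ⟨x, rfl⟩ := QuotientGroup.mk_surjective g
    rw [centerQuotAut_mk]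
    rfl
  map_mul' e₁ e₂ := by
    ext g
    obtain ⟨x, rfl⟩ := QuotientGroup.mk_surjective g
    rfl

/-- the diagonal automorphism `[[a, b], [c, d]] ↦ [[a, t b], [t⁻¹ c, d]]` of `SL₂` -/
def diagFun (t : Fˣ) (A : SpecialLinearGroup (Fin 2) F) : SpecialLinearGroup (Fin 2) F :=
  ⟨!![(A : Matrix (Fin 2) (Fin 2) F) 0 0, (t : F) * (A : Matrix (Fin 2) (Fin 2) F) 0 1;
      (t : F)⁻¹ * (A : Matrix (Fin 2) (Fin 2) F) 1 0, (A : Matrix (Fin 2) (Fin 2) F) 1 1], by
    have hdet := A.2
    rw [Matrix.det_fin_two] at hdet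
    rw [Matrix.det_fin_two_of]
    have ht : (t : F) * (t : F)⁻¹ = 1 := mul_inv_cancel₀ (Units.ne_zero t)
    linear_combination hdet - (A : Matrix (Fin 2) (Fin 2) F) 0 1 *
      (A : Matrix (Fin 2) (Fin 2) F) 1 0 * ht⟩

theorem diagFun_apply (t : Fˣ) (A : SpecialLinearGroup (Fin 2) F) :
    ((diagFun t A : SpecialLinearGroup (Fin 2) F) : Matrix (Fin 2) (Fin 2) F) =
      !![(A : Matrix (Fin 2) (Fin 2) F) 0 0, (t : F) * (A : Matrix (Fin 2) (Fin 2) F) 0 1;
      (t : F)⁻¹ * (A : Matrix (Fin 2) (Fin 2) F) 1 0, (A : Matrix (Fin 2) (Fin 2) F) 1 1] :=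
  rfl

theorem diagFun_mul (t : Fˣ) (A B : SpecialLinearGroup (Fin 2) F) :
    diagFun t (A * B) = diagFun t A * diagFun t B := by
  have ht : (t : F) * (t : F)⁻¹ = 1 := mul_inv_cancel₀ (Units.ne_zero t)
  have hm : ((diagFun t (A * B) : SpecialLinearGroup (Fin 2) F) : Matrix (Fin 2) (Fin 2) F) =
      ((diagFun t A * diagFun t B : SpecialLinearGroup (Fin 2) F) : Matrix (Fin 2) (Fin 2) F) := by
    rw [Matrix.SpecialLinearGroup.coe_mul, diagFun_apply, diagFun_apply, diagFun_apply,
      Matrix.SpecialLinearGroup.coe_mul]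
    ext i j
    fin_cases i <;> fin_cases j <;> simp [Matrix.mul_apply, Fin.sum_univ_two]
    · linear_combination (-(A : Matrix (Fin 2) (Fin 2) F) 0 1 *
        (B : Matrix (Fin 2) (Fin 2) F) 1 0) * ht
    · ring
    · ring
    · linear_combination (-(A : Matrix (Fin 2) (Fin 2) F) 1 0 *
        (B : Matrix (Fin 2) (Fin 2) F) 0 1) * ht
  exact Subtype.ext hm

theorem diagFun_diagFun (s t : Fˣ) (A : SpecialLinearGroup (Fin 2) F) :
    diagFun s (diagFun t A) = diagFun (s * t) A := by
  have hm : ((diagFun s (diagFun t A) : SpecialLinearGroup (Fin 2) F) :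
      Matrix (Fin 2) (Fin 2) F) =
      ((diagFun (s * t) A : SpecialLinearGroup (Fin 2) F) : Matrix (Fin 2) (Fin 2) F) := by
    rw [diagFun_apply, diagFun_apply, diagFun_apply]
    ext i j
    fin_cases i <;> fin_cases j <;> simp [mul_assoc, mul_comm]
  exact Subtype.ext hm

theorem diagFun_one (A : SpecialLinearGroup (Fin 2) F) : diagFun 1 A = A := by
  have hm : ((diagFun 1 A : SpecialLinearGroup (Fin 2) F) : Matrix (Fin 2) (Fin 2) F) =
      (A : Matrix (Fin 2) (Fin 2) F) := by
    rw [diagFun_apply]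
    ext i j
    fin_cases i <;> fin_cases j <;> simp
  exact Subtype.ext hm

/-- the diagonal automorphism as a `MulAut` -/
def diagAut (t : Fˣ) : MulAut (SpecialLinearGroup (Fin 2) F) where
  toFun := diagFun t
  invFun := diagFun t⁻¹
  left_inv A := by rw [diagFun_diagFun, inv_mul_cancel, diagFun_one]
  right_inv A := by rw [diagFun_diagFun, mul_inv_cancel, diagFun_one]
  map_mul' := diagFun_mul t

theorem diagAut_apply (t : Fˣ) (A : SpecialLinearGroup (Fin 2) F) : diagAut t A = diagFun t A :=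
  rfl

/-- `t ↦ diagAut t` as a homomorphism -/
def diagAutHom (F : Type*) [Field F] : Fˣ →* MulAut (SpecialLinearGroup (Fin 2) F) where
  toFun := diagAut
  map_one' := by
    ext A : 1
    rw [diagAut_apply, diagFun_one]
    rfl
  map_mul' s t := by
    ext A : 1
    rw [MulAut.mul_apply, diagAut_apply, diagAut_apply, diagAut_apply, diagFun_diagFun]

theorem diagFun_upperSL (t : Fˣ) (x : F) : diagFun t (upperSL x) = upperSL ((t : F) * x) := by
  have hm : ((diagFun t (upperSL x) : SpecialLinearGroup (Fin 2) F) :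
      Matrix (Fin 2) (Fin 2) F) =
      ((upperSL ((t : F) * x) : SpecialLinearGroup (Fin 2) F) : Matrix (Fin 2) (Fin 2) F) := by
    rw [diagFun_apply, upperSL_apply, upperSL_apply]
    ext i j
    fin_cases i <;> fin_cases j <;> simp
  exact Subtype.ext hm

theorem diagFun_lowerSL (t : Fˣ) (x : F) : diagFun t (lowerSL x) = lowerSL (x / (t : F)) := by
  have hm : ((diagFun t (lowerSL x) : SpecialLinearGroup (Fin 2) F) :
      Matrix (Fin 2) (Fin 2) F) =
      ((lowerSL (x / (t : F)) : SpecialLinearGroup (Fin 2) F) : Matrix (Fin 2) (Fin 2) F) := by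
    rw [diagFun_apply, lowerSL_apply, lowerSL_apply]
    ext i j
    fin_cases i <;> fin_cases j <;> simp [div_eq_mul_inv, mul_comm]
  exact Subtype.ext hm

theorem diagFun_trace (t : Fˣ) (A : SpecialLinearGroup (Fin 2) F) :
    ((diagFun t A : SpecialLinearGroup (Fin 2) F) : Matrix (Fin 2) (Fin 2) F).trace =
      (A : Matrix (Fin 2) (Fin 2) F).trace := by
  rw [diagFun_apply, Matrix.trace_fin_two_of, Matrix.trace_fin_two]

/-- the field automorphism of `SL₂` induced by `σ` -/
def fieldAut (σ : F ≃+* F) : MulAut (SpecialLinearGroup (Fin 2) F) where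
  toFun := Matrix.SpecialLinearGroup.map (σ : F →+* F)
  invFun := Matrix.SpecialLinearGroup.map (σ.symm : F →+* F)
  left_inv A := by
    apply Subtype.ext
    ext i j
    simp [Matrix.SpecialLinearGroup.map_apply_coe]
  right_inv A := by
    apply Subtype.ext
    ext i j
    simp [Matrix.SpecialLinearGroup.map_apply_coe]
  map_mul' := map_mul _

theorem fieldAut_apply_apply (σ : F ≃+* F) (A : SpecialLinearGroup (Fin 2) F) (i j : Fin 2) :
    ((fieldAut σ A : SpecialLinearGroup (Fin 2) F) : Matrix (Fin 2) (Fin 2) F) i j =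
      σ ((A : Matrix (Fin 2) (Fin 2) F) i j) := rfl

theorem fieldAut_upperSL (σ : F ≃+* F) (x : F) : fieldAut σ (upperSL x) = upperSL (σ x) := by
  have hm : ((fieldAut σ (upperSL x) : SpecialLinearGroup (Fin 2) F) :
      Matrix (Fin 2) (Fin 2) F) =
      ((upperSL (σ x) : SpecialLinearGroup (Fin 2) F) : Matrix (Fin 2) (Fin 2) F) := by
    ext i j
    rw [fieldAut_apply_apply, upperSL_apply, upperSL_apply]
    fin_cases i <;> fin_cases j <;> simp
  exact Subtype.ext hm

theorem fieldAut_lowerSL (σ : F ≃+* F) (x : F) : fieldAut σ (lowerSL x) = lowerSL (σ x) := by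
  have hm : ((fieldAut σ (lowerSL x) : SpecialLinearGroup (Fin 2) F) :
      Matrix (Fin 2) (Fin 2) F) =
      ((lowerSL (σ x) : SpecialLinearGroup (Fin 2) F) : Matrix (Fin 2) (Fin 2) F) := by
    ext i j
    rw [fieldAut_apply_apply, lowerSL_apply, lowerSL_apply]
    fin_cases i <;> fin_cases j <;> simp
  exact Subtype.ext hm

theorem fieldAut_trace (σ : F ≃+* F) (A : SpecialLinearGroup (Fin 2) F) :
    ((fieldAut σ A : SpecialLinearGroup (Fin 2) F) : Matrix (Fin 2) (Fin 2) F).trace =
      σ (A : Matrix (Fin 2) (Fin 2) F).trace := by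
  rw [Matrix.trace_fin_two, Matrix.trace_fin_two, fieldAut_apply_apply, fieldAut_apply_apply,
    map_add]

theorem fieldAut_one (A : SpecialLinearGroup (Fin 2) F) : fieldAut (1 : F ≃+* F) A = A := by
  apply Subtype.ext
  ext i j
  rw [fieldAut_apply_apply]
  rfl

/-! ### the squared trace on `PSL₂` -/

/-- the squared trace of an element of `PSL₂` -/
noncomputable def trsq (g : ProjectiveSpecialLinearGroup (Fin 2) F) : F :=
  ((Quotient.out g : SpecialLinearGroup (Fin 2) F) : Matrix (Fin 2) (Fin 2) F).trace ^ 2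

theorem trsq_mk (A : SpecialLinearGroup (Fin 2) F) :
    trsq (QuotientGroup.mk A : ProjectiveSpecialLinearGroup (Fin 2) F) =
      (A : Matrix (Fin 2) (Fin 2) F).trace ^ 2 := by
  have h : (QuotientGroup.mk (Quotient.out (QuotientGroup.mk A :
      ProjectiveSpecialLinearGroup (Fin 2) F)) : ProjectiveSpecialLinearGroup (Fin 2) F) =
      QuotientGroup.mk A := QuotientGroup.out_eq' _
  rw [psl2_mk_eq_mk_iff] at h
  rw [trsq]
  rcases h with h | h
  · rw [← h]
  · have h1 := congrArg (fun X : SpecialLinearGroup (Fin 2) F =>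
      (X : Matrix (Fin 2) (Fin 2) F).trace) h
    simp only [Matrix.SpecialLinearGroup.coe_neg, Matrix.trace_neg] at h1
    rw [h1]
    ring

theorem trsq_conj (c g : ProjectiveSpecialLinearGroup (Fin 2) F) :
    trsq (c * g * c⁻¹) = trsq g := by
  obtain ⟨C, rfl⟩ := psl2_exists_rep c
  obtain ⟨A, rfl⟩ := psl2_exists_rep g
  rw [← QuotientGroup.mk_inv, ← QuotientGroup.mk_mul, ← QuotientGroup.mk_mul, trsq_mk, trsq_mk,
    sl2_trace_conj]

theorem trsq_diag (t : Fˣ) (g : ProjectiveSpecialLinearGroup (Fin 2) F) :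
    trsq (centerQuotAut (diagAut t) g) = trsq g := by
  obtain ⟨A, rfl⟩ := psl2_exists_rep g
  rw [centerQuotAut_mk, trsq_mk, trsq_mk, diagAut_apply, diagFun_trace]

theorem trsq_field (σ : F ≃+* F) (g : ProjectiveSpecialLinearGroup (Fin 2) F) :
    trsq (centerQuotAut (fieldAut σ) g) = σ (trsq g) := by
  obtain ⟨A, rfl⟩ := psl2_exists_rep g
  rw [centerQuotAut_mk, trsq_mk, trsq_mk, fieldAut_trace, map_pow]

/-- every element of `F` is a trace -/
theorem exists_trsq_eq (s : F) :
    ∃ g : ProjectiveSpecialLinearGroup (Fin 2) F, trsq g = s ^ 2 := by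
  refine ⟨QuotientGroup.mk (compSL s), ?_⟩
  rw [trsq_mk]
  show (compMat s).trace ^ 2 = s ^ 2
  rw [compMat_trace]

/-- a field automorphism is determined by its values on squares -/
theorem ringEquiv_eq_of_sq (σ τ : F ≃+* F) (h : ∀ s : F, σ (s ^ 2) = τ (s ^ 2)) : σ = τ := by
  have hsq : ∀ s : F, σ s = τ s ∨ σ s = -τ s := by
    intro s
    have h1 := h s
    rw [map_pow, map_pow] at h1
    have : (σ s - τ s) * (σ s + τ s) = 0 := by linear_combination h1
    rcases mul_eq_zero.mp this with h2 | h2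
    · left; linear_combination h2
    · right; linear_combination h2
  ext s
  rcases hsq s with h1 | h1
  · exact h1
  · rcases hsq (s + 1) with h2 | h2
    · rw [map_add, map_add, map_one, map_one] at h2
      linear_combination h2
    · rw [map_add, map_add, map_one, map_one] at h2
      -- `σ s + 1 = -(τ s + 1)` and `σ s = -τ s` give `2 = 0`
      have h3 : (2 : F) = 0 := by linear_combination h2 - h1
      rw [h1]
      linear_combination (-τ s) * h3

/-! ### generation by root elements -/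

theorem sl2_eq_upper_lower_upper (A : SpecialLinearGroup (Fin 2) F)
    (hc : (A : Matrix (Fin 2) (Fin 2) F) 1 0 ≠ 0) :
    A = upperSL (((A : Matrix (Fin 2) (Fin 2) F) 0 0 - 1) / (A : Matrix (Fin 2) (Fin 2) F) 1 0) *
      lowerSL ((A : Matrix (Fin 2) (Fin 2) F) 1 0) *
      upperSL (((A : Matrix (Fin 2) (Fin 2) F) 1 1 - 1) / (A : Matrix (Fin 2) (Fin 2) F) 1 0) := by
  have hdet := A.2
  rw [Matrix.det_fin_two] at hdet
  have hm : (A : Matrix (Fin 2) (Fin 2) F) =
      ((upperSL (((A : Matrix (Fin 2) (Fin 2) F) 0 0 - 1) / (A : Matrix (Fin 2) (Fin 2) F) 1 0) *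
      lowerSL ((A : Matrix (Fin 2) (Fin 2) F) 1 0) *
      upperSL (((A : Matrix (Fin 2) (Fin 2) F) 1 1 - 1) / (A : Matrix (Fin 2) (Fin 2) F) 1 0) :
        SpecialLinearGroup (Fin 2) F) : Matrix (Fin 2) (Fin 2) F) := by
    rw [Matrix.SpecialLinearGroup.coe_mul, Matrix.SpecialLinearGroup.coe_mul]
    ext i j
    fin_cases i <;> fin_cases j <;>
      simp [upperSL, lowerSL, Matrix.mul_apply, Fin.sum_univ_two]
    · field_simp
      ring
    · field_simp
      linear_combination -hdet
    · field_simp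
      ring
  exact Subtype.ext hm

theorem mk_mem_closure_root (A : SpecialLinearGroup (Fin 2) F) :
    (QuotientGroup.mk A : ProjectiveSpecialLinearGroup (Fin 2) F) ∈
      Subgroup.closure (Set.range (uG : F → ProjectiveSpecialLinearGroup (Fin 2) F) ∪
        Set.range (lG : F → ProjectiveSpecialLinearGroup (Fin 2) F)) := by
  have hu : ∀ x : F, uG x ∈ Subgroup.closure
      (Set.range (uG : F → ProjectiveSpecialLinearGroup (Fin 2) F) ∪
        Set.range (lG : F → ProjectiveSpecialLinearGroup (Fin 2) F)) :=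
    fun x => Subgroup.subset_closure (Or.inl ⟨x, rfl⟩)
  have hl : ∀ x : F, lG x ∈ Subgroup.closure
      (Set.range (uG : F → ProjectiveSpecialLinearGroup (Fin 2) F) ∪
        Set.range (lG : F → ProjectiveSpecialLinearGroup (Fin 2) F)) :=
    fun x => Subgroup.subset_closure (Or.inr ⟨x, rfl⟩)
  have hgen : ∀ B : SpecialLinearGroup (Fin 2) F, (B : Matrix (Fin 2) (Fin 2) F) 1 0 ≠ 0 →
      (QuotientGroup.mk B : ProjectiveSpecialLinearGroup (Fin 2) F) ∈ Subgroup.closure
      (Set.range (uG : F → ProjectiveSpecialLinearGroup (Fin 2) F) ∪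
        Set.range (lG : F → ProjectiveSpecialLinearGroup (Fin 2) F)) := by
    intro B hB
    rw [sl2_eq_upper_lower_upper B hB, QuotientGroup.mk_mul, QuotientGroup.mk_mul]
    exact Subgroup.mul_mem _ (Subgroup.mul_mem _ (hu _) (hl _)) (hu _)
  by_cases hc : (A : Matrix (Fin 2) (Fin 2) F) 1 0 = 0
  · have h1 : A = lowerSL (-1) * (lowerSL 1 * A) := by
      rw [← mul_assoc, lowerSL_mul, neg_add_cancel, lowerSL_zero, one_mul]
    rw [h1, QuotientGroup.mk_mul]
    refine Subgroup.mul_mem _ (hl _) (hgen _ ?_)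
    rw [Matrix.SpecialLinearGroup.coe_mul]
    simp only [lowerSL_apply, Matrix.mul_apply, Fin.sum_univ_two, Matrix.of_apply,
      Matrix.cons_val', Matrix.cons_val_zero, Matrix.cons_val_one, Matrix.cons_val_fin_one, hc]
    intro h
    have hdet := A.2
    rw [Matrix.det_fin_two, hc] at hdet
    have h0 : (A : Matrix (Fin 2) (Fin 2) F) 0 0 = 0 := by simpa using h
    rw [h0] at hdet
    simp at hdet
  · exact hgen A hc

theorem closure_root_eq_top :
    Subgroup.closure (Set.range (uG : F → ProjectiveSpecialLinearGroup (Fin 2) F) ∪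
      Set.range (lG : F → ProjectiveSpecialLinearGroup (Fin 2) F)) = ⊤ := by
  rw [eq_top_iff]
  intro g _
  obtain ⟨A, rfl⟩ := psl2_exists_rep g
  exact mk_mem_closure_root A

/-- two automorphisms agreeing on the root elements are equal -/
theorem mulAut_eq_of_root (β γ : MulAut (ProjectiveSpecialLinearGroup (Fin 2) F))
    (hu : ∀ x : F, β (uG x) = γ (uG x)) (hl : ∀ x : F, β (lG x) = γ (lG x)) : β = γ := by
  have h : β.toMonoidHom = γ.toMonoidHom := by
    apply MonoidHom.eq_of_eqOn_dense closure_root_eq_top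
    rintro g (⟨x, rfl⟩ | ⟨x, rfl⟩)
    · exact hu x
    · exact hl x
  ext g
  exact DFunLike.congr_fun h g

/-! ### the structure of `Aut(PSL₂(q))` -/

theorem centerQuotAut_diag_uG (t : Fˣ) (x : F) :
    centerQuotAut (diagAut t) (uG x) = uG ((t : F) * x) := by
  rw [uG, centerQuotAut_mk, diagAut_apply, diagFun_upperSL, uG]

theorem centerQuotAut_diag_lG (t : Fˣ) (x : F) :
    centerQuotAut (diagAut t) (lG x) = lG (x / (t : F)) := by
  rw [lG, centerQuotAut_mk, diagAut_apply, diagFun_lowerSL, lG]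

theorem centerQuotAut_field_uG (σ : F ≃+* F) (x : F) :
    centerQuotAut (fieldAut σ) (uG x) = uG (σ x) := by
  rw [uG, centerQuotAut_mk, fieldAut_upperSL, uG]

theorem centerQuotAut_field_lG (σ : F ≃+* F) (x : F) :
    centerQuotAut (fieldAut σ) (lG x) = lG (σ x) := by
  rw [lG, centerQuotAut_mk, fieldAut_lowerSL, lG]

/-- every automorphism of `PSL₂(q)` is the product of an inner, a diagonal and a field
automorphism -/
theorem aut_structure [Fintype F] (p : ℕ) [Fact p.Prime] [CharP F p]
    (α : MulAut (ProjectiveSpecialLinearGroup (Fin 2) F)) :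
    ∃ (x : ProjectiveSpecialLinearGroup (Fin 2) F) (t : Fˣ) (σ : F ≃+* F),
      α = MulAut.conj x * centerQuotAut (diagAut t) * centerQuotAut (fieldAut σ) := by
  obtain ⟨c₀, hU, hL⟩ := exists_normalize p α
  obtain ⟨c, σ, hc, h1, h2⟩ := exists_diag_field_of_normalized (MulAut.conj c₀ * α)
    (by
      intro x
      obtain ⟨y, hy⟩ := hU x
      exact ⟨y, by rw [MulAut.mul_apply, MulAut.conj_apply, hy]⟩)
    (by
      intro x
      obtain ⟨y, hy⟩ := hL x
      exact ⟨y, by rw [MulAut.mul_apply, MulAut.conj_apply, hy]⟩)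
  have hβ : MulAut.conj c₀ * α =
      centerQuotAut (diagAut (Units.mk0 c hc)) * centerQuotAut (fieldAut σ) := by
    apply mulAut_eq_of_root
    · intro x
      rw [h1, MulAut.mul_apply, centerQuotAut_field_uG, centerQuotAut_diag_uG, Units.val_mk0]
    · intro x
      rw [h2, MulAut.mul_apply, centerQuotAut_field_lG, centerQuotAut_diag_lG, Units.val_mk0]
  refine ⟨c₀⁻¹, Units.mk0 c hc, σ, ?_⟩
  rw [mul_assoc, ← hβ, map_inv, inv_mul_cancel_left]

end Cfsg.Agent.Helper41
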