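import Mathlib
import Cfsg.Prelude.Def_KGroupFacts
import Cfsg.Agent.Lib.Helper41.PSL2Out
import Cfsg.Agent.Lib.Helper41.RingAutFin

set_option autoImplicit false

/-!
`Out(PSL₂(q))`: the field automorphism component and its kernel.
-/

namespace Cfsg.Agent.Helper41

open Matrix

variable {F : Type*} [Field F]

theorem exists_fieldAut_of_aut [Fintype F] (p : ℕ) [Fact p.Prime] [CharP F p] (α : MulAut (ProjectiveSpecialLinearGroup (Fin 2) F)) :
    ∃ σ : RingAut F, ∀ g, trsq (α g) = σ (trsq g) := by
  obtain ⟨x, t, σ, rfl⟩ := aut_structure p α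
  refine ⟨σ, fun g => ?_⟩
  rw [MulAut.mul_apply, MulAut.mul_apply, MulAut.conj_apply, trsq_conj, trsq_diag, trsq_field]

/-- the field automorphism attached to an automorphism of `PSL₂(q)` -/
noncomputable def autField [Fintype F] (p : ℕ) [Fact p.Prime] [CharP F p] (α : MulAut (ProjectiveSpecialLinearGroup (Fin 2) F)) : RingAut F :=
  Classical.choose (exists_fieldAut_of_aut p α)

theorem autField_spec [Fintype F] (p : ℕ) [Fact p.Prime] [CharP F p] (α : MulAut (ProjectiveSpecialLinearGroup (Fin 2) F))
    (g : ProjectiveSpecialLinearGroup (Fin 2) F) : trsq (α g) = autField p α (trsq g) :=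
  Classical.choose_spec (exists_fieldAut_of_aut p α) g

theorem autField_unique [Fintype F] (p : ℕ) [Fact p.Prime] [CharP F p] (α : MulAut (ProjectiveSpecialLinearGroup (Fin 2) F)) (σ : RingAut F)
    (h : ∀ g, trsq (α g) = σ (trsq g)) : autField p α = σ := by
  apply ringEquiv_eq_of_sq
  intro s
  obtain ⟨g, hg⟩ := exists_trsq_eq s
  rw [← hg, ← autField_spec, h]

/-- the field automorphism component as a homomorphism -/
noncomputable def autFieldHom [Fintype F] (p : ℕ) [Fact p.Prime] [CharP F p] : MulAut (ProjectiveSpecialLinearGroup (Fin 2) F) →* RingAut F where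
  toFun := autField p
  map_one' := by
    apply autField_unique
    intro g
    rfl
  map_mul' α β := by
    apply autField_unique
    intro g
    rw [MulAut.mul_apply, autField_spec p α, autField_spec p β]
    rfl

theorem autFieldHom_apply [Fintype F] (p : ℕ) [Fact p.Prime] [CharP F p] (α : MulAut (ProjectiveSpecialLinearGroup (Fin 2) F)) :
    autFieldHom p α = autField p α := rfl

theorem autField_conj [Fintype F] (p : ℕ) [Fact p.Prime] [CharP F p] (x : ProjectiveSpecialLinearGroup (Fin 2) F) :
    autField p (MulAut.conj x) = 1 := by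
  apply autField_unique
  intro g
  rw [MulAut.conj_apply, trsq_conj]
  rfl

theorem autField_diag [Fintype F] (p : ℕ) [Fact p.Prime] [CharP F p] (t : Fˣ) : autField p (centerQuotAut (diagAut t)) = 1 := by
  apply autField_unique
  intro g
  rw [trsq_diag]
  rfl

theorem autField_field [Fintype F] (p : ℕ) [Fact p.Prime] [CharP F p] (σ : RingAut F) : autField p (centerQuotAut (fieldAut σ)) = σ := by
  apply autField_unique
  intro g
  rw [trsq_field]

theorem inn_le_ker_autFieldHom [Fintype F] (p : ℕ) [Fact p.Prime] [CharP F p] :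
    Cfsg.Inn (ProjectiveSpecialLinearGroup (Fin 2) F) ≤ (autFieldHom p).ker := by
  rintro _ ⟨x, rfl⟩
  rw [MonoidHom.mem_ker, autFieldHom_apply, autField_conj]

/-- the field automorphism component on `Out(PSL₂(q))` -/
noncomputable def outField [Fintype F] (p : ℕ) [Fact p.Prime] [CharP F p] : Cfsg.Out (ProjectiveSpecialLinearGroup (Fin 2) F) →* RingAut F :=
  QuotientGroup.lift (Cfsg.Inn (ProjectiveSpecialLinearGroup (Fin 2) F)) (autFieldHom p)
    (inn_le_ker_autFieldHom p)

theorem outField_mk [Fintype F] (p : ℕ) [Fact p.Prime] [CharP F p] (α : MulAut (ProjectiveSpecialLinearGroup (Fin 2) F)) :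
    outField p (QuotientGroup.mk α) = autField p α := rfl

theorem outField_surjective [Fintype F] (p : ℕ) [Fact p.Prime] [CharP F p] : Function.Surjective (outField (F := F) p) := by
  intro σ
  exact ⟨QuotientGroup.mk (centerQuotAut (fieldAut σ)), by rw [outField_mk, autField_field]⟩

/-- the diagonal automorphisms in `Out(PSL₂(q))` -/
noncomputable def diagOut (F : Type*) [Field F] :
    Fˣ →* Cfsg.Out (ProjectiveSpecialLinearGroup (Fin 2) F) :=
  (QuotientGroup.mk' (Cfsg.Inn (ProjectiveSpecialLinearGroup (Fin 2) F))).comp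
    ((centerQuotAutHom (SpecialLinearGroup (Fin 2) F)).comp (diagAutHom F))

theorem diagOut_apply (t : Fˣ) :
    diagOut F t = QuotientGroup.mk (centerQuotAut (diagAut t)) := rfl

theorem ker_outField [Fintype F] (p : ℕ) [Fact p.Prime] [CharP F p] : (outField (F := F) p).ker = (diagOut F).range := by
  ext o
  rw [MonoidHom.mem_ker, MonoidHom.mem_range]
  constructor
  · intro h
    obtain ⟨α, rfl⟩ := QuotientGroup.mk_surjective o
    rw [outField_mk] at h
    obtain ⟨x, t, σ, hα⟩ := aut_structure p α
    have hσ : autField p α = σ := by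
      apply autField_unique
      intro g
      rw [hα, MulAut.mul_apply, MulAut.mul_apply, MulAut.conj_apply, trsq_conj, trsq_diag,
        trsq_field]
    rw [h] at hσ
    refine ⟨t, ?_⟩
    rw [diagOut_apply, hα, ← hσ]
    have h1 : centerQuotAut (fieldAut (1 : RingAut F)) = 1 := by
      ext g
      obtain ⟨A, rfl⟩ := psl2_exists_rep g
      rw [centerQuotAut_mk, fieldAut_one]
      rfl
    rw [h1, mul_one, QuotientGroup.mk_mul]
    have h2 : (QuotientGroup.mk (MulAut.conj x) :
        Cfsg.Out (ProjectiveSpecialLinearGroup (Fin 2) F)) = 1 := by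
      rw [QuotientGroup.eq_one_iff]
      exact ⟨x, rfl⟩
    rw [h2, one_mul]
  · rintro ⟨t, rfl⟩
    rw [diagOut_apply, outField_mk, autField_diag]

/-- the diagonal element `diag(m, m⁻¹)` -/
def hSL (m : Fˣ) : SpecialLinearGroup (Fin 2) F :=
  ⟨!![(m : F), 0; 0, (m : F)⁻¹], by
    rw [Matrix.det_fin_two_of]
    have := mul_inv_cancel₀ (Units.ne_zero m)
    linear_combination this⟩

theorem hSL_apply (m : Fˣ) :
    ((hSL m : SpecialLinearGroup (Fin 2) F) : Matrix (Fin 2) (Fin 2) F) =
      !![(m : F), 0; 0, (m : F)⁻¹] := rfl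

theorem diagFun_sq_mul_hSL (m : Fˣ) (A : SpecialLinearGroup (Fin 2) F) :
    diagFun (m ^ 2) A * hSL m = hSL m * A := by
  have hm0 := Units.ne_zero m
  have hm : ((diagFun (m ^ 2) A * hSL m : SpecialLinearGroup (Fin 2) F) :
      Matrix (Fin 2) (Fin 2) F) =
      ((hSL m * A : SpecialLinearGroup (Fin 2) F) : Matrix (Fin 2) (Fin 2) F) := by
    rw [Matrix.SpecialLinearGroup.coe_mul, Matrix.SpecialLinearGroup.coe_mul, diagFun_apply,
      hSL_apply]
    ext i j
    fin_cases i <;> fin_cases j <;>
      simp [Matrix.mul_apply, Fin.sum_univ_two]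
    all_goals (try field_simp)
  exact Subtype.ext hm

/-- the kernel of the diagonal automorphisms: the squares -/
theorem ker_diagOut : (diagOut F).ker = (powMonoidHom 2 : Fˣ →* Fˣ).range := by
  ext t
  rw [MonoidHom.mem_ker, MonoidHom.mem_range, diagOut_apply, QuotientGroup.eq_one_iff]
  constructor
  · rintro ⟨x, hx⟩
    have h1 := DFunLike.congr_fun hx (uG 1)
    rw [MulAut.conj_apply, centerQuotAut_diag_uG, mul_one] at h1
    obtain ⟨X, rfl⟩ := psl2_exists_rep x
    have h2 : (QuotientGroup.mk X : ProjectiveSpecialLinearGroup (Fin 2) F) * uG 1 =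
        uG (t : F) * QuotientGroup.mk X := by
      rw [← h1]; group
    rw [uG, uG, ← QuotientGroup.mk_mul, ← QuotientGroup.mk_mul, psl2_mk_eq_mk_iff] at h2
    have hplus : upperSL (t : F) * X = X * upperSL 1 →
        ∃ m : Fˣ, (powMonoidHom 2 : Fˣ →* Fˣ) m = t := by
      intro h
      have h3 := congrArg (fun Y : SpecialLinearGroup (Fin 2) F =>
        (Y : Matrix (Fin 2) (Fin 2) F)) h
      simp only [Matrix.SpecialLinearGroup.coe_mul] at h3
      have e00 := congrFun (congrFun h3 0) 0
      have e01 := congrFun (congrFun h3 0) 1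
      simp [upperSL, Matrix.mul_apply, Fin.sum_univ_two] at e00 e01
      have hdet := X.2
      rw [Matrix.det_fin_two, e00, mul_zero, sub_zero] at hdet
      have hx0 : (X : Matrix (Fin 2) (Fin 2) F) 0 0 ≠ 0 := by
        intro h0
        rw [h0, zero_mul] at hdet
        exact zero_ne_one hdet
      refine ⟨Units.mk0 _ hx0, ?_⟩
      rw [powMonoidHom_apply]
      apply Units.ext
      rw [Units.val_pow_eq_pow_val, Units.val_mk0]
      -- `t * X11 = X00` and `X00 * X11 = 1`
      have : (t : F) * ((X : Matrix (Fin 2) (Fin 2) F) 0 0 * (X : Matrix (Fin 2) (Fin 2) F) 1 1) =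
          (X : Matrix (Fin 2) (Fin 2) F) 0 0 ^ 2 := by
        linear_combination (X : Matrix (Fin 2) (Fin 2) F) 0 0 * e01
      rw [hdet, mul_one] at this
      exact this.symm
    rcases h2 with h | h
    · exact hplus h
    · by_cases h2' : (2 : F) = 0
      · rw [sl2_neg_eq_self_char_two h2'] at h
        exact hplus h
      · exfalso
        have h3 := congrArg (fun Y : SpecialLinearGroup (Fin 2) F =>
          (Y : Matrix (Fin 2) (Fin 2) F)) h
        simp only [Matrix.SpecialLinearGroup.coe_mul, Matrix.SpecialLinearGroup.coe_neg] at h3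
        have e10 := congrFun (congrFun h3 1) 0
        have e00 := congrFun (congrFun h3 0) 0
        simp [upperSL, Matrix.mul_apply, Fin.sum_univ_two] at e10 e00
        have hc : (X : Matrix (Fin 2) (Fin 2) F) 1 0 = 0 := by
          have : (2 : F) * (X : Matrix (Fin 2) (Fin 2) F) 1 0 = 0 := by linear_combination e10
          exact (mul_eq_zero.mp this).resolve_left h2'
        have ha : (X : Matrix (Fin 2) (Fin 2) F) 0 0 = 0 := by
          rw [hc] at e00
          have : (2 : F) * (X : Matrix (Fin 2) (Fin 2) F) 0 0 = 0 := by linear_combination e00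
          exact (mul_eq_zero.mp this).resolve_left h2'
        have hdet := X.2
        rw [Matrix.det_fin_two, hc, ha] at hdet
        simp at hdet
  · rintro ⟨m, rfl⟩
    refine ⟨QuotientGroup.mk (hSL m), ?_⟩
    ext g
    obtain ⟨A, rfl⟩ := psl2_exists_rep g
    rw [MulAut.conj_apply, centerQuotAut_mk, diagAut_apply, powMonoidHom_apply,
      ← QuotientGroup.mk_mul, ← diagFun_sq_mul_hSL, QuotientGroup.mk_mul, mul_inv_cancel_right]

theorem charP_of_card_eq_prime_pow [Fintype F] {p f : ℕ} [Fact p.Prime]
    (hF : Fintype.card F = p ^ f) : CharP F p := by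
  haveI := ringChar.charP F
  obtain ⟨n, hr, hn⟩ := FiniteField.card F (ringChar F)
  have h1 : ringChar F ∣ p ^ f := by
    rw [← hF, hn]
    exact dvd_pow_self _ n.ne_zero
  have h2 : ringChar F ∣ p := hr.dvd_of_dvd_pow h1
  have h3 : ringChar F = p := (Nat.prime_dvd_prime_iff_eq hr (Fact.out : p.Prime)).mp h2
  rw [← h3]
  infer_instance

/-- the structure of `Out(PSL₂(q))` -/
theorem out_psl2_main [Fintype F] {p f : ℕ} [Fact p.Prime] (hf : 1 ≤ f)
    (hF : Fintype.card F = p ^ f) :
    ∃ φ : Cfsg.Out (ProjectiveSpecialLinearGroup (Fin 2) F) →* Multiplicative (ZMod f),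
      Function.Surjective φ ∧ IsCyclic φ.ker ∧ Nat.card φ.ker = Nat.gcd 2 (p ^ f - 1) := by
  haveI : CharP F p := charP_of_card_eq_prime_pow hF
  obtain ⟨e⟩ := exists_ringAut_equiv_zmod (F := F) p f hf hF
  refine ⟨e.toMonoidHom.comp (outField p), ?_, ?_⟩
  · exact e.surjective.comp (outField_surjective p)
  · have hker : (e.toMonoidHom.comp (outField (F := F) p)).ker = (diagOut F).range := by
      rw [← ker_outField p]
      ext o
      rw [MonoidHom.mem_ker, MonoidHom.mem_ker, MonoidHom.comp_apply]
      exact e.map_eq_one_iff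
    rw [hker]
    refine ⟨isCyclic_of_surjective (diagOut F).rangeRestrict
      (MonoidHom.rangeRestrict_surjective _), ?_⟩
    rw [← Subgroup.index_ker, ker_diagOut, IsCyclic.index_powMonoidHom_range, Nat.card_units,
      Nat.card_eq_fintype_card, hF, Nat.gcd_comm]

end Cfsg.Agent.Helper41
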