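import Mathlib

set_option autoImplicit false

namespace Cfsg.Agent.Helper41

/-- All lists with entries in `[2, n]`, of length at most `f`, and sum at most `n`
(with repetitions up to order). -/
def partsList : ℕ → ℕ → List (List ℕ)
  | 0, _ => [[]]
  | f + 1, n => [] :: ((List.range (n + 1)).filter (fun a => 2 ≤ a)).flatMap
      (fun a => (partsList f (n - a)).map (fun l => a :: l))

theorem exists_mem_partsList (f : ℕ) : ∀ (n : ℕ) (m : Multiset ℕ), (∀ a ∈ m, 2 ≤ a) → m.sum ≤ n →
    Multiset.card m ≤ f → ∃ l ∈ partsList f n, (l : Multiset ℕ) = m := by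
  induction f with
  | zero =>
    intro n m _ _ hc
    have : m = 0 := Multiset.card_eq_zero.mp (Nat.le_zero.mp hc)
    subst this
    exact ⟨[], by simp [partsList], rfl⟩
  | succ f ih =>
    intro n m h2 hs hc
    induction m using Multiset.induction_on with
    | empty => exact ⟨[], by simp [partsList], rfl⟩
    | cons a m' _ =>
      have ha2 : 2 ≤ a := h2 a (Multiset.mem_cons_self a m')
      rw [Multiset.sum_cons] at hs
      rw [Multiset.card_cons] at hc
      obtain ⟨l, hl, hlm⟩ := ih (n - a) m' (fun b hb => h2 b (Multiset.mem_cons_of_mem hb))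
        (by omega) (by omega)
      refine ⟨a :: l, ?_, ?_⟩
      · simp only [partsList, List.mem_cons, List.mem_flatMap, List.mem_filter, List.mem_range,
          decide_eq_true_eq, List.mem_map]
        right
        exact ⟨a, ⟨by omega, ha2⟩, l, hl, rfl⟩
      · rw [← hlm]; rfl

theorem forall_multiset_of_partsList (n : ℕ) (P : Multiset ℕ → Prop)
    (h : ∀ l ∈ partsList (n / 2) n, P (l : Multiset ℕ)) :
    ∀ m : Multiset ℕ, (∀ a ∈ m, 2 ≤ a) → m.sum ≤ n → P m := by
  intro m h2 hs
  have hc : Multiset.card m ≤ n / 2 := by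
    have : 2 * Multiset.card m ≤ m.sum := by
      have := Multiset.card_nsmul_le_sum (s := m) (a := 2) h2
      simpa [mul_comm] using this
    omega
  obtain ⟨l, hl, rfl⟩ := exists_mem_partsList (n / 2) n m h2 hs hc
  exact h l hl

end Cfsg.Agent.Helper41
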