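import Mathlib

set_option autoImplicit false
set_option linter.style.haveILetI false

/-!
RMK (SUM), abstract part: a double count over the fixed points of a Sylow subgroup.
Pure group actions, Mathlib only.
-/

namespace Cfsg.Agent.Helper41.RMK

/-- Sylow conjugacy inside a stabilizer, relative to a subgroup `H ≥ P`: two `P`-fixed points
`x`, `h • x` with `h ∈ H` are conjugate under `N(P) ⊓ H`. -/
theorem sum_sylow_conj {G : Type*} [Group G] [Finite G] (p : ℕ) [Fact p.Prime] (P : Sylow p G)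
    (H : Subgroup G) (hPH : (P : Subgroup G) ≤ H)
    {X : Type*} [MulAction G X] (x : X) (h : G) (hh : h ∈ H)
    (hx : ∀ s ∈ (P : Subgroup G), s • x = x)
    (hhx : ∀ s ∈ (P : Subgroup G), s • (h • x) = h • x) :
    ∃ n ∈ Subgroup.normalizer ((P : Subgroup G) : Set G) ⊓ H, n • x = h • x := by
  set S : Subgroup G := MulAction.stabilizer G x ⊓ H with hS
  have hP : (P : Subgroup G) ≤ S := fun s hs =>
    Subgroup.mem_inf.mpr ⟨MulAction.mem_stabilizer_iff.mpr (hx s hs), hPH hs⟩
  have hQ : ((h⁻¹ • P : Sylow p G) : Subgroup G) ≤ S := by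
    intro s hs
    rw [Sylow.coe_subgroup_smul, Subgroup.mem_smul_pointwise_iff_exists] at hs
    obtain ⟨t, ht, rfl⟩ := hs
    rw [MulAut.smul_def, MulAut.conj_apply, inv_inv]
    refine Subgroup.mem_inf.mpr ⟨?_, H.mul_mem (H.mul_mem (H.inv_mem hh) (hPH ht)) hh⟩
    rw [MulAction.mem_stabilizer_iff]
    have h1 := hhx t ht
    rw [mul_smul, mul_smul, h1, inv_smul_smul]
  obtain ⟨s, hs⟩ := MulAction.exists_smul_eq S ((h⁻¹ • P : Sylow p G).subtype hQ) (P.subtype hP)
  rw [Sylow.smul_subtype hQ s] at hs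
  have h2 : s • (h⁻¹ • P : Sylow p G) = P := Sylow.subtype_injective hs
  have h3 : ((s : G) * h⁻¹) • P = P := by
    rw [mul_smul]
    exact h2
  have h4 : (s : G) * h⁻¹ ∈ Subgroup.normalizer ((P : Subgroup G) : Set G) :=
    Sylow.smul_eq_iff_mem_normalizer.mp h3
  have hsS : (s : G) ∈ S := s.2
  have hsH : (s : G) ∈ H := (Subgroup.mem_inf.mp hsS).2
  have hsx : (s : G) • x = x := MulAction.mem_stabilizer_iff.mp (Subgroup.mem_inf.mp hsS).1
  refine ⟨((s : G) * h⁻¹)⁻¹, Subgroup.mem_inf.mpr ⟨Subgroup.inv_mem _ h4,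
    H.inv_mem (H.mul_mem hsH (H.inv_mem hh))⟩, ?_⟩
  have h6 : (s : G)⁻¹ • x = x := by
    rw [inv_smul_eq_iff, hsx]
  rw [mul_inv_rev, inv_inv, mul_smul, h6]

/-- on a transitive `K`-set `F` (inside a `G`-set), the stabilizer orders add up to `|K|` -/
theorem sum_card_stab {G : Type*} [Group G] [Finite G] {X : Type*} [MulAction G X]
    (K : Subgroup G) (F : Set X) [Fintype F] (x₀ : X)
    (hstab : ∀ n ∈ K, n • x₀ ∈ F)
    (htrans : ∀ x ∈ F, ∃ n ∈ K, n • x₀ = x) :
    ∑ x : F, Nat.card ↥(K ⊓ MulAction.stabilizer G (x : X)) = Nat.card ↥K := by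
  classical
  let f : ↥K → F := fun n => ⟨(n : G) • x₀, hstab n n.2⟩
  rw [Nat.card_congr (Equiv.sigmaFiberEquiv f).symm, Nat.card_sigma]
  refine Finset.sum_congr rfl (fun y _ => ?_)
  obtain ⟨n₁, hn₁, e₁⟩ := htrans y.1 y.2
  refine Nat.card_congr ?_
  refine
    { toFun := fun s => ⟨⟨(s : G) * n₁, K.mul_mem (Subgroup.mem_inf.mp s.2).1 hn₁⟩, ?_⟩
      invFun := fun n => ⟨(n.1 : G) * n₁⁻¹, Subgroup.mem_inf.mpr
        ⟨K.mul_mem n.1.2 (K.inv_mem hn₁), ?_⟩⟩
      left_inv := fun s => by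
        apply Subtype.ext
        simp
      right_inv := fun n => by
        apply Subtype.ext
        apply Subtype.ext
        simp }
  · apply Subtype.ext
    show ((s : G) * n₁) • x₀ = (y : X)
    rw [mul_smul, e₁]
    exact MulAction.mem_stabilizer_iff.mp (Subgroup.mem_inf.mp s.2).2
  · rw [MulAction.mem_stabilizer_iff, mul_smul]
    have h1 : (n.1 : G) • x₀ = (y : X) := congrArg Subtype.val n.2
    have h2 : n₁⁻¹ • (y : X) = x₀ := by
      rw [inv_smul_eq_iff, e₁]
    rw [h2, h1]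

/-- the abstract double count behind (SUM) -/
theorem sum_double_count {G : Type*} [Group G] [Finite G] {X : Type*} [MulAction G X] [Finite X]
    (p : ℕ) [Fact p.Prime] (P : Sylow p G) (H : Subgroup G) (hPH : (P : Subgroup G) ≤ H)
    {Ψ : Type*} [Finite Ψ] (R : Ψ → X → Prop)
    (horb : ∀ ψ x y, R ψ x → (R ψ y ↔ ∃ h ∈ H, h • x = y))
    (hodd : ∀ ψ, ¬ p ∣ Nat.card {x // R ψ x}) :
    Nat.card Ψ * Nat.card ↥(Subgroup.normalizer ((P : Subgroup G) : Set G) ⊓ H) =
      ∑ᶠ x : {x : X // (P : Subgroup G) ≤ MulAction.stabilizer G x},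
        Nat.card {ψ : Ψ // R ψ x.1} *
          Nat.card ↥(Subgroup.normalizer ((P : Subgroup G) : Set G) ⊓ H ⊓
            MulAction.stabilizer G x.1) := by
  classical
  haveI : Fintype X := Fintype.ofFinite X
  haveI : Fintype Ψ := Fintype.ofFinite Ψ
  set K : Subgroup G := Subgroup.normalizer ((P : Subgroup G) : Set G) ⊓ H with hK
  -- step 1: for each ψ the weights over the P-fixed points below ψ add up to |K|
  have key : ∀ ψ : Ψ,
      ∑ x : X, (if ((P : Subgroup G) ≤ MulAction.stabilizer G x ∧ R ψ x) then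
        Nat.card ↥(K ⊓ MulAction.stabilizer G x) else 0) = Nat.card ↥K := by
    intro ψ
    -- a P-fixed point below ψ
    let A : SubMulAction ↥(P : Subgroup G) X :=
      { carrier := {x | R ψ x}
        smul_mem' := by
          intro s x hx
          exact (horb ψ x _ hx).mpr ⟨(s : G), hPH s.2, rfl⟩ }
    have hA : ¬ p ∣ Nat.card ↥A := hodd ψ
    obtain ⟨a, ha⟩ := P.2.nonempty_fixed_point_of_prime_not_dvd_card ↥A hA
    have hx₀R : R ψ a.1 := a.2
    have hx₀P : ∀ s ∈ (P : Subgroup G), s • a.1 = a.1 := by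
      intro s hs
      have := ha ⟨s, hs⟩
      exact congrArg Subtype.val this
    set F : Set X := {x | (P : Subgroup G) ≤ MulAction.stabilizer G x ∧ R ψ x} with hF
    have hstab : ∀ n ∈ K, n • a.1 ∈ F := by
      intro n hn
      rw [hK, Subgroup.mem_inf] at hn
      refine ⟨?_, (horb ψ a.1 _ hx₀R).mpr ⟨n, hn.2, rfl⟩⟩
      intro s hs
      rw [MulAction.mem_stabilizer_iff]
      have h1 : n⁻¹ * s * n ∈ (P : Subgroup G) :=
        (Subgroup.mem_normalizer_iff''.mp hn.1 s).mp hs
      have h2 := hx₀P _ h1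
      calc s • n • a.1 = n • ((n⁻¹ * s * n) • a.1) := by
            simp only [← mul_smul]
            congr 1
            group
        _ = n • a.1 := by rw [h2]
    have htrans : ∀ x ∈ F, ∃ n ∈ K, n • a.1 = x := by
      intro x hx
      obtain ⟨h, hh, e⟩ := (horb ψ a.1 x hx₀R).mp hx.2
      obtain ⟨n, hn, e2⟩ := sum_sylow_conj p P H hPH a.1 h hh hx₀P (by
        intro s hs
        rw [e]
        exact MulAction.mem_stabilizer_iff.mp (hx.1 hs))
      exact ⟨n, hn, e2.trans e⟩
    have h3 := sum_card_stab K F a.1 hstab htrans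
    rw [← h3, ← Finset.sum_filter]
    rw [Finset.sum_subtype (Finset.univ.filter (fun x : X =>
      (P : Subgroup G) ≤ MulAction.stabilizer G x ∧ R ψ x)) (p := fun x => x ∈ F)
      (fun x => by simp [hF]) (fun x => Nat.card ↥(K ⊓ MulAction.stabilizer G x))]
  -- step 2: the double count
  rw [finsum_eq_sum_of_fintype]
  have h1 : ∀ x : X, Nat.card {ψ : Ψ // R ψ x} = ∑ ψ : Ψ, if R ψ x then 1 else 0 := by
    intro x
    rw [Nat.card_eq_fintype_card, Fintype.card_subtype, Finset.card_filter]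
  have h2 : ∑ x : {x : X // (P : Subgroup G) ≤ MulAction.stabilizer G x},
      Nat.card {ψ : Ψ // R ψ x.1} * Nat.card ↥(K ⊓ MulAction.stabilizer G x.1) =
      ∑ x : X, if (P : Subgroup G) ≤ MulAction.stabilizer G x then
        Nat.card {ψ : Ψ // R ψ x} * Nat.card ↥(K ⊓ MulAction.stabilizer G x) else 0 := by
    rw [← Finset.sum_filter]
    rw [Finset.sum_subtype (Finset.univ.filter (fun x : X =>
      (P : Subgroup G) ≤ MulAction.stabilizer G x))
      (p := fun x => (P : Subgroup G) ≤ MulAction.stabilizer G x)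
      (fun x => by simp) (fun x => Nat.card {ψ : Ψ // R ψ x} *
        Nat.card ↥(K ⊓ MulAction.stabilizer G x))]
  rw [h2]
  have h3 : ∀ x : X, (if (P : Subgroup G) ≤ MulAction.stabilizer G x then
        Nat.card {ψ : Ψ // R ψ x} * Nat.card ↥(K ⊓ MulAction.stabilizer G x) else 0) =
      ∑ ψ : Ψ, (if ((P : Subgroup G) ≤ MulAction.stabilizer G x ∧ R ψ x) then
        Nat.card ↥(K ⊓ MulAction.stabilizer G x) else 0) := by
    intro x
    by_cases hx : (P : Subgroup G) ≤ MulAction.stabilizer G x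
    · rw [if_pos hx, h1, Finset.sum_mul]
      refine Finset.sum_congr rfl (fun ψ _ => ?_)
      by_cases hr : R ψ x
      · rw [if_pos hr, if_pos ⟨hx, hr⟩, one_mul]
      · rw [if_neg hr, if_neg (fun h => hr h.2), zero_mul]
    · rw [if_neg hx]
      symm
      apply Finset.sum_eq_zero
      intro ψ _
      rw [if_neg (fun h => hx h.1)]
  rw [Finset.sum_congr rfl (fun x _ => h3 x), Finset.sum_comm,
    Finset.sum_congr rfl (fun ψ _ => key ψ), Finset.sum_const, Finset.card_univ, smul_eq_mul,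
    Nat.card_eq_fintype_card]

end Cfsg.Agent.Helper41.RMK
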