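import Mathlib
import Cfsg.Prelude.Def_Characters
import Cfsg.Prelude.Def_Blocks
import Cfsg.Agent.Lib.Helper80.RMKDefs
import Cfsg.Agent.Lib.Helper80.RMKBasic
import Cfsg.Agent.Lib.Helper78.ItoMichler
import Cfsg.Agent.Lib.Helper79.Glaub.Pkg
import Cfsg.Agent.Lib.Helper41.RMKSUMCore

set_option autoImplicit false
set_option linter.style.haveILetI false

/-!
RMK (SUM) for helper80's server (S4581): the good characters of `H ≥ P, M` counted through the
`P`-invariant characters of `M` below them (Clifford + Sylow + orbit-stabilizer).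
-/

namespace Cfsg.Agent.Helper41.RMK

open Cfsg Cfsg.Agent.Helper80 Cfsg.Agent.Helper80.RMK Cfsg.Agent.Helper81 Cfsg.Agent.Helper79.Glaub
open scoped ComplexConjugate

universe u

section ambient

variable {G : Type u} [Group G] [Finite G] (M : Subgroup G) [hM : M.Normal] (H : Subgroup G)
  (hMH : M ≤ H)

/-- `Over` in terms of the inner product on `M.subgroupOf H` -/
theorem over_iff_classInner [Fintype ↥(M.subgroupOf H)] (ψ : IrrCharacter ↥H)
    (θ : IrrCharacter ↥M) :
    Over hMH ψ θ ↔ classInner (fun n : ↥(M.subgroupOf H) => (ψ : ↥H → ℂ) n)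
      (irrComp (Subgroup.subgroupOfEquivOfLe hMH) θ : ↥(M.subgroupOf H) → ℂ) ≠ 0 := by
  classical
  haveI : Fintype ↥M := Fintype.ofFinite _
  unfold Over classInner
  rw [finsum_eq_sum_of_fintype]
  have h1 : ∑ n : ↥(M.subgroupOf H), (ψ : ↥H → ℂ) n *
      conj ((irrComp (Subgroup.subgroupOfEquivOfLe hMH) θ : ↥(M.subgroupOf H) → ℂ) n) =
      ∑ m : ↥M, (ψ : ↥H → ℂ) (Subgroup.inclusion hMH m) * conj ((θ : ↥M → ℂ) m) := by
    rw [← Equiv.sum_comp (Subgroup.subgroupOfEquivOfLe hMH).toEquiv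
      (fun m : ↥M => (ψ : ↥H → ℂ) (Subgroup.inclusion hMH m) * conj ((θ : ↥M → ℂ) m))]
    refine Finset.sum_congr rfl (fun n _ => ?_)
    rw [irrComp_apply]
    congr 2
  rw [h1]
  have h2 : ((Nat.card ↥(M.subgroupOf H) : ℂ))⁻¹ ≠ 0 := by
    apply inv_ne_zero
    exact_mod_cast (Nat.card_pos (α := ↥(M.subgroupOf H))).ne'
  constructor
  · intro h
    exact mul_ne_zero h2 h
  · intro h h0
    apply h
    rw [h0, mul_zero]

/-- the conjugation action on `Irr M` in terms of `conjFun` on `M.subgroupOf H` -/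
theorem irrComp_smul (h : G) (hh : h ∈ H) (θ : IrrCharacter ↥M) :
    (irrComp (Subgroup.subgroupOfEquivOfLe hMH)
      (letI := irrConjAction M hM; h • θ : IrrCharacter ↥M) : ↥(M.subgroupOf H) → ℂ) =
    conjFun (M.subgroupOf H) inferInstance
      (irrComp (Subgroup.subgroupOfEquivOfLe hMH) θ : ↥(M.subgroupOf H) → ℂ)
      ((⟨h, hh⟩ : ↥H)⁻¹) := by
  funext n
  rw [irrComp_apply, irrConjAction_smul_coe, conjFun_apply, conjFun_apply, irrComp_apply]
  congr 1

end ambient

/-- (SUM) the good characters of `H ≥ P, M` counted through the `P`-invariant characters of `M`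
below them (Clifford + Sylow + orbit-stabilizer) -/
theorem sum_over_fixed (r : Bool) {G : Type u} [Group G] [Finite G] (M : Subgroup G)
    [hM : M.Normal] (P : Sylow 2 G) (H : Subgroup G) (hMH : M ≤ H)
    (hPH : (P : Subgroup G) ≤ H) :
    cnt r ↥H * Nat.card ↥(Subgroup.normalizer ((P : Subgroup G) : Set G) ⊓ H) =
      ∑ᶠ θ : {θ : IrrCharacter ↥M // (P : Subgroup G) ≤ stab M θ},
        cntOver r hMH θ.1 *
          Nat.card ↥(Subgroup.normalizer ((P : Subgroup G) : Set G) ⊓ H ⊓ stab M θ.1) := by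
  classical
  haveI : Fintype ↥H := Fintype.ofFinite _
  haveI : Fintype ↥M := Fintype.ofFinite _
  haveI : Fintype ↥(M.subgroupOf H) := Fintype.ofFinite _
  haveI : Finite (IrrCharacter ↥M) := irr_finite
  haveI : Finite (IrrCharacter ↥H) := irr_finite
  have hM' : (M.subgroupOf H).Normal := inferInstance
  set e := Subgroup.subgroupOfEquivOfLe hMH with he
  -- Clifford: conjugacy of the constituents
  have hconj : ∀ (ψ : IrrCharacter ↥H) (θ θ₂ : IrrCharacter ↥M), Over hMH ψ θ → Over hMH ψ θ₂ →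
      ∃ g : ↥H, (irrComp e θ₂ : ↥(M.subgroupOf H) → ℂ) =
        conjFun (M.subgroupOf H) hM' (irrComp e θ : ↥(M.subgroupOf H) → ℂ) g := by
    intro ψ θ θ₂ h1 h2
    rw [over_iff_classInner] at h1 h2
    by_contra hcon
    exact h2 (clifford_not_conj (M.subgroupOf H) hM' ψ.2 (irrComp e θ).2 (irrComp e θ₂).2 h1 hcon)
  have hback : ∀ (ψ : IrrCharacter ↥H) (θ : IrrCharacter ↥M) (g : ↥H), Over hMH ψ θ →
      Over hMH ψ (letI := irrConjAction M hM; ((g : G)⁻¹ • θ : IrrCharacter ↥M)) ∧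
      (irrComp e (letI := irrConjAction M hM; ((g : G)⁻¹ • θ : IrrCharacter ↥M)) :
        ↥(M.subgroupOf H) → ℂ) =
        conjFun (M.subgroupOf H) hM' (irrComp e θ : ↥(M.subgroupOf H) → ℂ) g := by
    intro ψ θ g h1
    have h3 := irrComp_smul M H hMH (g : G)⁻¹ (H.inv_mem g.2) θ
    have h4 : ((⟨(g : G)⁻¹, H.inv_mem g.2⟩ : ↥H)⁻¹) = g := by
      apply Subtype.ext
      simp
    rw [h4] at h3
    refine ⟨?_, h3⟩
    rw [over_iff_classInner] at h1 ⊢
    rw [h3, classInner_restrict_conjFun (M.subgroupOf H) hM'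
      (isClassFunction_of_isCharacter (IsIrrCharacter.isCharacter ψ.2))]
    exact h1
  -- the orbit property
  have horb : ∀ (ψ : {ψ : IrrCharacter ↥H // Good r ψ}) (x y : IrrCharacter ↥M),
      Over hMH ψ.1 x → (Over hMH ψ.1 y ↔
        ∃ h ∈ H, (letI := irrConjAction M hM; h • x : IrrCharacter ↥M) = y) := by
    intro ψ x y hx
    constructor
    · intro hy
      obtain ⟨g, hg⟩ := hconj ψ.1 x y hx hy
      refine ⟨(g : G)⁻¹, H.inv_mem g.2, ?_⟩
      apply irrComp_injective e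
      apply Subtype.ext
      rw [(hback ψ.1 x g hx).2, hg]
    · rintro ⟨h, hh, rfl⟩
      have := (hback ψ.1 x (⟨h, hh⟩⁻¹ : ↥H) hx).1
      have h5 : (((⟨h, hh⟩⁻¹ : ↥H) : G))⁻¹ = h := by simp
      rw [h5] at this
      exact this
  -- odd orbit size
  have hodd : ∀ ψ : {ψ : IrrCharacter ↥H // Good r ψ},
      ¬ 2 ∣ Nat.card {x : IrrCharacter ↥M // Over hMH ψ.1 x} := by
    intro ψ
    -- a constituent
    have hres : IsCharacter ↥(M.subgroupOf H) (fun n : ↥(M.subgroupOf H) => (ψ.1 : ↥H → ℂ) n) :=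
      isCharacter_restrict (M.subgroupOf H) (IsIrrCharacter.isCharacter ψ.1.2)
    have hne0 : (fun n : ↥(M.subgroupOf H) => (ψ.1 : ↥H → ℂ) n) ≠ 0 := by
      intro h0
      have h1 := congrFun h0 1
      have h2 := (Cfsg.Agent.Helper78.irr_charDegree ψ.1.2)
      have h3 : ((1 : ↥(M.subgroupOf H)) : ↥H) = 1 := rfl
      simp only [Pi.zero_apply] at h1
      rw [h3, h2.1] at h1
      have : (charDegree (ψ.1 : ↥H → ℂ) : ℂ) ≠ 0 := by
        exact_mod_cast h2.2.ne'
      exact this h1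
    obtain ⟨β, hβ, hβne⟩ := exists_irr_constituent hres hne0
    set θ : IrrCharacter ↥M := irrComp e.symm ⟨β, hβ⟩ with hθ
    have hθ' : irrComp e θ = ⟨β, hβ⟩ := irrComp_symm e ⟨β, hβ⟩
    have hover : Over hMH ψ.1 θ := by
      rw [over_iff_classInner, ← he, hθ']
      exact hβne
    -- the degree formula
    have hne' : classInner (fun n : ↥(M.subgroupOf H) => (ψ.1 : ↥H → ℂ) n)
        (irrComp e θ : ↥(M.subgroupOf H) → ℂ) ≠ 0 := by
      rw [hθ']; exact hβne
    obtain ⟨k, hk⟩ := Cfsg.Agent.Helper78.clifford_degree (M.subgroupOf H) hM' ψ.1.2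
      (irrComp e θ).2 hne'
    have hoddS : Odd (Nat.card (conjSet (M.subgroupOf H) hM'
        (irrComp e θ : ↥(M.subgroupOf H) → ℂ))) := by
      have h1 : Odd (charDegree (ψ.1 : ↥H → ℂ)) := ψ.2.2
      rw [hk] at h1
      exact (Nat.odd_mul.mp (Nat.odd_mul.mp h1).2).1
    -- the bijection with the conjSet
    have hcard : Nat.card {x : IrrCharacter ↥M // Over hMH ψ.1 x} =
        Nat.card (conjSet (M.subgroupOf H) hM' (irrComp e θ : ↥(M.subgroupOf H) → ℂ)) := by
      refine Nat.card_congr (Equiv.ofBijective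
        (fun x => ⟨(irrComp e x.1 : ↥(M.subgroupOf H) → ℂ), hconj ψ.1 θ x.1 hover x.2⟩)
        ⟨?_, ?_⟩)
      · intro a b hab
        have h1 := congrArg Subtype.val hab
        exact Subtype.ext (irrComp_injective e (Subtype.ext h1))
      · rintro ⟨φ, g, hg⟩
        have h2 := hback ψ.1 θ g hover
        refine ⟨⟨_, h2.1⟩, ?_⟩
        apply Subtype.ext
        exact h2.2.trans hg.symm
    rw [hcard]
    intro h2
    exact (Nat.not_even_iff_odd.mpr hoddS) (even_iff_two_dvd.mpr h2)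
  have main := @sum_double_count G _ _ (IrrCharacter ↥M) (irrConjAction M hM) _ 2 _ P H hPH
    {ψ : IrrCharacter ↥H // Good r ψ} _ (fun ψ θ => Over hMH ψ.1 θ) horb hodd
  unfold cnt cntOver stab
  rw [main]
  refine finsum_congr (fun θ => ?_)
  congr 1
  exact Nat.card_congr (Equiv.subtypeSubtypeEquivSubtypeInter
    (fun ψ : IrrCharacter ↥H => Good r ψ) (fun ψ => Over hMH ψ θ.1))

end Cfsg.Agent.Helper41.RMK
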