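import Mathlib
import Cfsg.Prelude.Def_Characters
import Cfsg.Prelude.Def_Blocks
import Cfsg.Agent.Lib.Helper80.RMKDefs
import Cfsg.Agent.Lib.Helper80.RMKBasic

set_option autoImplicit false
set_option linter.style.haveILetI false

/-!
RMK (TRANS) for helper80's server (S4581): extension of a linear character by the transfer.
-/

namespace Cfsg.Agent.Helper41.RMK

open Cfsg Cfsg.Agent.Helper80 Cfsg.Agent.Helper80.RMK
open scoped ComplexConjugate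

universe u

/-- the transfer of `ϕ` at `g`, when `ϕ` takes the value `a ^ k` at every conjugate of `g ^ k`
inside `H`, is `a ^ [G : H]` -/
theorem transfer_eq_pow_of_val {G : Type*} [Group G] {H : Subgroup G} {A : Type*} [CommGroup A]
    (ϕ : H →* A) [H.FiniteIndex] (g : G) (a : A)
    (key : ∀ (k : ℕ) (g₀ : G) (hk : g₀⁻¹ * g ^ k * g₀ ∈ H), ϕ ⟨g₀⁻¹ * g ^ k * g₀, hk⟩ = a ^ k) :
    MonoidHom.transfer ϕ g = a ^ H.index := by
  classical
  letI := H.fintypeQuotientOfFiniteIndex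
  rw [MonoidHom.transfer_eq_prod_quotient_orbitRel_zpowers_quot,
    Subgroup.index_eq_sum_minimalPeriod H g, ← Finset.prod_pow_eq_pow_sum]
  refine Finset.prod_congr rfl (fun q _ => ?_)
  exact key _ _ _

/-- the transfer of a homomorphism all of whose values have square one has square one -/
theorem transfer_sq_eq_one {G : Type*} [Group G] {H : Subgroup G} {A : Type*} [CommGroup A]
    (ϕ : H →* A) [H.FiniteIndex] (hϕ : ∀ x : H, ϕ x ^ 2 = 1) (g : G) :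
    MonoidHom.transfer ϕ g ^ 2 = 1 := by
  classical
  letI := H.fintypeQuotientOfFiniteIndex
  rw [MonoidHom.transfer_eq_prod_quotient_orbitRel_zpowers_quot, ← Finset.prod_pow]
  exact Finset.prod_eq_one (fun q _ => hϕ _)

/-- (TRANS) transfer: a linear character of `P` whose restriction to `M` is `T`-invariant of
order at most two extends from `M` to `T` when `|T : P|` is odd -/
theorem exists_hom_extending {G : Type u} [Group G] [Finite G] (M : Subgroup G) [hM : M.Normal]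
    (P T : Subgroup G) (hMP : M ≤ P) (hPT : P ≤ T) (hodd : Odd (P.relIndex T))
    (μ : ↥P →* ℂˣ)
    (hinv : ∀ t ∈ T, ∀ (m : G) (hm : m ∈ M),
      μ ⟨t * m * t⁻¹, hMP (hM.conj_mem m hm t)⟩ = μ ⟨m, hMP hm⟩)
    (hsq : ∀ (m : G) (hm : m ∈ M), μ ⟨m, hMP hm⟩ ^ 2 = 1) :
    ∃ ν : ↥T →* ℂˣ, (∀ (m : G) (hm : m ∈ M), ν ⟨m, hPT (hMP hm)⟩ = μ ⟨m, hMP hm⟩) ∧
      ((∀ x : ↥P, μ x ^ 2 = 1) → ∀ t : ↥T, ν t ^ 2 = 1) := by
  classical
  -- `μ` as a homomorphism on `P.subgroupOf T`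
  let ϕ : ↥(P.subgroupOf T) →* ℂˣ := μ.comp (Subgroup.subgroupOfEquivOfLe hPT).toMonoidHom
  have hϕ : ∀ (x : ↥T) (hx : x ∈ P.subgroupOf T), ϕ ⟨x, hx⟩ = μ ⟨(x : G), hx⟩ := by
    intro x hx
    rfl
  haveI : (P.subgroupOf T).FiniteIndex := inferInstance
  refine ⟨MonoidHom.transfer ϕ, ?_, ?_⟩
  · intro m hm
    have hkey : ∀ (k : ℕ) (g₀ : ↥T)
        (hk : g₀⁻¹ * (⟨m, hPT (hMP hm)⟩ : ↥T) ^ k * g₀ ∈ P.subgroupOf T),
        ϕ ⟨g₀⁻¹ * (⟨m, hPT (hMP hm)⟩ : ↥T) ^ k * g₀, hk⟩ = μ ⟨m, hMP hm⟩ ^ k := by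
      intro k g₀ hk
      rw [hϕ]
      have hmk : m ^ k ∈ M := M.pow_mem hm k
      have h1 := hinv (g₀ : G)⁻¹ (T.inv_mem g₀.2) (m ^ k) hmk
      have h2 : (⟨((g₀⁻¹ * (⟨m, hPT (hMP hm)⟩ : ↥T) ^ k * g₀ : ↥T) : G), hk⟩ : ↥P) =
          ⟨(g₀ : G)⁻¹ * m ^ k * (g₀ : G)⁻¹⁻¹, hMP (hM.conj_mem (m ^ k) hmk (g₀ : G)⁻¹)⟩ := by
        apply Subtype.ext
        simp
      rw [h2, h1]
      have h3 : (⟨m ^ k, hMP hmk⟩ : ↥P) = (⟨m, hMP hm⟩ : ↥P) ^ k := by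
        apply Subtype.ext
        simp
      rw [h3, map_pow]
    rw [transfer_eq_pow_of_val ϕ (⟨m, hPT (hMP hm)⟩ : ↥T) (μ ⟨m, hMP hm⟩) hkey]
    obtain ⟨j, hj⟩ := hodd
    have hidx : (P.subgroupOf T).index = 2 * j + 1 := hj
    rw [hidx, pow_succ, pow_mul, hsq m hm, one_pow, one_mul]
  · intro hall t
    apply transfer_sq_eq_one
    intro x
    exact hall _

end Cfsg.Agent.Helper41.RMK
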