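import Mathlib
import Cfsg.Agent.Lib.Helper79.Glaub.PGroup

set_option autoImplicit false
set_option linter.style.haveILetI false

/-!
RPD4 (CF) for helper80's server (S4864): facts on `C = C_K(P)` and `N = N_Γ(P)`.
-/

namespace Cfsg.Agent.Helper41.RPD4

open Cfsg Cfsg.Agent.Helper79.Glaub

universe u

/-- a normal `p'`-subgroup meets the normalizer of a `p`-subgroup inside its centralizer -/
theorem cf_inf_normalizer_le_centralizer {Γ : Type u} [Group Γ] [Finite Γ] (p : ℕ) [Fact p.Prime]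
    (K : Subgroup Γ) [hK : K.Normal] (hpK : ¬ p ∣ Nat.card K)
    (P : Subgroup Γ) (hP : IsPGroup p P) :
    K ⊓ Subgroup.normalizer (P : Set Γ) ≤ Subgroup.centralizer (P : Set Γ) := by
  have hp : p.Prime := Fact.out
  have hbot : K ⊓ P = ⊥ := by
    apply disjoint_iff.mp
    apply Subgroup.disjoint_of_coprime_natCard
    obtain ⟨n, hn⟩ := IsPGroup.exists_card_eq hP
    rw [hn]
    exact Nat.Coprime.pow_right n ((Nat.Prime.coprime_iff_not_dvd hp).mpr hpK).symm
  intro k hk
  rw [Subgroup.mem_inf] at hk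
  rw [Subgroup.mem_centralizer_iff]
  intro s hs
  have hs' : s ∈ P := hs
  have h1 : k * s * k⁻¹ ∈ P := (Subgroup.mem_normalizer_iff.mp hk.2 s).mp hs'
  have h2 : k * s * k⁻¹ * s⁻¹ ∈ P := P.mul_mem h1 (P.inv_mem hs')
  have h3 : k * s * k⁻¹ * s⁻¹ ∈ K := by
    have : k * s * k⁻¹ * s⁻¹ = k * (s * k⁻¹ * s⁻¹) := by group
    rw [this]
    exact K.mul_mem hk.1 (hK.conj_mem _ (K.inv_mem hk.1) s)
  have h4 : k * s * k⁻¹ * s⁻¹ ∈ K ⊓ P := Subgroup.mem_inf.mpr ⟨h3, h2⟩
  rw [hbot, Subgroup.mem_bot] at h4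
  have h5 : k * s = s * k := by
    have : k * s = (k * s * k⁻¹ * s⁻¹) * (s * k) := by group
    rw [this, h4, one_mul]
  exact h5.symm

/-- (CF) facts on `C = C_K(P)` and `N = N_Γ(P)` -/
theorem c_facts {Γ : Type u} [Group Γ] [Finite Γ] (p : ℕ) [Fact p.Prime]
    (K : Subgroup Γ) [hK : K.Normal] (hpK : ¬ p ∣ Nat.card K) (hodd : Odd K.index)
    (P : Subgroup Γ) (hP : IsPGroup p P) :
    (K ⊓ Subgroup.centralizer (P : Set Γ) ≤ Subgroup.normalizer (P : Set Γ)) ∧
    (∀ n ∈ Subgroup.normalizer (P : Set Γ), NormAt (K ⊓ Subgroup.centralizer (P : Set Γ)) n) ∧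
    Odd ((K ⊓ Subgroup.centralizer (P : Set Γ)).relIndex (Subgroup.normalizer (P : Set Γ))) := by
  refine ⟨inf_le_right.trans (Subgroup.centralizer_le_normalizer _), ?_, ?_⟩
  · intro n hn
    haveI : Fintype Γ := Fintype.ofFinite Γ
    apply normAt_inf_centralizer
    · refine ⟨fun g hg => hK.conj_mem g hg n, fun g hg => ?_⟩
      have := hK.conj_mem g hg n⁻¹
      rwa [inv_inv] at this
    · exact (normAt_iff_mem_normalizer P n).mpr hn
  · have h1 : (K ⊓ Subgroup.centralizer (P : Set Γ)) ⊓ Subgroup.normalizer (P : Set Γ) =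
        K ⊓ Subgroup.normalizer (P : Set Γ) := by
      apply le_antisymm
      · exact inf_le_inf_right _ inf_le_left
      · refine le_inf (le_inf inf_le_left ?_) inf_le_right
        exact cf_inf_normalizer_le_centralizer p K hpK P hP
    rw [← Subgroup.inf_relIndex_right, h1, Subgroup.inf_relIndex_right]
    exact Odd.of_dvd_nat hodd (Subgroup.relIndex_dvd_index_of_normal K _)

end Cfsg.Agent.Helper41.RPD4
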