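import Mathlib

set_option autoImplicit false
set_option linter.style.haveILetI false

/-!
RPD4 (ORB) for helper80's server (S4864): orbits meeting the fixed points of a Sylow subgroup,
counted by Burnside on the normalizer, and the transfer between two `Γ`-sets.
-/

namespace Cfsg.Agent.Helper41.RPD4

universe u v

/-- Sylow conjugacy inside a stabilizer: two `P`-fixed points in the same `Γ`-orbit are in the same
`N(P)`-orbit. -/
theorem orb_sylow_conj {Γ : Type u} [Group Γ] [Finite Γ] (p : ℕ) [Fact p.Prime] (P : Sylow p Γ)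
    {X : Type v} [MulAction Γ X] (x : X) (g : Γ)
    (hx : ∀ s ∈ (P : Subgroup Γ), s • x = x)
    (hgx : ∀ s ∈ (P : Subgroup Γ), s • (g • x) = g • x) :
    ∃ n ∈ Subgroup.normalizer ((P : Subgroup Γ) : Set Γ), n • x = g • x := by
  set H : Subgroup Γ := MulAction.stabilizer Γ x with hH
  have hP : (P : Subgroup Γ) ≤ H := fun s hs => MulAction.mem_stabilizer_iff.mpr (hx s hs)
  have hQ : ((g⁻¹ • P : Sylow p Γ) : Subgroup Γ) ≤ H := by
    intro s hs
    rw [Sylow.coe_subgroup_smul, Subgroup.mem_smul_pointwise_iff_exists] at hs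
    obtain ⟨t, ht, rfl⟩ := hs
    rw [MulAction.mem_stabilizer_iff]
    have h1 := hgx t ht
    rw [MulAut.smul_def, MulAut.conj_apply, inv_inv, mul_smul, mul_smul, h1, inv_smul_smul]
  obtain ⟨h, hh⟩ := MulAction.exists_smul_eq H ((g⁻¹ • P : Sylow p Γ).subtype hQ) (P.subtype hP)
  rw [Sylow.smul_subtype hQ h] at hh
  have h2 : h • (g⁻¹ • P : Sylow p Γ) = P := Sylow.subtype_injective hh
  have h3 : ((h : Γ) * g⁻¹) • P = P := by
    rw [mul_smul]
    exact h2
  have h4 : (h : Γ) * g⁻¹ ∈ Subgroup.normalizer ((P : Subgroup Γ) : Set Γ) :=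
    Sylow.smul_eq_iff_mem_normalizer.mp h3
  refine ⟨((h : Γ) * g⁻¹)⁻¹, Subgroup.inv_mem _ h4, ?_⟩
  have h5 : (h : Γ) • x = x := MulAction.mem_stabilizer_iff.mp h.2
  have h6 : (h : Γ)⁻¹ • x = x := by
    rw [inv_smul_eq_iff, h5]
  rw [mul_inv_rev, inv_inv, mul_smul, h6]

/-- the sub-`N(P)`-set of `P`-fixed points -/
def orbFix {Γ : Type u} [Group Γ] (P : Subgroup Γ) (X : Type v) [MulAction Γ X] :
    SubMulAction ↥(Subgroup.normalizer (P : Set Γ)) X where
  carrier := {x | ∀ s ∈ P, s • x = x}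
  smul_mem' := by
    intro n x hx s hs
    have hn : (n : Γ)⁻¹ * s * (n : Γ) ∈ P :=
      (Subgroup.mem_normalizer_iff''.mp n.2 s).mp hs
    have h1 := hx _ hn
    show s • ((n : Γ) • x) = (n : Γ) • x
    calc s • ((n : Γ) • x) = (n : Γ) • (((n : Γ)⁻¹ * s * (n : Γ)) • x) := by
          simp only [← mul_smul]
          congr 1
          group
      _ = (n : Γ) • x := by rw [h1]

theorem mem_orbFix {Γ : Type u} [Group Γ] (P : Subgroup Γ) (X : Type v) [MulAction Γ X] (x : X) :
    x ∈ orbFix P X ↔ ∀ s ∈ P, s • x = x := Iff.rfl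

/-- (ORB1) orbits meeting the fixed points of a Sylow subgroup, counted by Burnside on the normalizer -/
theorem orb_count {Γ : Type u} [Group Γ] [Finite Γ] (p : ℕ) [Fact p.Prime] (P : Sylow p Γ)
    {X : Type v} [MulAction Γ X] [Finite X] :
    Nat.card {o : MulAction.orbitRel.Quotient Γ X //
        ∃ x : X, (∀ s ∈ (P : Subgroup Γ), s • x = x) ∧
          (Quotient.mk'' x : MulAction.orbitRel.Quotient Γ X) = o} *
      Nat.card ↥(Subgroup.normalizer ((P : Subgroup Γ) : Set Γ)) =
    ∑ᶠ n : ↥(Subgroup.normalizer ((P : Subgroup Γ) : Set Γ)),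
      Nat.card {x : X // (∀ s ∈ (P : Subgroup Γ), s • x = x) ∧ (n : Γ) • x = x} := by
  classical
  haveI : Fintype ↥(Subgroup.normalizer ((P : Subgroup Γ) : Set Γ)) := Fintype.ofFinite _
  haveI : Fintype ↥(orbFix (P : Subgroup Γ) X) := Fintype.ofFinite _
  haveI : Fintype (Quotient (MulAction.orbitRel ↥(Subgroup.normalizer ((P : Subgroup Γ) : Set Γ))
      ↥(orbFix (P : Subgroup Γ) X))) := Fintype.ofFinite _
  have hB := MulAction.sum_card_fixedBy_eq_card_orbits_mul_card_group
    ↥(Subgroup.normalizer ((P : Subgroup Γ) : Set Γ)) ↥(orbFix (P : Subgroup Γ) X)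
  rw [finsum_eq_sum_of_fintype]
  -- the fixed point counts
  have h1 : ∀ n : ↥(Subgroup.normalizer ((P : Subgroup Γ) : Set Γ)),
      Nat.card {x : X // (∀ s ∈ (P : Subgroup Γ), s • x = x) ∧ (n : Γ) • x = x} =
      Fintype.card (MulAction.fixedBy ↥(orbFix (P : Subgroup Γ) X) n) := by
    intro n
    rw [← Nat.card_eq_fintype_card]
    refine Nat.card_congr ?_
    refine
      { toFun := fun x => ⟨⟨x.1, x.2.1⟩, ?_⟩
        invFun := fun y => ⟨y.1.1, y.1.2, ?_⟩
        left_inv := fun x => rfl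
        right_inv := fun y => rfl }
    · rw [MulAction.mem_fixedBy]
      apply Subtype.ext
      exact x.2.2
    · have := y.2
      rw [MulAction.mem_fixedBy] at this
      exact congrArg Subtype.val this
  rw [Finset.sum_congr rfl (fun n _ => h1 n), hB, Nat.card_eq_fintype_card (α :=
    ↥(Subgroup.normalizer ((P : Subgroup Γ) : Set Γ)))]
  congr 1
  rw [← Nat.card_eq_fintype_card]
  -- the bijection of orbit spaces
  symm
  refine Nat.card_congr (Equiv.ofBijective
    (Quotient.lift (fun y : ↥(orbFix (P : Subgroup Γ) X) =>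
      (⟨(Quotient.mk'' y.1 : MulAction.orbitRel.Quotient Γ X), y.1, y.2, rfl⟩ :
        {o : MulAction.orbitRel.Quotient Γ X //
          ∃ x : X, (∀ s ∈ (P : Subgroup Γ), s • x = x) ∧
            (Quotient.mk'' x : MulAction.orbitRel.Quotient Γ X) = o})) ?_) ⟨?_, ?_⟩)
  · intro a b hab
    apply Subtype.ext
    show (Quotient.mk'' a.1 : MulAction.orbitRel.Quotient Γ X) = Quotient.mk'' b.1
    apply Quotient.sound'
    change a ∈ MulAction.orbit _ b at hab
    obtain ⟨n, hn⟩ := hab
    show a.1 ∈ MulAction.orbit Γ b.1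
    refine ⟨(n : Γ), ?_⟩
    have := congrArg Subtype.val hn
    exact this
  · intro a b
    induction a using Quotient.inductionOn with | _ a => ?_
    induction b using Quotient.inductionOn with | _ b => ?_
    intro hab
    have h2 : (Quotient.mk'' a.1 : MulAction.orbitRel.Quotient Γ X) = Quotient.mk'' b.1 :=
      congrArg Subtype.val hab
    have h3 : a.1 ∈ MulAction.orbit Γ b.1 := Quotient.exact' h2
    obtain ⟨g, hg⟩ := h3
    have hg' : g • b.1 = a.1 := hg
    obtain ⟨n, hn, hnx⟩ := orb_sylow_conj p P b.1 g b.2 (by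
      intro s hs
      rw [hg']
      exact a.2 s hs)
    apply Quotient.sound
    show a ∈ MulAction.orbit _ b
    refine ⟨⟨n, hn⟩, ?_⟩
    apply Subtype.ext
    show n • b.1 = a.1
    rw [hnx, hg']
  · rintro ⟨o, x, hx, rfl⟩
    exact ⟨Quotient.mk'' ⟨x, hx⟩, rfl⟩

/-- (ORB2) transfer of "every orbit meets the fixed points of `P`" between two `Γ`-sets -/
theorem orb_transfer {Γ : Type u} [Group Γ] [Finite Γ] (p : ℕ) [Fact p.Prime] (P : Sylow p Γ)
    {X : Type v} [MulAction Γ X] [Finite X] {Y : Type v} [MulAction Γ Y] [Finite Y]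
    (h1 : Nat.card (MulAction.orbitRel.Quotient Γ X) = Nat.card (MulAction.orbitRel.Quotient Γ Y))
    (h2 : ∑ᶠ n : ↥(Subgroup.normalizer ((P : Subgroup Γ) : Set Γ)),
        Nat.card {x : X // (∀ s ∈ (P : Subgroup Γ), s • x = x) ∧ (n : Γ) • x = x} =
      ∑ᶠ n : ↥(Subgroup.normalizer ((P : Subgroup Γ) : Set Γ)),
        Nat.card {y : Y // (∀ s ∈ (P : Subgroup Γ), s • y = y) ∧ (n : Γ) • y = y})
    (h3 : ∀ x : X, ∃ g : Γ, ∀ s ∈ (P : Subgroup Γ), s • (g • x) = g • x) :
    ∀ y : Y, ∃ g : Γ, ∀ s ∈ (P : Subgroup Γ), s • (g • y) = g • y := by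
  classical
  have hX := orb_count p P (X := X)
  have hY := orb_count p P (X := Y)
  rw [← h2, ← hX] at hY
  have hNpos : 0 < Nat.card ↥(Subgroup.normalizer ((P : Subgroup Γ) : Set Γ)) := Nat.card_pos
  have hc := Nat.eq_of_mul_eq_mul_right hNpos hY
  -- every orbit of X meets the fixed points
  have hXall : Nat.card {o : MulAction.orbitRel.Quotient Γ X //
        ∃ x : X, (∀ s ∈ (P : Subgroup Γ), s • x = x) ∧
          (Quotient.mk'' x : MulAction.orbitRel.Quotient Γ X) = o} =
      Nat.card (MulAction.orbitRel.Quotient Γ X) := by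
    refine Nat.card_congr (Equiv.subtypeUnivEquiv ?_)
    intro o
    induction o using Quotient.inductionOn' with | _ x => ?_
    obtain ⟨g, hg⟩ := h3 x
    refine ⟨g • x, hg, ?_⟩
    apply Quotient.sound'
    exact ⟨g, rfl⟩
  rw [hXall, h1] at hc
  intro y
  haveI : Fintype (MulAction.orbitRel.Quotient Γ Y) := Fintype.ofFinite _
  by_contra hy
  have hlt := Fintype.card_subtype_lt (p := fun o : MulAction.orbitRel.Quotient Γ Y =>
      ∃ x : Y, (∀ s ∈ (P : Subgroup Γ), s • x = x) ∧
        (Quotient.mk'' x : MulAction.orbitRel.Quotient Γ Y) = o)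
    (x := (Quotient.mk'' y : MulAction.orbitRel.Quotient Γ Y)) (by
      rintro ⟨y', hy', he⟩
      apply hy
      have h4 : y' ∈ MulAction.orbit Γ y := Quotient.exact' he
      obtain ⟨g, hg⟩ := h4
      refine ⟨g, ?_⟩
      have hg' : g • y = y' := hg
      rw [hg']
      exact hy')
  rw [← Nat.card_eq_fintype_card, ← Nat.card_eq_fintype_card, hc] at hlt
  exact lt_irrefl _ hlt

end Cfsg.Agent.Helper41.RPD4
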