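import Mathlib
import Cfsg.Agent.Lib.Helper3.S4017DDefs
import Cfsg.Agent.Lib.Helper60.CYCFR

/-!
# S4017D (F1): commuting distinct involutions have exactly one common neighbour
(helper41 for helper3, S4017)
-/

set_option autoImplicit false

namespace Cfsg.Agent.Helper41.S4017D

open Cfsg.Agent.Helper3.S4017

variable {G : Type*} [Group G] [Finite G]

omit [Finite G] in
theorem f1_mul_self {s : G} (hs : orderOf s = 2) : s * s = 1 := by
  have := pow_orderOf_eq_one s
  rwa [hs, sq] at this

omit [Finite G] in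
theorem f1_ne_one {s : G} (hs : orderOf s = 2) : s ≠ 1 := by
  intro h
  rw [h, orderOf_one] at hs
  norm_num at hs

omit [Finite G] in
theorem f1_inv {s : G} (hs : orderOf s = 2) : s⁻¹ = s :=
  inv_eq_of_mul_eq_one_left (f1_mul_self hs)

omit [Finite G] in
/-- two involutions with `s * u = 1` are equal -/
theorem f1_eq_of_mul_eq_one {s u : G} (hu : orderOf u = 2) (h : s * u = 1) : s = u := by
  rw [← f1_inv hu]; exact eq_inv_of_mul_eq_one_left h

omit [Finite G] in
/-- the product of two commuting distinct involutions is an involution -/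
theorem f1_orderOf_mul {s u : G} (hs : orderOf s = 2) (hu : orderOf u = 2) (hsu : s ≠ u)
    (hc : Commute s u) : orderOf (s * u) = 2 := by
  haveI : Fact (Nat.Prime 2) := ⟨Nat.prime_two⟩
  apply orderOf_eq_prime
  · rw [hc.mul_pow, sq, sq, f1_mul_self hs, f1_mul_self hu, one_mul]
  · intro h; exact hsu (f1_eq_of_mul_eq_one hu h)

/-- (F1) [ABSTRACT] commuting distinct involutions `s, u` have exactly one common neighbour, `s * u`.
`s * u` is an involution (`(su)² = s²u² = 1`, `su ≠ 1` as `s ≠ u = u⁻¹`), `≠ s, u`, commutes with both; uniqueness is `hcomm`. -/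
theorem common_of_commute
    (hcomm : ∀ s u : G, orderOf s = 2 → orderOf u = 2 → s ≠ u → Commute s u →
      ∀ v : G, orderOf v = 2 → Commute v s → Commute v u → v = s ∨ v = u ∨ v = s * u)
    (s u : G) (hs : orderOf s = 2) (hu : orderOf u = 2) (hsu : s ≠ u) (hc : Commute s u) :
    ∃! v : G, orderOf v = 2 ∧ (v ≠ s ∧ Commute v s) ∧ (v ≠ u ∧ Commute v u) := by
  refine ⟨s * u, ⟨f1_orderOf_mul hs hu hsu hc, ⟨?_, ?_⟩, ⟨?_, ?_⟩⟩, ?_⟩
  · intro h
    exact f1_ne_one hu (mul_left_cancel (h.trans (mul_one s).symm))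
  · exact (Commute.refl s).mul_left hc.symm
  · intro h
    exact f1_ne_one hs (mul_right_cancel (h.trans (one_mul u).symm))
  · exact hc.mul_left (Commute.refl u)
  · rintro v ⟨hv, ⟨hvs, hvcs⟩, ⟨hvu, hvcu⟩⟩
    rcases hcomm s u hs hu hsu hc v hv hvcs hvcu with h | h | h
    · exact absurd h hvs
    · exact absurd h hvu
    · exact h

end Cfsg.Agent.Helper41.S4017D
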