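import Mathlib
import Cfsg.Agent.Lib.Helper3.S4017DDefs
import Cfsg.Agent.Lib.Helper60.CYCFR
import Cfsg.Agent.Lib.Helper41.S4017DF1

/-!
# S4017D (F2a): non-commuting involutions with product of order `3 ^ b` have exactly one common
neighbour (helper41 for helper3, S4017)
-/

set_option autoImplicit false

namespace Cfsg.Agent.Helper41.S4017D

open Cfsg.Agent.Helper3.S4017

variable {G : Type*} [Group G] [Finite G]

omit [Finite G] in
/-- `s (s u) s⁻¹ = (s u)⁻¹` for involutions -/
theorem f2_conj_left {s u : G} (hs : orderOf s = 2) (hu : orderOf u = 2) :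
    s * (s * u) * s⁻¹ = (s * u)⁻¹ := by
  rw [mul_inv_rev, f1_inv hs, f1_inv hu, ← mul_assoc, f1_mul_self hs, one_mul]

omit [Finite G] in
/-- `u (s u) u⁻¹ = (s u)⁻¹` for involutions -/
theorem f2_conj_right {s u : G} (hs : orderOf s = 2) (hu : orderOf u = 2) :
    u * (s * u) * u⁻¹ = (s * u)⁻¹ := by
  rw [mul_inv_rev, f1_inv hs, f1_inv hu, mul_assoc, mul_assoc, f1_mul_self hu, mul_one]

omit [Finite G] in
/-- if `s` commutes with `s * u` then `s, u` commute -/
theorem f2_commute_of_left {s u : G} (h : Commute (s * u) s) : Commute s u := by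
  have h1 : s * u * s = s * (s * u) := h
  have h2 : u * s = s * u := by
    apply mul_left_cancel (a := s)
    rw [← mul_assoc]; exact h1
  exact h2.symm

omit [Finite G] in
/-- if `u` commutes with `s * u` then `s, u` commute -/
theorem f2_commute_of_right {s u : G} (h : Commute (s * u) u) : Commute s u := by
  have h1 : s * u * u = u * (s * u) := h
  have h2 : s * u = u * s := by
    apply mul_right_cancel (b := u)
    rw [h1, mul_assoc]
  exact h2

/-- (F2a) [ABSTRACT] non-commuting involutions with `s * u` of order `3 ^ b`: exactly one common neighbour.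
`y = s * u`, `b ≥ 1` (else `s = u`), `z` from `hζ y`.  `s y s⁻¹ = u s = y⁻¹ ∈ zpowers y`, same for `u`, so `z` commutes with `s, u`;
`z ≠ s` (`z` commutes with `y = s u` [take `g = y` in the first clause], so `z = s` would make `s, u` commute), same for `u`.
Uniqueness: a common neighbour `v` commutes with `y`, so `v = z` by the second clause. -/
theorem common_of_odd
    (hζ : ∀ y : G, (∃ b : ℕ, 1 ≤ b ∧ orderOf y = 3 ^ b) → ∃ z : G, orderOf z = 2 ∧
      (∀ g : G, g * y * g⁻¹ ∈ Subgroup.zpowers y → Commute g z) ∧ (∀ v : G, orderOf v = 2 → Commute v y → v = z))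
    (s u : G) (hs : orderOf s = 2) (hu : orderOf u = 2) (hc : ¬ Commute s u) (b : ℕ) (hb : orderOf (s * u) = 3 ^ b) :
    ∃! v : G, orderOf v = 2 ∧ (v ≠ s ∧ Commute v s) ∧ (v ≠ u ∧ Commute v u) := by
  have hb1 : 1 ≤ b := by
    rcases Nat.eq_zero_or_pos b with h0 | h0
    · exfalso
      rw [h0, pow_zero, orderOf_eq_one_iff] at hb
      have : s = u := f1_eq_of_mul_eq_one hu hb
      exact hc (this ▸ Commute.refl s)
    · exact h0
  obtain ⟨z, hz, hz1, hz2⟩ := hζ (s * u) ⟨b, hb1, hb⟩
  have hinvmem : (s * u)⁻¹ ∈ Subgroup.zpowers (s * u) :=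
    Subgroup.inv_mem _ (Subgroup.mem_zpowers _)
  have hsz : Commute s z := hz1 s (by rw [f2_conj_left hs hu]; exact hinvmem)
  have huz : Commute u z := hz1 u (by rw [f2_conj_right hs hu]; exact hinvmem)
  have hyz : Commute (s * u) z := hz1 (s * u) (by
    rw [mul_inv_cancel_right]; exact Subgroup.mem_zpowers _)
  refine ⟨z, ⟨hz, ⟨?_, hsz.symm⟩, ⟨?_, huz.symm⟩⟩, ?_⟩
  · intro h
    rw [h] at hyz
    exact hc (f2_commute_of_left hyz)
  · intro h
    rw [h] at hyz
    exact hc (f2_commute_of_right hyz)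
  · rintro v ⟨hv, ⟨_, hvcs⟩, ⟨_, hvcu⟩⟩
    exact hz2 v hv (hvcs.mul_right hvcu)

end Cfsg.Agent.Helper41.S4017D
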