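import Mathlib
import Cfsg.Agent.Lib.Helper3.S4017DDefs
import Cfsg.Agent.Lib.Helper60.CYCFR
import Cfsg.Agent.Lib.Helper41.S4017DF1
import Cfsg.Agent.Lib.Helper41.S4017DF2a

/-!
# S4017D (F2b): non-commuting involutions with product of order `2 * 3 ^ b` have exactly one
common neighbour (helper41 for helper3, S4017)
-/

set_option autoImplicit false

namespace Cfsg.Agent.Helper41.S4017D

open Cfsg.Agent.Helper3.S4017

variable {G : Type*} [Group G] [Finite G]

omit [Finite G] in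
/-- an element inverting `c` by conjugation commutes with every involution among the powers of `c` -/
theorem f2b_commute_pow {s c : G} (h : s * c * s⁻¹ = c⁻¹) (k : ℕ) (hk : orderOf (c ^ k) = 2) :
    Commute s (c ^ k) := by
  have h1 : s * c ^ k * s⁻¹ = (c ^ k)⁻¹ := by
    rw [← conj_pow, h, inv_pow]
  rw [f1_inv hk] at h1
  have : s * c ^ k = c ^ k * s := by
    calc s * c ^ k = (s * c ^ k * s⁻¹) * s := by rw [inv_mul_cancel_right]
      _ = c ^ k * s := by rw [h1]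
  exact this

/-- (F2b) [ABSTRACT] non-commuting involutions with `s * u` of order `2 * 3 ^ b`: exactly one common neighbour.
`c = s * u`, `b ≥ 1` (else `c² = 1` and `s, u` commute).  `z₀ = c ^ (3 ^ b)` is an involution, commutes with `s` and `u`
(`s c s⁻¹ = c⁻¹`, so `s z₀ s⁻¹ = z₀⁻¹ = z₀`), `z₀ ≠ s, u` (else `s` or `u` commutes with `c`, so `s, u` commute).
`y = c ^ 2` has order `3 ^ b`, `b ≥ 1`; `z` from `hζ y`; `z₀` commutes with `y`, so `z₀ = z`; a common neighbour `v` commutes with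
`c` hence with `y`, so `v = z = z₀`. -/
theorem common_of_even
    (hζ : ∀ y : G, (∃ b : ℕ, 1 ≤ b ∧ orderOf y = 3 ^ b) → ∃ z : G, orderOf z = 2 ∧
      (∀ g : G, g * y * g⁻¹ ∈ Subgroup.zpowers y → Commute g z) ∧ (∀ v : G, orderOf v = 2 → Commute v y → v = z))
    (s u : G) (hs : orderOf s = 2) (hu : orderOf u = 2) (hc : ¬ Commute s u) (b : ℕ) (hb : orderOf (s * u) = 2 * 3 ^ b) :
    ∃! v : G, orderOf v = 2 ∧ (v ≠ s ∧ Commute v s) ∧ (v ≠ u ∧ Commute v u) := by
  have hb1 : 1 ≤ b := by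
    rcases Nat.eq_zero_or_pos b with h0 | h0
    · exfalso
      rw [h0, pow_zero, mul_one] at hb
      -- `(s u)² = 1` so `s u = u s`
      have h1 : (s * u) * (s * u) = 1 := f1_mul_self hb
      have h2 : s * u = (s * u)⁻¹ := (f1_inv hb).symm
      rw [mul_inv_rev, f1_inv hs, f1_inv hu] at h2
      exact hc h2
    · exact h0
  have h3pos : 0 < 3 ^ b := pow_pos (by norm_num) b
  -- `z₀`
  have hz₀ : orderOf ((s * u) ^ (3 ^ b)) = 2 := by
    rw [orderOf_pow_of_dvd (Nat.pos_iff_ne_zero.1 h3pos) (by rw [hb]; exact Dvd.intro_left 2 rfl), hb]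
    exact Nat.mul_div_cancel 2 h3pos
  have hsz₀ : Commute s ((s * u) ^ (3 ^ b)) := f2b_commute_pow (f2_conj_left hs hu) _ hz₀
  have huz₀ : Commute u ((s * u) ^ (3 ^ b)) := f2b_commute_pow (f2_conj_right hs hu) _ hz₀
  have hcz₀ : Commute (s * u) ((s * u) ^ (3 ^ b)) := Commute.pow_right (Commute.refl _) _
  -- `y = c ^ 2`
  have hy : orderOf ((s * u) ^ 2) = 3 ^ b := by
    rw [orderOf_pow_of_dvd (by norm_num) (by rw [hb]; exact Dvd.intro _ rfl), hb]
    exact Nat.mul_div_cancel_left _ (by norm_num)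
  obtain ⟨z, hz, _, hz2⟩ := hζ ((s * u) ^ 2) ⟨b, hb1, hy⟩
  have hcomm_y : Commute ((s * u) ^ (3 ^ b)) ((s * u) ^ 2) :=
    (Commute.refl (s * u)).pow_pow _ _
  have hz₀z : (s * u) ^ (3 ^ b) = z := hz2 _ hz₀ hcomm_y
  refine ⟨(s * u) ^ (3 ^ b), ⟨hz₀, ⟨?_, hsz₀.symm⟩, ⟨?_, huz₀.symm⟩⟩, ?_⟩
  · intro h
    rw [h] at hcz₀
    exact hc (f2_commute_of_left hcz₀)
  · intro h
    rw [h] at hcz₀
    exact hc (f2_commute_of_right hcz₀)
  · rintro v ⟨hv, ⟨_, hvcs⟩, ⟨_, hvcu⟩⟩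
    rw [hz₀z]
    exact hz2 v hv ((hvcs.mul_right hvcu).pow_right 2)

end Cfsg.Agent.Helper41.S4017D
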