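import Cfsg.Agent.Lib.Helper41.SL2Red1
import Cfsg.Agent.Lib.Helper41.DicksonUse1
import Cfsg.Agent.Lib.Helper98.SL2CT

/-!
# Elements of `SL₂(q)` lying in a unique Sylow subgroup
-/

set_option autoImplicit false

namespace Cfsg.Agent.Helper41

open Matrix

section general

variable {G : Type*} [Group G]

theorem index_two_of_card (K P : Subgroup G) [Finite P] (hKP : K ≤ P)
    (hc : Nat.card P = 2 * Nat.card K) : (K.subgroupOf P).index = 2 := by
  have h1 := Subgroup.card_mul_index (K.subgroupOf P)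
  rw [Nat.card_congr (Subgroup.subgroupOfEquivOfLe hKP).toEquiv, hc] at h1
  have hpos : 0 < Nat.card K := by
    have := Nat.card_pos (α := P)
    omega
  have : Nat.card K * (K.subgroupOf P).index = Nat.card K * 2 := by rw [h1]; ring
  exact Nat.eq_of_mul_eq_mul_left hpos this

theorem mul_mem_iff_of_card (K P : Subgroup G) [Finite P] (hKP : K ≤ P)
    (hc : Nat.card P = 2 * Nat.card K) {a b : G} (ha : a ∈ P) (hb : b ∈ P) :
    a * b ∈ K ↔ (a ∈ K ↔ b ∈ K) := by
  have h := Subgroup.mul_mem_iff_of_index_two (index_two_of_card K P hKP hc)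
    (a := ⟨a, ha⟩) (b := ⟨b, hb⟩)
  simpa [Subgroup.mem_subgroupOf] using h

theorem conj_mem_of_card (K P : Subgroup G) [Finite P] (hKP : K ≤ P)
    (hc : Nat.card P = 2 * Nat.card K) {y x : G} (hy : y ∈ P) (hx : x ∈ K) :
    y * x * y⁻¹ ∈ K := by
  by_cases hyK : y ∈ K
  · exact K.mul_mem (K.mul_mem hyK hx) (K.inv_mem hyK)
  · have h1 : y * x ∉ K := by
      rw [mul_mem_iff_of_card K P hKP hc hy (hKP hx)]
      tauto
    rw [mul_mem_iff_of_card K P hKP hc (P.mul_mem hy (hKP hx)) (P.inv_mem hy)]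
    rw [Subgroup.inv_mem_iff]
    tauto

theorem inv_mul_mem_of_card (K P : Subgroup G) [Finite P] (hKP : K ≤ P)
    (hc : Nat.card P = 2 * Nat.card K) {y y' : G} (hy : y ∈ P) (hy' : y' ∈ P)
    (hyK : y ∉ K) (hy'K : y' ∉ K) : y⁻¹ * y' ∈ K := by
  rw [mul_mem_iff_of_card K P hKP hc (P.inv_mem hy) hy', Subgroup.inv_mem_iff]
  tauto

/-- a generator of a Sylow subgroup lies in a unique Sylow subgroup -/
theorem inUniqueSylow_of_orderOf_eq_card [Finite G] (p : ℕ) [Fact p.Prime] (x : G)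
    (P0 : Sylow p G) (hx : orderOf x = Nat.card P0) : InUniqueSylow p x := by
  refine ⟨⟨_, by rw [hx, Sylow.card_eq_multiplicity]⟩, ?_⟩
  have key : ∀ P : Sylow p G, x ∈ P → (P : Subgroup G) = Subgroup.zpowers x := by
    intro P hP
    have hle : Subgroup.zpowers x ≤ (P : Subgroup G) := by
      rw [Subgroup.zpowers_le]; exact hP
    symm
    apply Subgroup.eq_of_le_of_card_ge hle
    rw [Nat.card_zpowers, hx, Sylow.card_eq_multiplicity, Sylow.card_eq_multiplicity]
  intro P P' hP hP'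
  apply Sylow.ext
  rw [key P hP, key P' hP']

end general

section char

variable {F : Type*} [Field F] [Fintype F] (p : ℕ) [Fact p.Prime] [CharP F p]

theorem sylow_eq_of_upperSL_mem (P : Sylow p (SpecialLinearGroup (Fin 2) F))
    (h : upperSL (1 : F) ∈ P) : P = Cfsg.Agent.Helper5.slUSylow p := by
  obtain ⟨g, rfl⟩ := MulAction.exists_smul_eq (SpecialLinearGroup (Fin 2) F)
    (Cfsg.Agent.Helper5.slUSylow p) P
  have h1 : g⁻¹ * upperSL (1 : F) * g ∈ Cfsg.Agent.Helper5.slU F :=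
    (Cfsg.Agent.Helper5.mem_smul_slUSylow_iff p g _).mp h
  rw [mem_slU_iff_upperUni] at h1
  have h10 : ((g⁻¹ * upperSL (1 : F) * g⁻¹⁻¹ : SpecialLinearGroup (Fin 2) F) :
      Matrix (Fin 2) (Fin 2) F) 1 0 = 0 := by
    rw [inv_inv]; exact h1.2.1
  rw [conj_upperSL_apply] at h10
  have hg' : ((g⁻¹ : SpecialLinearGroup (Fin 2) F) : Matrix (Fin 2) (Fin 2) F) 1 0 = 0 := by
    simpa using h10
  have hg : (g : Matrix (Fin 2) (Fin 2) F) 1 0 = 0 := by
    rw [Matrix.SpecialLinearGroup.coe_inv, Matrix.adjugate_fin_two] at hg'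
    simpa using hg'
  rw [Sylow.smul_eq_iff_mem_normalizer]
  show g ∈ Subgroup.normalizer
    (((Cfsg.Agent.Helper5.slUSylow p : Sylow p (SpecialLinearGroup (Fin 2) F)) :
      Subgroup (SpecialLinearGroup (Fin 2) F)) : Set (SpecialLinearGroup (Fin 2) F))
  rw [Subgroup.mem_normalizer_iff]
  have hmem : ∀ y : SpecialLinearGroup (Fin 2) F,
      y ∈ ((Cfsg.Agent.Helper5.slUSylow p : Sylow p (SpecialLinearGroup (Fin 2) F)) :
        Subgroup (SpecialLinearGroup (Fin 2) F)) ↔ y ∈ upperUni F := by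
    intro y
    rw [← mem_slU_iff_upperUni]
    rfl
  intro y
  rw [hmem, hmem]
  constructor
  · intro hy
    exact upperTri_conj_mem_upperUni g y hg hy
  · intro hy
    have := upperTri_conj_mem_upperUni g⁻¹ _ hg' hy
    rw [inv_inv] at this
    have e : g⁻¹ * (g * y * g⁻¹) * g = y := by group
    rwa [e] at this

/-- in the defining characteristic, `u(1)` lies in a unique Sylow `p`-subgroup -/
theorem inUniqueSylow_upperSL : InUniqueSylow p (upperSL (1 : F)) := by
  refine ⟨⟨1, ?_⟩, ?_⟩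
  · rw [pow_one]
    apply orderOf_eq_prime
    · rw [upperSL_pow, nsmul_eq_mul, mul_one, CharP.cast_eq_zero, upperSL_zero]
    · intro h
      have := congrArg (fun M : SpecialLinearGroup (Fin 2) F => (M : Matrix (Fin 2) (Fin 2) F) 0 1) h
      simp [upperSL] at this
  · intro P P' hP hP'
    rw [sylow_eq_of_upperSL_mem p P hP, sylow_eq_of_upperSL_mem p P' hP']

end char

end Cfsg.Agent.Helper41
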