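import Cfsg.Agent.Lib.Helper41.SL2Red3

/-!
# Sylow `2`-subgroups of `SL₂(q)`, `q` odd: every `2`-element lies in two Sylow subgroups
when neither `q - 1` nor `q + 1` is a power of two
-/

set_option autoImplicit false
set_option linter.unusedSectionVars false

namespace Cfsg.Agent.Helper41

open Matrix

section aux

variable {F : Type*} [Field F]

theorem trace_zero_of_mul_self_eq_neg_one (X : SpecialLinearGroup (Fin 2) F) (h : X * X = -1) :
    (X : Matrix (Fin 2) (Fin 2) F).trace = 0 := by
  have hsq := sq_eq_of_det_one (X : Matrix (Fin 2) (Fin 2) F) X.2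
  have h' : (X : Matrix (Fin 2) (Fin 2) F) ^ 2 = -1 := by
    rw [pow_two, ← Matrix.SpecialLinearGroup.coe_mul, h, Matrix.SpecialLinearGroup.coe_neg,
      Matrix.SpecialLinearGroup.coe_one]
  rw [h'] at hsq
  have h0 : (X : Matrix (Fin 2) (Fin 2) F).trace • (X : Matrix (Fin 2) (Fin 2) F) = 0 := by
    have : (X : Matrix (Fin 2) (Fin 2) F).trace • (X : Matrix (Fin 2) (Fin 2) F) =
        ((X : Matrix (Fin 2) (Fin 2) F).trace • (X : Matrix (Fin 2) (Fin 2) F) - 1) + 1 := by abel
    rw [this, ← hsq]; simp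
  by_contra hne
  have hX : (X : Matrix (Fin 2) (Fin 2) F) = 0 := by
    rcases smul_eq_zero.mp h0 with h1 | h1
    · exact absurd h1 hne
    · exact h1
  have hdet : (X : Matrix (Fin 2) (Fin 2) F).det = 1 := X.2
  rw [hX, Matrix.det_fin_two] at hdet
  simp at hdet

theorem sl2_neg_one_ne_one (h2 : (2 : F) ≠ 0) : (-1 : SpecialLinearGroup (Fin 2) F) ≠ 1 := by
  intro h
  have := congrArg (fun M : SpecialLinearGroup (Fin 2) F => (M : Matrix (Fin 2) (Fin 2) F) 0 0) h
  simp only [Matrix.SpecialLinearGroup.coe_neg, Matrix.SpecialLinearGroup.coe_one,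
    Matrix.neg_apply, Matrix.one_apply_eq] at this
  apply h2
  linear_combination -this

/-- an element of order `4` squares to `-1` -/
theorem sl2_mul_self_eq_neg_one (h2 : (2 : F) ≠ 0) (X : SpecialLinearGroup (Fin 2) F)
    (h4 : X ^ 4 = 1) (hne : X * X ≠ 1) : X * X = -1 := by
  have h : ((X * X : SpecialLinearGroup (Fin 2) F) : Matrix (Fin 2) (Fin 2) F) *
      ((X * X : SpecialLinearGroup (Fin 2) F) : Matrix (Fin 2) (Fin 2) F) = 1 := by
    rw [← Matrix.SpecialLinearGroup.coe_mul, ← Matrix.SpecialLinearGroup.coe_one]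
    congr 1
    rw [← h4, pow_succ, pow_succ, pow_succ, pow_one, mul_assoc, mul_assoc, mul_assoc]
  rcases sl2_eq_one_or_neg_one_of_sq h2 (X * X) h with h1 | h1
  · exfalso
    apply hne
    apply Subtype.ext
    rw [h1, Matrix.SpecialLinearGroup.coe_one]
  · apply Subtype.ext
    rw [h1, Matrix.SpecialLinearGroup.coe_neg, Matrix.SpecialLinearGroup.coe_one]

end aux

section main

variable {F : Type*} [Field F] [Fintype F] (p : ℕ) [Fact p.Prime] [CharP F p]
  (hp2 : p ≠ 2) (t : SpecialLinearGroup (Fin 2) F) (a m' : ℕ) (ha : 2 ≤ a) (hm' : Odd m')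
  (hm'1 : 1 < m') (hord : orderOf t = 2 ^ a * m')
  (hm : 2 ^ a * m' = Fintype.card F - 1 ∨ 2 ^ a * m' = Fintype.card F + 1)

include hp2 ha hm' hm'1 hord hm in
/-- no Sylow `2`-subgroup centralizes a power of `t` of order `> 2` -/
theorem no_sylow_centralizes (c : SpecialLinearGroup (Fin 2) F) (hc : c ∈ Subgroup.zpowers t)
    (hc2 : c * c ≠ 1) (P : Sylow 2 (SpecialLinearGroup (Fin 2) F))
    (hP : ∀ y ∈ P, y * c = c * y) : False := by
  have htr := trace_sq_ne_four_of_mem_zpowers p t (by rw [hord]; exact hm) c hc hc2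
  have hPC : (P : Subgroup (SpecialLinearGroup (Fin 2) F)) ≤
      Subgroup.centralizer ({c} : Set (SpecialLinearGroup (Fin 2) F)) := by
    intro y hy
    rw [Subgroup.mem_centralizer_singleton_iff]
    exact hP y hy
  have hTC : Subgroup.zpowers t ≤
      Subgroup.centralizer ({c} : Set (SpecialLinearGroup (Fin 2) F)) := by
    intro y hy
    rw [Subgroup.mem_centralizer_singleton_iff]
    exact commute_of_mem_zpowers t y c hy hc
  have h1 := Subgroup.card_dvd_of_le hPC
  have h2 := Subgroup.card_dvd_of_le hTC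
  have hcardP : Nat.card (P : Subgroup (SpecialLinearGroup (Fin 2) F)) = 2 ^ (a + 1) :=
    sl2_card_sylow_two p hp2 a m' ha hm' hm P
  rw [hcardP] at h1
  rw [Nat.card_zpowers, hord] at h2
  have h3 : m' ∣ Nat.card (Subgroup.centralizer ({c} : Set (SpecialLinearGroup (Fin 2) F))) :=
    dvd_trans (dvd_mul_left _ _) h2
  have hcop : Nat.Coprime (2 ^ (a + 1)) m' :=
    Nat.Coprime.pow_left _ (Nat.coprime_two_left.mpr hm')
  have h4 := Nat.Coprime.mul_dvd_of_dvd_of_dvd hcop h1 h3
  have hq2 : 2 ≤ Fintype.card F := Fintype.one_lt_card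
  have hm12 : 12 ≤ 2 ^ a * m' := by
    have h4a : 4 ≤ 2 ^ a := by
      calc 4 = 2 ^ 2 := by norm_num
        _ ≤ 2 ^ a := Nat.pow_le_pow_right (by norm_num) ha
    have h3m : 3 ≤ m' := by
      obtain ⟨j, hj⟩ := hm'
      omega
    calc 12 = 4 * 3 := by norm_num
      _ ≤ 2 ^ a * m' := Nat.mul_le_mul h4a h3m
  have e : 2 ^ (a + 1) * m' = 2 * (2 ^ a * m') := by ring
  rw [e] at h4
  have hpos : 0 < Nat.card (Subgroup.centralizer ({c} : Set (SpecialLinearGroup (Fin 2) F))) :=
    Nat.card_pos
  have hle := Nat.le_of_dvd hpos h4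
  rcases sl2_card_centralizer c htr with h | h <;> rcases hm with hm | hm <;> omega

include hp2 ha hm' hm'1 hord hm in
/-- every element of the Sylow `2`-subgroup of the torus `⟨t⟩` lies in two Sylow `2`-subgroups -/
theorem two_sylow_of_mem (x : SpecialLinearGroup (Fin 2) F)
    (hx : x ∈ Subgroup.zpowers (t ^ m')) :
    ∃ P P' : Sylow 2 (SpecialLinearGroup (Fin 2) F), P ≠ P' ∧ x ∈ P ∧ x ∈ P' := by
  have hm'0 : m' ≠ 0 := by omega
  obtain ⟨K, hK⟩ : ∃ K : Subgroup (SpecialLinearGroup (Fin 2) F),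
      K = Subgroup.zpowers (t ^ m') := ⟨_, rfl⟩
  have hcardK : Nat.card K = 2 ^ a := by
    rw [hK, Nat.card_zpowers, orderOf_pow_of_dvd hm'0 (by rw [hord]; exact dvd_mul_left _ _), hord,
      Nat.mul_div_cancel _ (by omega)]
  have hKt : K ≤ Subgroup.zpowers t := by
    rw [hK, Subgroup.zpowers_le]
    exact Subgroup.pow_mem _ (Subgroup.mem_zpowers t) _
  have hKp : IsPGroup 2 K := IsPGroup.of_card hcardK
  obtain ⟨P, hKP⟩ := hKp.exists_le_sylow
  have hxK : x ∈ K := by rw [hK]; exact hx
  obtain ⟨s, hs⟩ : ∃ s : SpecialLinearGroup (Fin 2) F, s = t ^ 2 ^ a := ⟨_, rfl⟩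
  have hst : s ∈ Subgroup.zpowers t := by
    rw [hs]; exact Subgroup.pow_mem _ (Subgroup.mem_zpowers t) _
  have hsord : orderOf s = m' := by
    rw [hs, orderOf_pow_of_dvd (by positivity) (by rw [hord]; exact dvd_mul_right _ _), hord,
      Nat.mul_div_cancel_left _ (by positivity)]
  have hs2 : s * s ≠ 1 := by
    intro h
    have := orderOf_dvd_of_pow_eq_one (show s ^ 2 = 1 by rw [pow_two]; exact h)
    rw [hsord] at this
    have h2 := Nat.le_of_dvd (by norm_num) this
    obtain ⟨j, hj⟩ := hm'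
    omega
  have hxs : s * x * s⁻¹ = x := by
    rw [commute_of_mem_zpowers t s x hst (hKt hxK), mul_assoc, mul_inv_cancel, mul_one]
  by_cases h : s • P = P
  · exfalso
    apply no_sylow_centralizes p hp2 t a m' ha hm' hm'1 hord hm s hst hs2 P
    have hcardP : Nat.card (P : Subgroup (SpecialLinearGroup (Fin 2) F)) = 2 * Nat.card K := by
      rw [hcardK, sl2_card_sylow_two p hp2 a m' ha hm' hm P, pow_succ, mul_comm]
    have hconjP : ∀ y ∈ P, s * y * s⁻¹ ∈ P := by
      intro y hy
      have := conj_mem_smul_sylow s y P hy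
      rwa [h] at this
    intro y hy
    by_cases hyK : y ∈ K
    · exact commute_of_mem_zpowers t y s (hKt hyK) hst
    · have hsy := hconjP y hy
      have hsyK : s * y * s⁻¹ ∉ K := by
        intro hmem
        apply hyK
        have hc := commute_of_mem_zpowers t (s * y * s⁻¹) s (hKt hmem) hst
        have e : y = s⁻¹ * (s * y * s⁻¹ * s) := by group
        rw [e, hc]
        have e2 : s⁻¹ * (s * (s * y * s⁻¹)) = s * y * s⁻¹ := by group
        rw [e2]; exact hmem
      obtain ⟨c, hcdef⟩ : ∃ c : SpecialLinearGroup (Fin 2) F, c = y⁻¹ * (s * y * s⁻¹) := ⟨_, rfl⟩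
      have hcK : c ∈ K := by
        rw [hcdef]
        exact inv_mul_mem_of_card K (P : Subgroup (SpecialLinearGroup (Fin 2) F)) hKP hcardP hy hsy
          hyK hsyK
      have hcs : c * s = s * c := commute_of_mem_zpowers t c s (hKt hcK) hst
      have hsyc : s * y * s⁻¹ = y * c := by rw [hcdef]; group
      have hpow : ∀ j : ℕ, s ^ j * y * (s ^ j)⁻¹ = y * c ^ j := by
        intro j
        induction j with
        | zero => simp
        | succ j ih =>
          have hcj : s * c ^ j * s⁻¹ = c ^ j := by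
            have : Commute s (c ^ j) := (Commute.pow_right (show Commute s c from hcs.symm) j)
            rw [this.eq, mul_assoc, mul_inv_cancel, mul_one]
          calc s ^ (j + 1) * y * (s ^ (j + 1))⁻¹ = s * (s ^ j * y * (s ^ j)⁻¹) * s⁻¹ := by
                rw [pow_succ']; group
            _ = s * (y * c ^ j) * s⁻¹ := by rw [ih]
            _ = (s * y * s⁻¹) * (s * c ^ j * s⁻¹) := by group
            _ = y * c ^ (j + 1) := by rw [hsyc, hcj, pow_succ', mul_assoc]
      have h1 := hpow m'
      rw [← hsord, pow_orderOf_eq_one, one_mul, inv_one, mul_one] at h1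
      have hcm : c ^ orderOf s = 1 := by
        have := congrArg (y⁻¹ * ·) h1
        simpa using this.symm
      have hc2a : c ^ 2 ^ a = 1 := by
        have : (⟨c, hcK⟩ : K) ^ Nat.card K = 1 := pow_card_eq_one'
        rw [hcardK] at this
        have := congrArg Subtype.val this
        simpa using this
      have hc1 : c = 1 := by
        have := pow_gcd_eq_one.mpr ⟨hcm, hc2a⟩
        rw [hsord, Nat.Coprime.gcd_eq_one
          (Nat.Coprime.pow_right _ (Nat.coprime_two_right.mpr hm')), pow_one] at this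
        exact this
      rw [hc1, mul_one] at hsyc
      have := congrArg (· * s) hsyc
      simpa [mul_assoc] using this.symm
  · refine ⟨s • P, P, h, ?_, hKP hxK⟩
    have := conj_mem_smul_sylow s x P (hKP hxK)
    rwa [hxs] at this

end main

end Cfsg.Agent.Helper41
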