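import Cfsg.Agent.Lib.Helper41.SL2Red4

/-!
# Sylow `2`-subgroups of `SL₂(q)`, `q` odd: every `2`-element is conjugate into the torus
-/

set_option autoImplicit false
set_option linter.unusedSectionVars false

namespace Cfsg.Agent.Helper41

open Matrix

section main

variable {F : Type*} [Field F] [Fintype F] (p : ℕ) [Fact p.Prime] [CharP F p]
  (hp2 : p ≠ 2) (t : SpecialLinearGroup (Fin 2) F) (a m' : ℕ) (ha : 2 ≤ a) (hm' : Odd m')
  (hm'1 : 1 < m') (hord : orderOf t = 2 ^ a * m')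
  (hm : 2 ^ a * m' = Fintype.card F - 1 ∨ 2 ^ a * m' = Fintype.card F + 1)

include hp2 ha hm' hm'1 hord hm in
/-- every `2`-element is conjugate to an element of the Sylow `2`-subgroup of the torus `⟨t⟩` -/
theorem exists_conj_mem_torus (x : SpecialLinearGroup (Fin 2) F)
    (hx : ∃ k : ℕ, orderOf x = 2 ^ k) :
    ∃ g : SpecialLinearGroup (Fin 2) F, g * x * g⁻¹ ∈ Subgroup.zpowers (t ^ m') := by
  have h2 : (2 : F) ≠ 0 := two_ne_zero_of_char p hp2
  have hm'0 : m' ≠ 0 := by omega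
  obtain ⟨K, hK⟩ : ∃ K : Subgroup (SpecialLinearGroup (Fin 2) F),
      K = Subgroup.zpowers (t ^ m') := ⟨_, rfl⟩
  rw [← hK]
  have hcardK : Nat.card K = 2 ^ a := by
    rw [hK, Nat.card_zpowers, orderOf_pow_of_dvd hm'0 (by rw [hord]; exact dvd_mul_left _ _), hord,
      Nat.mul_div_cancel _ (by omega)]
  have hKt : K ≤ Subgroup.zpowers t := by
    rw [hK, Subgroup.zpowers_le]
    exact Subgroup.pow_mem _ (Subgroup.mem_zpowers t) _
  have hKp : IsPGroup 2 K := IsPGroup.of_card hcardK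
  obtain ⟨P0, hKP⟩ := hKp.exists_le_sylow
  have hcardP : Nat.card (P0 : Subgroup (SpecialLinearGroup (Fin 2) F)) = 2 * Nat.card K := by
    rw [hcardK, sl2_card_sylow_two p hp2 a m' ha hm' hm P0, pow_succ, mul_comm]
  -- the element of order 4
  obtain ⟨b, rfl⟩ : ∃ b, a = b + 2 := ⟨a - 2, by omega⟩
  obtain ⟨t4, ht4⟩ : ∃ t4 : SpecialLinearGroup (Fin 2) F, t4 = t ^ (2 ^ b * m') := ⟨_, rfl⟩
  have ht4K : t4 ∈ K := by
    rw [hK, ht4, mul_comm, pow_mul]
    exact Subgroup.pow_mem _ (Subgroup.mem_zpowers _) _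
  have ht4ord : orderOf t4 = 4 := by
    rw [ht4, orderOf_pow_of_dvd (by positivity) (by
      rw [hord]; exact ⟨4, by ring⟩), hord]
    have e : 2 ^ (b + 2) * m' = 4 * (2 ^ b * m') := by ring
    rw [e, Nat.mul_div_cancel _ (by positivity)]
  have ht44 : t4 ^ 4 = 1 := by rw [← ht4ord, pow_orderOf_eq_one]
  have ht42 : t4 * t4 ≠ 1 := by
    intro h
    have := orderOf_dvd_of_pow_eq_one (show t4 ^ 2 = 1 by rw [pow_two]; exact h)
    rw [ht4ord] at this
    have := Nat.le_of_dvd (by norm_num) this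
    omega
  have hsq : t4 * t4 = -1 := sl2_mul_self_eq_neg_one h2 t4 ht44 ht42
  have htr4 : (t4 : Matrix (Fin 2) (Fin 2) F).trace = 0 := trace_zero_of_mul_self_eq_neg_one t4 hsq
  have h4ne : (4 : F) ≠ 0 := by
    have : (4 : F) = 2 * 2 := by norm_num
    rw [this]; exact mul_ne_zero h2 h2
  have htr4' : (t4 : Matrix (Fin 2) (Fin 2) F).trace ^ 2 ≠ 4 := by
    rw [htr4]; intro h; apply h4ne; rw [← h]; ring
  -- conjugate `x` into `P0`
  obtain ⟨P1, hP1⟩ := exists_sylow_mem 2 x hx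
  obtain ⟨g, hg⟩ := MulAction.exists_smul_eq (SpecialLinearGroup (Fin 2) F) P1 P0
  have hx0 : g * x * g⁻¹ ∈ P0 := by
    rw [← hg]; exact conj_mem_smul_sylow g x P1 hP1
  by_cases hx0K : g * x * g⁻¹ ∈ K
  · exact ⟨g, hx0K⟩
  obtain ⟨x0, hx0def⟩ : ∃ x0 : SpecialLinearGroup (Fin 2) F, x0 = g * x * g⁻¹ := ⟨_, rfl⟩
  rw [← hx0def] at hx0 hx0K
  have hw : x0 * t4 * x0⁻¹ ∈ K :=
    conj_mem_of_card K (P0 : Subgroup (SpecialLinearGroup (Fin 2) F)) hKP hcardP hx0 ht4K
  have hcomm : x0 * t4 * x0⁻¹ * t4 = t4 * (x0 * t4 * x0⁻¹) :=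
    commute_of_mem_zpowers t _ _ (hKt hw) (hKt ht4K)
  rcases Cfsg.Agent.Helper98.SL2CT.eq_or_eq_inv_of_commute_trace' t4 (x0 * t4 * x0⁻¹) hcomm
    (sl2_trace_conj x0 t4) htr4' with h | h
  · -- `x0` centralizes `t4`: then the whole of `P0` does
    exfalso
    have hx0c : x0 * t4 = t4 * x0 := by
      have := congrArg (· * x0) h
      simpa [mul_assoc] using this
    apply no_sylow_centralizes p hp2 t (b + 2) m' ha hm' hm'1 hord hm t4 (hKt ht4K) ht42 P0
    intro y hy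
    by_cases hyK : y ∈ K
    · exact commute_of_mem_zpowers t y t4 (hKt hyK) (hKt ht4K)
    · have hmem : x0⁻¹ * y ∈ K :=
        inv_mul_mem_of_card K (P0 : Subgroup (SpecialLinearGroup (Fin 2) F)) hKP hcardP hx0 hy
          hx0K hyK
      have hc2 := commute_of_mem_zpowers t (x0⁻¹ * y) t4 (hKt hmem) (hKt ht4K)
      have e : y = x0 * (x0⁻¹ * y) := by group
      rw [e, mul_assoc, hc2, ← mul_assoc, hx0c, mul_assoc]
  · -- `x0` inverts `t4`: then `x0` has trace zero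
    have hinv : t4⁻¹ = -t4 := by
      rw [inv_eq_iff_eq_inv, ← mul_eq_one_iff_eq_inv]
      rw [mul_neg, hsq, neg_neg]
    have hanti : (x0 : Matrix (Fin 2) (Fin 2) F) * (t4 : Matrix (Fin 2) (Fin 2) F) =
        -((t4 : Matrix (Fin 2) (Fin 2) F) * (x0 : Matrix (Fin 2) (Fin 2) F)) := by
      have h1 : x0 * t4 = -t4 * x0 := by
        have := congrArg (· * x0) h
        simp only [mul_assoc, inv_mul_cancel, mul_one] at this
        rw [this, hinv]
      have := congrArg (fun M : SpecialLinearGroup (Fin 2) F => (M : Matrix (Fin 2) (Fin 2) F)) h1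
      simpa [Matrix.SpecialLinearGroup.coe_mul, Matrix.SpecialLinearGroup.coe_neg] using this
    have htr0 := (trace_zero_of_anticomm h2 (t4 : Matrix (Fin 2) (Fin 2) F)
      (x0 : Matrix (Fin 2) (Fin 2) F) t4.2 hanti).1
    have htr0' : (x0 : Matrix (Fin 2) (Fin 2) F).trace ^ 2 ≠ 4 := by
      rw [htr0]; intro h; apply h4ne; rw [← h]; ring
    obtain ⟨U, hU⟩ := sl2_exists_conj_of_trace_eq x0 t4 (by rw [htr0, htr4]) htr0'
    refine ⟨U * g, ?_⟩
    have e : U * g * x * (U * g)⁻¹ = U * x0 * U⁻¹ := by rw [hx0def]; group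
    rw [e, hU]
    exact ht4K

include hp2 ha hm' hm'1 hord hm in
/-- if neither `q - 1` nor `q + 1` is a power of two, no `2`-element of `SL₂(q)` lies in a
unique Sylow `2`-subgroup -/
theorem not_inUniqueSylow_two (x : SpecialLinearGroup (Fin 2) F) : ¬ InUniqueSylow 2 x := by
  intro hx
  obtain ⟨g, hg⟩ := exists_conj_mem_torus p hp2 t a m' ha hm' hm'1 hord hm x hx.1
  obtain ⟨P, P', hne, hP, hP'⟩ := two_sylow_of_mem p hp2 t a m' ha hm' hm'1 hord hm _ hg
  exact hne ((hx.conj g).2 P P' hP hP')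

end main

end Cfsg.Agent.Helper41
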