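import Cfsg.Agent.Lib.Helper41.SL2Red5

/-!
# Elements of `SL₂(q)` in a unique Sylow `p`-subgroup: the final criterion
-/

set_option autoImplicit false
set_option linter.unusedSectionVars false

namespace Cfsg.Agent.Helper41

open Matrix

section final

variable {F : Type*} [Field F] [Fintype F]

/-- cyclic Sylow subgroups: `p` odd, different from the characteristic -/
theorem sl2_exists_inUniqueSylow_odd (ch : ℕ) [Fact ch.Prime] [CharP F ch] (p : ℕ) [Fact p.Prime]
    (hpch : p ≠ ch) (hp2 : p ≠ 2) : ∃ x : SpecialLinearGroup (Fin 2) F, InUniqueSylow p x := by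
  classical
  have hp : p.Prime := Fact.out
  have hch : ch.Prime := Fact.out
  obtain ⟨P0⟩ : Nonempty (Sylow p (SpecialLinearGroup (Fin 2) F)) := inferInstance
  obtain ⟨n, hn⟩ : ∃ n : ℕ, Nat.card P0 = p ^ n := ⟨_, Sylow.card_eq_multiplicity P0⟩
  obtain ⟨q, hq⟩ : ∃ q : ℕ, q = Fintype.card F := ⟨_, rfl⟩
  have hq2 : 2 ≤ q := by rw [hq]; exact Fintype.one_lt_card
  have hdvd : p ^ n ∣ q * (q - 1) * (q + 1) := by
    rw [← hn, hq, ← card_sl2]
    exact Subgroup.card_subgroup_dvd_card _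
  have hpq : ¬ p ∣ q := by
    intro h
    obtain ⟨k, -, hk⟩ := FiniteField.card F ch
    rw [hq, hk] at h
    have := hp.dvd_of_dvd_pow h
    exact hpch ((Nat.prime_dvd_prime_iff_eq hp hch).mp this)
  have hcopq : Nat.Coprime (p ^ n) q :=
    Nat.Coprime.pow_left _ ((Nat.Prime.coprime_iff_not_dvd hp).mpr hpq)
  have hdvd2 : p ^ n ∣ (q - 1) * (q + 1) := by
    rw [mul_assoc] at hdvd
    exact hcopq.dvd_of_dvd_mul_left hdvd
  have hcases : p ^ n ∣ q - 1 ∨ p ^ n ∣ q + 1 := by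
    by_cases h1 : p ∣ q + 1
    · right
      have h2 : ¬ p ∣ q - 1 := by
        intro h2
        have h3 := Nat.dvd_sub h1 h2
        have e : q + 1 - (q - 1) = 2 := by omega
        rw [e] at h3
        exact hp2 ((Nat.prime_dvd_prime_iff_eq hp Nat.prime_two).mp h3)
      have hcop : Nat.Coprime (p ^ n) (q - 1) :=
        Nat.Coprime.pow_left _ ((Nat.Prime.coprime_iff_not_dvd hp).mpr h2)
      exact hcop.dvd_of_dvd_mul_left hdvd2
    · left
      have hcop : Nat.Coprime (p ^ n) (q + 1) :=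
        Nat.Coprime.pow_left _ ((Nat.Prime.coprime_iff_not_dvd hp).mpr h1)
      exact hcop.dvd_of_dvd_mul_right hdvd2
  -- an element `t` of order `m` with `p ^ n ∣ m`
  obtain ⟨m, t, hm0, hmdvd, ht⟩ : ∃ (m : ℕ) (t : SpecialLinearGroup (Fin 2) F),
      m ≠ 0 ∧ p ^ n ∣ m ∧ orderOf t = m := by
    rcases hcases with h | h
    · obtain ⟨t, ht⟩ := sl2_exists_orderOf_sub_one (F := F)
      exact ⟨q - 1, t, by omega, h, by rw [ht, hq]⟩
    · obtain ⟨t, ht⟩ := sl2_exists_orderOf_add_one (F := F)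
      exact ⟨q + 1, t, by omega, h, by rw [ht, hq]⟩
  refine ⟨t ^ (m / p ^ n), inUniqueSylow_of_orderOf_eq_card p _ P0 ?_⟩
  have hpn : 0 < p ^ n := pow_pos hp.pos n
  have hdiv0 : m / p ^ n ≠ 0 := by
    have := Nat.div_pos (Nat.le_of_dvd (Nat.pos_of_ne_zero hm0) hmdvd) hpn
    omega
  rw [orderOf_pow_of_dvd hdiv0 (by rw [ht]; exact Nat.div_dvd_of_dvd hmdvd), ht, hn]
  exact Nat.div_div_self hmdvd hm0

/-- the case `p = 2`, `q` odd with `q - 1` or `q + 1` a power of two -/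
theorem sl2_exists_inUniqueSylow_two (ch : ℕ) [Fact ch.Prime] [CharP F ch] (hch2 : ch ≠ 2)
    (h : (∃ k : ℕ, Fintype.card F + 1 = 2 ^ k) ∨ (∃ k : ℕ, Fintype.card F = 2 ^ k + 1)) :
    ∃ x : SpecialLinearGroup (Fin 2) F, InUniqueSylow 2 x := by
  have hodd := odd_card_of_char_ne_two (F := F) ch hch2
  have hq2 : 2 ≤ Fintype.card F := Fintype.one_lt_card
  have hq3 : 3 ≤ Fintype.card F := by
    obtain ⟨j, hj⟩ := hodd
    omega
  -- reduce to `2 ^ k = q ∓ 1` with `k ≥ 2`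
  have key : ∃ k : ℕ, 2 ≤ k ∧ (2 ^ k = Fintype.card F - 1 ∨ 2 ^ k = Fintype.card F + 1) := by
    rcases h with ⟨k, hk⟩ | ⟨k, hk⟩
    · refine ⟨k, ?_, Or.inr hk.symm⟩
      by_contra hlt
      have : k = 0 ∨ k = 1 := by omega
      rcases this with rfl | rfl <;> simp at hk <;> omega
    · by_cases hk2 : 2 ≤ k
      · exact ⟨k, hk2, Or.inl (by omega)⟩
      · have : k = 0 ∨ k = 1 := by omega
        rcases this with rfl | rfl
        · simp at hk; omega
        · refine ⟨2, le_refl _, Or.inr ?_⟩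
          simp at hk; omega
  obtain ⟨k, hk2, hk⟩ := key
  obtain ⟨t, ht⟩ : ∃ t : SpecialLinearGroup (Fin 2) F, orderOf t = 2 ^ k := by
    rcases hk with h | h
    · obtain ⟨t, ht⟩ := sl2_exists_orderOf_sub_one (F := F)
      exact ⟨t, by rw [ht, h]⟩
    · obtain ⟨t, ht⟩ := sl2_exists_orderOf_add_one (F := F)
      exact ⟨t, by rw [ht, h]⟩
  exact ⟨t, inUniqueSylow_of_two_pow ch hch2 k hk2 hk t ht⟩

/-- the case `p = 2`, `q` odd with neither `q - 1` nor `q + 1` a power of two -/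
theorem sl2_not_inUniqueSylow_two (ch : ℕ) [Fact ch.Prime] [CharP F ch] (hch2 : ch ≠ 2)
    (h1 : ¬ ∃ k : ℕ, Fintype.card F + 1 = 2 ^ k) (h3 : ¬ ∃ k : ℕ, Fintype.card F = 2 ^ k + 1)
    (x : SpecialLinearGroup (Fin 2) F) : ¬ InUniqueSylow 2 x := by
  have hodd := odd_card_of_char_ne_two (F := F) ch hch2
  have hq2 : 2 ≤ Fintype.card F := Fintype.one_lt_card
  -- choose `m = q ∓ 1` divisible by `4`
  obtain ⟨m, t, hm4, hmq, ht⟩ : ∃ (m : ℕ) (t : SpecialLinearGroup (Fin 2) F),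
      4 ∣ m ∧ (m = Fintype.card F - 1 ∨ m = Fintype.card F + 1) ∧ orderOf t = m := by
    have : Fintype.card F % 4 = 1 ∨ Fintype.card F % 4 = 3 := by
      obtain ⟨j, hj⟩ := hodd
      omega
    rcases this with h | h
    · obtain ⟨t, ht⟩ := sl2_exists_orderOf_sub_one (F := F)
      exact ⟨_, t, by omega, Or.inl rfl, ht⟩
    · obtain ⟨t, ht⟩ := sl2_exists_orderOf_add_one (F := F)
      exact ⟨_, t, by omega, Or.inr rfl, ht⟩
  have hm0 : m ≠ 0 := by rcases hmq with h | h <;> omega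
  obtain ⟨a, m', hm'odd, hm⟩ := Nat.exists_eq_two_pow_mul_odd hm0
  have ha : 2 ≤ a := by
    by_contra hlt
    have : a = 0 ∨ a = 1 := by omega
    obtain ⟨j, hj⟩ := hm'odd
    rcases this with rfl | rfl
    · rw [pow_zero, one_mul] at hm
      omega
    · rw [pow_one] at hm
      omega
  have hm'1 : 1 < m' := by
    by_contra hle
    have hm'1 : m' = 1 := by
      obtain ⟨j, hj⟩ := hm'odd
      omega
    rw [hm'1, mul_one] at hm
    rcases hmq with h | h
    · exact h3 ⟨a, by omega⟩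
    · exact h1 ⟨a, by omega⟩
  exact not_inUniqueSylow_two ch hch2 t a m' ha hm'odd hm'1 (by rw [ht, hm])
    (by rw [← hm]; exact hmq) x

/-- **criterion**: `SL₂(q)` has a `p`-element lying in a unique Sylow `p`-subgroup unless
`p = 2` and none of `q - 1`, `q`, `q + 1` is a power of two -/
theorem sl2_exists_inUniqueSylow_iff (p : ℕ) [Fact p.Prime] :
    (∃ x : SpecialLinearGroup (Fin 2) F, InUniqueSylow p x) ↔
      ¬ (p = 2 ∧ (¬ ∃ k : ℕ, Fintype.card F + 1 = 2 ^ k) ∧ (¬ ∃ k : ℕ, Fintype.card F = 2 ^ k) ∧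
        ¬ ∃ k : ℕ, Fintype.card F = 2 ^ k + 1) := by
  obtain ⟨ch, hchar⟩ := CharP.exists F
  have hch : ch.Prime := CharP.char_is_prime F ch
  have : Fact ch.Prime := ⟨hch⟩
  constructor
  · rintro ⟨x, hx⟩ ⟨rfl, h1, h2, h3⟩
    have hch2 : ch ≠ 2 := by
      rintro rfl
      obtain ⟨k, -, hk⟩ := FiniteField.card F 2
      exact h2 ⟨k, hk⟩
    exact sl2_not_inUniqueSylow_two ch hch2 h1 h3 x hx
  · intro hcond
    by_cases hpch : p = ch
    · subst hpch
      exact ⟨upperSL 1, inUniqueSylow_upperSL p⟩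
    by_cases hp2 : p = 2
    · subst hp2
      have hch2 : ch ≠ 2 := fun h => hpch h.symm
      apply sl2_exists_inUniqueSylow_two ch hch2
      by_contra hcon
      push Not at hcon
      apply hcond
      refine ⟨rfl, ?_, ?_, ?_⟩
      · rintro ⟨k, hk⟩; exact hcon.1 k hk
      · rintro ⟨k, hk⟩
        obtain ⟨n, -, hn⟩ := FiniteField.card F ch
        have hd : ch ∣ 2 ^ k := by
          rw [← hk, hn]; exact dvd_pow_self ch n.ne_zero
        have := hch.dvd_of_dvd_pow hd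
        exact hch2 ((Nat.prime_dvd_prime_iff_eq hch Nat.prime_two).mp this)
      · rintro ⟨k, hk⟩; exact hcon.2 k hk
    · exact sl2_exists_inUniqueSylow_odd ch p hpch hp2

end final

end Cfsg.Agent.Helper41
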