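import Mathlib
import Cfsg.Agent.Lib.Helper2.SS0
import Cfsg.Agent.Lib.Helper2.SRC0
import Cfsg.Agent.Lib.Helper41.SSY3

/-!
# SS project (S2411, helper2 server): piece (Y4) `y_d` (helper41)
-/

set_option autoImplicit false

namespace Cfsg.Agent.Helper41.SS

open Matrix Cfsg Cfsg.Agent.Helper13 Cfsg.Agent.Helper84.SpRoot Cfsg.Agent.Helper5.SpAut
open Cfsg.Agent.Helper2.SR Cfsg.Agent.Helper2.SS

section Y
variable {F : Type*} [Field F] {m : ℕ}

/-- `d = (1 - αβ) e_1 + αβ e_0 - β w'` -/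
theorem h41_dV_eq (α β ξ : F) :
    dV (m := m) α β ξ = (1 - α * β) • be 1 + (α * β) • be 0 - β • wpV (m := m) ξ := by
  rw [dV, wpV]
  module

/-- `ω(d, w') = αβ - 1` -/
theorem h41_d_wp (α β ξ : F) :
    Cfsg.sympForm (m + 2) F (dV (m := m) α β ξ) (wpV (m := m) ξ) = α * β - 1 := by
  rw [h41_dV_eq, sympForm_sub_left, sympForm_add_left, sympForm_smul_left, sympForm_smul_left,
    sympForm_smul_left, h41_wp_e1, h41_wp_e0, sympForm_self]
  ring

/-- `ω(d, w) = -β` -/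
theorem h41_d_w (α β ξ : F) :
    Cfsg.sympForm (m + 2) F (dV (m := m) α β ξ) (wV (m := m)) = -β := by
  rw [h41_dV_eq, sympForm_sub_left, sympForm_add_left, sympForm_smul_left, sympForm_smul_left,
    sympForm_smul_left, h41_w_e1, h41_w_e0, h41_wp_w]
  ring

/-- `y d = d + β(αβ-1) w' + αβ(αβ-2) w` -/
theorem h41_y_d (α β ξ : F) :
    (yEl (m := m) α β ξ).val *ᵥ dV α β ξ =
      dV α β ξ + (β * (α * β - 1)) • wpV (m := m) ξ + (α * (β * (α * β - 2))) • wV (m := m) := by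
  rw [yEl, mul_act, sympT_act (wpV ξ) β, h41_d_wp, sympT_act, sympForm_add_left,
    sympForm_smul_left, h41_d_w, h41_wp_w]
  congr 2
  ring

/-- (Y4) -/
theorem y_d (α β ξ t : F) (ht : α * β = 2 - t) :
    (yEl (m := m) α β ξ).val *ᵥ dV α β ξ = t • dV α β ξ - be 1 + (2 - t) • be 0 := by
  obtain rfl : t = 2 - α * β := by linear_combination ht
  rw [h41_y_d, h41_dV_eq, wV]
  module

end Y

end Cfsg.Agent.Helper41.SS
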