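import Mathlib
import Cfsg.Agent.Lib.Helper16.SUOC0

/-!
# SUOC server (S2282, helper16): pieces (C4d) `w1_co`, (C4e) `w1_norm` (helper41)
-/

set_option autoImplicit false
set_option quotPrecheck false
set_option linter.unusedSectionVars false
set_option linter.unusedVariables false

namespace Cfsg.Agent.Helper41.SUOC

open Matrix Cfsg Cfsg.Agent.Helper13 Cfsg.Agent.Helper87.PsuA Cfsg.Agent.Helper87.PsuB0
  Cfsg.Agent.Helper16.SUOC

variable {F : Type*} [Field F] [Fintype F] {q n : ℕ}

local notation "V" => Fin n → F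
local notation "G" => ↥(Cfsg.SU n F q)
local notation "H" => Cfsg.hermForm n F q

variable (hF : Fintype.card F = q ^ 2) {b : Fin n → Fin n → F}

include hF in
/-- (C4d) coordinates of `w1`: only at `n-3` (if `n ≠ 5`) and at the middle index `n/2`
(`co_add`, `co_smul`, `co_b`; for `n = 5` both are the index `2`). -/
theorem w1_co (hb : HB q b) (hn5 : 5 ≤ n) (hodd : Odd n) (τ : F) (i : Fin n) :
    co q b (w1 b hn5 τ) i =
      (if n ≠ 5 ∧ i.val + 3 = n then (1 : F) else 0) + (if 2 * i.val + 1 = n then τ else 0) := by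
  obtain ⟨k, hk⟩ := hodd
  rw [w1, co_add, co_smul, co_b hb]
  have h2 : (i = iM hn5) ↔ 2 * i.val + 1 = n := by
    rw [Fin.ext_iff]
    simp only [iM]
    omega
  congr 1
  · by_cases h5 : n = 5
    · rw [if_pos h5, co_zero hF, if_neg (fun h => h.1 h5)]
    · rw [if_neg h5, co_b hb]
      have h1 : (i = iC hn5) ↔ i.val + 3 = n := by
        rw [Fin.ext_iff]
        simp only [iC]
        omega
      by_cases hi : i = iC hn5
      · rw [if_pos hi, if_pos ⟨h5, h1.1 hi⟩]
      · rw [if_neg hi, if_neg (fun h => hi (h1.2 h.2))]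
  · by_cases hi : i = iM hn5
    · rw [if_pos hi, if_pos (h2.1 hi), mul_one]
    · rw [if_neg hi, if_neg (fun h => hi (h2.2 h)), mul_zero]

include hF in
/-- (C4e) `H w1 w1 = τ τ^q` (`b_(n-3)` isotropic and `⊥ b_m` for `n ≥ 7`; `H b_m b_m = 1`). -/
theorem w1_norm (hb : HB q b) (hn5 : 5 ≤ n) (hodd : Odd n) (τ : F) :
    H (w1 b hn5 τ) (w1 b hn5 τ) = τ * τ ^ q := by
  obtain ⟨k, hk⟩ := hodd
  have hmm : H (b (iM hn5)) (b (iM hn5)) = 1 := by
    rw [hb, if_pos]
    rw [Fin.ext_iff]
    simp only [iM, Fin.rev]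
    omega
  set c : V := (if n = 5 then 0 else b (iC hn5)) with hc
  have hcc : H c c = 0 := by
    by_cases h5 : n = 5
    · rw [hc, if_pos h5, H_zero_left hF]
    · rw [hc, if_neg h5, hb, if_neg]
      rw [Fin.ext_iff]
      simp only [iC, Fin.rev]
      omega
  have hcm : H c (b (iM hn5)) = 0 := by
    by_cases h5 : n = 5
    · rw [hc, if_pos h5, H_zero_left hF]
    · rw [hc, if_neg h5, hb, if_neg]
      rw [Fin.ext_iff]
      simp only [iC, iM, Fin.rev]
      omega
  have hmc : H (b (iM hn5)) c = 0 := H_symm_zero hF hcm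
  rw [w1, ← hc, hermForm_add_left, hermForm_add_right hF, hermForm_add_right hF, hermForm_smul_left,
    hermForm_smul_left, hermForm_smul_right, hermForm_smul_right, hcc, hcm, hmc, hmm]
  ring

end Cfsg.Agent.Helper41.SUOC
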