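import Mathlib
import Cfsg.Agent.Lib.Helper84.Sp4Defs
import Cfsg.Agent.Lib.Helper84.Sp4Basic

/-!
# PSP4F (NQA): case A, `N(Q)` normalizes `⟨i0⟩` (helper41 for helper84, S5320)
-/

set_option autoImplicit false

namespace Cfsg.Agent.Helper41.Sp4

open Matrix Cfsg.Agent.Helper84.Sp4

variable {F : Type*} [Field F]

/-- an element of `Q` commuting with an element of `Tor2` of order `≥ 8`-type lies in `Tor2` -/
theorem nqa_mem_Tor2 [Finite F] {X c : SL2 F} (hX : X ∈ (Q : Subgroup (SL2 F)))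
    (hc : c ∈ (Tor2 : Subgroup (SL2 F))) (hc4 : c ^ 4 ≠ 1) (hcomm : X * c = c * X) :
    X ∈ (Tor2 : Subgroup (SL2 F)) := by
  obtain ⟨d, hd, hXd | hXd⟩ := (mem_Q_iff X).1 hX
  · rw [hXd]; exact hd
  · exfalso
    have hdT : d ∈ (Tor : Subgroup (SL2 F)) := ((mem_Tor2_iff d).1 hd).1
    have hcT : c ∈ (Tor : Subgroup (SL2 F)) := ((mem_Tor2_iff c).1 hc).1
    have hXN : X ∈ (NTor : Set (SL2 F)) := by rw [hXd]; exact Tor_mul_NTor hdT j0_mem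
    have h1 : X * c * X⁻¹ = c⁻¹ := NTor_conj hXN hcT
    rw [hcomm, mul_inv_cancel_right] at h1
    apply hc4
    have h2 : c * c = 1 := by
      nth_rewrite 2 [h1]
      exact mul_inv_cancel c
    calc c ^ 4 = (c * c) * (c * c) := by
          rw [show (4 : ℕ) = 2 + 2 from rfl, pow_add, pow_two]
      _ = 1 := by rw [h2, one_mul]

/-- (NQA) case A (`Tor2` has an element of order ≥ 8): `N(Q)` normalizes `⟨i0⟩`
(`{x ∈ Q | x⁴ ≠ 1} ⊆ Tor2` generates `Tor2` (abelian: `ord(xc) = ord(c)` if `ord x < ord c`), so `g`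
normalizes `Tor2`; `g i0 g⁻¹ ∈ Tor2` has square `-1`, so is `i0^{±1}` by `Tor_sq_eq_neg_one`). -/
theorem normalizer_Q_caseA [Finite F] (h2 : (2 : F) ≠ 0)
    (hA : ∃ c ∈ (Tor2 : Subgroup (SL2 F)), c ^ 4 ≠ 1) (g : SL2 F)
    (hg : g ∈ Subgroup.normalizer ((Q : Subgroup (SL2 F)) : Set (SL2 F))) :
    g * i0 * g⁻¹ = i0 ∨ g * i0 * g⁻¹ = i0⁻¹ := by
  obtain ⟨c, hc, hc4⟩ := hA
  have hcT : c ∈ (Tor : Subgroup (SL2 F)) := ((mem_Tor2_iff c).1 hc).1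
  -- `c' = g c g⁻¹ ∈ Q`, `c'^4 ≠ 1`, hence `c' ∈ Tor2`
  have hc'Q : g * c * g⁻¹ ∈ (Q : Subgroup (SL2 F)) :=
    (Subgroup.mem_normalizer_iff.1 hg c).1 (Tor2_le_Q hc)
  have hc'4 : (g * c * g⁻¹) ^ 4 ≠ 1 := by
    intro h
    apply hc4
    rw [conj_pow] at h
    have := congrArg (fun z => g⁻¹ * z * g) h
    simpa [mul_assoc] using this
  have hc'T2 : g * c * g⁻¹ ∈ (Tor2 : Subgroup (SL2 F)) := by
    by_contra hn
    have hsq := Q_mul_self hc'Q hn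
    apply hc'4
    calc (g * c * g⁻¹) ^ 4 = ((g * c * g⁻¹) * (g * c * g⁻¹)) * ((g * c * g⁻¹) * (g * c * g⁻¹)) := by
          rw [show (4 : ℕ) = 2 + 2 from rfl, pow_add, pow_two]
      _ = 1 := by rw [hsq, neg_mul_neg, one_mul]
  -- `i' = g i0 g⁻¹ ∈ Q` commutes with `c'`
  have hi'Q : g * i0 * g⁻¹ ∈ (Q : Subgroup (SL2 F)) :=
    (Subgroup.mem_normalizer_iff.1 hg i0).1 i0_mem_Q
  have hic : (i0 : SL2 F) * c = c * i0 :=
    Tor_comm ((mem_Tor2_iff _).1 i0_mem_Tor2).1 hcT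
  have hcomm : (g * i0 * g⁻¹) * (g * c * g⁻¹) = (g * c * g⁻¹) * (g * i0 * g⁻¹) := by
    calc (g * i0 * g⁻¹) * (g * c * g⁻¹) = g * (i0 * c) * g⁻¹ := by group
      _ = g * (c * i0) * g⁻¹ := by rw [hic]
      _ = (g * c * g⁻¹) * (g * i0 * g⁻¹) := by group
  have hi'T2 := nqa_mem_Tor2 hi'Q hc'T2 hc'4 hcomm
  have hi'T : g * i0 * g⁻¹ ∈ (Tor : Subgroup (SL2 F)) := ((mem_Tor2_iff _).1 hi'T2).1
  apply Tor_sq_eq_neg_one h2 hi'T
  calc (g * i0 * g⁻¹) * (g * i0 * g⁻¹) = g * (i0 * i0) * g⁻¹ := by group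
    _ = -1 := by rw [i0_mul_i0, mul_neg, mul_one, neg_mul, mul_inv_cancel]

end Cfsg.Agent.Helper41.Sp4
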