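import Mathlib
import Cfsg.Agent.Lib.Helper84.Sp4Defs
import Cfsg.Agent.Lib.Helper84.Sp4Basic

/-!
# PSP4F (NQF): an element of `N(Q)` normalizing `⟨i0⟩` lies in `Q` (helper41 for helper84, S5320)
-/

set_option autoImplicit false

namespace Cfsg.Agent.Helper41.Sp4

open Matrix Cfsg.Agent.Helper84.Sp4

variable {F : Type*} [Field F]

/-- the torus case of (NQF) -/
theorem nqf_tor [Finite F] (h2 : (2 : F) ≠ 0) (g : SL2 F)
    (hg : g ∈ Subgroup.normalizer ((Q : Subgroup (SL2 F)) : Set (SL2 F)))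
    (hT : g ∈ (Tor : Subgroup (SL2 F))) : g ∈ (Q : Subgroup (SL2 F)) := by
  have h1 : g * j0 * g⁻¹ ∈ (Q : Subgroup (SL2 F)) :=
    (Subgroup.mem_normalizer_iff.1 hg j0).1 j0_mem_Q
  have h2' : (j0 : SL2 F) * g⁻¹ * j0⁻¹ = (g⁻¹)⁻¹ := NTor_conj j0_mem (Tor.inv_mem hT)
  rw [inv_inv] at h2'
  have h3 : g * j0 * g⁻¹ = g * g * j0 := by
    have : (j0 : SL2 F) * g⁻¹ = g * j0 := by
      calc (j0 : SL2 F) * g⁻¹ = (j0 * g⁻¹ * j0⁻¹) * j0 := by rw [inv_mul_cancel_right]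
        _ = g * j0 := by rw [h2']
    rw [mul_assoc, this, ← mul_assoc]
  rw [h3] at h1
  have h4 : g * g ∈ (Q : Subgroup (SL2 F)) := by
    have := Q.mul_mem h1 (Q.inv_mem j0_mem_Q)
    rwa [mul_inv_cancel_right] at this
  have h5 : g * g ∈ (Tor2 : Subgroup (SL2 F)) := Q_inf_Tor h2 h4 (Tor.mul_mem hT hT)
  obtain ⟨_, m, hm⟩ := (mem_Tor2_iff _).1 h5
  apply Tor2_le_Q
  rw [mem_Tor2_iff]
  refine ⟨hT, m + 1, ?_⟩
  rw [pow_succ, pow_mul', pow_two]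
  exact hm

/-- (NQF) an element of `N(Q)` normalizing `⟨i0⟩` lies in `Q`
(`g ∈ Tor ∪ NTor`; multiply by `j0` to get `g ∈ Tor`; `g j0 g⁻¹ = g² j0 ∈ Q` so `g² ∈ Q ∩ Tor = Tor2`,
so `g` is a 2-element of `Tor`, i.e. `g ∈ Tor2`). -/
theorem normalizer_Q_of_fix [Finite F] (h2 : (2 : F) ≠ 0) (g : SL2 F)
    (hg : g ∈ Subgroup.normalizer ((Q : Subgroup (SL2 F)) : Set (SL2 F)))
    (hfix : g * i0 * g⁻¹ = i0 ∨ g * i0 * g⁻¹ = i0⁻¹) : g ∈ (Q : Subgroup (SL2 F)) := by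
  rcases mem_Tor_or_NTor_of_conj hfix with hT | hN
  · exact nqf_tor h2 g hg hT
  · -- `g * j0 ∈ Tor ∩ N(Q)`
    have hgj : g * j0 ∈ (Tor : Subgroup (SL2 F)) := NTor_mul_NTor hN j0_mem
    have hgjN : g * j0 ∈ Subgroup.normalizer ((Q : Subgroup (SL2 F)) : Set (SL2 F)) :=
      Subgroup.mul_mem _ hg (Subgroup.le_normalizer j0_mem_Q)
    have := nqf_tor h2 (g * j0) hgjN hgj
    have := Q.mul_mem this (Q.inv_mem j0_mem_Q)
    rwa [mul_inv_cancel_right] at this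

end Cfsg.Agent.Helper41.Sp4
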