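import Mathlib

/-!
# Elements lying in a unique Sylow subgroup, redundant Sylow subgroups

* `InUniqueSylow p x`: `x` is a `p`-element lying in exactly one Sylow `p`-subgroup;
* `exists_redundant_iff`: some Sylow `p`-subgroup is redundant iff no `p`-element lies in a
  unique Sylow `p`-subgroup;
* `exists_inUniqueSylow_iff_of_surjective`: transfer along a surjection with central kernel.
-/

set_option autoImplicit false

namespace Cfsg.Agent.Helper41

open scoped Pointwise

variable {G : Type*} [Group G]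

/-- `x` is a `p`-element lying in exactly one Sylow `p`-subgroup -/
def InUniqueSylow (p : ℕ) (x : G) : Prop :=
  (∃ k : ℕ, orderOf x = p ^ k) ∧ ∀ P P' : Sylow p G, x ∈ P → x ∈ P' → P = P'

theorem exists_sylow_mem [Finite G] (p : ℕ) [Fact p.Prime] (x : G) (hx : ∃ k : ℕ, orderOf x = p ^ k) :
    ∃ P : Sylow p G, x ∈ P := by
  obtain ⟨k, hk⟩ := hx
  have hp : IsPGroup p (Subgroup.zpowers x) := by
    apply IsPGroup.of_card (n := k)
    rw [Nat.card_zpowers, hk]
  obtain ⟨P, hP⟩ := hp.exists_le_sylow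
  exact ⟨P, hP (Subgroup.mem_zpowers x)⟩

theorem conj_mem_smul_sylow {p : ℕ} (g x : G) (P : Sylow p G) (hx : x ∈ P) :
    g * x * g⁻¹ ∈ g • P := by
  show g * x * g⁻¹ ∈ ((g • P : Sylow p G) : Subgroup G)
  rw [Sylow.coe_subgroup_smul]
  have := Subgroup.smul_mem_pointwise_smul x (MulAut.conj g) (P : Subgroup G) hx
  rwa [MulAut.smul_def, MulAut.conj_apply] at this

theorem mem_of_conj_mem_smul_sylow {p : ℕ} (g x : G) (P : Sylow p G) (hx : g * x * g⁻¹ ∈ g • P) :
    x ∈ P := by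
  have := conj_mem_smul_sylow g⁻¹ (g * x * g⁻¹) (g • P) hx
  rw [inv_smul_smul] at this
  simpa [mul_assoc] using this

theorem orderOf_conj' (g x : G) : orderOf (g * x * g⁻¹) = orderOf x := by
  have := MulEquiv.orderOf_eq (MulAut.conj g) x
  rwa [MulAut.conj_apply] at this

theorem InUniqueSylow.conj {p : ℕ} {x : G} (h : InUniqueSylow p x) (g : G) :
    InUniqueSylow p (g * x * g⁻¹) := by
  refine ⟨by rw [orderOf_conj']; exact h.1, ?_⟩
  intro P P' hP hP'
  have h1 : x ∈ g⁻¹ • P := by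
    have := conj_mem_smul_sylow g⁻¹ _ P hP
    simpa [mul_assoc] using this
  have h2 : x ∈ g⁻¹ • P' := by
    have := conj_mem_smul_sylow g⁻¹ _ P' hP'
    simpa [mul_assoc] using this
  have := h.2 _ _ h1 h2
  exact smul_left_cancel g⁻¹ this

/-- some Sylow `p`-subgroup is redundant iff no `p`-element lies in a unique Sylow
`p`-subgroup -/
theorem exists_redundant_iff [Finite G] (p : ℕ) [Fact p.Prime] :
    (∃ Q : Sylow p G, ∀ x : G, (∃ k : ℕ, orderOf x = p ^ k) → ∃ P : Sylow p G, P ≠ Q ∧ x ∈ P) ↔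
      ¬ ∃ x : G, InUniqueSylow p x := by
  constructor
  · rintro ⟨Q, hQ⟩ ⟨x, hx⟩
    obtain ⟨P1, hP1⟩ := exists_sylow_mem p x hx.1
    obtain ⟨g, hg⟩ := MulAction.exists_smul_eq G P1 Q
    have hx' := hx.conj g
    have hmem : g * x * g⁻¹ ∈ Q := by
      rw [← hg]; exact conj_mem_smul_sylow g x P1 hP1
    obtain ⟨P, hPQ, hP⟩ := hQ _ hx'.1
    exact hPQ (hx'.2 _ _ hP hmem)
  · intro h
    obtain ⟨Q⟩ : Nonempty (Sylow p G) := inferInstance
    refine ⟨Q, fun x hx => ?_⟩
    have h1 : ¬ InUniqueSylow p x := fun hu => h ⟨x, hu⟩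
    unfold InUniqueSylow at h1
    push Not at h1
    obtain ⟨P, P', hP, hP', hne⟩ := h1 hx
    by_cases hPQ : P = Q
    · refine ⟨P', ?_, hP'⟩
      rw [← hPQ]; exact fun h => hne h.symm
    · exact ⟨P, hPQ, hP⟩

section transfer

variable {H : Type*} [Group H]

/-- a central `p`-element lies in every Sylow `p`-subgroup -/
theorem mem_sylow_of_mem_center {p : ℕ} [Fact p.Prime] (z : G) (hz : z ∈ Subgroup.center G)
    (n : ℕ) (hzn : z ^ p ^ n = 1) (P : Sylow p G) : z ∈ P := by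
  have : (Subgroup.zpowers z).Normal := by
    constructor
    intro y hy g
    obtain ⟨k, rfl⟩ := hy
    have hc : g * z ^ k * g⁻¹ = z ^ k := by
      have hzk : z ^ k ∈ Subgroup.center G := (Subgroup.center G).zpow_mem hz k
      rw [Subgroup.mem_center_iff] at hzk
      rw [hzk g, mul_assoc, mul_inv_cancel, mul_one]
    rw [hc]
    exact ⟨k, rfl⟩
  have hpz : IsPGroup p (Subgroup.zpowers z) := by
    intro y
    obtain ⟨y, k, rfl⟩ := y
    refine ⟨n, ?_⟩
    apply Subtype.ext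
    simp only [Subgroup.coe_pow, Subgroup.coe_one]
    rw [← zpow_natCast, ← _root_.zpow_mul, mul_comm, _root_.zpow_mul, zpow_natCast, hzn,
      _root_.one_zpow]
  have hsup : IsPGroup p (((P : Subgroup G) ⊔ Subgroup.zpowers z : Subgroup G)) :=
    IsPGroup.to_sup_of_normal_right P.2 hpz
  have := P.is_maximal' hsup le_sup_left
  have h2 : Subgroup.zpowers z ≤ (P : Subgroup G) := by
    rw [← this]; exact le_sup_right
  exact h2 (Subgroup.mem_zpowers z)

variable (f : G →* H) (hf : Function.Surjective f) (hker : f.ker ≤ Subgroup.center G)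

include hker in
/-- a `p`-element whose image lies in the image of a Sylow subgroup lies in the Sylow subgroup -/
theorem mem_sylow_of_map_mem [Finite G] {p : ℕ} [Fact p.Prime] (x : G)
    (hx : ∃ k : ℕ, orderOf x = p ^ k) (P : Sylow p G) (h : f x ∈ (P : Subgroup G).map f) :
    x ∈ P := by
  obtain ⟨y, hy, hyx⟩ := h
  have hz : y⁻¹ * x ∈ f.ker := by
    rw [MonoidHom.mem_ker, map_mul, map_inv, hyx, inv_mul_cancel]
  have hzc := hker hz
  obtain ⟨k, hk⟩ := hx
  obtain ⟨j, hj⟩ := P.2 ⟨y, hy⟩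
  have hyj : y ^ p ^ j = 1 := by
    have := congrArg Subtype.val hj
    simpa using this
  have hcomm : Commute y⁻¹ x := by
    have h1 := (Subgroup.mem_center_iff.mp hzc) y
    -- y * (y⁻¹ * x) = (y⁻¹ * x) * y
    have h2 : x = y⁻¹ * x * y := by
      rw [← h1]; group
    show y⁻¹ * x = x * y⁻¹
    calc y⁻¹ * x = y⁻¹ * x * y * y⁻¹ := by group
      _ = x * y⁻¹ := by rw [← h2]
  have hzpow : (y⁻¹ * x) ^ p ^ (k + j) = 1 := by
    rw [hcomm.mul_pow, inv_pow, pow_add, pow_mul' y, hyj, one_pow, inv_one, one_mul,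
      pow_mul, ← hk, pow_orderOf_eq_one, one_pow]
  have hzP := mem_sylow_of_mem_center (y⁻¹ * x) hzc (k + j) hzpow P
  have : x = y * (y⁻¹ * x) := by group
  rw [this]
  exact (P : Subgroup G).mul_mem hy hzP

include hf in
/-- every Sylow subgroup of the image is the image of a Sylow subgroup -/
theorem exists_sylow_map_eq [Finite G] {p : ℕ} [Fact p.Prime] (Q : Sylow p H) :
    ∃ P : Sylow p G, (P : Subgroup G).map f = (Q : Subgroup H) := by
  have : Finite H := Finite.of_surjective f hf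
  obtain ⟨P0⟩ : Nonempty (Sylow p G) := inferInstance
  obtain ⟨h, hh⟩ := MulAction.exists_smul_eq H (P0.mapSurjective hf) Q
  obtain ⟨g, rfl⟩ := hf h
  refine ⟨g • P0, ?_⟩
  rw [← hh]
  ext y
  rw [Sylow.coe_subgroup_smul, Sylow.coe_subgroup_smul]
  show y ∈ Subgroup.map f (MulAut.conj g • (P0 : Subgroup G)) ↔
    y ∈ MulAut.conj (f g) • (Subgroup.map f (P0 : Subgroup G))
  constructor
  · intro hy
    obtain ⟨x, hx, rfl⟩ := Subgroup.mem_map.mp hy
    rw [Subgroup.mem_pointwise_smul_iff_inv_smul_mem] at hx ⊢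
    rw [MulAut.smul_def, ← map_inv, MulAut.conj_apply] at hx ⊢
    refine Subgroup.mem_map.mpr ⟨g⁻¹ * x * g⁻¹⁻¹, hx, ?_⟩
    simp
  · intro hy
    rw [Subgroup.mem_pointwise_smul_iff_inv_smul_mem, MulAut.smul_def, ← map_inv,
      MulAut.conj_apply] at hy
    obtain ⟨x, hx, hxy⟩ := Subgroup.mem_map.mp hy
    refine Subgroup.mem_map.mpr ⟨g * x * g⁻¹, ?_, ?_⟩
    · rw [Subgroup.mem_pointwise_smul_iff_inv_smul_mem, MulAut.smul_def, ← map_inv,
        MulAut.conj_apply]
      simpa [mul_assoc] using hx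
    · rw [map_mul, map_mul, hxy]
      simp [mul_assoc]

include hf in
/-- lifting `p`-elements -/
theorem exists_pElement_lift [Finite G] {p : ℕ} [Fact p.Prime] (y : H)
    (hy : ∃ k : ℕ, orderOf y = p ^ k) :
    ∃ x : G, f x = y ∧ ∃ k : ℕ, orderOf x = p ^ k := by
  have hp : p.Prime := Fact.out
  obtain ⟨k, hk⟩ := hy
  obtain ⟨x0, rfl⟩ := hf y
  by_cases hk0 : k = 0
  · refine ⟨1, ?_, 0, by simp⟩
    rw [hk0, pow_zero, orderOf_eq_one_iff] at hk
    rw [map_one, hk]
  have hn : orderOf x0 ≠ 0 := (orderOf_pos x0).ne'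
  obtain ⟨a, m, hm, hnm⟩ := Nat.exists_eq_pow_mul_and_not_dvd hn p hp.ne_one
  have hcop : Nat.Coprime m (p ^ k) :=
    Nat.Coprime.pow_right k ((Nat.Prime.coprime_iff_not_dvd hp).mpr hm).symm
  have hpk : 1 < p ^ k := Nat.one_lt_pow hk0 hp.one_lt
  obtain ⟨m', -, hm'⟩ := Nat.exists_mul_mod_eq_one_of_coprime hcop hpk
  refine ⟨x0 ^ (m * m'), ?_, ?_⟩
  · rw [map_pow, ← pow_mod_orderOf, hk, hm', pow_one]
  · have hpow : (x0 ^ (m * m')) ^ p ^ a = 1 := by
      rw [← pow_mul, mul_comm (m * m'), ← mul_assoc, ← hnm, pow_mul, pow_orderOf_eq_one, one_pow]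
    obtain ⟨j, -, hj⟩ := (Nat.dvd_prime_pow hp).mp (orderOf_dvd_of_pow_eq_one hpow)
    exact ⟨j, hj⟩

include hf hker in
/-- transfer of "some `p`-element lies in a unique Sylow `p`-subgroup" along a surjection
with central kernel -/
theorem exists_inUniqueSylow_iff_of_surjective [Finite G] (p : ℕ) [Fact p.Prime] :
    (∃ x : G, InUniqueSylow p x) ↔ ∃ y : H, InUniqueSylow p y := by
  have hp : p.Prime := Fact.out
  have : Finite H := Finite.of_surjective f hf
  constructor
  · rintro ⟨x, ⟨k, hk⟩, hx⟩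
    refine ⟨f x, ?_, ?_⟩
    · have : orderOf (f x) ∣ p ^ k := by
        rw [← hk]; exact orderOf_map_dvd f x
      obtain ⟨j, -, hj⟩ := (Nat.dvd_prime_pow hp).mp this
      exact ⟨j, hj⟩
    · intro Q Q' hQ hQ'
      obtain ⟨P, hP⟩ := exists_sylow_map_eq f hf Q
      obtain ⟨P', hP'⟩ := exists_sylow_map_eq f hf Q'
      have h1 : x ∈ P := mem_sylow_of_map_mem f hker x ⟨k, hk⟩ P (by rw [hP]; exact hQ)
      have h2 : x ∈ P' := mem_sylow_of_map_mem f hker x ⟨k, hk⟩ P' (by rw [hP']; exact hQ')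
      have := hx P P' h1 h2
      apply Sylow.ext
      rw [← hP, ← hP', this]
  · rintro ⟨y, hy, hy2⟩
    obtain ⟨x, rfl, hx⟩ := exists_pElement_lift f hf y hy
    refine ⟨x, hx, ?_⟩
    intro P P' hP hP'
    have h1 : f x ∈ P.mapSurjective hf := ⟨x, hP, rfl⟩
    have h2 : f x ∈ P'.mapSurjective hf := ⟨x, hP', rfl⟩
    have heq := hy2 _ _ h1 h2
    have heq' : (P : Subgroup G).map f = (P' : Subgroup G).map f := by
      have := congrArg (fun S : Sylow p H => (S : Subgroup H)) heq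
      simpa using this
    -- every element of `P` is a `p`-element whose image lies in the image of `P'`
    have hle : (P : Subgroup G) ≤ (P' : Subgroup G) := by
      intro u hu
      obtain ⟨j, hj⟩ := P.2 ⟨u, hu⟩
      have huj : u ^ p ^ j = 1 := by
        have := congrArg Subtype.val hj
        simpa using this
      obtain ⟨i, -, hi⟩ := (Nat.dvd_prime_pow hp).mp (orderOf_dvd_of_pow_eq_one huj)
      apply mem_sylow_of_map_mem f hker u ⟨i, hi⟩ P'
      rw [← heq']
      exact ⟨u, hu, rfl⟩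
    apply Sylow.ext
    exact P.is_maximal' P'.2 hle |>.symm

end transfer

end Cfsg.Agent.Helper41
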