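import Mathlib
import Cfsg.Agent.Lib.Helper98.WR0
import Cfsg.Agent.Lib.Helper22.SPEQ7
import Cfsg.Agent.Lib.Helper66.SPEQ2
import Cfsg.Agent.Lib.Helper66.SPEQ3

set_option autoImplicit false
set_option linter.style.haveILetI false

/-!
WR (M2) for helper98's server (S2347): a lower bound for the number of forms in a `GL_n`-closed set
with a prescribed nonzero value at a fixed vector.
-/

namespace Cfsg.Agent.Helper41.WR

open Matrix Cfsg.Agent.Helper98.SPE Cfsg.Agent.Helper98.WR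

universe u v

section CNT

variable {F : Type*} [Field F] {n : ℕ}

/-- the action of the transvection-like matrix `1 + x φᵀ` -/
theorem one_add_vecMulVec_mulVec (x φ z : Fin n → F) :
    (1 + vecMulVec x φ) *ᵥ z = z + (φ ⬝ᵥ z) • x := by
  rw [Matrix.add_mulVec, Matrix.one_mulVec, Matrix.vecMulVec_mulVec, op_smul_eq_smul]

/-- `1 + x φᵀ` is invertible when `φ ⬝ᵥ x = 0` -/
def glOfPerp (x φ : Fin n → F) (h : φ ⬝ᵥ x = 0) : GL (Fin n) F where
  val := 1 + vecMulVec x φ
  inv := 1 - vecMulVec x φ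
  val_inv := by
    have h0 : vecMulVec x φ * vecMulVec x φ = 0 := by
      rw [Matrix.vecMulVec_mul_vecMulVec, h, zero_smul]
      ext i j
      simp [Matrix.vecMulVec_apply]
    rw [add_mul, mul_sub, mul_sub, one_mul, mul_one, one_mul, h0]
    abel
  inv_val := by
    have h0 : vecMulVec x φ * vecMulVec x φ = 0 := by
      rw [Matrix.vecMulVec_mul_vecMulVec, h, zero_smul]
      ext i j
      simp [Matrix.vecMulVec_apply]
    rw [sub_mul, mul_add, mul_add, one_mul, mul_one, one_mul, h0]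
    abel

theorem qv_zero (S : Matrix (Fin n) (Fin n) F) : qv S 0 = 0 := by
  unfold qv
  simp

variable [Fintype F] {q : ℕ} (hq : Fintype.card F = q)

include hq in
/-- piece M2 -/
theorem count_lower (h2 : (2 : F) ≠ 0) (O : Set (Matrix (Fin n) (Fin n) F))
    (hcl : ∀ g : GL (Fin n) F, ∀ S ∈ O, congQ (g : Matrix (Fin n) (Fin n) F) S ∈ O)
    (S₁ : Matrix (Fin n) (Fin n) F) (hS₁ : S₁ ∈ O) (x : Fin n → F) (hx : qv S₁ x ≠ 0) :
    q ^ n ≤ q * {S' ∈ O | qv S' x = qv S₁ x}.ncard := by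
  classical
  -- `x ≠ 0`
  have hx0 : x ≠ 0 := by
    intro h
    apply hx
    rw [h, qv_zero]
  obtain ⟨i, hi⟩ : ∃ i, x i ≠ 0 := by
    by_contra hcon
    push Not at hcon
    exact hx0 (funext hcon)
  set e : Fin n → F := Pi.single i (x i)⁻¹ with he
  have hex : e ⬝ᵥ x = 1 := by
    rw [he, single_dotProduct, inv_mul_cancel₀ hi]
  have hperp : ∀ z : Fin n → F, (z - (z ⬝ᵥ x) • e) ⬝ᵥ x = 0 := by
    intro z
    rw [sub_dotProduct, smul_dotProduct, hex, smul_eq_mul, mul_one, sub_self]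
  have hbxx : bv S₁ x x ≠ 0 := by
    rw [Cfsg.Agent.Helper66.SPE.bv_self]
    exact mul_ne_zero h2 hx
  -- the map
  let T := {S' : Matrix (Fin n) (Fin n) F // S' ∈ O ∧ qv S' x = qv S₁ x}
  have hmem : ∀ (φ : Fin n → F) (h : φ ⬝ᵥ x = 0),
      congQ (1 + vecMulVec x φ) S₁ ∈ O ∧ qv (congQ (1 + vecMulVec x φ) S₁) x = qv S₁ x := by
    intro φ h
    refine ⟨hcl (glOfPerp x φ h) S₁ hS₁, ?_⟩
    rw [Cfsg.Agent.Helper22.SPE.qv_congQ, one_add_vecMulVec_mulVec, h, zero_smul, add_zero]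
  let ι : (Fin n → F) → F × T := fun z =>
    (z ⬝ᵥ x, ⟨congQ (1 + vecMulVec x (z - (z ⬝ᵥ x) • e)) S₁, hmem _ (hperp z)⟩)
  have hinj : Function.Injective ι := by
    intro z z' hzz
    have h1 : z ⬝ᵥ x = z' ⬝ᵥ x := congrArg Prod.fst hzz
    have h2' : congQ (1 + vecMulVec x (z - (z ⬝ᵥ x) • e)) S₁ =
        congQ (1 + vecMulVec x (z' - (z' ⬝ᵥ x) • e)) S₁ :=
      congrArg (fun p : F × T => (p.2 : Matrix (Fin n) (Fin n) F)) hzz
    -- compare the polar forms against `x`
    have hφ : ∀ (φ : Fin n → F), φ ⬝ᵥ x = 0 → ∀ w : Fin n → F,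
        bv (congQ (1 + vecMulVec x φ) S₁) w x = bv S₁ w x + (φ ⬝ᵥ w) * bv S₁ x x := by
      intro φ h w
      rw [Cfsg.Agent.Helper22.SPE.bv_congQ, one_add_vecMulVec_mulVec, one_add_vecMulVec_mulVec,
        h, zero_smul, add_zero, Cfsg.Agent.Helper66.SPE.bv_add_left,
        Cfsg.Agent.Helper66.SPE.bv_smul_left]
    have h3 : z - (z ⬝ᵥ x) • e = z' - (z' ⬝ᵥ x) • e := by
      apply dotProduct_eq
      intro w
      have ha := hφ _ (hperp z) w
      have hb := hφ _ (hperp z') w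
      rw [h2'] at ha
      rw [ha] at hb
      have hc := add_left_cancel hb
      exact mul_right_cancel₀ hbxx hc
    rw [h1] at h3
    exact add_right_cancel (a := z) (b := -((z' ⬝ᵥ x) • e)) (c := z') (by
      rw [← sub_eq_add_neg, ← sub_eq_add_neg]; exact h3)
  have hcard := Nat.card_le_card_of_injective ι hinj
  rw [Nat.card_prod, Nat.card_eq_fintype_card (α := Fin n → F), Fintype.card_fun,
    Fintype.card_fin, Nat.card_eq_fintype_card (α := F), hq] at hcard
  have hT : Nat.card T = {S' ∈ O | qv S' x = qv S₁ x}.ncard := by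
    rw [← Nat.card_coe_set_eq]
    rfl
  rw [hT] at hcard
  exact hcard

end CNT

end Cfsg.Agent.Helper41.WR
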